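import Groth.Agent.L08.Borel.Fixed
import Groth.Agent.L08.MonoEndo.Main
import Groth.Prelude.Def_Red2

/-!
# Connected solvable subgroups are conjugate into a subgroup with proper quotient
-/

set_option autoImplicit false
set_option backward.isDefEq.respectTransparency.types false
set_option linter.style.haveILetI false

universe u

open CategoryTheory CategoryTheory.Limits MonoidalCategory CartesianMonoidalCategory MonObj GrpObj AlgebraicGeometry

noncomputable section

namespace Groth.L08.Borel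

variable {k : Type u} [Field k] [IsAlgClosed k]

local notation "U1" => 𝟙_ (Over (Spec (CommRingCat.of k)))

omit [IsAlgClosed k] in
theorem isSolvable_pts {G : Over (Spec (CommRingCat.of k))} [GrpObj G] (h : Red.IsSolvableGrp G) :
    Group.IsSolvable (U1 ⟶ G) := by
  obtain ⟨n, hn⟩ := h
  exact ⟨⟨n, hn _⟩⟩

omit [IsAlgClosed k] in
/-- the inverse conjugate -/
theorem conjBy_inv {G H : Over (Spec (CommRingCat.of k))} [GrpObj G] (g : U1 ⟶ G) (i : H ⟶ G) :
    AGF.conjBy g⁻¹ i = (toUnit H ≫ g)⁻¹ * i * (toUnit H ≫ g) := by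
  simp [AGF.conjBy, GrpObj.comp_inv, _root_.inv_inv]

/-- A connected solvable subgroup is conjugate into any subgroup with proper quotient. -/
theorem exists_conj_factor {G H B X : Over (Spec (CommRingCat.of k))} [GrpObj G] [GrpObj H] [GrpObj B]
    {i : H ⟶ G} (b : B ⟶ G) [IsMonHom b] [IsAffine B.left] [Smooth B.hom] [ConnectedSpace B.left]
    (hB : Red.IsSolvableGrp B) [LocallyOfFiniteType G.hom] {a : AlgGrp.Action G X} {o : U1 ⟶ X}
    (hX : AGF.IsQuotient i X a o) [IsProper X.hom] :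
    ∃ (g : U1 ⟶ G) (φ : B ⟶ H), φ ≫ i = AGF.conjBy g b := by
  haveI := isSolvable_pts hB
  haveI : Nonempty X.left := ⟨ptOf o⟩
  let aB : AlgGrp.Action B X :=
    { act := (b ▷ X) ≫ a.act
      one_act := by rw [← comp_whiskerRight_assoc, IsMonHom.one_hom, a.one_act]
      mul_act := by
        rw [← comp_whiskerRight_assoc, IsMonHom.mul_hom, comp_whiskerRight_assoc, a.mul_act]
        simp only [tensorHom_def, comp_whiskerRight, Category.assoc, whisker_assoc,
          associator_naturality_left_assoc, whiskerLeft_comp, Iso.inv_hom_id_assoc]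
        rw [whisker_exchange_assoc, whisker_exchange_assoc] }
  obtain ⟨x, hx⟩ := exists_fixedPt aB
  obtain ⟨g, hg⟩ := exists_point_eq hX x
  have h1 : ((b ≫ 𝟙 G) * (toUnit B ≫ g)) ≫ a.orbitMap o = (toUnit B ≫ g) ≫ a.orbitMap o := by
    rw [Category.comp_id, mul_orbitMap, Category.assoc, hg]
    have := hx B (𝟙 B)
    rw [← Category.assoc, lift_whiskerRight, Category.id_comp] at this
    exact this
  obtain ⟨z, hz⟩ := (orbitMap_eq_iff hX _ _).1 h1.symm
  exact ⟨g⁻¹, z, by rw [hz, Category.comp_id, conjBy_inv, _root_.mul_assoc]⟩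

omit [IsAlgClosed k] in
theorem comp_conjBy {G H B : Over (Spec (CommRingCat.of k))} [GrpObj G] (g : U1 ⟶ G) (f : B ⟶ H) (i : H ⟶ G) :
    f ≫ AGF.conjBy g i = AGF.conjBy g (f ≫ i) := by
  simp only [AGF.conjBy, MonObj.comp_mul, GrpObj.comp_inv, ← Category.assoc]
  rw [toUnit_unique (f ≫ toUnit H) (toUnit B)]

omit [IsAlgClosed k] in
theorem conjBy_conjBy {G B : Over (Spec (CommRingCat.of k))} [GrpObj G] (g h : U1 ⟶ G) (i : B ⟶ G) :
    AGF.conjBy g (AGF.conjBy h i) = AGF.conjBy (g * h) i := by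
  simp only [AGF.conjBy, MonObj.comp_mul, _root_.mul_inv_rev, _root_.mul_assoc]

omit [IsAlgClosed k] in
theorem conjBy_one {G B : Over (Spec (CommRingCat.of k))} [GrpObj G] (i : B ⟶ G) :
    AGF.conjBy (1 : U1 ⟶ G) i = i := by
  simp [AGF.conjBy]

omit [IsAlgClosed k] in
theorem isMonHom_conjBy {G B : Over (Spec (CommRingCat.of k))} [GrpObj G] [GrpObj B] (g : U1 ⟶ G) (i : B ⟶ G)
    [IsMonHom i] : IsMonHom (AGF.conjBy g i) := by
  refine Groth.L19.AlgGrpBasic.isMonHom_of_points' _ fun T a b => ?_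
  simp only [comp_conjBy, mul_comp]
  simp [AGF.conjBy, _root_.mul_assoc]

omit [IsAlgClosed k] in
theorem mono_conjBy {G B : Over (Spec (CommRingCat.of k))} [GrpObj G] (g : U1 ⟶ G) (i : B ⟶ G)
    [Mono i] : Mono (AGF.conjBy g i) := by
  refine ⟨fun {T} x y e => ?_⟩
  rw [comp_conjBy, comp_conjBy] at e
  have h := congrArg (AGF.conjBy g⁻¹) e
  rw [conjBy_conjBy, conjBy_conjBy, inv_mul_cancel, conjBy_one, conjBy_one] at h
  exact (cancel_mono i).1 h

omit [IsAlgClosed k] in
/-- a subgroup conjugate into a subgroup of itself is equal to it -/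
theorem isIso_of_conj_factor {G B B' : Over (Spec (CommRingCat.of k))} [GrpObj G]
    {iB : B ⟶ G} {iB' : B' ⟶ G} [Mono iB] [Mono iB']
    [LocallyOfFiniteType B'.hom] [QuasiCompact B'.hom] [IsSeparated B'.hom]
    (f : B ⟶ B') (hf : f ≫ iB' = iB) (g : U1 ⟶ G) (φ : B' ⟶ B) (hφ : φ ≫ iB = AGF.conjBy g iB') : IsIso f := by
  haveI : Mono f := by
    haveI : Mono (f ≫ iB') := hf.symm ▸ inferInstance
    exact mono_of_mono f iB'
  haveI : Mono φ := by
    haveI : Mono (φ ≫ iB) := hφ.symm ▸ mono_conjBy g iB'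
    exact mono_of_mono φ iB
  haveI : LocallyOfFinitePresentation B'.hom := LocallyOfFinitePresentation.iff_locallyOfFiniteType.2 inferInstance
  haveI : Mono (φ ≫ f) := mono_comp _ _
  haveI : Mono ((Over.forget _).map (φ ≫ f)) := inferInstance
  haveI : Mono (φ ≫ f).left := ‹_›
  haveI : IsIso (φ ≫ f).left := Groth.L08.MonoEndo.isIso_of_mono B'.hom _ (Over.w _)
  haveI : IsIso ((Over.forget _).map (φ ≫ f)) := ‹_›
  haveI : IsIso (φ ≫ f) := isIso_of_reflects_iso _ (Over.forget _)
  haveI : IsSplitEpi f := ⟨⟨⟨inv (φ ≫ f) ≫ φ, by rw [Category.assoc, IsIso.inv_hom_id]⟩⟩⟩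
  exact isIso_of_mono_of_isSplitEpi f

end Groth.L08.Borel
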