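import Groth.Agent.L08.Borel.Proper
import Groth.Agent.S3905
import Groth.Agent.L08.AbelianGrp
import Groth.Agent.L00.ReducedSub
import Groth.Agent.L23.FppfSmooth

/-!
# Existence and images of Borel subgroups
-/

set_option autoImplicit false
set_option backward.isDefEq.respectTransparency.types false
set_option linter.style.haveILetI false

universe u

open CategoryTheory CategoryTheory.Limits MonoidalCategory CartesianMonoidalCategory MonObj AlgebraicGeometry

noncomputable section

namespace Groth.L08.Borel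

variable {k : Type u} [Field k] [IsAlgClosed k]

local notation "U1" => 𝟙_ (Over (Spec (CommRingCat.of k)))

/-- reduced groups are smooth -/
theorem smooth_of_reduced_group (H : Over (Spec (CommRingCat.of k))) [GrpObj H] [IsReduced H.left]
    [LocallyOfFiniteType H.hom] : Smooth H.hom := by
  haveI := Groth.L08.Chev.geometricallyReduced_of_reduced H
  haveI : GrpObj (Over.mk H.hom) := ‹GrpObj H›
  exact AlgebraicGeometry.smooth_of_grpObj H.hom

/-- the reduced subgroup -/
theorem exists_red_subgroup (H : Over (Spec (CommRingCat.of k))) [GrpObj H] [LocallyOfFiniteType H.hom] :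
    ∃ (R : Over (Spec (CommRingCat.of k))) (_ : GrpObj R) (j : R ⟶ H), IsMonHom j ∧ IsClosedImmersion j.left ∧
      Smooth R.hom ∧ Surjective j.left ∧
      ∀ (T : Over (Spec (CommRingCat.of k))) (f : T ⟶ H), IsReduced T.left → ∃ z : T ⟶ R, z ≫ j = f := by
  obtain ⟨R, gR, j, hj, hred, hjc, hjr⟩ := Groth.L08.MonoClosed.exists_reduced_subgroup (G := H) Set.univ
    isClosed_univ trivial (fun _ _ _ => trivial) (fun _ _ => trivial)
  haveI := hjc; haveI := hred
  haveI : LocallyOfFiniteType R.hom := by rw [← Over.w j]; infer_instance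
  haveI hs : Surjective j.left := ⟨Set.range_eq_univ.1 hjr⟩
  refine ⟨R, gR, j, hj, hjc, smooth_of_reduced_group R, hs, fun T f hT => ?_⟩
  haveI := hT
  haveI : IsIso (pullback.fst f.left j.left) :=
    Groth.L00.ReducedSub.isIso_of_isImmersion_surjective (pullback.fst f.left j.left)
  let z₀ : T.left ⟶ R.left := inv (pullback.fst f.left j.left) ≫ pullback.snd f.left j.left
  have hz : z₀ ≫ j.left = f.left := by
    simp only [z₀, Category.assoc, ← pullback.condition, IsIso.inv_hom_id_assoc]
  exact ⟨Over.homMk z₀ (by rw [← Over.w j, reassoc_of% hz, Over.w f]), Over.OverMorphism.ext hz⟩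

/-- Borel subgroups exist -/
theorem exists_borel (G : Over (Spec (CommRingCat.of k))) [GrpObj G] [IsAffine G.left] [Smooth G.hom]
    [ConnectedSpace G.left] :
    ∃ (B : Over (Spec (CommRingCat.of k))) (_ : GrpObj B) (i : B ⟶ G), Red.IsBorelOver k i := by
  obtain ⟨B, gB, i, hm, hc, hs, hcon, hsol, X, a, o, hX, hp⟩ := exists_solvable_proper G
  haveI := hm; haveI := hs; haveI := hcon
  exact ⟨B, gB, i, Groth.Agent.S3905.result k G B i hc hsol X a o hX hp⟩

/-- a subgroup with proper quotient contains a Borel subgroup -/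
theorem exists_borel_le {G P X : Over (Spec (CommRingCat.of k))} [GrpObj G] [IsAffine G.left] [Smooth G.hom]
    [ConnectedSpace G.left] [GrpObj P] {iP : P ⟶ G} [IsMonHom iP] [IsClosedImmersion iP.left]
    {a : AlgGrp.Action G X} {o : U1 ⟶ X} (hX : AGF.IsQuotient iP X a o) [IsProper X.hom] :
    ∃ (B : Over (Spec (CommRingCat.of k))) (_ : GrpObj B) (b : B ⟶ P), IsMonHom b ∧ Red.IsBorelOver k (b ≫ iP) := by
  haveI : LocallyOfFiniteType G.hom := inferInstance
  haveI : IsAffine P.left := isAffine_of_isAffineHom iP.left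
  haveI : LocallyOfFiniteType P.hom := by rw [← Over.w iP]; infer_instance
  obtain ⟨K, gK, j, hj, hjc, hKs, hKc, W, d, w, hW, hWp⟩ := exists_red_component P
  haveI := hj; haveI := hjc; haveI := hKs; haveI := hKc; haveI := hWp
  haveI : IsAffine K.left := isAffine_of_isAffineHom j.left
  obtain ⟨B, gB, i, hm, hc, hs, hcon, hsol, Z, c, z, hZ, hZp⟩ := exists_solvable_proper K
  haveI := hm; haveI := hc; haveI := hs; haveI := hcon; haveI := hZp
  haveI : IsClosedImmersion (j ≫ iP).left := inferInstanceAs (IsClosedImmersion (j.left ≫ iP.left))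
  obtain ⟨Y, e, y, hY, hYp⟩ := exists_proper_comp hX hW
  haveI := hYp
  obtain ⟨Y', e', y', hY', hYp'⟩ := exists_proper_comp hY hZ
  haveI : IsClosedImmersion (i ≫ j ≫ iP).left :=
    inferInstanceAs (IsClosedImmersion (i.left ≫ j.left ≫ iP.left))
  refine ⟨B, gB, i ≫ j, inferInstance, ?_⟩
  rw [Category.assoc]
  exact Groth.Agent.S3905.result k G B (i ≫ j ≫ iP) inferInstance hsol Y' e' y' hY' hYp'

/-- smooth connected images -/
theorem exists_image_smooth {B Q : Over (Spec (CommRingCat.of k))} [GrpObj B] [GrpObj Q] [Smooth B.hom]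
    [QuasiCompact B.hom] [ConnectedSpace B.left] [LocallyOfFiniteType Q.hom] (f : B ⟶ Q) [IsMonHom f] :
    ∃ (C : Over (Spec (CommRingCat.of k))) (_ : GrpObj C) (p : B ⟶ C) (i : C ⟶ Q), IsMonHom p ∧ IsMonHom i ∧
      p ≫ i = f ∧ Surjective p.left ∧ IsClosedImmersion i.left ∧ Smooth C.hom ∧ ConnectedSpace C.left ∧
      (Red.IsSolvableGrp B → Red.IsSolvableGrp C) := by
  obtain ⟨C, gC, p, i, hp, hi, hpi, hpf, hps, hplfp, hic⟩ := Groth.L08.AbelianGrp.exists_image f
  haveI := hp; haveI := hi; haveI := hpf; haveI := hps; haveI := hplfp; haveI := hic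
  haveI hBC : Smooth (p.left ≫ C.hom) := by rw [Over.w p]; infer_instance
  haveI hCs : Smooth C.hom := Groth.L23.FppfSmooth.smooth_of_fppf_comp p.left C.hom hBC
  haveI : QuasiCompact C.hom := by
    haveI : CompactSpace B.left := QuasiCompact.compactSpace_of_compactSpace B.hom
    haveI : CompactSpace C.left := p.left.surjective.compactSpace p.left.continuous
    exact quasiCompact_of_compactSpace _
  refine ⟨C, gC, p, i, hp, hi, hpi, hps, hic, hCs, p.left.surjective.connectedSpace p.left.continuous,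
    fun hsol => isSolvableGrp_of_pts ?_⟩
  haveI := isSolvable_pts hsol
  refine Group.isSolvable_of_surjective (f := MonoidHom.mk' (fun t : U1 ⟶ B => t ≫ p) fun s t => MonObj.mul_comp s t p)
    fun c => exists_pt_lift p c (p.left.surjective _)

/-- The image of a Borel subgroup under a surjective homomorphism is a Borel subgroup. -/
theorem exists_image_borel {G Q : Over (Spec (CommRingCat.of k))} [GrpObj G] [GrpObj Q]
    [IsAffine G.left] [Smooth G.hom] [ConnectedSpace G.left] [IsAffine Q.left] [Smooth Q.hom] [ConnectedSpace Q.left]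
    (q : G ⟶ Q) [IsMonHom q] [Surjective q.left]
    {B : Over (Spec (CommRingCat.of k))} [GrpObj B] {iB : B ⟶ G} (hB : Red.IsBorelOver k iB) :
    ∃ (C : Over (Spec (CommRingCat.of k))) (_ : GrpObj C) (p : B ⟶ C) (i : C ⟶ Q), IsMonHom p ∧
      p ≫ i = iB ≫ q ∧ Surjective p.left ∧ Red.IsBorelOver k i := by
  haveI := hB.1; haveI := hB.2.1; haveI := hB.2.2.1; haveI := hB.2.2.2.1
  haveI : IsAffine B.left := isAffine_of_isAffineHom iB.left
  haveI : QuasiCompact B.hom := quasiCompact_of_compactSpace _
  haveI : LocallyOfFiniteType Q.hom := inferInstance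
  obtain ⟨C, gC, p, i, hp, hi, hpi, hps, hic, hCs, hCc, hCsol⟩ := exists_image_smooth (iB ≫ q)
  haveI := hp; haveI := hi; haveI := hps; haveI := hic; haveI := hCs; haveI := hCc
  obtain ⟨X, a, o, hX⟩ := exists_isQuotient iB
  haveI := isProper_quotient_of_borel hB hX
  obtain ⟨Y, c, y, hY⟩ := exists_isQuotient i
  haveI := hY.1; haveI := hY.2.2.1
  obtain ⟨r, hr⟩ := exists_desc hX (q ≫ c.orbitMap y) fun T u v ⟨t, ht⟩ => by
    rw [← Category.assoc, ← Category.assoc]
    refine (orbitMap_eq_iff hY _ _).2 ⟨t ≫ p, ?_⟩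
    rw [Category.assoc, hpi, ← Category.assoc, ht, MonObj.mul_comp, GrpObj.inv_comp]
  obtain ⟨hsep, -⟩ := isSeparated_quotient hY
  haveI := hsep
  haveI : Surjective ((a.orbitMap o).left ≫ r.left) := by
    rw [← Over.comp_left, hr, Over.comp_left]; infer_instance
  haveI : Surjective r.left := Surjective.of_comp (a.orbitMap o).left r.left
  haveI : IsProper Y.hom := Groth.L08.Chev.isProper_of_surjective r
  exact ⟨C, gC, p, i, hp, hpi, hps,
    Groth.Agent.S3905.result k Q C i hic (hCsol hB.2.2.2.2.1) Y c y hY inferInstance⟩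

/-- conjugates of Borel subgroups are Borel subgroups -/
theorem isBorelOver_conjBy {G B : Over (Spec (CommRingCat.of k))} [GrpObj G] [GrpObj B] [IsAffine G.left]
    [Smooth G.hom] {iB : B ⟶ G} (hB : Red.IsBorelOver k iB) (g : U1 ⟶ G) :
    Red.IsBorelOver k (AGF.conjBy g iB) := by
  haveI := hB.1; haveI := hB.2.1
  haveI : IsAffine B.left := isAffine_of_isAffineHom iB.left
  haveI : LocallyOfFiniteType B.hom := by haveI := hB.2.2.1; infer_instance
  haveI : Mono iB := Over.mono_of_mono_left iB
  haveI := isMonHom_conjBy g iB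
  haveI := mono_conjBy g iB
  haveI : IsAffineHom (AGF.conjBy g iB).left := isAffineHom_of_isAffine _
  haveI : IsClosedImmersion (AGF.conjBy g iB).left := Groth.L08.MonoClosed.isClosedImmersion_of_field _
  refine ⟨inferInstance, inferInstance, hB.2.2.1, hB.2.2.2.1, hB.2.2.2.2.1, fun B' _ i' _ f hc hs hcon hsol hf => ?_⟩
  haveI := hc
  haveI : IsAffine B'.left := isAffine_of_isAffineHom i'.left
  haveI : Mono i' := Over.mono_of_mono_left i'
  haveI := isMonHom_conjBy g⁻¹ i'
  haveI := mono_conjBy g⁻¹ i'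
  haveI : LocallyOfFiniteType B'.hom := inferInstance
  haveI : IsAffineHom (AGF.conjBy g⁻¹ i').left := isAffineHom_of_isAffine _
  haveI : IsClosedImmersion (AGF.conjBy g⁻¹ i').left := Groth.L08.MonoClosed.isClosedImmersion_of_field _
  exact hB.2.2.2.2.2 B' (AGF.conjBy g⁻¹ i') f inferInstance hs hcon hsol
    (by rw [comp_conjBy, hf, conjBy_conjBy, _root_.inv_mul_cancel, conjBy_one])

end Groth.L08.Borel
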