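import Groth.Agent.L08.Borel.MaxTori
import Groth.Agent.L08.MonoClosed

/-!
# The image of a torus is a torus; the image of a maximal torus is maximal
-/

set_option autoImplicit false
set_option backward.isDefEq.respectTransparency.types false
set_option linter.style.haveILetI false
set_option linter.unusedSectionVars false

universe u

open CategoryTheory CategoryTheory.Limits MonoidalCategory CartesianMonoidalCategory MonObj GrpObj AlgebraicGeometry
open TensorProduct WithConv
open Groth.L25.Bridge (P)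
open Groth.L08.TorusQuot (sp sp_left sp_comp exists_sp toPt toPt_pre toPt_post SP)

noncomputable section

namespace Groth.L08.Borel

variable {k : Type u} [Field k]

/-- a Hopf algebra inside a group algebra is spanned by grouplike elements -/
theorem isDiagonalizable_of_injective {A : Type u} [CommRing A] [HopfAlgebra k A] {M : Type} [CommGroup M]
    (c : A →ₐc[k] MonoidAlgebra k M) (hc : Function.Injective c) : HopfRep.IsDiagonalizable k A := by
  classical
  let cl : A →ₗ[k] MonoidAlgebra k M := (c : A →ₐ[k] MonoidAlgebra k M).toLinearMap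
  let φ : M → (MonoidAlgebra k M →ₗ[k] k) := fun m =>
    Finsupp.lapply m ∘ₗ (MonoidAlgebra.coeffLinearEquiv k).toLinearMap
  have key : ∀ (m : M) (z : MonoidAlgebra k M),
      (TensorProduct.lid k _) (TensorProduct.map (φ m) LinearMap.id (Coalgebra.comul (R := k) z)) =
        (φ m z) • MonoidAlgebra.single m (1 : k) := by
    intro m z
    induction z using MonoidAlgebra.induction_on with
    | of n =>
      rw [MonoidAlgebra.of_apply, (MonoidAlgebra.isGroupLikeElem_single_one (R := k) (A := k) n).comul_eq_tmul_self,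
        TensorProduct.map_tmul, TensorProduct.lid_tmul, LinearMap.id_apply]
      by_cases h : n = m
      · rw [h]
      · have h0 : φ m (MonoidAlgebra.single n (1 : k)) = 0 := by
          show (Finsupp.single n (1 : k)) m = 0
          exact Finsupp.single_eq_of_ne' h
        rw [h0, zero_smul, zero_smul]
    | add x y hx hy => simp only [map_add, hx, hy, add_smul]
    | smul a x hx => simp only [map_smul, hx, smul_assoc]
  -- the group elements in the support come from `A`
  have hpre : ∀ (b : A) (m : M), φ m (c b) ≠ 0 → ∃ a : A, IsGroupLikeElem k a ∧ c a = MonoidAlgebra.single m 1 := by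
    intro b m hm
    let a₀ : A := TensorProduct.lid k A (TensorProduct.map (φ m ∘ₗ cl) LinearMap.id (Coalgebra.comul (R := k) b))
    have hnat : ∀ w : A ⊗[k] A, cl (TensorProduct.lid k A (TensorProduct.map (φ m ∘ₗ cl) LinearMap.id w)) =
        TensorProduct.lid k _ (TensorProduct.map (φ m) LinearMap.id (TensorProduct.map cl cl w)) := by
      intro w
      induction w using TensorProduct.induction_on with
      | zero => simp
      | add p q hp hq => simp only [map_add, hp, hq]
      | tmul p q => simp [cl]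
    have h1 : c a₀ = φ m (c b) • MonoidAlgebra.single m (1 : k) := by
      refine (hnat _).trans ?_
      rw [show TensorProduct.map cl cl (Coalgebra.comul (R := k) b) = Coalgebra.comul (R := k) (c b) from
        CoalgHomClass.map_comp_comul_apply c b]
      exact key m (c b)
    refine ⟨(φ m (c b))⁻¹ • a₀, ⟨?_, ?_⟩, ?_⟩
    case refine_3 => rw [map_smul, h1, smul_smul, inv_mul_cancel₀ hm, one_smul]
    · rw [← CoalgHomClass.counit_comp_apply c, map_smul c, h1, smul_smul, inv_mul_cancel₀ hm, one_smul]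
      exact (MonoidAlgebra.isGroupLikeElem_single_one (R := k) (A := k) m).counit_eq_one
    · have hinj : Function.Injective (TensorProduct.map cl cl) := by
        rw [← LinearMap.rTensor_comp_lTensor]
        exact (Module.Flat.rTensor_preserves_injective_linearMap _ hc).comp
          (Module.Flat.lTensor_preserves_injective_linearMap _ hc)
      refine hinj ((CoalgHomClass.map_comp_comul_apply c _).trans ?_)
      rw [TensorProduct.map_tmul]
      show Coalgebra.comul (R := k) (c _) = c _ ⊗ₜ[k] c _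
      rw [map_smul c, h1, smul_smul, inv_mul_cancel₀ hm, one_smul]
      exact (MonoidAlgebra.isGroupLikeElem_single_one (R := k) (A := k) m).comul_eq_tmul_self
  show Submodule.span k {a : A | IsGroupLikeElem k a} = ⊤
  refine eq_top_iff.2 fun b _ => ?_
  have hmem : c b ∈ (Submodule.span k {a : A | IsGroupLikeElem k a}).map cl := by
    have hsum : c b ∈ Submodule.span k ((fun m => MonoidAlgebra.single m (1 : k)) '' {m | φ m (c b) ≠ 0}) := by
      let S := Submodule.span k ((fun m => MonoidAlgebra.single m (1 : k)) '' {m | φ m (c b) ≠ 0})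
      suffices h : (c b).coeff.sum MonoidAlgebra.single ∈ S by
        rw [MonoidAlgebra.sum_coeff_single] at h
        exact h
      refine Submodule.sum_mem _ fun m hm => ?_
      show MonoidAlgebra.single m ((c b).coeff m) ∈ _
      rw [show MonoidAlgebra.single m ((c b).coeff m) = (c b).coeff m • MonoidAlgebra.single m (1 : k) by simp]
      refine Submodule.smul_mem _ _ (Submodule.subset_span ⟨m, ?_, rfl⟩)
      show φ m (c b) ≠ 0
      exact Finsupp.mem_support_iff.1 hm
    refine Submodule.span_le.2 ?_ hsum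
    rintro _ ⟨m, hm, rfl⟩
    obtain ⟨a, ha, hca⟩ := hpre b m hm
    exact ⟨a, Submodule.subset_span ha, hca⟩
  obtain ⟨a, ha, hab⟩ := hmem
  rwa [← hc hab]

local notation "U1" => 𝟙_ (Over (Spec (CommRingCat.of k)))

/-- a torus over an algebraically closed field is the spectrum of a Laurent algebra -/
theorem exists_laurent_of_torus [IsAlgClosed k] {S : Over (Spec (CommRingCat.of k))} [GrpObj S] (hS : Red.IsTorus S) :
    ∃ n : ℕ, Nonempty (Grp.mk S ≅ Grp.mk (P k (MonoidAlgebra k (Multiplicative (Fin n → ℤ))))) := by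
  obtain ⟨hSa, hSs, hSc, hSsol, -⟩ := torus_props hS
  haveI := hSa; haveI := hSs; haveI := hSc
  obtain ⟨A, _, _, hft, hred, hconn, hsolv, ⟨eG⟩⟩ := exists_hopf_data (G := S) hSsol
  obtain ⟨M, _, -, ⟨eS⟩⟩ := Groth.L14.RedLR.exists_split_fg S hS
  obtain ⟨eA⟩ := Groth.L25.Bridge.exists_bialgEquiv (eG.symm ≪≫ eS ≪≫ Groth.L25.Bridge.dsIso k M)
  obtain ⟨B, _, _, ψ, J, _, r, n, hψ, -, hJ, hU, hr, ⟨eB⟩⟩ := exists_retraction (k := k) hconn
  have hdiag : HopfRep.IsDiagonalizable k A :=
    isDiagonalizable_of_injective (eA.symm : A →ₐc[k] MonoidAlgebra k (Multiplicative M)) eA.symm.injective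
  have hψs : Function.Surjective ψ := by
    have hle : Submodule.span k {g : A | IsGroupLikeElem k g} ≤ LinearMap.range (ψ : B →ₐ[k] A).toLinearMap :=
      Submodule.span_le.2 fun g hg => ⟨r g, groupLike_mem_range ψ J hJ hU r hr hg⟩
    rw [show Submodule.span k {g : A | IsGroupLikeElem k g} = ⊤ from hdiag] at hle
    intro x
    exact hle (show x ∈ ⊤ from Submodule.mem_top)
  exact ⟨n, ⟨eG ≪≫ Groth.L25.Bridge.mapIso (BialgEquiv.ofBijective ψ ⟨hψ, hψs⟩) ≪≫
    (Groth.L25.Bridge.mapIso eB).symm⟩⟩

/-- the reduced image of a torus is a torus -/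
theorem isTorus_of_surjective_torus [IsAlgClosed k] {T T' : Over (Spec (CommRingCat.of k))} [GrpObj T] [GrpObj T']
    (hT : Red.IsTorus T) (p : T ⟶ T') [IsMonHom p] [Surjective p.left] [IsAffine T'.left]
    [LocallyOfFiniteType T'.hom] [IsReduced T'.left] : Red.IsTorus T' := by
  obtain ⟨hTa, hTs, hTc, hTsol, -⟩ := torus_props hT
  haveI := hTa; haveI := hTs; haveI := hTc
  haveI : LocallyOfFiniteType T.hom := inferInstance
  haveI : Smooth T'.hom := smooth_of_reduced_group T'
  haveI : ConnectedSpace T'.left := p.left.surjective.connectedSpace p.left.continuous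
  haveI : QuasiCompact T'.hom := quasiCompact_of_compactSpace _
  haveI := isSolvable_pts hTsol
  let Φ : (U1 ⟶ T) →* (U1 ⟶ T') := MonoidHom.mk' (fun x => x ≫ p) fun x y => MonObj.mul_comp _ _ _
  have hΦ : Function.Surjective Φ := fun y => exists_pt_lift p y (p.left.surjective _)
  haveI : Group.IsSolvable (U1 ⟶ T') := Group.isSolvable_of_surjective hΦ
  obtain ⟨A, _, _, hft, hred, hconn, hsolv, ⟨eG⟩⟩ := exists_hopf_data (G := T') (isSolvableGrp_of_pts ‹_›)
  obtain ⟨M, _, -, ⟨eS⟩⟩ := Groth.L14.RedLR.exists_split_fg T hT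
  let e2 : Grp.mk T ≅ Grp.mk (P k (MonoidAlgebra k (Multiplicative M))) := eS ≪≫ Groth.L25.Bridge.dsIso k M
  let a : P k (MonoidAlgebra k (Multiplicative M)) ⟶ T := e2.inv.hom.hom
  let ψT : T' ⟶ P k A := eG.hom.hom.hom
  haveI : IsMonHom a := e2.inv.hom.isMonHom_hom
  haveI : IsMonHom ψT := eG.hom.hom.isMonHom_hom
  haveI : IsIso a := ⟨e2.hom.hom.hom, congrArg (fun f => f.hom.hom) e2.inv_hom_id,
    congrArg (fun f => f.hom.hom) e2.hom_inv_id⟩
  haveI : IsIso ψT := ⟨eG.inv.hom.hom, congrArg (fun f => f.hom.hom) eG.hom_inv_id,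
    congrArg (fun f => f.hom.hom) eG.inv_hom_id⟩
  obtain ⟨c, hc⟩ := exists_sp (a ≫ p ≫ ψT)
  -- the comorphism is injective
  have hinj : Function.Injective c := by
    rw [injective_iff_map_eq_zero]
    intro b hb
    refine Groth.L01.DimOne.ext_points (k := k) fun x => ?_
    rw [map_zero]
    let y : U1 ⟶ T' := (unitToSpec ≫ toPt (toConv x)) ≫ inv ψT
    obtain ⟨t, ht⟩ := exists_pt_lift p y (p.left.surjective _)
    haveI : IsIso (unitToSpec (k := k)).left := inferInstanceAs (IsIso (𝟙 (Spec (CommRingCat.of k))))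
    haveI : IsIso ((Over.forget _).map (unitToSpec (k := k))) := ‹_›
    haveI : IsIso (unitToSpec (k := k)) := isIso_of_reflects_iso _ (Over.forget _)
    let z : SP k k ⟶ P k (MonoidAlgebra k (Multiplicative M)) := inv unitToSpec ≫ t ≫ inv a
    have hz : z ≫ sp c = toPt (toConv x) := by
      rw [hc]
      simp only [z, Category.assoc, IsIso.inv_hom_id_assoc]
      rw [reassoc_of% ht]
      simp [y]
    obtain ⟨w, hw⟩ := Spec.mapMulEquiv.surjective z
    rw [← hw] at hz
    have h2 : Groth.L08.TorusQuot.pre c w = toConv x :=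
      Spec.mapMulEquiv.injective ((toPt_pre c w).trans hz)
    rw [show x b = (Groth.L08.TorusQuot.pre c w).ofConv b by rw [h2],
      Groth.L08.TorusQuot.pre_apply, hb, map_zero]
  -- hence `A` is a group algebra of a free group
  obtain ⟨B, _, _, ψ, J, _, r, n, hψ, -, hJ, hU, hr, ⟨eB⟩⟩ := exists_retraction (k := k) hconn
  have hψs : Function.Surjective ψ := by
    have hle : Submodule.span k {g : A | IsGroupLikeElem k g} ≤ LinearMap.range (ψ : B →ₐ[k] A).toLinearMap :=
      Submodule.span_le.2 fun g hg => ⟨r g, groupLike_mem_range ψ J hJ hU r hr hg⟩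
    rw [show Submodule.span k {g : A | IsGroupLikeElem k g} = ⊤ from isDiagonalizable_of_injective c hinj] at hle
    intro x
    exact hle (show x ∈ ⊤ from Submodule.mem_top)
  exact Groth.L25.TorLift.isTorus_of_iso eG.symm
    (isTorus_of_laurent ((BialgEquiv.ofBijective ψ ⟨hψ, hψs⟩).symm.trans eB))

/-- the image of a maximal torus is a maximal torus -/
theorem isMaxTorus_of_image [IsAlgClosed k] {G Q : Over (Spec (CommRingCat.of k))} [GrpObj G] [GrpObj Q]
    [IsAffine G.left] [Smooth G.hom] [ConnectedSpace G.left] [IsAffine Q.left] [Smooth Q.hom] [ConnectedSpace Q.left]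
    (q : G ⟶ Q) [IsMonHom q] [Surjective q.left]
    {T : Over (Spec (CommRingCat.of k))} [GrpObj T] {iT : T ⟶ G} (hT : AGF.IsMaxTorus iT)
    {T' : Over (Spec (CommRingCat.of k))} [GrpObj T'] (iT' : T' ⟶ Q) [IsMonHom iT'] [IsClosedImmersion iT'.left]
    [IsReduced T'.left] (p : T ⟶ T') [Surjective p.left] (hp : p ≫ iT' = iT ≫ q) : AGF.IsMaxTorus iT' := by
  haveI := hT.1; haveI := hT.2.1
  haveI : Mono iT' := Groth.L08.mono_of_closedImmersion iT'
  haveI : IsMonHom p := isMonHom_of_comp_mono p iT' (iT ≫ q) hp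
  haveI : IsAffine T'.left := isAffine_of_isAffineHom iT'.left
  haveI : LocallyOfFiniteType T'.hom := by rw [← Over.w iT']; infer_instance
  have hT' : Red.IsTorus T' := isTorus_of_surjective_torus hT.2.2.1 p
  obtain ⟨B, gB, iB, hB⟩ := exists_borel G
  obtain ⟨C, gC, pC, iC, hpCm, hpC, hpCs, hC⟩ := exists_image_borel q hB
  obtain ⟨T₀, g₀, i₀, pB, hm₀, hmono₀, h₀, hpB, -, hfac, -, habs⟩ := exists_absorbing_of_borel hB
  obtain ⟨TC, gTC, iTC, pT, hmC, hmonoC, hTC, hpT, hsec, -, hinC, habsC⟩ := exists_absorbing_of_borel hC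
  haveI := hB.1; haveI := hB.2.1; haveI := hC.1; haveI := hC.2.1; haveI := hC.2.2.1; haveI := hC.2.2.2.1
  haveI := hm₀; haveI := hmono₀; haveI := hmC; haveI := hmonoC; haveI := hpCm; haveI := hpCs; haveI := hpB; haveI := hpT
  haveI : Mono iB := Groth.L08.mono_of_closedImmersion iB
  haveI : Mono iC := Groth.L08.mono_of_closedImmersion iC
  haveI : IsAffine C.left := isAffine_of_isAffineHom iC.left
  obtain ⟨a, f, hf⟩ := exists_iso_absorbing hT (i₀ ≫ iB) h₀ habs
  -- the torus of the image Borel receives a surjection from `T₀`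
  haveI : Surjective pT.left := ⟨fun x => ⟨iTC.left x, by
    rw [← Scheme.Hom.comp_apply, ← Over.comp_left, hsec]; rfl⟩⟩
  have hvs : Surjective (i₀ ≫ pC ≫ pT).left := by
    haveI : Surjective (pC ≫ pT).left := inferInstanceAs (Surjective (pC.left ≫ pT.left))
    haveI : Surjective (pB.left ≫ (i₀ ≫ pC ≫ pT).left) := by
      rw [← Over.comp_left, ← hfac TC (pC ≫ pT) hTC]; infer_instance
    exact Surjective.of_comp pB.left _
  -- the conjugate of `T'` lies in the image Borel
  let ga : U1 ⟶ Q := a ≫ q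
  have e1 : i₀ ≫ pC ≫ iC = (f.inv ≫ p) ≫ AGF.conjBy ga iT' := by
    rw [hpC, comp_conjBy, Category.assoc, hp, ← Category.assoc f.inv, ← conjBy_comp, ← comp_conjBy, ← hf,
      Iso.inv_hom_id_assoc]
    simp only [Category.assoc]
  haveI : IsMonHom (AGF.conjBy ga iT') := isMonHom_conjBy ga iT'
  haveI : Mono (AGF.conjBy ga iT') := mono_conjBy ga iT'
  haveI : IsIso f.inv.left := inferInstanceAs (IsIso ((Over.forget _).map f.inv))
  haveI hfp : Surjective (f.inv ≫ p).left := inferInstanceAs (Surjective (f.inv.left ≫ p.left))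
  obtain ⟨w, hw⟩ := Groth.L19.AlgGrpBasic.exists_lift_of_range iC (AGF.conjBy ga iT') (by
    rintro _ ⟨t, rfl⟩
    obtain ⟨t₀, rfl⟩ := (f.inv ≫ p).left.surjective t
    exact ⟨(i₀ ≫ pC).left t₀, by
      rw [← Scheme.Hom.comp_apply, ← Scheme.Hom.comp_apply, ← Over.comp_left, ← Over.comp_left, Category.assoc, e1]⟩)
  haveI : IsMonHom w := isMonHom_of_comp_mono w iC (AGF.conjBy ga iT') hw
  haveI : Mono w := by
    haveI : Mono (w ≫ iC) := hw ▸ inferInstance
    exact mono_of_mono w iC
  have e2 : (f.inv ≫ p) ≫ w = i₀ ≫ pC := by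
    rw [← cancel_mono iC, Category.assoc, hw, ← e1, Category.assoc]
  -- and maps isomorphically onto the torus of the image Borel
  obtain ⟨-, -, -, -, hcomm⟩ := torus_props hTC
  obtain ⟨hTCa, hTCs, -⟩ := torus_props hTC
  haveI := hTCa; haveI := hTCs
  haveI : IsReduced TC.left := Groth.Agent.AV.isReduced_of_smooth_field TC.hom
  obtain ⟨h, m, hm⟩ := hinC T' w hT'
  haveI : IsIso m := by
    have em : m = w ≫ pT := by
      have := congrArg (· ≫ pT) hm
      simp only [Category.assoc, hsec, Category.comp_id, conjBy_comp] at this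
      rw [this, AGF.conjBy, hcomm, ← _root_.mul_assoc, inv_mul_cancel, _root_.one_mul]
    haveI : Mono m := by
      haveI := mono_conjBy h w
      haveI : Mono (m ≫ iTC) := hm ▸ inferInstance
      exact mono_of_mono m iTC
    haveI : IsMonHom m := em ▸ inferInstance
    haveI : IsAffineHom m.left := isAffineHom_of_isAffine _
    haveI : IsClosedImmersion m.left := Groth.L08.MonoClosed.isClosedImmersion_of_field _
    haveI : Surjective m.left := by
      haveI := hvs
      haveI : Surjective ((f.inv ≫ p).left ≫ m.left) := by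
        rw [← Over.comp_left, em, ← Category.assoc, e2, Category.assoc]; infer_instance
      exact Surjective.of_comp (f.inv ≫ p).left _
    haveI : IsIso m.left := isIso_of_isClosedImmersion_of_surjective m.left
    haveI : IsIso ((Over.forget _).map m) := ‹_›
    exact isIso_of_reflects_iso m (Over.forget _)
  refine isMaxTorus_of_absorbing iT' hT' fun S gS j _ _ hS => ?_
  obtain ⟨g, u, hu⟩ := habsC S j hS
  refine ⟨(ga⁻¹ * ((h ≫ iC)⁻¹ * g)), u ≫ inv m, ?_⟩
  have e3 : m ≫ iTC ≫ iC = AGF.conjBy (h ≫ iC) (AGF.conjBy ga iT') := by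
    rw [reassoc_of% hm, conjBy_comp, hw]
  have e4 : iT' = AGF.conjBy ga⁻¹ (AGF.conjBy (h ≫ iC)⁻¹ (m ≫ iTC ≫ iC)) := by
    simp only [e3, conjBy_conjBy, ← _root_.mul_assoc]
    simp [conjBy_one]
  rw [e4, comp_conjBy, comp_conjBy, Category.assoc, IsIso.inv_hom_id_assoc, hu, conjBy_conjBy, conjBy_conjBy,
    _root_.mul_assoc]

end Groth.L08.Borel
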