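import Groth.Agent.L08.Borel.DimTorus
import Groth.Agent.L25.SplitSub.KernelLocal
import Groth.Agent.L25.SplitSub.KernelBC
import Groth.Agent.L25.SplitHom.Main
import Groth.Agent.L25.SplitHom.Smooth
import Groth.Agent.L25.Locus.Conjugacy
import Groth.Agent.L25.Locus.Transporter
import Groth.Agent.L25.Locus.Semidirect
import Groth.Agent.L25.MonoClosed.Main
import Groth.Agent.L25.Bridge.TorsionLift

/-!
# Split tori of geometric fibres lift to étale neighbourhoods
-/

set_option autoImplicit false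
set_option backward.isDefEq.respectTransparency.types false
set_option linter.style.haveILetI false
universe u

open CategoryTheory CategoryTheory.Limits MonoidalCategory CartesianMonoidalCategory MonObj AlgebraicGeometry

noncomputable section

namespace Groth.L08.Borel

open Groth.L25

variable {S : Scheme.{u}}

theorem isTorus_ds (S : Scheme.{u}) (r : ℕ) : Red.IsTorus (Red.DS S (Fin r → ℤ)) :=
  ⟨S, 𝟙 S, inferInstance, inferInstance, fun V hV => ⟨V, hV.isCompact, by simp⟩,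
    fun _ => ⟨⊤, trivial, r, ⟨Grp.mkIso' (SplitSub.bcDS _)⟩⟩⟩

section Family

variable {P : Scheme.{u}} (b : P ⟶ S) {H G : Over S}

/-- the homomorphism of base changes of a family -/
def homOfFam (υ : H ⊗ Over.mk b ⟶ G) : Red.bc b H ⟶ Red.bc b G :=
  NilAction.ofBase b (lift (NilAction.toBase b (𝟙 (Red.bc b H)))
    (Over.homMk (Red.bc b H).hom rfl : Over.mk ((Red.bc b H).hom ≫ b) ⟶ Over.mk b) ≫ υ)

theorem comp_homOfFam (υ : H ⊗ Over.mk b ⟶ G) {Y : Over P} (t : Y ⟶ Red.bc b H) :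
    t ≫ homOfFam b υ = NilAction.ofBase b (lift (NilAction.toBase b t)
      (Over.homMk Y.hom rfl : Over.mk (Y.hom ≫ b) ⟶ Over.mk b) ≫ υ) := by
  rw [homOfFam, Locus.comp_ofBase, ← Category.assoc, comp_lift]
  congr 3
  apply Over.OverMorphism.ext
  exact Over.w t

theorem isMonHom_homOfFam [GrpObj H] [GrpObj G] {υ : H ⊗ Over.mk b ⟶ G} (hυ : AutFam.IsHomFamily H G υ) :
    IsMonHom (homOfFam b υ) :=
  Bridge.isMonHom_of_mul _ fun Y x y => by
    rw [comp_homOfFam, comp_homOfFam, comp_homOfFam, NilAction.toBase_mul, hυ, Locus.ofBase_mul]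

end Family

variable {N : Type} [AddCommGroup N]

/-- points over a field point killed by a family with monomorphic fibre are trivial -/
theorem eq_one_of_fam {H G : Over S} [GrpObj H] [GrpObj G] {P : Scheme.{u}} (π : P ⟶ S)
    (υ : H ⊗ Over.mk π ⟶ G) {Q : Scheme.{u}} (b : Q ⟶ S)
    (φ : Red.bc b H ⟶ Red.bc b G) [IsMonHom φ] [Mono φ] (g : Over.mk b ⟶ Over.mk π)
    (hg : (H ◁ g) ≫ υ = SplitHom.famOfHom b φ)
    {Y : Over P} (p : Y ⟶ Over.mk g.left) (t' : Y ⟶ Red.bc π H) (h' : t' ≫ homOfFam π υ = 1) : t' = 1 := by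
  let Y' : Over Q := Over.mk p.left
  let e : Over.mk (Y'.hom ≫ b) ⟶ Over.mk (Y.hom ≫ π) := Over.homMk (𝟙 _) (by
    show 𝟙 _ ≫ Y.hom ≫ π = p.left ≫ b
    rw [Category.id_comp, ← Over.w p, Category.assoc]
    exact congrArg (p.left ≫ ·) (Over.w g))
  haveI : IsIso e := by
    haveI : IsIso e.left := inferInstanceAs (IsIso (𝟙 _))
    haveI : IsIso ((Over.forget S).map e) := ‹IsIso e.left›
    exact isIso_of_reflects_iso _ (Over.forget S)
  have he : e ≫ (Over.homMk Y.hom rfl : Over.mk (Y.hom ≫ π) ⟶ Over.mk π) =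
      (Over.homMk Y'.hom rfl : Over.mk (Y'.hom ≫ b) ⟶ Over.mk b) ≫ g :=
    Over.OverMorphism.ext (by
      show 𝟙 _ ≫ Y.hom = p.left ≫ g.left
      rw [Category.id_comp]
      exact (Over.w p).symm)
  have h2 : lift (NilAction.toBase π t') (Over.homMk Y.hom rfl : Over.mk (Y.hom ≫ π) ⟶ Over.mk π) ≫ υ = 1 := by
    have := congrArg (NilAction.toBase π) h'
    rwa [comp_homOfFam, NilAction.toBase_ofBase, NilAction.toBase_one] at this
  have h3 : NilAction.toBase b (NilAction.ofBase b (e ≫ NilAction.toBase π t') ≫ φ) = 1 := by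
    rw [← SplitHom.lift_famOfHom, ← hg, lift_whiskerLeft_assoc, ← he, ← comp_lift, Category.assoc, h2,
      MonObj.comp_one]
  have h4 : NilAction.ofBase b (e ≫ NilAction.toBase π t') ≫ φ = 1 := by
    rw [← NilAction.ofBase_toBase b (NilAction.ofBase b (e ≫ NilAction.toBase π t') ≫ φ), h3,
      ← NilAction.toBase_one b, NilAction.ofBase_toBase]
  rw [← MonObj.one_comp φ, cancel_mono] at h4
  have h5 : e ≫ NilAction.toBase π t' = 1 := by
    rw [← NilAction.toBase_ofBase b (e ≫ NilAction.toBase π t'), h4, NilAction.toBase_one]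
  rw [← MonObj.comp_one e, cancel_epi] at h5
  rw [← NilAction.ofBase_toBase π t', h5, ← NilAction.toBase_one π, NilAction.ofBase_toBase]

/-- a family whose pullback to a field point is a monomorphism has trivial kernel characters there -/
theorem good_eq_top {G : Over S} [GrpObj G] {P : Scheme.{u}} (π : P ⟶ S)
    (υ : Red.DS S N ⊗ Over.mk π ⟶ G) (hυ : AutFam.IsHomFamily (Red.DS S N) G υ)
    {K : Type u} [Field K] (b : Spec (CommRingCat.of K) ⟶ S)
    (φ : Red.bc b (Red.DS S N) ⟶ Red.bc b G) [IsMonHom φ] [Mono φ]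
    (g : Over.mk b ⟶ Over.mk π) (hg : (Red.DS S N ◁ g) ≫ υ = SplitHom.famOfHom b φ)
    {U : Set P} {A : AddSubgroup N}
    (hA : SplitSub.Good ((SplitSub.bcDS π).inv ≫ homOfFam π υ) U A)
    (hmem : g.left (IsLocalRing.closedPoint K) ∈ U) : A = ⊤ := by
  let w := (SplitSub.bcDS π).inv ≫ homOfFam π υ
  rw [← SplitSub.killSub_eq w g.left A (fun Y p t => hA Y (fun y => ?_) t)]
  · refine SplitSub.killSub_eq w g.left ⊤ fun Y p t => ?_
    rw [SplitSub.kills_top_iff]
    refine ⟨fun h => ?_, fun h => by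
      haveI := isMonHom_homOfFam π hυ
      haveI : IsMonHom (SplitSub.bcDS (N := N) π).hom := SplitSub.isMonHom_bcDS π
      rw [h, MonObj.one_comp]⟩
    let t' : Y ⟶ Red.bc π (Red.DS S N) := t ≫ (SplitSub.bcDS π).inv
    have h6 : t' = 1 := eq_one_of_fam π υ b φ g hg p t' ((Category.assoc _ _ _).trans h)
    haveI : IsMonHom (SplitSub.bcDS (N := N) π).hom := SplitSub.isMonHom_bcDS π
    rw [← Category.comp_id t, ← (SplitSub.bcDS π).inv_hom_id, ← Category.assoc]
    exact (congrArg (· ≫ (SplitSub.bcDS π).hom) h6).trans (MonObj.one_comp _)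
  · rw [← Over.w p]
    show g.left (p.left y) ∈ U
    rwa [Subsingleton.elim (α := PrimeSpectrum K) (p.left y) (IsLocalRing.closedPoint K)]

/-- **split subtori of geometric fibres lift to étale neighbourhoods** -/
theorem exists_torus_nhd {G : Over S} [GrpObj G] [IsAffineHom G.hom] [Smooth G.hom] (s : S) {r : ℕ}
    (v : Red.DS (Spec (CommRingCat.of (AlgebraicClosure (S.residueField s)))) (Fin r → ℤ) ⟶ Red.geomFibre s G)
    [IsMonHom v] [Mono v] :
    ∃ (S' : Scheme.{u}) (e : S' ⟶ S) (w : Red.DS S' (Fin r → ℤ) ⟶ Red.bc e G),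
      Etale e ∧ s ∈ Set.range e.base ∧ IsMonHom w ∧ Mono w := by
  let N := Fin r → ℤ
  have hH := Locus.locally_of_multTypeFT (Locus.isMultTypeFT_of_isTorus (isTorus_ds S r))
  obtain ⟨A, υ, hA, -, hAfp⟩ := SplitHom.exists_representsHom (Red.DS S N) G hH
  haveI := hAfp
  haveI : Smooth A.hom := SplitHom.smooth_of_representsHom hH hA
  let b := Red.geomPt s
  let φ : Red.bc b (Red.DS S N) ⟶ Red.bc b G := (SplitSub.bcDS b).hom ≫ v
  haveI : IsMonHom (SplitSub.bcDS (N := N) b).hom := SplitSub.isMonHom_bcDS b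
  haveI : IsMonHom φ := inferInstanceAs (IsMonHom ((SplitSub.bcDS b).hom ≫ v))
  haveI : Mono φ := mono_comp _ _
  obtain ⟨g, hg, -⟩ := hA.2 _ (SplitHom.famOfHom b φ) (SplitHom.isHomFamily_famOfHom b φ)
  have hυ : AutFam.IsHomFamily (Red.DS S N) G (T := Over.mk A.hom) υ := hA.1
  let w₀ : Red.DS A.left N ⟶ Red.bc A.hom G := (SplitSub.bcDS A.hom).inv ≫ homOfFam A.hom υ
  haveI : IsMonHom (SplitSub.bcDS (N := N) A.hom).hom := SplitSub.isMonHom_bcDS _
  haveI := isMonHom_homOfFam A.hom (υ := υ) hυ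
  haveI : IsMonHom w₀ := inferInstanceAs (IsMonHom ((SplitSub.bcDS A.hom).inv ≫ homOfFam A.hom υ))
  haveI : IsSeparated (Red.bc A.hom G).hom :=
    MorphismProperty.pullback_snd _ _ (inferInstance : IsSeparated G.hom)
  haveI : LocallyOfFinitePresentation (Red.bc A.hom G).hom :=
    MorphismProperty.pullback_snd _ _ (inferInstance : LocallyOfFinitePresentation G.hom)
  haveI : QuasiCompact (Red.bc A.hom G).hom :=
    MorphismProperty.pullback_snd _ _ (inferInstance : QuasiCompact G.hom)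
  obtain ⟨U, hpU, -, Λ, -, hgood⟩ := SplitSub.exists_good_clopen w₀ (g.left (IsLocalRing.closedPoint _))
  obtain rfl : Λ = ⊤ := good_eq_top A.hom υ hυ b φ (g : Over.mk b ⟶ Over.mk A.hom) hg hgood hpU
  haveI : Smooth (Over.mk (U.ι ≫ A.hom)).hom := inferInstanceAs (Smooth (U.ι ≫ A.hom))
  have hrange : Set.range g.left ⊆ Set.range U.ι := by
    rintro _ ⟨x, rfl⟩
    rw [Scheme.Opens.range_ι]
    rw [Subsingleton.elim (α := PrimeSpectrum (AlgebraicClosure (S.residueField s))) x (IsLocalRing.closedPoint _)]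
    exact hpU
  let gU : Over.mk b ⟶ Over.mk (U.ι ≫ A.hom) := Over.homMk (IsOpenImmersion.lift U.ι g.left hrange) (by
    show _ ≫ U.ι ≫ A.hom = b
    rw [IsOpenImmersion.lift_fac_assoc]
    exact Over.w g)
  obtain ⟨S', e, he, hes, ⟨h⟩⟩ := Locus.exists_etale_nhd_point (W := Over.mk (U.ι ≫ A.hom)) s gU
  let k : S' ⟶ A.left := h.left ≫ U.ι
  have hk : k ≫ A.hom = e := (Category.assoc _ _ _).trans (Over.w h)
  let w₁ := SplitSub.bcHom k w₀
  haveI : IsMonHom w₁ := SplitSub.isMonHom_bcHom k w₀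
  have hgood₁ : SplitSub.Good w₁ Set.univ ⊤ := fun T _ t =>
    hgood.bc w₀ k T (fun y => (h.left (T.hom y)).2) t
  haveI : Mono w₁ := SplitSub.mono_of_ker w₁ fun T t ht =>
    (SplitSub.kills_top_iff t).1 ((hgood₁ T (fun _ => trivial) t).1 ht)
  refine ⟨S', e, w₁ ≫ (ActBC.bcCompIso k A.hom G hk).hom, he, hes, ?_, mono_comp _ _⟩
  exact Bridge.isMonHom_of_mul (X := Red.DS S' (Fin r → ℤ)) (W := Red.bc e G)
    (w₁ ≫ (ActBC.bcCompIso k A.hom G hk).hom) fun X a c => by
    rw [← Category.assoc, MonObj.mul_comp a c w₁, MonObj.mul_comp, Category.assoc, Category.assoc]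

end Groth.L08.Borel
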