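import Groth.Agent.L08.Borel.Factor
import Groth.Agent.L08.SubgroupObj
import Groth.Agent.L19.AlgGrpBasic.OrbitDim

/-!
# Rational points of quotients, stabilisers, closed orbits
-/

set_option autoImplicit false
set_option backward.isDefEq.respectTransparency.types false
set_option linter.style.haveILetI false

universe u

open CategoryTheory CategoryTheory.Limits MonoidalCategory CartesianMonoidalCategory MonObj GrpObj AlgebraicGeometry

noncomputable section

namespace Groth.L08.Borel

variable {k : Type u} [Field k] [IsAlgClosed k]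

local notation "U1" => 𝟙_ (Over (Spec (CommRingCat.of k)))

/-- the image of a rational point -/
abbrev ptOf {X : Over (Spec (CommRingCat.of k))} (s : U1 ⟶ X) : X.left := s.left (IsLocalRing.closedPoint k)

theorem pt_ext {X : Over (Spec (CommRingCat.of k))} [LocallyOfFiniteType X.hom] {s t : U1 ⟶ X}
    (h : ptOf s = ptOf t) : s = t :=
  Over.OverMorphism.ext (ext_of_apply_closedPoint_eq X.hom (Over.w s) (Over.w t) h)

theorem exists_pt_mem {X : Over (Spec (CommRingCat.of k))} [LocallyOfFiniteType X.hom] {O : Set X.left}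
    (hO : IsLocallyClosed O) (hne : O.Nonempty) : ∃ t : U1 ⟶ X, ptOf t ∈ O := by
  haveI : JacobsonSpace X.left := LocallyOfFiniteType.jacobsonSpace X.hom
  obtain ⟨p, hp, hpc⟩ := nonempty_inter_closedPoints hne hO
  let s := (pointEquivClosedPoint X.hom).symm ⟨p, hpc⟩
  refine ⟨Over.homMk s.1 s.2, ?_⟩
  show s.1 (IsLocalRing.closedPoint k) ∈ O
  rw [show s.1 (IsLocalRing.closedPoint k) = p from
    congrArg Subtype.val ((pointEquivClosedPoint X.hom).apply_symm_apply ⟨p, hpc⟩)]
  exact hp

theorem isClosed_pt {X : Over (Spec (CommRingCat.of k))} [LocallyOfFiniteType X.hom] (s : U1 ⟶ X) :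
    IsClosed ({ptOf s} : Set X.left) :=
  (pointEquivClosedPoint X.hom ⟨s.left, Over.w s⟩).2

omit [IsAlgClosed k] in
theorem range_pt {X : Over (Spec (CommRingCat.of k))} (s : U1 ⟶ X) : Set.range s.left = {ptOf s} := by
  ext y
  refine ⟨?_, fun h => ⟨_, h.symm⟩⟩
  rintro ⟨p, rfl⟩
  exact congrArg s.left (Subsingleton.elim (α := PrimeSpectrum k) _ _)

/-- a rational point in the image of a morphism lifts -/
theorem exists_pt_lift {X Y : Over (Spec (CommRingCat.of k))} [LocallyOfFiniteType X.hom] [LocallyOfFiniteType Y.hom]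
    (f : X ⟶ Y) (y : U1 ⟶ Y) (h : ptOf y ∈ Set.range f.left) : ∃ x : U1 ⟶ X, x ≫ f = y := by
  obtain ⟨q, hq⟩ := h
  obtain ⟨x, hx⟩ := exists_pt_mem (X := X) (O := f.left ⁻¹' {ptOf y})
    ((isClosed_pt y).preimage f.left.continuous).isLocallyClosed ⟨q, hq⟩
  exact ⟨x, pt_ext hx⟩

variable {G H X : Over (Spec (CommRingCat.of k))} [GrpObj G]

/-- rational points of a quotient come from the group -/
theorem exists_point_eq [GrpObj H] {i : H ⟶ G} {a : AlgGrp.Action G X} {o : U1 ⟶ X} [LocallyOfFiniteType G.hom]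
    (hX : AGF.IsQuotient i X a o) (y : U1 ⟶ X) : ∃ g : U1 ⟶ G, g ≫ a.orbitMap o = y := by
  haveI := hX.1
  haveI := hX.2.2.1
  exact exists_pt_lift _ y ((a.orbitMap o).left.surjective _)

omit [IsAlgClosed k] in
theorem comp_orbitMap (a : AlgGrp.Action G X) (x : U1 ⟶ X) {T : Over (Spec (CommRingCat.of k))} (g : T ⟶ G) :
    g ≫ a.orbitMap x = lift g (toUnit T ≫ x) ≫ a.act := by
  simp only [AlgGrp.Action.orbitMap, ← Category.assoc, comp_lift, Category.comp_id]
  rw [toUnit_unique (g ≫ toUnit G) (toUnit T)]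

omit [IsAlgClosed k] in
/-- the stabiliser of a rational point is a closed subgroup scheme -/
theorem exists_stabilizer [IsSeparated X.hom] (a : AlgGrp.Action G X) (x : U1 ⟶ X) :
    ∃ (Go : Over (Spec (CommRingCat.of k))) (_ : GrpObj Go) (i : Go ⟶ G), IsMonHom i ∧ IsClosedImmersion i.left ∧
      IsPullback i (toUnit Go) (a.orbitMap x) x := by
  let P := Limits.pullback (a.orbitMap x) x
  let i : P ⟶ G := pullback.fst _ _
  have sq : IsPullback i (toUnit P) (a.orbitMap x) x := by
    have := IsPullback.of_hasPullback (a.orbitMap x) x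
    rwa [toUnit_unique (pullback.snd (a.orbitMap x) x) (toUnit P)] at this
  haveI : IsClosedImmersion (x.left ≫ X.hom) := by
    rw [Over.w x]
    exact inferInstanceAs (IsClosedImmersion (𝟙 (Spec (CommRingCat.of k))))
  haveI : IsClosedImmersion x.left := IsClosedImmersion.of_comp x.left X.hom
  haveI hcl : IsClosedImmersion i.left :=
    MorphismProperty.of_isPullback (P := @IsClosedImmersion) (sq.map (Over.forget _)).flip ‹IsClosedImmersion x.left›
  haveI : Mono i := Groth.L08.mono_of_closedImmersion i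
  have crit : ∀ {T : Over (Spec (CommRingCat.of k))} (t : T ⟶ G),
      t ≫ a.orbitMap x = toUnit T ≫ x → ∃ z : T ⟶ P, z ≫ i = t :=
    fun t h => ⟨sq.lift t (toUnit _) h, sq.lift_fst _ _ _⟩
  have hi : ∀ {T : Over (Spec (CommRingCat.of k))} (z : T ⟶ P), lift (z ≫ i) (toUnit T ≫ x) ≫ a.act = toUnit T ≫ x := by
    intro T z
    rw [← comp_orbitMap, Category.assoc, sq.w, ← Category.assoc, toUnit_unique (z ≫ toUnit P) (toUnit T)]
  obtain ⟨gP, hmon⟩ := Groth.L08.exists_grpObj_of_mono i
    (crit η[G] (by rw [MonObj.one_eq_one, comp_orbitMap, Groth.L25.Actions.one_act]))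
    (crit _ (by rw [comp_orbitMap, Groth.L25.Actions.mul_act, hi, hi]))
    (crit _ (by
      rw [comp_orbitMap]
      have h := congrArg (fun y => lift i⁻¹ y ≫ a.act) (hi (𝟙 P))
      simp only [Category.id_comp, Groth.L25.Actions.inv_act] at h
      exact h.symm))
  exact ⟨P, gP, i, hmon, hcl, sq⟩

theorem withBot_le_of_lt_succ {t : WithBot ℕ∞} {m : ℕ} (h : t < ((m + 1 : ℕ) : WithBot ℕ∞)) :
    t ≤ (m : WithBot ℕ∞) := by
  induction t using WithBot.recBotCoe with
  | bot => exact bot_le
  | coe t =>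
    refine WithBot.coe_le_coe.2 ?_
    have h' : t < ((m + 1 : ℕ) : ℕ∞) := WithBot.coe_lt_coe.1 h
    induction t using ENat.recTopCoe with
    | top => simp at h'
    | coe t =>
      have : t < m + 1 := by exact_mod_cast h'
      exact_mod_cast Nat.lt_succ_iff.1 this

/-- an action on a nonempty scheme of finite type has a closed orbit -/
theorem exists_closed_orbit [LocallyOfFiniteType G.hom] [QuasiCompact G.hom] [LocallyOfFiniteType X.hom]
    [QuasiCompact X.hom] [Nonempty X.left] (a : AlgGrp.Action G X) :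
    ∃ x : U1 ⟶ X, IsClosed (Set.range (a.orbitMap x).left) := by
  classical
  obtain ⟨N, hN⟩ := Groth.L19.AlgGrpBasic.exists_dim_bound X.hom
  obtain ⟨x₀, -⟩ := exists_pt_mem (X := X) isClosed_univ.isLocallyClosed Set.univ_nonempty
  have hbound : ∀ x : U1 ⟶ X, topologicalKrullDim ↥(Set.range (a.orbitMap x).left) ≤ (N : WithBot ℕ∞) := fun x =>
    (Topology.IsEmbedding.subtypeVal.isInducing.topologicalKrullDim_le).trans hN
  have hex : ∃ m : ℕ, ∃ x : U1 ⟶ X, topologicalKrullDim ↥(Set.range (a.orbitMap x).left) ≤ (m : WithBot ℕ∞) :=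
    ⟨N, x₀, hbound x₀⟩
  obtain ⟨x, hx⟩ := Nat.find_spec hex
  refine ⟨x, ?_⟩
  by_contra hnc
  have hne : (closure (Set.range (a.orbitMap x).left) \ Set.range (a.orbitMap x).left).Nonempty := by
    refine Set.nonempty_iff_ne_empty.2 fun h => hnc ?_
    rw [Set.sdiff_eq_empty] at h
    exact closure_subset_iff_isClosed.1 h
  obtain ⟨y, hy⟩ := exists_pt_mem (X := X) (Groth.L19.AlgGrpBasic.isClosed_boundary a x).isLocallyClosed hne
  have h1 : topologicalKrullDim ↥(Set.range (a.orbitMap y).left) < topologicalKrullDim ↥(Set.range (a.orbitMap x).left) :=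
    lt_of_le_of_lt (Groth.L03.Euler.topologicalKrullDim_set_mono (Groth.L19.AlgGrpBasic.orbit_subset_boundary a x y hy))
      (Groth.L19.AlgGrpBasic.dim_boundary_lt a x)
  have h2 := lt_of_lt_of_le h1 hx
  rcases Nat.eq_zero_or_pos (Nat.find hex) with h0 | hpos
  · rw [h0] at h2
    let q : ↥(Set.range (a.orbitMap y).left) :=
      ⟨(a.orbitMap y).left ((η[G] : U1 ⟶ G).left (IsLocalRing.closedPoint k)), ⟨_, rfl⟩⟩
    haveI : Nonempty (TopologicalSpace.IrreducibleCloseds ↥(Set.range (a.orbitMap y).left)) :=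
      ⟨⟨closure {q}, isIrreducible_singleton.closure, isClosed_closure⟩⟩
    exact absurd h2 (not_lt.2 (by simpa [topologicalKrullDim] using Order.krullDim_nonneg))
  · obtain ⟨m, hm⟩ := Nat.exists_eq_succ_of_ne_zero hpos.ne'
    rw [hm] at h2
    exact Nat.find_min hex (by omega) ⟨y, withBot_le_of_lt_succ h2⟩

end Groth.L08.Borel
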