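import Groth.Agent.L08.Borel.QuasiScheme
import Groth.Agent.L08.Borel.Points
import Groth.Agent.L19.AlgGrpBasic.Points
import Groth.Agent.S8022
import Mathlib.Topology.JacobsonSpace

/-!
# The fixed point theorem for connected solvable groups
-/

set_option autoImplicit false
set_option backward.isDefEq.respectTransparency.types false
set_option linter.style.haveILetI false

universe u

open CategoryTheory CategoryTheory.Limits MonoidalCategory CartesianMonoidalCategory MonObj GrpObj AlgebraicGeometry

noncomputable section

namespace Groth.L08.Borel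

variable {k : Type u} [Field k] [IsAlgClosed k]

local notation "U1" => 𝟙_ (Over (Spec (CommRingCat.of k)))

/-- morphisms from a reduced variety are determined by rational points -/
theorem hom_ext_pts {T X : Over (Spec (CommRingCat.of k))} [IsReduced T.left] [LocallyOfFiniteType T.hom]
    [IsSeparated X.hom] (f g : T ⟶ X) (h : ∀ t : U1 ⟶ T, t ≫ f = t ≫ g) : f = g := by
  obtain ⟨Z, c, hc, hcfg, hlift⟩ := Groth.L19.AlgGrpBasic.exists_eqLocus f g
  haveI : JacobsonSpace T.left := LocallyOfFiniteType.jacobsonSpace T.hom
  haveI := hc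
  have hr : Set.range c.left = Set.univ := by
    refine Set.eq_univ_of_univ_subset ?_
    rw [← closure_closedPoints (X := T.left)]
    refine closure_minimal (fun p hp => ?_) c.left.isClosedEmbedding.isClosed_range
    let s := (pointEquivClosedPoint T.hom).symm ⟨p, hp⟩
    obtain ⟨z, hz⟩ := hlift U1 (Over.homMk s.1 s.2) (h _)
    refine ⟨z.left (IsLocalRing.closedPoint k), ?_⟩
    exact (congr(($hz).left (IsLocalRing.closedPoint k))).trans
      (congrArg Subtype.val ((pointEquivClosedPoint T.hom).apply_symm_apply ⟨p, hp⟩))
  obtain ⟨l, hl⟩ := Groth.L19.AlgGrpBasic.exists_lift_of_range c (𝟙 T) (by rw [hr]; exact Set.subset_univ _)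
  rw [← Category.id_comp f, ← Category.id_comp g, ← hl, Category.assoc, Category.assoc, hcfg]

/-- a finite connected scheme over a field is a point -/
theorem subsingleton_of_finite_connected {Y : Scheme.{u}} (f : Y ⟶ Spec (CommRingCat.of k)) [IsFinite f]
    [ConnectedSpace Y] : Subsingleton Y := by
  have hfin : (f ⁻¹' {IsLocalRing.closedPoint k}).Finite := f.finite_preimage_singleton _
  haveI : Finite Y := Set.finite_univ_iff.1 (by
    have : f ⁻¹' {IsLocalRing.closedPoint k} = Set.univ := Set.eq_univ_of_forall fun y =>
      Subsingleton.elim (α := PrimeSpectrum k) _ _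
    rwa [this] at hfin)
  haveI : JacobsonSpace Y := LocallyOfFiniteType.jacobsonSpace f
  exact subsingleton_of_preconnected_totallyDisconnected

/-- a closed orbit of a connected solvable group in a proper scheme is a fixed point -/
theorem isFixedPt_of_isClosed {G X : Over (Spec (CommRingCat.of k))} [GrpObj G] [IsAffine G.left] [Smooth G.hom]
    [ConnectedSpace G.left] [Group.IsSolvable (U1 ⟶ G)] [IsProper X.hom] (a : AlgGrp.Action G X) (x : U1 ⟶ X)
    (hcl : IsClosed (Set.range (a.orbitMap x).left)) : a.IsFixedPt x := by
  haveI : LocallyOfFiniteType G.hom := inferInstance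
  obtain ⟨Go, _, i, hi, hicl, sq⟩ := exists_stabilizer a x
  obtain ⟨Y, b, y, f, hY, hf, hyf, himm⟩ := Groth.Agent.S8022.result k G X Go a x i sq
  haveI := hY.1
  haveI := hY.2.2.1
  have hof : b.orbitMap y ≫ f = a.orbitMap x := by
    rw [AlgGrp.Action.orbitMap, Category.assoc, ← hf, lift_whiskerLeft_assoc, Category.assoc, hyf]
    rfl
  haveI : IsClosedImmersion f.left := by
    haveI := himm
    refine .of_isPreimmersion _ ?_
    have : Set.range f.left = Set.range (a.orbitMap x).left := by
      rw [← hof, Over.comp_left]
      exact ((b.orbitMap y).left.surjective.range_comp f.left).symm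
    rw [this]
    exact hcl
  haveI : IsProper Y.hom := by rw [← Over.w f]; infer_instance
  haveI : IsProper (𝟙 Y.left ≫ Y.hom) := by rw [Category.id_comp]; infer_instance
  haveI : IsFinite Y.hom := by
    have := finite_of_proper (G := G) hY (𝟙 Y.left)
    rwa [Category.id_comp] at this
  haveI : ConnectedSpace Y.left := (b.orbitMap y).left.surjective.connectedSpace (b.orbitMap y).left.continuous
  haveI : Subsingleton Y.left := subsingleton_of_finite_connected Y.hom
  haveI : IsReduced G.left := Groth.Agent.AV.isReduced_of_smooth_field G.hom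
  intro T t
  have h : a.orbitMap x = toUnit G ≫ x := by
    refine hom_ext_pts _ _ fun g => pt_ext ?_
    rw [← Category.assoc g (toUnit G), toUnit_unique (g ≫ toUnit G) (𝟙 _), Category.id_comp, ← hof, ← hyf,
      ← Category.assoc g]
    exact congrArg f.left (Subsingleton.elim _ _)
  rw [← comp_orbitMap, h, ← Category.assoc, toUnit_unique (t ≫ toUnit G) (toUnit T)]

/-- Borel's fixed point theorem -/
theorem exists_fixedPt {G X : Over (Spec (CommRingCat.of k))} [GrpObj G] [IsAffine G.left] [Smooth G.hom]
    [ConnectedSpace G.left] [Group.IsSolvable (U1 ⟶ G)] [IsProper X.hom] [Nonempty X.left]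
    (a : AlgGrp.Action G X) : ∃ x : U1 ⟶ X, a.IsFixedPt x := by
  obtain ⟨x, hx⟩ := exists_closed_orbit a
  exact ⟨x, isFixedPt_of_isClosed a x hx⟩

end Groth.L08.Borel
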