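import Groth.Agent.L08.Borel.Weyl

/-!
# The centralizer of a torus meets a Borel subgroup containing it in a Borel subgroup
-/

set_option autoImplicit false
set_option backward.isDefEq.respectTransparency.types false
set_option linter.style.haveILetI false
set_option linter.unusedSectionVars false

universe u

open CategoryTheory CategoryTheory.Limits MonoidalCategory CartesianMonoidalCategory MonObj GrpObj AlgebraicGeometry
open Groth.L08.TorusQuot (SP)

noncomputable section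

namespace Groth.L08.Borel

variable {k : Type u} [Field k]

local notation "U1" => 𝟙_ (Over (Spec (CommRingCat.of k)))

/-- the base of a point with values in the base field -/
theorem exists_unit_iso : ∃ _e : SP k k ≅ U1, True :=
  ⟨Over.isoMk (Iso.refl _) (by
    show 𝟙 _ ≫ 𝟙 _ = Spec.map (CommRingCat.ofHom (algebraMap k k))
    rw [Algebra.algebraMap_self, Category.id_comp]; exact (Spec.map_id _).symm), trivial⟩

/-- the kernel of a homomorphism is a closed subgroup -/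
theorem exists_kernel {B T₀ : Over (Spec (CommRingCat.of k))} [GrpObj B] [GrpObj T₀] (p : B ⟶ T₀) [IsMonHom p]
    [IsSeparated T₀.hom] :
    ∃ (K : Over (Spec (CommRingCat.of k))) (_ : GrpObj K) (i : K ⟶ B), IsMonHom i ∧ IsClosedImmersion i.left ∧
      i ≫ p = 1 ∧ ∀ (X : Over (Spec (CommRingCat.of k))) (x : X ⟶ B), x ≫ p = 1 → ∃ z : X ⟶ K, z ≫ i = x := by
  let P := Limits.pullback p η[T₀]
  let i : P ⟶ B := pullback.fst _ _
  haveI : IsClosedImmersion (η[T₀].left ≫ T₀.hom) := by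
    rw [Over.w]
    exact inferInstanceAs (IsClosedImmersion (𝟙 (Spec (CommRingCat.of k))))
  haveI : IsClosedImmersion η[T₀].left := IsClosedImmersion.of_comp η[T₀].left T₀.hom
  haveI hcl : IsClosedImmersion i.left :=
    MorphismProperty.of_isPullback (P := @IsClosedImmersion)
      ((IsPullback.of_hasPullback p η[T₀]).map (Over.forget _)).flip ‹IsClosedImmersion η[T₀].left›
  haveI : Mono i := Groth.L08.mono_of_closedImmersion i
  have hi : i ≫ p = 1 := by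
    rw [show i ≫ p = pullback.snd p η[T₀] ≫ η[T₀] from pullback.condition, Hom.one_def,
      toUnit_unique (pullback.snd p η[T₀]) (toUnit P)]
  have crit : ∀ {X : Over (Spec (CommRingCat.of k))} (x : X ⟶ B), x ≫ p = 1 → ∃ z : X ⟶ P, z ≫ i = x := fun {X} x h =>
    ⟨pullback.lift x (toUnit X) (by rw [h, MonObj.one_eq_one, MonObj.comp_one]), pullback.lift_fst _ _ _⟩
  obtain ⟨gP, hmon⟩ := Groth.L08.exists_grpObj_of_mono i
    (crit η[B] (by rw [IsMonHom.one_hom p, MonObj.one_eq_one]))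
    (crit ((fst P P ≫ i) * (snd P P ≫ i)) (by
      rw [MonObj.mul_comp, Category.assoc, Category.assoc, hi, MonObj.comp_one, MonObj.comp_one, _root_.one_mul]))
    (crit i⁻¹ (by rw [GrpObj.inv_comp, hi, inv_one]))
  exact ⟨P, gP, i, hmon, hcl, hi, fun X x h => crit x h⟩

/-- factorisations through closed subschemes are detected on rational points of reduced sources -/
theorem factor_of_pts [IsAlgClosed k] {X H G : Over (Spec (CommRingCat.of k))} [IsReduced X.left]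
    [LocallyOfFiniteType X.hom] (g : X ⟶ G) (iH : H ⟶ G) [IsClosedImmersion iH.left]
    (h : ∀ x : U1 ⟶ X, ∃ y : U1 ⟶ H, y ≫ iH = x ≫ g) : ∃ z : X ⟶ H, z ≫ iH = g := by
  haveI : JacobsonSpace X.left := LocallyOfFiniteType.jacobsonSpace X.hom
  have hr : Set.range g.left ⊆ Set.range iH.left := by
    rintro _ ⟨p, rfl⟩
    have hsub : (Set.univ : Set X.left) ⊆ g.left ⁻¹' Set.range iH.left :=
      subset_of_pts (X := X) isClosed_univ (iH.left.isClosedEmbedding.isClosed_range.preimage g.left.continuous)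
        fun x _ => by
          obtain ⟨y, hy⟩ := h x
          exact ⟨ptOf y, congrArg (fun m : U1 ⟶ G => ptOf m) hy⟩
    exact hsub (Set.mem_univ p)
  haveI : Surjective (pullback.fst g.left iH.left) := by
    constructor
    intro p
    obtain ⟨q, hq⟩ := hr ⟨p, rfl⟩
    obtain ⟨w, hw, -⟩ := Scheme.Pullback.exists_preimage_pullback (f := g.left) (g := iH.left) p q hq.symm
    exact ⟨w, hw⟩
  haveI : IsIso (pullback.fst g.left iH.left) :=
    Groth.L00.ReducedSub.isIso_of_isImmersion_surjective (pullback.fst g.left iH.left)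
  let z₀ : X.left ⟶ H.left := inv (pullback.fst g.left iH.left) ≫ pullback.snd g.left iH.left
  have hz : z₀ ≫ iH.left = g.left := by
    simp only [z₀, Category.assoc, ← pullback.condition, IsIso.inv_hom_id_assoc]
  exact ⟨Over.homMk z₀ (by rw [← Over.w iH, reassoc_of% hz, Over.w g]), Over.OverMorphism.ext hz⟩

variable [IsAlgClosed k]

/-- Near the identity, a point moving a subtorus into a Borel subgroup differs from a centralizing point by a point
of the Borel subgroup. -/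
theorem exists_open_transporter {G S B : Over (Spec (CommRingCat.of k))} [GrpObj G] [GrpObj S] [GrpObj B]
    [IsAffine G.left] [Smooth G.hom] [ConnectedSpace G.left] (iS : S ⟶ G) [IsMonHom iS] [Mono iS]
    (hS : Red.IsTorus S) {iB : B ⟶ G} (hB : Red.IsBorelOver k iB) (tS : S ⟶ B) (htS : tS ≫ iB = iS) :
    ∃ Ω : G.left.Opens, ptOf (1 : U1 ⟶ G) ∈ Ω ∧ ∀ g : U1 ⟶ G, ptOf g ∈ Ω →
      (∀ s : U1 ⟶ S, ∃ b : U1 ⟶ B, g⁻¹ * (s ≫ iS) * g = b ≫ iB) →
      ∃ (z : U1 ⟶ G) (b : U1 ⟶ B), AGF.conjBy z iS = iS ∧ g = z * (b ≫ iB) := by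
  haveI := hB.1; haveI := hB.2.1; haveI := hB.2.2.1; haveI := hB.2.2.2.1
  haveI : IsAffine B.left := isAffine_of_isAffineHom iB.left
  haveI : Mono iB := Groth.L08.mono_of_closedImmersion iB
  haveI : IsMonHom tS := isMonHom_of_comp_mono tS iB iS htS
  haveI : Mono tS := by haveI : Mono (tS ≫ iB) := htS ▸ inferInstance; exact mono_of_mono tS iB
  -- a maximal torus of `B` containing the subtorus
  obtain ⟨T, _, iT₀, p₀, hTm, hTmono, hT, -, -, -, hBabs, hGabs⟩ := exists_absorbing_of_borel hB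
  haveI := hTm; haveI := hTmono
  obtain ⟨b₀, f₀, hf₀⟩ := hBabs S tS hS
  let tT : T ⟶ B := AGF.conjBy b₀⁻¹ iT₀
  haveI : IsMonHom tT := isMonHom_conjBy _ _
  haveI : Mono tT := mono_conjBy _ _
  have hfT : f₀ ≫ tT = tS := by
    rw [comp_conjBy, hf₀, conjBy_conjBy, inv_mul_cancel, conjBy_one]
  haveI : Mono (iT₀ ≫ iB) := mono_comp _ _
  have hmax₀ : AGF.IsMaxTorus (iT₀ ≫ iB) := isMaxTorus_of_absorbing _ hT hGabs
  have hmax : AGF.IsMaxTorus (tT ≫ iB) := by
    rw [conjBy_comp]; exact isMaxTorus_conjBy hmax₀ _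
  obtain ⟨C, _, c, hc⟩ := exists_centralizer_torus (tT ≫ iB) hT
  obtain ⟨W, gW, iw, tW, Q, q, a, pQ, hw1, hw2, hw3, hw4, hw5, htW, hqo, ⟨e₀, he₀⟩, hqap, contr, -⟩ :=
    exists_cell hmax hc
  haveI := hqo; haveI := hw1; haveI := hw2; haveI := hw3; haveI := hw4
  haveI : QuasiCompact G.hom := quasiCompact_of_compactSpace _
  obtain ⟨B₁, gB₁, i₁, hB₁, w₁, hw₁⟩ := exists_borel_ge iw hw5
  haveI := hB₁.1; haveI := hB₁.2.1; haveI := hB₁.2.2.1; haveI := hB₁.2.2.2.1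
  haveI : IsAffine B₁.left := isAffine_of_isAffineHom i₁.left
  haveI : Mono i₁ := Groth.L08.mono_of_closedImmersion i₁
  have ht₁ : (tW ≫ w₁) ≫ i₁ = tT ≫ iB := by rw [Category.assoc, hw₁, htW]
  obtain ⟨n, τ, σ, hτ, hσ⟩ := exists_normalizing hmax hB₁ hB (tW ≫ w₁) ht₁ tT rfl
  have hτ' : τ.inv ≫ tT ≫ iB = AGF.conjBy n⁻¹ (tT ≫ iB) := by
    rw [Iso.inv_comp_eq, comp_conjBy, hτ, conjBy_conjBy, inv_mul_cancel, conjBy_one]
  have hσ' : σ.inv ≫ i₁ = AGF.conjBy n⁻¹ iB := by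
    rw [Iso.inv_comp_eq, comp_conjBy, hσ, conjBy_conjBy, inv_mul_cancel, conjBy_one]
  let fS : S ⟶ T := f₀ ≫ τ.inv
  let iS' : S ⟶ G := AGF.conjBy n⁻¹ iS
  haveI : IsMonHom iS' := isMonHom_conjBy _ _
  haveI : Mono iS' := mono_conjBy _ _
  have hfS : fS ≫ tT ≫ iB = iS' := by
    simp only [fS, iS', Category.assoc]
    rw [hτ', comp_conjBy, reassoc_of% hfT, htS]
  let j₁ : S ⟶ B₁ := fS ≫ tW ≫ w₁
  have hj₁ : j₁ ≫ i₁ = iS' := by simp only [j₁, Category.assoc, hw₁, htW, hfS]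
  haveI : IsMonHom j₁ := isMonHom_of_comp_mono j₁ i₁ iS' hj₁
  haveI : Mono j₁ := by haveI : Mono (j₁ ≫ i₁) := hj₁ ▸ inferInstance; exact mono_of_mono j₁ i₁
  -- the retraction of the standard Borel subgroup
  obtain ⟨T₀, _, i₀, p, h0m, h0mono, h0T, hpm, hp, -, h0abs⟩ := exists_torus_absorbing (G := B₁) hB₁.2.2.2.2.1
  haveI := h0m; haveI := h0mono; haveI := hpm
  obtain ⟨h0a, h0s, -, -, hcomm⟩ := torus_props h0T
  haveI := h0a
  haveI : IsSeparated T₀.hom := inferInstance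
  obtain ⟨K, gK, iK, hKm, hKc, hKp, hKuniv⟩ := exists_kernel p
  haveI := hKm; haveI := hKc
  haveI : IsClosedImmersion (iK ≫ i₁).left := inferInstanceAs (IsClosedImmersion (iK.left ≫ i₁.left))
  obtain ⟨e, -⟩ := exists_unit_iso (k := k)
  obtain ⟨hSa, hSs, hSc, -, -⟩ := torus_props hS
  haveI := hSa; haveI := hSs
  haveI : IsReduced S.left := Groth.Agent.AV.isReduced_of_smooth_field S.hom
  haveI : LocallyOfFiniteType S.hom := inferInstance
  haveI : LocallyOfFiniteType G.hom := inferInstance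
  haveI : LocallyOfFiniteType Q.hom := by rw [← Over.w q]; infer_instance
  obtain ⟨κ, hκ⟩ := exists_conjIso n⁻¹
  refine ⟨κ.hom.left ⁻¹ᵁ q.left.opensRange, ?_, fun g hg hgS => ?_⟩
  · show ptOf ((1 : U1 ⟶ G) ≫ κ.hom) ∈ Set.range q.left
    rw [hκ, AGF.conjBy, _root_.mul_one, mul_inv_cancel]
    refine ⟨ptOf (e.inv ≫ e₀), ?_⟩
    show ptOf ((e.inv ≫ e₀) ≫ q) = _
    rw [Category.assoc, he₀, MonObj.comp_one]
  let g' : U1 ⟶ G := AGF.conjBy n⁻¹ g
  obtain ⟨x₀, hx₀⟩ := exists_pt_lift (X := Q) q g' (by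
    have : ptOf (g ≫ κ.hom) ∈ Set.range q.left := hg
    rwa [hκ] at this)
  let a₀ : U1 ⟶ G := x₀ ≫ a
  let w₀ : U1 ⟶ B₁ := x₀ ≫ pQ ≫ w₁
  have hg' : g' = a₀ * (w₀ ≫ i₁) := by
    simp only [a₀, w₀, Category.assoc, hw₁]
    rw [← hx₀, hqap, MonObj.comp_mul]
  have hin : ∀ s : U1 ⟶ S, ∃ b : U1 ⟶ B₁, b ≫ i₁ = a₀⁻¹ * (s ≫ iS') * a₀ := fun s => by
    obtain ⟨b, hb⟩ := hgS s
    refine ⟨w₀ * (b ≫ σ.inv) * w₀⁻¹, ?_⟩
    have e1 : (b ≫ σ.inv) ≫ i₁ = g'⁻¹ * (s ≫ iS') * g' := by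
      rw [Category.assoc, hσ', comp_conjBy, ← hb]
      simp only [iS', g', comp_conjBy, AGF.conjBy, toUnit_unique (toUnit U1) (𝟙 _), Category.id_comp]
      group
    rw [MonObj.mul_comp, MonObj.mul_comp, GrpObj.inv_comp, e1, hg']
    group
  obtain ⟨j₂, hj₂⟩ := factor_of_pts (AGF.conjBy a₀⁻¹ iS') i₁ fun s => by
    obtain ⟨b, hb⟩ := hin s
    refine ⟨b, ?_⟩
    rw [hb]
    simp only [iS', comp_conjBy]
    simp only [AGF.conjBy, toUnit_unique (toUnit U1) (𝟙 _), Category.id_comp, _root_.inv_inv]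
  haveI : IsMonHom (AGF.conjBy a₀⁻¹ iS') := isMonHom_conjBy _ _
  haveI : Mono (AGF.conjBy a₀⁻¹ iS') := mono_conjBy _ _
  haveI : IsMonHom j₂ := isMonHom_of_comp_mono j₂ i₁ _ hj₂
  haveI : Mono j₂ := by haveI : Mono (j₂ ≫ i₁) := hj₂ ▸ inferInstance; exact mono_of_mono j₂ i₁
  -- the two embeddings have the same image in the torus
  have hsame : j₂ ≫ p = j₁ ≫ p := by
    refine hom_ext_pts _ _ fun s => ?_
    let β : U1 ⟶ B₁ := (s ≫ j₂) * (s ≫ j₁)⁻¹
    have hβ : β ≫ i₁ = a₀⁻¹ * (s ≫ iS') * a₀ * (s ≫ iS')⁻¹ := by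
      simp only [β, MonObj.mul_comp, GrpObj.inv_comp, Category.assoc, hj₁, hj₂, comp_conjBy]
      simp only [AGF.conjBy, toUnit_unique (toUnit U1) (𝟙 _), Category.id_comp, _root_.inv_inv]
    obtain ⟨z, hz⟩ := contr K (iK ≫ i₁) k (e.hom ≫ x₀) (e.hom ≫ s ≫ fS) (e.hom ≫ β ≫ i₁) (by
      rw [hβ]
      simp only [a₀, ← hfS, MonObj.comp_mul, GrpObj.comp_inv, Category.assoc]) fun X x σ' => by
      let y : X ⟶ B₁ := x ≫ e.hom ≫ β
      let t : X ⟶ B₁ := σ' ≫ tW ≫ w₁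
      obtain ⟨z, hz⟩ := hKuniv X (y⁻¹ * t * y * t⁻¹) (by
        simp only [MonObj.mul_comp, GrpObj.inv_comp]
        rw [hcomm X ((y ≫ p)⁻¹) (t ≫ p), inv_mul_cancel_right, mul_inv_cancel])
      refine ⟨z, ?_⟩
      rw [reassoc_of% hz]
      simp only [y, t, MonObj.mul_comp, GrpObj.inv_comp, Category.assoc, hw₁, htW]
    have hβp : β ≫ p = 1 := by
      have e1 : z ≫ iK = e.hom ≫ β := (cancel_mono i₁).1 (by rw [Category.assoc, hz, Category.assoc])
      have e2 := congrArg (fun m => e.inv ≫ m ≫ p) e1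
      simp only [Category.assoc, Iso.inv_hom_id_assoc, hKp, MonObj.comp_one] at e2
      exact e2.symm
    simp only [β, MonObj.mul_comp, GrpObj.inv_comp, mul_inv_eq_one, Category.assoc] at hβp
    exact hβp
  obtain ⟨b₁, f₁, hf₁⟩ := h0abs S j₁ hS
  obtain ⟨b₂, f₂, hf₂⟩ := h0abs S j₂ hS
  have hretr : ∀ (b : U1 ⟶ B₁) (f : S ⟶ T₀) (j : S ⟶ B₁), f ≫ i₀ = AGF.conjBy b j → f = j ≫ p := fun b f j hf => by
    have e1 := congrArg (· ≫ p) hf
    simp only [Category.assoc, hp, Category.comp_id, conjBy_comp] at e1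
    rw [e1]
    simp only [AGF.conjBy]
    rw [hcomm S _ (j ≫ p), mul_inv_cancel_right]
  have hj : j₂ = AGF.conjBy (b₂⁻¹ * b₁) j₁ := by
    rw [← conjBy_conjBy, ← hf₁, hretr b₁ f₁ j₁ hf₁, ← hsame, ← hretr b₂ f₂ j₂ hf₂, hf₂, conjBy_conjBy, inv_mul_cancel,
      conjBy_one]
  let β' : U1 ⟶ B₁ := b₂⁻¹ * b₁
  let z' : U1 ⟶ G := a₀ * (β' ≫ i₁)
  have hz' : AGF.conjBy z' iS' = iS' := by
    have e1 := congrArg (· ≫ i₁) hj
    simp only [conjBy_comp, hj₁, hj₂] at e1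
    have e2 := congrArg (AGF.conjBy a₀) e1
    rw [conjBy_conjBy, mul_inv_cancel, conjBy_one, conjBy_conjBy] at e2
    exact e2.symm
  refine ⟨AGF.conjBy n z', (β'⁻¹ * w₀) ≫ σ.hom, ?_, ?_⟩
  · have e1 := congrArg (AGF.conjBy n) hz'
    simp only [iS', conjBy_conjBy, mul_inv_cancel, conjBy_one] at e1
    have e2 : AGF.conjBy n z' = n * (z' * n⁻¹) := by
      simp only [AGF.conjBy, toUnit_unique (toUnit U1) (𝟙 _), Category.id_comp, _root_.mul_assoc]
    rw [e2]
    exact e1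
  · rw [Category.assoc, hσ, comp_conjBy, MonObj.mul_comp, GrpObj.inv_comp]
    have e1 : g = AGF.conjBy n g' := by rw [conjBy_conjBy, mul_inv_cancel, conjBy_one]
    rw [e1, hg']
    simp only [z', AGF.conjBy, toUnit_unique (toUnit U1) (𝟙 _), Category.id_comp]
    group

/-- the orbit of the base point under the centralizer of a subtorus of the Borel subgroup is closed -/
theorem isClosed_orbit {G S B C X : Over (Spec (CommRingCat.of k))} [GrpObj G] [GrpObj S] [GrpObj B] [GrpObj C]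
    [IsAffine G.left] [Smooth G.hom] [ConnectedSpace G.left] (iS : S ⟶ G) [IsMonHom iS] [Mono iS]
    (hS : Red.IsTorus S) {c : C ⟶ G} (hc : Red.IsCentralizerOf iS c)
    {iB : B ⟶ G} (hB : Red.IsBorelOver k iB) (tS : S ⟶ B) (htS : tS ≫ iB = iS)
    {a : AlgGrp.Action G X} {o : U1 ⟶ X} (hX : AGF.IsQuotient iB X a o)
    (hlc : IsLocallyClosed (Set.range (c ≫ a.orbitMap o).left)) :
    IsClosed (Set.range (c ≫ a.orbitMap o).left) := by
  haveI := hB.1; haveI := hB.2.1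
  haveI := hc.1; haveI := hc.2.1
  haveI : LocallyOfFiniteType G.hom := inferInstance
  haveI := hX.1; haveI := hX.2.1; haveI := hX.2.2.1
  haveI := lfp_orbitMap hX
  obtain ⟨hc1, hc2, hc3, -, -, hcen⟩ := centralizer_props hS hc
  haveI := hc1; haveI := hc2; haveI := hc3
  haveI : LocallyOfFiniteType C.hom := inferInstance
  obtain ⟨hSa, hSs, -, -, -⟩ := torus_props hS
  haveI := hSa; haveI := hSs
  set R : Set X.left := Set.range (c ≫ a.orbitMap o).left
  haveI : QuasiCompact C.hom := quasiCompact_of_compactSpace _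
  refine isClosed_of_closure_subset ?_
  by_contra hsub
  obtain ⟨y₀, hy₀, hy₀'⟩ := Set.not_subset.1 hsub
  obtain ⟨y, hy⟩ := exists_pt_mem (X := X) (O := closure R \ R)
    (isOpen_compl_iff.1 hlc.isOpen_coborder).isLocallyClosed ⟨y₀, hy₀, hy₀'⟩
  obtain ⟨hyc, hyR⟩ := hy
  obtain ⟨g, rfl⟩ := exists_point_eq hX y
  have hA : ∀ (z : U1 ⟶ C) (b : U1 ⟶ B) (h : U1 ⟶ G), h = (z ≫ c) * (b ≫ iB) → ptOf (h ≫ a.orbitMap o) ∈ R := by
    intro z b h hh
    refine ⟨ptOf z, ?_⟩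
    show ptOf (z ≫ c ≫ a.orbitMap o) = _
    refine congrArg ptOf ?_
    rw [← Category.assoc]
    exact (orbitMap_eq_iff hX _ _).2 ⟨b, by rw [hh, inv_mul_cancel_left]⟩
  have hmeet : ∀ O : G.left.Opens, ptOf g ∈ O →
      ∃ (h : U1 ⟶ G) (z : U1 ⟶ C) (b : U1 ⟶ B), ptOf h ∈ O ∧ h = (z ≫ c) * (b ≫ iB) := by
    intro O hgO
    let U : Set X.left := (a.orbitMap o).left '' (O : Set G.left)
    have hU : IsOpen U := (a.orbitMap o).left.isOpenMap _ O.isOpen
    obtain ⟨_, hxU, ⟨x, rfl⟩⟩ := mem_closure_iff.1 hyc U hU ⟨ptOf g, hgO, rfl⟩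
    obtain ⟨z, hz⟩ := exists_pt_mem (X := C) (O := (c ≫ a.orbitMap o).left ⁻¹' U)
      (hU.preimage (c ≫ a.orbitMap o).left.continuous).isLocallyClosed ⟨x, hxU⟩
    obtain ⟨h₀, hh₀, hh₀'⟩ := hz
    obtain ⟨h, hh⟩ := exists_pt_mem (X := G)
      (O := (O : Set G.left) ∩ (a.orbitMap o).left ⁻¹' {ptOf (z ≫ c ≫ a.orbitMap o)})
      (O.isOpen.isLocallyClosed.inter ((isClosed_pt _).preimage (a.orbitMap o).left.continuous).isLocallyClosed)
      ⟨h₀, hh₀, hh₀'⟩
    have e : (z ≫ c) ≫ a.orbitMap o = h ≫ a.orbitMap o :=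
      (Category.assoc _ _ _).trans (pt_ext (show ptOf (h ≫ a.orbitMap o) = ptOf (z ≫ c ≫ a.orbitMap o) from hh.2)).symm
    obtain ⟨b, hb⟩ := (orbitMap_eq_iff hX _ _).1 e
    exact ⟨h, z, b, hh.1, by rw [hb, mul_inv_cancel_left]⟩
  -- `g` moves the torus into `B`
  have hgS : ∀ s : U1 ⟶ S, ∃ b : U1 ⟶ B, b ≫ iB = g⁻¹ * (s ≫ iS) * g := fun s => by
    let F : G ⟶ G := (𝟙 G)⁻¹ * (toUnit G ≫ s ≫ iS) * 𝟙 G
    have hF : ∀ x : U1 ⟶ G, x ≫ F = x⁻¹ * (s ≫ iS) * x := fun x => by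
      simp only [F, MonObj.comp_mul, GrpObj.comp_inv, Category.comp_id, ← Category.assoc,
        toUnit_unique (x ≫ toUnit G) (𝟙 _), Category.id_comp]
    by_contra hne
    have hgO : ptOf g ∈ F.left ⁻¹ᵁ ⟨(Set.range iB.left)ᶜ, iB.left.isClosedEmbedding.isClosed_range.isOpen_compl⟩ := by
      show ptOf (g ≫ F) ∉ Set.range iB.left
      rw [hF]
      intro hmem
      haveI : LocallyOfFiniteType B.hom := by rw [← Over.w iB]; infer_instance
      exact hne (exists_pt_lift iB _ hmem)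
    obtain ⟨h, z, b, hhO, hh⟩ := hmeet _ hgO
    refine hhO ?_
    show ptOf (h ≫ F) ∈ Set.range iB.left
    refine ⟨ptOf (b⁻¹ * (s ≫ tS) * b), ?_⟩
    show ptOf ((b⁻¹ * (s ≫ tS) * b) ≫ iB) = _
    refine congrArg ptOf ?_
    rw [hF, hh, MonObj.mul_comp, MonObj.mul_comp, GrpObj.inv_comp, Category.assoc, htS]
    have := hcen U1 z s
    calc (b ≫ iB)⁻¹ * (s ≫ iS) * (b ≫ iB)
        = (b ≫ iB)⁻¹ * ((z ≫ c)⁻¹ * ((z ≫ c) * (s ≫ iS))) * (b ≫ iB) := by rw [inv_mul_cancel_left]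
      _ = (b ≫ iB)⁻¹ * ((z ≫ c)⁻¹ * ((s ≫ iS) * (z ≫ c))) * (b ≫ iB) := by rw [this]
      _ = _ := by group
  -- the conjugate Borel subgroup at `g`
  haveI : IsReduced S.left := Groth.Agent.AV.isReduced_of_smooth_field S.hom
  haveI : LocallyOfFiniteType S.hom := inferInstance
  obtain ⟨tS', htS'⟩ := factor_of_pts (AGF.conjBy g⁻¹ iS) iB fun s => by
    obtain ⟨b, hb⟩ := hgS s
    refine ⟨b, ?_⟩
    rw [hb, comp_conjBy]
    simp only [AGF.conjBy, toUnit_unique (toUnit U1) (𝟙 _), Category.id_comp, _root_.inv_inv]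
  have hB' := isBorelOver_conjBy hB g
  have htS'' : tS' ≫ AGF.conjBy g iB = iS := by
    rw [comp_conjBy, htS', conjBy_conjBy, mul_inv_cancel, conjBy_one]
  obtain ⟨Ω, hΩ1, hΩ⟩ := exists_open_transporter iS hS hB' tS' htS''
  let Rg : G ⟶ G := 𝟙 G * (toUnit G ≫ g⁻¹)
  have hRg : ∀ x : U1 ⟶ G, x ≫ Rg = x * g⁻¹ := fun x => by
    simp only [Rg, MonObj.comp_mul, Category.comp_id, ← Category.assoc, toUnit_unique (x ≫ toUnit G) (𝟙 _),
      Category.id_comp]
  obtain ⟨h, z, b, hhO, hh⟩ := hmeet (Rg.left ⁻¹ᵁ Ω) (by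
    show ptOf (g ≫ Rg) ∈ Ω
    rw [hRg, mul_inv_cancel]; exact hΩ1)
  obtain ⟨z₁, b₁, hz₁, hb₁⟩ := hΩ (h * g⁻¹) (by
    have : ptOf (h ≫ Rg) ∈ Ω := hhO
    rwa [hRg] at this) fun s => by
    refine ⟨b⁻¹ * (s ≫ tS) * b, ?_⟩
    rw [comp_conjBy, MonObj.mul_comp, MonObj.mul_comp, GrpObj.inv_comp, Category.assoc, htS, hh]
    simp only [AGF.conjBy, toUnit_unique (toUnit U1) (𝟙 _), Category.id_comp]
    have := hcen U1 z s
    calc ((z ≫ c) * (b ≫ iB) * g⁻¹)⁻¹ * (s ≫ iS) * ((z ≫ c) * (b ≫ iB) * g⁻¹)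
        = g * ((b ≫ iB)⁻¹ * ((z ≫ c)⁻¹ * ((s ≫ iS) * (z ≫ c))) * (b ≫ iB)) * g⁻¹ := by group
      _ = g * ((b ≫ iB)⁻¹ * ((z ≫ c)⁻¹ * ((z ≫ c) * (s ≫ iS))) * (b ≫ iB)) * g⁻¹ := by rw [this]
      _ = _ := by group
  obtain ⟨z₂, hz₂⟩ := (hc.2.2 U1 z₁).2 fun X' x h' => by
    have e := congrArg (h' ≫ ·) hz₁
    simp only [comp_conjBy] at e
    simp only [AGF.conjBy] at e
    rw [toUnit_unique x (toUnit X')]
    exact mul_inv_eq_iff_eq_mul.1 e
  refine hyR (hA (z₂⁻¹ * z) (b * b₁⁻¹) g ?_)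
  rw [comp_conjBy] at hb₁
  rw [MonObj.mul_comp, MonObj.mul_comp, GrpObj.inv_comp, GrpObj.inv_comp, hz₂]
  simp only [AGF.conjBy, toUnit_unique (toUnit U1) (𝟙 _), Category.id_comp] at hb₁
  have e : h = z₁ * g * (b₁ ≫ iB) := by
    calc h = h * g⁻¹ * g := (inv_mul_cancel_right h g).symm
      _ = _ := by rw [hb₁]; group
  calc g = z₁⁻¹ * (z₁ * g * (b₁ ≫ iB)) * (b₁ ≫ iB)⁻¹ := by group
    _ = z₁⁻¹ * h * (b₁ ≫ iB)⁻¹ := by rw [e]
    _ = _ := by rw [hh]; group

/-- the intersection of the centralizer of a subtorus with a Borel subgroup containing it is a Borel subgroup -/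
theorem isBorelOver_inter {G S B C D : Over (Spec (CommRingCat.of k))} [GrpObj G] [GrpObj S] [GrpObj B] [GrpObj C]
    [GrpObj D] [IsAffine G.left] [Smooth G.hom] [ConnectedSpace G.left] (iS : S ⟶ G) [IsMonHom iS] [Mono iS]
    (hS : Red.IsTorus S) {c : C ⟶ G} (hc : Red.IsCentralizerOf iS c)
    {iB : B ⟶ G} (hB : Red.IsBorelOver k iB) (tS : S ⟶ B) (htS : tS ≫ iB = iS)
    {dC : D ⟶ C} [IsMonHom dC] {dB : D ⟶ B} [IsMonHom dB] (hD : IsPullback dC dB c iB) :
    Red.IsBorelOver k dC := by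
  haveI := hB.1; haveI := hB.2.1; haveI := hB.2.2.1; haveI := hB.2.2.2.1
  haveI := hc.1; haveI := hc.2.1
  haveI : IsAffine B.left := isAffine_of_isAffineHom iB.left
  haveI : Mono iB := Groth.L08.mono_of_closedImmersion iB
  obtain ⟨hc1, hc2, hc3, hc4, -, hcen⟩ := centralizer_props hS hc
  haveI := hc1; haveI := hc2; haveI := hc3; haveI := hc4
  haveI hdC : IsClosedImmersion dC.left :=
    MorphismProperty.of_isPullback (P := @IsClosedImmersion) (hD.map (Over.forget _)).flip ‹IsClosedImmersion iB.left›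
  haveI : Mono dC := Groth.L08.mono_of_closedImmersion dC
  haveI : IsMonHom tS := isMonHom_of_comp_mono tS iB iS htS
  haveI : Mono tS := by haveI : Mono (tS ≫ iB) := htS ▸ inferInstance; exact mono_of_mono tS iB
  haveI : Mono dB := ⟨fun x y e => hD.hom_ext ((cancel_mono c).1 (by
    rw [Category.assoc, Category.assoc, hD.w, reassoc_of% e])) e⟩
  have hdB : Red.IsCentralizerOf tS dB := by
    refine ⟨inferInstance, inferInstance, fun W y => ⟨?_, fun h => ?_⟩⟩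
    · rintro ⟨d, rfl⟩ X' x h'
      refine (cancel_mono iB).1 ?_
      have := hcen X' ((x ≫ d) ≫ dC) h'
      simp only [MonObj.mul_comp, Category.assoc, htS, ← hD.w] at this ⊢
      exact this
    · obtain ⟨u, hu⟩ := (hc.2.2 W (y ≫ iB)).2 fun X' x h' => by
        have := congrArg (· ≫ iB) (h X' x h')
        simpa only [MonObj.mul_comp, Category.assoc, htS] using this
      exact ⟨hD.lift u y hu, hD.lift_snd _ _ _⟩
  obtain ⟨hd1, hd2, hd3, hd4, -, -⟩ := centralizer_props hS hdB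
  haveI := hd3; haveI := hd4
  have hsol : Red.IsSolvableGrp D := isSolvableGrp_of_mono dB hB.2.2.2.2.1
  obtain ⟨X, a, o, hX⟩ := exists_isQuotient iB
  haveI := hX.1
  haveI : IsProper X.hom := isProper_quotient_of_borel hB hX
  haveI : LocallyOfFiniteType C.hom := inferInstance
  haveI : QuasiCompact C.hom := quasiCompact_of_compactSpace _
  let a' : AlgGrp.Action C X :=
    { act := (c ▷ X) ≫ a.act
      one_act := by
        rw [← comp_whiskerRight_assoc, IsMonHom.one_hom c, a.one_act]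
      mul_act := by
        rw [← comp_whiskerRight_assoc, IsMonHom.mul_hom, comp_whiskerRight_assoc, a.mul_act]
        simp only [MonoidalCategory.tensorHom_def, comp_whiskerRight, Category.assoc, MonoidalCategory.whisker_assoc,
          associator_naturality_left_assoc, whiskerLeft_comp, Iso.inv_hom_id_assoc]
        rw [whisker_exchange_assoc, whisker_exchange_assoc] }
  have horb : a'.orbitMap o = c ≫ a.orbitMap o := by
    show lift (𝟙 C) (toUnit C ≫ o) ≫ (c ▷ X) ≫ a.act = c ≫ lift (𝟙 G) (toUnit G ≫ o) ≫ a.act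
    rw [lift_whiskerRight_assoc, Category.id_comp, ← Category.assoc c, comp_lift, Category.comp_id,
      ← Category.assoc c (toUnit G), toUnit_unique (c ≫ toUnit G) (toUnit C)]
  have sq : IsPullback dC (toUnit D) (a'.orbitMap o) o := by
    have hio : dC ≫ a'.orbitMap o = toUnit D ≫ o := by
      rw [horb, ← one_orbitMap a o (T := D), ← Category.assoc]
      refine (orbitMap_eq_iff hX _ _).2 ⟨dB⁻¹, ?_⟩
      rw [GrpObj.inv_comp, ← hD.w, _root_.mul_one]
    refine IsPullback.mk' hio (fun W x y ex _ => (cancel_mono dC).1 ex) fun W x u e => ?_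
    rw [horb, ← Category.assoc, toUnit_unique u (toUnit W), ← one_orbitMap a o (T := W)] at e
    obtain ⟨b, hb⟩ := (orbitMap_eq_iff hX _ _).1 e
    rw [_root_.mul_one] at hb
    refine ⟨hD.lift x b⁻¹ (by rw [GrpObj.inv_comp, hb, _root_.inv_inv]), hD.lift_fst _ _ _, toUnit_unique _ _⟩
  obtain ⟨Y, b, y, f, hY, hf, hyf, himm⟩ := Groth.Agent.S8022.result k C X D a' o dC sq
  haveI := hY.1; haveI := hY.2.2.1
  have hof : b.orbitMap y ≫ f = a'.orbitMap o := by
    rw [AlgGrp.Action.orbitMap, Category.assoc, ← hf, lift_whiskerLeft_assoc, Category.assoc, hyf]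
    rfl
  haveI : IsClosedImmersion f.left := by
    haveI := himm
    refine .of_isPreimmersion _ ?_
    have : Set.range f.left = Set.range (a'.orbitMap o).left := by
      rw [← hof, Over.comp_left]
      exact ((b.orbitMap y).left.surjective.range_comp f.left).symm
    rw [this, horb]
    refine isClosed_orbit iS hS hc hB tS htS hX ?_
    rw [← horb, ← this]
    exact f.left.isLocallyClosed_range
  haveI : IsProper Y.hom := by rw [← Over.w f]; infer_instance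
  exact Groth.Agent.S3905.result k C D dC hdC hsol Y b y hY inferInstance

end Groth.L08.Borel
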