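import Groth.Agent.L08.Borel.CentBorel
import Groth.Agent.L25.Solv.Locus
import Groth.Agent.L25.CommWords
import Groth.Agent.L08.FlagGroup
import Groth.Agent.L08.Borel.Fixed
import Groth.Agent.L08.Borel.Orbit
import Groth.Agent.S7999

/-!
# Cartan subgroups are nilpotent
-/

set_option autoImplicit false
set_option backward.isDefEq.respectTransparency.types false
set_option linter.style.haveILetI false
set_option linter.unusedSectionVars false

universe u

open CategoryTheory CategoryTheory.Limits MonoidalCategory CartesianMonoidalCategory MonObj GrpObj AlgebraicGeometry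
open TensorProduct WithConv
open Groth.L25.Bridge (P)
open Groth.L08.TorusQuot (sp sp_left sp_comp exists_sp toPt toPt_pre SP Pt pre spA)

noncomputable section

namespace Groth.L08.Borel

open Groth.L08.HomSpace

variable {k : Type u} [Field k]

section AlgClosed

variable [IsAlgClosed k]

local notation "U1" => 𝟙_ (Over (Spec (CommRingCat.of k)))

/-- a smooth group is nilpotent as soon as its group of rational points is -/
theorem isNilpotentGrp_of_points (G : Over (Spec (CommRingCat.of k))) [GrpObj G] [Smooth G.hom]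
    (h : Group.IsNilpotent (SP k k ⟶ G)) : AGF.IsNilpotentGrp G := by
  obtain ⟨n, hn⟩ := Subgroup.nilpotent_iff_lowerCentralSeries.1 h
  exact (Groth.L25.Solv.isNilpotent_iff G).2 ⟨n, (Groth.L25.Solv.lower_iff_word G n).1
    ((Groth.L25.CommWords.main G k n).2.2 hn)⟩

/-- A connected solvable group whose tori are central is nilpotent. -/
theorem isNilpotentGrp_of_central_tori {H : Over (Spec (CommRingCat.of k))} [GrpObj H] [IsAffine H.left]
    [Smooth H.hom] [ConnectedSpace H.left] (hsol : Red.IsSolvableGrp H)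
    (hcen : ∀ (S : Over (Spec (CommRingCat.of k))) [GrpObj S] (j : S ⟶ H) [IsMonHom j] [Mono j], Red.IsTorus S →
      ∀ (s : SP k k ⟶ S) (h : SP k k ⟶ H), (s ≫ j) * h = h * (s ≫ j)) : AGF.IsNilpotentGrp H := by
  obtain ⟨A, _, _, hft, hred, hconn, hsolv, ⟨eG⟩⟩ := exists_hopf_data hsol
  obtain ⟨B, _, _, ψ, J, hJI, r, n, hψ, hB, hJ, hU, hr, ⟨eB⟩⟩ := exists_retraction (k := k) hconn
  have hrs : Function.Surjective r := fun b => ⟨ψ b, congrArg (fun f : B →ₐc[k] B => f b) hr⟩
  let φ : P k A ⟶ H := eG.inv.hom.hom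
  let ψH : H ⟶ P k A := eG.hom.hom.hom
  have h1 : φ ≫ ψH = 𝟙 _ := congrArg (fun f => f.hom.hom) eG.inv_hom_id
  have h2 : ψH ≫ φ = 𝟙 H := congrArg (fun f => f.hom.hom) eG.hom_inv_id
  haveI : IsMonHom φ := eG.inv.hom.isMonHom_hom
  haveI : IsIso φ := ⟨ψH, h1, h2⟩
  haveI : IsClosedImmersion (Spec.map (CommRingCat.ofHom (r : A →+* B))) :=
    IsClosedImmersion.spec_of_surjective _ hrs
  haveI : IsClosedImmersion (sp r).left := ‹IsClosedImmersion (Spec.map (CommRingCat.ofHom (r : A →+* B)))›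
  haveI : Mono (sp r) := Groth.L08.mono_of_closedImmersion _
  haveI : Mono (sp r ≫ φ) := mono_comp _ _
  let Γ := WithConv (A →ₐ[k] k)
  let Φ : Γ →* (SP k k ⟶ H) :=
    { toFun := fun g => toPt g ≫ φ
      map_one' := by
        show Spec.mapMulEquiv (1 : Γ) ≫ φ = 1
        rw [map_one, MonObj.one_comp]
      map_mul' := fun g g' => by
        show Spec.mapMulEquiv (g * g') ≫ φ = _
        rw [map_mul, MonObj.mul_comp] }
  have hΦ : Function.Bijective Φ :=
    ⟨fun g g' e => Spec.mapMulEquiv.injective ((cancel_mono φ).1 e), fun x =>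
      ⟨Spec.mapMulEquiv.symm (x ≫ ψH), by
        show Spec.mapMulEquiv _ ≫ φ = x
        rw [MulEquiv.apply_symm_apply, Category.assoc, h2, Category.comp_id]⟩⟩
  -- the torus is central on points
  have hc : ∀ (b : WithConv (B →ₐ[k] k)) (g : Γ), pre r b * g = g * pre r b := fun b g => hΦ.1 (by
    rw [map_mul, map_mul]
    have e : Φ (pre r b) = toPt b ≫ sp r ≫ φ := by
      show toPt (pre r b) ≫ φ = _
      rw [toPt_pre, Category.assoc]
    rw [e]
    exact hcen (P k B) (sp r ≫ φ) (isTorus_of_laurent eB) (toPt b) (Φ g))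
  -- the kernel of the retraction is unipotent
  have hN : Group.IsNilpotent (WithConv ((A ⧸ J) →ₐ[k] k)) := Groth.L08.isNilpotent_points hU
  let q : A →ₐc[k] A ⧸ J := Bialgebra.Quotient.mkBialgHom (R := k) J
  let π : WithConv ((A ⧸ J) →ₐ[k] k) →* Γ ⧸ Subgroup.center Γ := (QuotientGroup.mk' _).comp (pre q)
  have hπ : Function.Surjective π := fun y => by
    obtain ⟨x, rfl⟩ := QuotientGroup.mk'_surjective _ y
    let t : Γ := pre r (pre ψ x)
    have ht : t ∈ Subgroup.center Γ := Subgroup.mem_center_iff.2 fun g => (hc _ g).symm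
    have hrψ : ∀ b : WithConv (B →ₐ[k] k), pre ψ (pre r b) = b := fun b => by
      refine WithConv.ofConv_injective (AlgHom.ext fun z => ?_)
      exact congrArg b.ofConv (congrArg (fun f : B →ₐc[k] B => f z) hr)
    have hu : pre ψ (t⁻¹ * x) = 1 := by rw [map_mul, map_inv, hrψ, inv_mul_cancel]
    have hkill : ∀ z ∈ J, (t⁻¹ * x).ofConv z = 0 := fun z hz => by
      rw [hJ] at hz
      refine (Ideal.map_le_iff_le_comap (K := RingHom.ker (t⁻¹ * x).ofConv.toRingHom)).2 (fun b hb => ?_) hz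
      have e := congrArg (fun f : WithConv (B →ₐ[k] k) => f.ofConv b) hu
      rw [AlgHom.convOne_def] at e
      rw [RingHom.mem_ker] at hb
      show (t⁻¹ * x).ofConv (ψ b) = 0
      refine e.trans ?_
      simpa using hb
    refine ⟨toConv (Ideal.Quotient.liftₐ J (t⁻¹ * x).ofConv hkill), ?_⟩
    have e : pre q (toConv (Ideal.Quotient.liftₐ J (t⁻¹ * x).ofConv hkill)) = t⁻¹ * x :=
      WithConv.ofConv_injective (AlgHom.ext fun _ => rfl)
    show QuotientGroup.mk' _ (pre q _) = _
    rw [e, QuotientGroup.mk'_apply, QuotientGroup.mk'_apply, QuotientGroup.eq]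
    rw [_root_.mul_inv_rev, _root_.inv_inv, Subgroup.mem_center_iff.1 ht x⁻¹, _root_.mul_assoc,
      inv_mul_cancel, _root_.mul_one]
    exact ht
  haveI : Group.IsNilpotent (Γ ⧸ Subgroup.center Γ) := Group.nilpotent_of_surjective π hπ
  haveI : Group.IsNilpotent Γ := Group.of_quotient_center_nilpotent inferInstance
  exact isNilpotentGrp_of_points H (Group.nilpotent_of_surjective Φ hΦ.2)

/-- the centralizer of a maximal torus is nilpotent -/
theorem isNilpotentGrp_centralizer {G T C : Over (Spec (CommRingCat.of k))} [GrpObj G] [GrpObj T] [GrpObj C]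
    [IsAffine G.left] [Smooth G.hom] [ConnectedSpace G.left] {iT : T ⟶ G} (hT : AGF.IsMaxTorus iT) {c : C ⟶ G}
    (hc : Red.IsCentralizerOf iT c) : AGF.IsNilpotentGrp C := by
  haveI := hT.1; haveI := hT.2.1; haveI := hc.1; haveI := hc.2.1
  obtain ⟨h1, h2, h3, h4, ⟨t, ht⟩, hcomm⟩ := centralizer_props hT.2.2.1 hc
  haveI := h2; haveI := h3; haveI := h4
  refine isNilpotentGrp_of_central_tori (isSolvableGrp_centralizer hT hc) fun S _ j _ _ hS s h => ?_
  obtain ⟨g, f, hf⟩ := maxTorus_absorbing (isMaxTorus_factor (iB := c) (ht.symm ▸ hT)) S j hS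
  have key : ∀ (X : Over (Spec (CommRingCat.of k))) (a : X ⟶ S) (y : X ⟶ C),
      y * (a ≫ AGF.conjBy g j) = (a ≫ AGF.conjBy g j) * y := fun X a y => by
    rw [← cancel_mono c, MonObj.mul_comp, MonObj.mul_comp, ← hf]
    simp only [Category.assoc, ht]
    exact (hcomm X y (a ≫ f)).trans (by rw [Category.assoc])
  have e : s ≫ AGF.conjBy g j = s ≫ j := by
    have h0 := key _ s (toUnit _ ≫ g)
    simp only [comp_conjBy, AGF.conjBy] at h0 ⊢
    exact mul_left_cancel (a := toUnit _ ≫ g) (by rw [h0]; group)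
  have h0 := key _ s h
  rw [e] at h0
  exact h0.symm

/-- a maximal torus of a connected solvable group is a retract -/
theorem exists_retraction_maxTorus {G T : Over (Spec (CommRingCat.of k))} [GrpObj G] [GrpObj T] [IsAffine G.left]
    [Smooth G.hom] [ConnectedSpace G.left] (hsol : Red.IsSolvableGrp G) {iT : T ⟶ G} (hT : AGF.IsMaxTorus iT) :
    ∃ p : G ⟶ T, iT ≫ p = 𝟙 T ∧
      ∀ (X : Over (Spec (CommRingCat.of k))) (g x : X ⟶ G), (g * x * g⁻¹) ≫ p = x ≫ p := by
  obtain ⟨T₀, _, i₀, p, h0m, h0mono, h0T, hpm, hp, -, h0abs⟩ := exists_torus_absorbing (G := G) hsol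
  haveI := hpm; haveI := h0m; haveI := h0mono
  obtain ⟨-, -, -, -, hcomm⟩ := torus_props h0T
  have hconjp : ∀ (X : Over (Spec (CommRingCat.of k))) (g x : X ⟶ G), (g * x * g⁻¹) ≫ p = x ≫ p := fun X g x => by
    rw [MonObj.mul_comp, MonObj.mul_comp, hcomm X (g ≫ p) (x ≫ p), GrpObj.inv_comp, mul_inv_cancel_right]
  obtain ⟨b, e, he⟩ := exists_maxTorus_conj hT (isMaxTorus_of_absorbing i₀ h0T h0abs)
  have htp : iT ≫ p = e.hom := by
    have := congrArg (· ≫ p) he
    simp only [Category.assoc, hp, Category.comp_id, AGF.conjBy, hconjp] at this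
    exact this.symm
  refine ⟨p ≫ e.inv, by rw [reassoc_of% htp, Iso.hom_inv_id], fun X g x => ?_⟩
  rw [← Category.assoc, hconjp, Category.assoc]

/-- the centralizer is everything if the torus commutes with all rational points -/
theorem commute_of_points {G T : Over (Spec (CommRingCat.of k))} [GrpObj G] [GrpObj T]
    [Smooth G.hom] [Smooth T.hom] (iT : T ⟶ G)
    (h : ∀ (g : U1 ⟶ G) (s : U1 ⟶ T), g * (s ≫ iT) = (s ≫ iT) * g)
    (X : Over (Spec (CommRingCat.of k))) (g : X ⟶ G) (s : X ⟶ T) : g * (s ≫ iT) = (s ≫ iT) * g := by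
  haveI : Smooth (G ⊗ T).hom := Groth.L25.CommWords.smooth_tensor G T
  haveI : IsReduced (G ⊗ T).left := Groth.Agent.AV.isReduced_of_smooth_field (G ⊗ T).hom
  haveI := Groth.Agent.AV.isSeparated_of_grpObj G
  have e : fst G T * (snd G T ≫ iT) = (snd G T ≫ iT) * fst G T := hom_ext_pts _ _ fun t => by
    rw [MonObj.comp_mul, MonObj.comp_mul, ← Category.assoc]
    exact h (t ≫ fst G T) (t ≫ snd G T)
  have e2 := congrArg (lift g s ≫ ·) e
  simpa [MonObj.comp_mul] using e2

/-- a maximal torus of a nilpotent connected group is central on rational points -/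
theorem maxTorus_commute_pts {G T : Over (Spec (CommRingCat.of k))} [GrpObj G] [GrpObj T] [IsAffine G.left]
    [Smooth G.hom] [ConnectedSpace G.left] (hnil : AGF.IsNilpotentGrp G) {iT : T ⟶ G} (hT : AGF.IsMaxTorus iT)
    (g : U1 ⟶ G) (s : U1 ⟶ T) : g * (s ≫ iT) = (s ≫ iT) * g := by
  haveI := hT.1; haveI := hT.2.1
  obtain ⟨n, hn⟩ := hnil
  have hsol : Red.IsSolvableGrp G :=
    ⟨n, fun X => le_bot_iff.1 ((Subgroup.derived_le_lower_central n).trans (le_of_eq
      ((Groth.Agent.S7999.upper_eq_top_iff n).1 (hn X))))⟩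
  haveI : Group.IsNilpotent (U1 ⟶ G) := ⟨⟨n, hn _⟩⟩
  obtain ⟨p, hp, hconj⟩ := exists_retraction_maxTorus hsol hT
  obtain ⟨C, _, c, hc⟩ := exists_centralizer_torus iT hT.2.2.1
  haveI := hc.1; haveI := hc.2.1
  obtain ⟨h1, h2, h3, h4, ⟨t, ht⟩, hcomm⟩ := centralizer_props hT.2.2.1 hc
  haveI := h1; haveI := h2; haveI := h3; haveI := h4
  obtain ⟨hTaff, hTsm, -, -, -⟩ := torus_props hT.2.2.1
  haveI := hTsm
  haveI : IsReduced T.left := Groth.Agent.AV.isReduced_of_smooth_field T.hom
  -- the rational points centralizing the torus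
  let K : Subgroup (U1 ⟶ G) := Subgroup.centralizer (Set.range fun s : U1 ⟶ T => s ≫ iT)
  have hK : ∀ y : U1 ⟶ G, y ∈ K ↔ ∀ s : U1 ⟶ T, (s ≫ iT) * y = y * (s ≫ iT) := fun y =>
    Subgroup.mem_centralizer_iff.trans ⟨fun h s => h _ ⟨s, rfl⟩, by rintro h _ ⟨s, rfl⟩; exact h s⟩
  have hKC : ∀ y : U1 ⟶ G, y ∈ K → ∃ z : U1 ⟶ C, z ≫ c = y := fun y hy => (hc.2.2 U1 y).2 fun X' x h => by
    haveI := Groth.Agent.AV.isSeparated_of_grpObj G
    have e : (toUnit T ≫ y) * iT = iT * (toUnit T ≫ y) := hom_ext_pts _ _ fun v => by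
      rw [MonObj.comp_mul, MonObj.comp_mul, ← Category.assoc, toUnit_unique (v ≫ toUnit T) (𝟙 _), Category.id_comp]
      exact ((hK y).1 hy v).symm
    have e2 := congrArg (h ≫ ·) e
    simp only [MonObj.comp_mul, ← Category.assoc, toUnit_unique (h ≫ toUnit T) x] at e2
    exact e2
  have hCK : ∀ z : U1 ⟶ C, z ≫ c ∈ K := fun z => (hK _).2 fun v => (hcomm U1 z v).symm
  have key : ∀ m : U1 ⟶ G, m ∈ Subgroup.normalizer (K : Set (U1 ⟶ G)) → m ∈ K := fun m hm => by
    -- the conjugate torus lies in the centralizer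
    haveI : IsClosedImmersion c.left := h1
    obtain ⟨j, hj⟩ := factor_of_pts (AGF.conjBy m iT) c fun v => hKC _ (by
      have hvK : v ≫ iT ∈ K := (hK _).2 fun w => by
        rw [← MonObj.mul_comp, ← MonObj.mul_comp, (torus_props hT.2.2.1).2.2.2.2 U1 w v]
      rw [comp_conjBy]
      simp only [AGF.conjBy, toUnit_unique (toUnit U1) (𝟙 _), Category.id_comp]
      exact (Subgroup.mem_normalizer_iff.1 hm _).1 hvK)
    have hmax := isMaxTorus_conjBy hT m
    haveI := hmax.1; haveI := hmax.2.1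
    haveI : IsMonHom j := isMonHom_of_comp_mono j c _ hj
    haveI : Mono j := by haveI : Mono (j ≫ c) := hj ▸ inferInstance; exact mono_of_mono j c
    obtain ⟨a, f, hf⟩ := maxTorus_absorbing (isMaxTorus_factor (iB := c) (ht.symm ▸ hT)) T j hT.2.2.1
    refine (hK m).2 fun v => ?_
    have h3' : v ≫ AGF.conjBy a j = v ≫ f ≫ t := by rw [hf]
    have h5 := hcomm U1 a (v ≫ f)
    have h4' := congrArg (· ≫ c) h3'
    simp only [comp_conjBy, AGF.conjBy, toUnit_unique (toUnit U1) (𝟙 _), Category.id_comp, MonObj.mul_comp,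
      GrpObj.inv_comp, Category.assoc, hj, ht] at h4' h5
    have h6 : m * (v ≫ iT) * m⁻¹ = v ≫ f ≫ iT := by
      refine mul_left_cancel (a := a ≫ c) ?_
      rw [h5, ← h4', inv_mul_cancel_right]
    have h7 := congrArg (· ≫ p) h6
    simp only [hconj, Category.assoc, hp, Category.comp_id] at h7
    have h8 : v ≫ f ≫ iT = v ≫ iT := by rw [← Category.assoc, ← h7]
    rw [h8] at h6
    exact (eq_mul_inv_iff_mul_eq.1 h6.symm)
  have htop : K = ⊤ := by
    by_contra hne
    obtain ⟨m, hm, hmK⟩ := SetLike.exists_of_lt (Group.normalizerCondition_of_isNilpotent K (lt_top_iff_ne_top.2 hne))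
    exact hmK (key m hm)
  exact ((hK g).1 (htop ▸ Subgroup.mem_top g) s).symm

/-- A connected group with a single maximal torus is nilpotent. -/
theorem isNilpotentGrp_of_normal_maxTorus {G T : Over (Spec (CommRingCat.of k))} [GrpObj G] [GrpObj T]
    [IsAffine G.left] [Smooth G.hom] [ConnectedSpace G.left] {iT : T ⟶ G} (hT : AGF.IsMaxTorus iT)
    (h : ∀ (g : U1 ⟶ G) (s : U1 ⟶ T), g * (s ≫ iT) = (s ≫ iT) * g) : AGF.IsNilpotentGrp G := by
  haveI := hT.1; haveI := hT.2.1
  haveI := (torus_props hT.2.2.1).2.1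
  refine isNilpotentGrp_centralizer (c := 𝟙 G) hT ⟨inferInstance, inferInstance, fun X g => ⟨fun _ X' x s => ?_,
    fun _ => ⟨g, Category.comp_id g⟩⟩⟩
  exact commute_of_points iT h X' (x ≫ g) s

end AlgClosed

/-- nilpotence of a smooth group descends along extensions of the ground field -/
theorem isNilpotentGrp_of_bc {Ω : Type u} [Field Ω] (θ : Spec (CommRingCat.of Ω) ⟶ Spec (CommRingCat.of k))
    (G : Over (Spec (CommRingCat.of k))) [GrpObj G] [Smooth G.hom] (h : AGF.IsNilpotentGrp (Red.bc θ G)) :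
    AGF.IsNilpotentGrp G := by
  obtain ⟨n, hn⟩ := (Groth.L25.Solv.isNilpotent_iff _).1 h
  refine (Groth.L25.Solv.isNilpotent_iff G).2 ⟨n, ?_⟩
  have h1 := (Groth.L25.Solv.bc_wL_iff θ G n).1 hn
  haveI := Groth.L25.CommWords.smooth_TL G n
  haveI := Groth.Agent.AV.isReduced_of_smooth_field (Groth.L25.CommWords.TL G n).hom
  haveI := Groth.Agent.AV.isSeparated_of_grpObj G
  haveI : G.left.IsSeparated := ⟨by rw [← terminal.comp_from G.hom]; infer_instance⟩
  haveI : Surjective θ := (bc_props_field θ).1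
  haveI : Surjective (Groth.L25.Solv.pr θ (Groth.L25.CommWords.TL G n)).left := by
    rw [Groth.L25.Solv.pr_left]; infer_instance
  have e : (Groth.L25.Solv.pr θ (Groth.L25.CommWords.TL G n)).left ≫ (Groth.L25.CommWords.wL G n).left =
      (Groth.L25.Solv.pr θ (Groth.L25.CommWords.TL G n)).left ≫
        (1 : Groth.L25.CommWords.TL G n ⟶ G).left := by
    rw [← Over.comp_left, ← Over.comp_left, h1, MonObj.comp_one]
  exact Over.OverMorphism.ext (ext_of_isDominant _ e)

/-- connectedness descends along extensions of the ground field -/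
theorem connectedSpace_of_bc {Ω : Type u} [Field Ω] (θ : Spec (CommRingCat.of Ω) ⟶ Spec (CommRingCat.of k))
    (G : Over (Spec (CommRingCat.of k))) [ConnectedSpace (Red.bc θ G).left] : ConnectedSpace G.left := by
  haveI : Surjective θ := (bc_props_field θ).1
  haveI : Surjective (pullback.fst G.hom θ) := inferInstance
  haveI : ConnectedSpace (pullback G.hom θ : Scheme.{u}) := ‹ConnectedSpace (Red.bc θ G).left›
  exact (pullback.fst G.hom θ).surjective.connectedSpace (pullback.fst G.hom θ).continuous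

/-- smoothness descends along extensions of the ground field -/
theorem smooth_of_bc {Ω : Type u} [Field Ω] (θ : Spec (CommRingCat.of Ω) ⟶ Spec (CommRingCat.of k))
    (G : Over (Spec (CommRingCat.of k))) (h : Smooth (Red.bc θ G).hom) : Smooth G.hom :=
  MorphismProperty.of_isPullback_of_descendsAlong (P := @Smooth) (Q := @Surjective ⊓ @Flat ⊓ @QuasiCompact)
    (IsPullback.of_hasPullback G.hom θ).flip
    (⟨⟨(bc_props_field θ).1, (bc_props_field θ).2.1⟩, (bc_props_field θ).2.2⟩ :
      (@Surjective ⊓ @Flat ⊓ @QuasiCompact : MorphismProperty Scheme.{u}) θ) h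

end Groth.L08.Borel
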