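import Groth.Agent.L08.Borel.Proper
import Groth.Agent.L22.GeomConn.Dims
import Groth.Agent.L22.FibreBound
import Groth.Agent.L22.FibreIrr
import Groth.Agent.L19.AlgGrpBasic.OrbitClosure
import Groth.Agent.L19.AlgGrpBasic.GeomPoint
import Groth.Agent.L25.Component
import Groth.Agent.L19.ClopenScheme

/-!
# The conjugates of a subgroup with a point fixing finitely many cosets are dense
-/

set_option autoImplicit false
set_option backward.isDefEq.respectTransparency.types false
set_option linter.style.haveILetI false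
set_option linter.unusedSectionVars false

universe u

open CategoryTheory CategoryTheory.Limits MonoidalCategory CartesianMonoidalCategory MonObj GrpObj AlgebraicGeometry
open Topology TopologicalSpace

noncomputable section

namespace Groth.L08.Borel

variable {k : Type u} [Field k] [IsAlgClosed k]

local notation "U1" => 𝟙_ (Over (Spec (CommRingCat.of k)))

theorem subset_of_pts {X : Over (Spec (CommRingCat.of k))} [LocallyOfFiniteType X.hom] {S D : Set X.left}
    (hS : IsClosed S) (hD : IsClosed D) (h : ∀ x : U1 ⟶ X, ptOf x ∈ S → ptOf x ∈ D) : S ⊆ D := by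
  by_contra hc
  obtain ⟨p, hp, hpD⟩ := Set.not_subset.1 hc
  obtain ⟨x, hx, hxD⟩ := exists_pt_mem (X := X) (O := S ∩ Dᶜ) (hS.isLocallyClosed.inter hD.isOpen_compl.isLocallyClosed)
    ⟨p, hp, hpD⟩
  exact hxD (h x hx)

/-- the union of the conjugates contains a nonempty open set -/
theorem exists_open_conj {G H X : Over (Spec (CommRingCat.of k))} [GrpObj G] [IsAffine G.left] [Smooth G.hom]
    [ConnectedSpace G.left] [GrpObj H] {iH : H ⟶ G} [IsMonHom iH] [IsClosedImmersion iH.left] [Smooth H.hom]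
    [ConnectedSpace H.left] {a : AlgGrp.Action G X} {o : U1 ⟶ X} (hX : AGF.IsQuotient iH X a o) (h₀ : U1 ⟶ H)
    (hfin : Set.Finite {x : U1 ⟶ X | lift (h₀ ≫ iH) x ≫ a.act = x}) :
    ∃ U : G.left.Opens, (U : Set ↥G.left).Nonempty ∧
      (U : Set ↥G.left) ⊆ Set.range (fst G H * (snd G H ≫ iH) * (fst G H)⁻¹).left.base := by
  classical
  haveI : IsAffine H.left := isAffine_of_isAffineHom iH.left
  haveI : LocallyOfFiniteType G.hom := inferInstance
  haveI : LocallyOfFiniteType H.hom := inferInstance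
  haveI : QuasiCompact G.hom := quasiCompact_of_compactSpace _
  haveI : QuasiCompact H.hom := quasiCompact_of_compactSpace _
  haveI : IsLocallyNoetherian G.left := LocallyOfFiniteType.isLocallyNoetherian G.hom
  haveI : IsLocallyNoetherian H.left := LocallyOfFiniteType.isLocallyNoetherian H.hom
  haveI : IrreducibleSpace G.left := Groth.L25.Component.irreducibleSpace G
  haveI : IrreducibleSpace H.left := Groth.L25.Component.irreducibleSpace H
  haveI : GeometricallyIrreducible G.hom := Groth.L25.Component.geometricallyIrreducible G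
  haveI : IrreducibleSpace (G ⊗ H).left := Groth.L19.AlgGrpBasic.irreducibleSpace_tensor G H
  haveI : LocallyOfFiniteType (G ⊗ H).hom := Groth.L19.AlgGrpBasic.lft_tensor G H
  haveI : QuasiCompact (G ⊗ H).hom := Groth.L19.AlgGrpBasic.qc_tensor G H
  let Φ : G ⊗ H ⟶ G := fst G H * (snd G H ≫ iH) * (fst G H)⁻¹
  let y₀ : U1 ⟶ G := h₀ ≫ iH
  -- the fibre over the point
  let F : Over (Spec (CommRingCat.of k)) := pullback Φ y₀
  let ιF : F ⟶ G ⊗ H := pullback.fst Φ y₀
  have sq : IsPullback ιF.left (pullback.snd Φ y₀).left Φ.left y₀.left :=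
    (IsPullback.of_hasPullback Φ y₀).map (Over.forget _)
  haveI : IsClosedImmersion y₀.left := by
    haveI : IsClosedImmersion (y₀.left ≫ G.hom) := by
      rw [Over.w y₀]; exact inferInstanceAs (IsClosedImmersion (𝟙 (Spec (CommRingCat.of k))))
    exact IsClosedImmersion.of_comp y₀.left G.hom
  haveI : IsClosedImmersion ιF.left := MorphismProperty.of_isPullback (P := @IsClosedImmersion) sq.flip ‹_›
  let θ : G ⟶ G := (𝟙 G)⁻¹ * (toUnit G ≫ y₀) * 𝟙 G
  let κ : F ⟶ G := ιF ≫ fst G H
  have hκ : ιF ≫ (G ◁ iH) = κ ≫ lift (𝟙 G) θ := by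
    have hΦ : ιF ≫ Φ = pullback.snd Φ y₀ ≫ y₀ := pullback.condition
    refine CartesianMonoidalCategory.hom_ext _ _ (by simp [κ]) ?_
    simp only [Category.assoc, whiskerLeft_snd, lift_snd]
    have e1 : (ιF ≫ fst G H) * (ιF ≫ snd G H ≫ iH) * (ιF ≫ fst G H)⁻¹ = toUnit F ≫ y₀ := by
      simpa only [Φ, MonObj.comp_mul, GrpObj.comp_inv, toUnit_unique (pullback.snd Φ y₀) (toUnit F)] using hΦ
    simp only [θ, κ, MonObj.comp_mul, GrpObj.comp_inv, Category.comp_id, ← Category.assoc _ (toUnit G),
      toUnit_unique ((ιF ≫ fst G H) ≫ toUnit G) (toUnit F)]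
    rw [← e1]
    group
  haveI : IsClosedImmersion (G ◁ iH).left :=
    MorphismProperty.of_isPullback (Groth.L19.ClopenScheme.isPullback_whiskerLeft G iH).flip inferInstance
  haveI : IsClosedImmersion κ.left := by
    haveI : IsClosedImmersion (κ.left ≫ (lift (𝟙 G) θ).left) := by
      rw [← Over.comp_left, ← hκ, Over.comp_left]; infer_instance
    haveI : IsSeparated (lift (𝟙 G) θ).left := inferInstance
    exact IsClosedImmersion.of_comp κ.left (lift (𝟙 G) θ).left
  -- which lies over finitely many cosets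
  have hlift : ∀ x ∈ {x : U1 ⟶ X | lift (h₀ ≫ iH) x ≫ a.act = x}, ∃ g : U1 ⟶ G, g ≫ a.orbitMap o = x :=
    fun x _ => exists_point_eq hX x
  choose gx hgx using hlift
  let L : ∀ x ∈ {x : U1 ⟶ X | lift (h₀ ≫ iH) x ≫ a.act = x}, H ⟶ G := fun x hx => (toUnit H ≫ gx x hx) * iH
  have hLc : ∀ x hx, IsClosedImmersion (L x hx).left := fun x hx => by
    haveI : Mono iH := Groth.L08.mono_of_closedImmersion iH
    haveI : Mono (L x hx) := ⟨fun {T} u v e => by
      simp only [L, MonObj.comp_mul, ← Category.assoc, toUnit_unique (u ≫ toUnit H) (v ≫ toUnit H)] at e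
      exact (cancel_mono iH).1 (mul_left_cancel e)⟩
    haveI : IsClosedImmersion ((toUnit G ≫ gx x hx) * 𝟙 G).left := by
      let τ : G ≅ G :=
        { hom := (toUnit G ≫ gx x hx) * 𝟙 G
          inv := (toUnit G ≫ gx x hx)⁻¹ * 𝟙 G
          hom_inv_id := by
            simp only [MonObj.comp_mul, GrpObj.comp_inv, Category.comp_id, ← Category.assoc,
              toUnit_unique (((toUnit G ≫ gx x hx) * 𝟙 G) ≫ toUnit G) (toUnit G), inv_mul_cancel_left]
          inv_hom_id := by
            simp only [MonObj.comp_mul, Category.comp_id, ← Category.assoc,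
              toUnit_unique (((toUnit G ≫ gx x hx)⁻¹ * 𝟙 G) ≫ toUnit G) (toUnit G), mul_inv_cancel_left] }
      haveI : IsIso τ.hom := τ.isIso_hom
      haveI : IsIso τ.hom.left := inferInstanceAs (IsIso ((Over.forget _).map τ.hom))
      exact inferInstanceAs (IsClosedImmersion τ.hom.left)
    have e : L x hx = iH ≫ ((toUnit G ≫ gx x hx) * 𝟙 G) := by
      simp only [L, MonObj.comp_mul, Category.comp_id, ← Category.assoc, toUnit_unique (iH ≫ toUnit G) (toUnit H)]
    rw [e, Over.comp_left]
    infer_instance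
  have hcover : Set.range κ.left ⊆ ⋃ x ∈ {x : U1 ⟶ X | lift (h₀ ≫ iH) x ≫ a.act = x}, ⋃ hx, Set.range (L x hx).left := by
    refine subset_of_pts κ.left.isClosedEmbedding.isClosed_range ?_ fun g hg => ?_
    · exact hfin.isClosed_biUnion fun x hx => isClosed_iUnion_of_finite fun hx' =>
        haveI := hLc x hx'; (L x hx').left.isClosedEmbedding.isClosed_range
    · haveI : LocallyOfFiniteType F.hom := by rw [← Over.w κ]; infer_instance
      obtain ⟨t, ht⟩ := exists_pt_lift κ g hg
      let h : U1 ⟶ H := t ≫ ιF ≫ snd G H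
      have e1 : g * (h ≫ iH) * g⁻¹ = h₀ ≫ iH := by
        have hΦ : t ≫ ιF ≫ Φ = t ≫ pullback.snd Φ y₀ ≫ y₀ := by rw [pullback.condition]
        rw [← Category.assoc t (pullback.snd Φ y₀), toUnit_unique (t ≫ pullback.snd Φ y₀) (𝟙 _), Category.id_comp] at hΦ
        simpa only [Φ, h, MonObj.comp_mul, GrpObj.comp_inv, ← ht, κ, Category.assoc] using hΦ
      have hfix : lift (h₀ ≫ iH) (g ≫ a.orbitMap o) ≫ a.act = g ≫ a.orbitMap o := by
        rw [← mul_orbitMap a o]
        refine (orbitMap_eq_iff hX _ _).2 ⟨h⁻¹, ?_⟩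
        rw [← e1, GrpObj.inv_comp]
        group
      obtain ⟨z, hz⟩ := (orbitMap_eq_iff hX _ _).1 (hgx _ hfix)
      refine Set.mem_iUnion₂.2 ⟨_, hfix, Set.mem_iUnion.2 ⟨hfix, ptOf z, ?_⟩⟩
      show ptOf (z ≫ L _ hfix) = ptOf g
      refine congrArg ptOf ?_
      simp only [L, MonObj.comp_mul, ← Category.assoc, toUnit_unique (z ≫ toUnit H) (𝟙 _), Category.id_comp, hz,
        mul_inv_cancel_left]
  -- dimensions
  obtain ⟨ξ, hξ⟩ : ∃ ξ : (G ⊗ H).left, closure ({ξ} : Set (G ⊗ H).left) = Set.univ :=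
    ⟨genericPoint _, (genericPoint_spec _).def⟩
  obtain ⟨eG, heG⟩ : ∃ e : G.left, closure ({e} : Set G.left) = Set.univ :=
    ⟨genericPoint _, (genericPoint_spec _).def⟩
  obtain ⟨eH, heH⟩ : ∃ e : H.left, closure ({e} : Set H.left) = Set.univ :=
    ⟨genericPoint _, (genericPoint_spec _).def⟩
  have hmax : Groth.L22.GeomConn.IsMaxPt ξ := fun w hw =>
    (hw.antisymm (specializes_iff_mem_closure.2 (by rw [hξ]; trivial))).eq
  obtain ⟨hm1, hm2, hdim⟩ := Groth.L22.GeomConn.dim_closure_prod G.hom H.hom (w := (show ↥(pullback G.hom H.hom) from ξ)) hmax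
  rw [show pullback.fst G.hom H.hom ξ = eG from (hm1 eG (specializes_iff_mem_closure.2 (by rw [heG]; trivial))).symm,
    show pullback.snd G.hom H.hom ξ = eH from (hm2 eH (specializes_iff_mem_closure.2 (by rw [heH]; trivial))).symm]
    at hdim
  letI : (G ⊗ H).left.Over (Spec (CommRingCat.of k)) := ⟨(G ⊗ H).hom⟩
  letI : G.left.Over (Spec (CommRingCat.of k)) := ⟨G.hom⟩
  haveI : LocallyOfFiniteType ((G ⊗ H).left ↘ Spec (CommRingCat.of k)) := ‹LocallyOfFiniteType (G ⊗ H).hom›
  haveI : LocallyOfFiniteType (G.left ↘ Spec (CommRingCat.of k)) := ‹LocallyOfFiniteType G.hom›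
  let p : U1 ⟶ G ⊗ H := lift 1 h₀
  have hp : Φ.left (ptOf p) = ptOf y₀ := by
    show ptOf (p ≫ Φ) = ptOf y₀
    refine congrArg ptOf ?_
    simp [p, Φ, y₀, MonObj.comp_mul, GrpObj.comp_inv]
  obtain ⟨z, cξ, aξ, cz, a0, -, -, hzf, h1, h2, h3, h4, hle⟩ :=
    Groth.L22.FibreBound.exists_fibre_ge k Φ.left (Over.w Φ) (ξ := ξ) (x := ptOf p)
      (specializes_iff_mem_closure.2 (by rw [hξ]; trivial))
  -- the closure of `z` embeds into a translate of the subgroup
  have hS : closure ({z} : Set (G ⊗ H).left) ⊆ Set.range ιF.left := by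
    refine closure_minimal (Set.singleton_subset_iff.2 ?_) ιF.left.isClosedEmbedding.isClosed_range
    have hz' : Φ.left z = y₀.left (IsLocalRing.closedPoint k) := hzf.trans hp
    obtain ⟨w, hw, -⟩ := Scheme.Pullback.exists_preimage_pullback (f := Φ.left) (g := y₀.left) z _ hz'
    refine ⟨sq.isoPullback.inv w, ?_⟩
    rw [← Scheme.Hom.comp_apply, sq.isoPullback_inv_fst, hw]
  obtain ⟨w, hw⟩ := hS (subset_closure rfl)
  obtain ⟨x, hx0, hxm⟩ := Set.mem_iUnion₂.1 (hcover ⟨w, rfl⟩)
  obtain ⟨hx, hwL⟩ := Set.mem_iUnion.1 hxm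
  have hzH : topologicalKrullDim (closure ({z} : Set (G ⊗ H).left)) ≤
      topologicalKrullDim (closure ({eH} : Set H.left)) := by
    haveI := hLc x hx
    have hsub : ∀ v ∈ closure ({w} : Set F.left), κ.left v ∈ Set.range (L x hx).left := fun v hv =>
      ((specializes_iff_mem_closure.2 hv).map κ.left.continuous).mem_closed
        (L x hx).left.isClosedEmbedding.isClosed_range hwL
    have e2 : topologicalKrullDim (closure ({z} : Set (G ⊗ H).left)) = topologicalKrullDim (closure ({w} : Set F.left)) := by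
      refine Groth.L22.SchemeDim.topologicalKrullDim_eq_of_isEmbedding
        (f := fun v : (closure ({w} : Set F.left)) => ιF.left v.1)
        (ιF.left.isEmbedding.comp IsEmbedding.subtypeVal) ?_
      rw [Set.range_comp', Subtype.range_coe, ← ιF.left.isClosedEmbedding.closure_image_eq, Set.image_singleton, hw]
    rw [e2]
    let emb : ↥(closure ({w} : Set F.left)) → ↥(Set.range (L x hx).left) := fun v => ⟨κ.left v.1, hsub v.1 v.2⟩
    have hi : IsInducing emb := (κ.left.isEmbedding.isInducing.comp IsInducing.subtypeVal).codRestrict _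
    refine hi.topologicalKrullDim_le.trans (le_of_eq ?_)
    exact (Groth.L22.SchemeDim.topologicalKrullDim_eq_of_isEmbedding
      (f := fun v : (closure ({eH} : Set H.left)) => (L x hx).left v.1)
      ((L x hx).left.isEmbedding.comp IsEmbedding.subtypeVal)
      (by rw [Set.range_comp', Subtype.range_coe, heH, Set.image_univ]))
  obtain ⟨aG, haG⟩ := Groth.L22.GeomConn.exists_nat_dim_closure G.hom eG
  obtain ⟨bH, hbH⟩ := Groth.L22.GeomConn.exists_nat_dim_closure H.hom eH
  have hdim' : topologicalKrullDim (closure ({ξ} : Set (G ⊗ H).left)) = ((aG + bH : ℕ) : WithBot ℕ∞) := by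
    rw [Nat.cast_add, ← haG, ← hbH]; exact hdim
  have e1 : cξ = aG + bH := by exact_mod_cast (h1.symm.trans hdim')
  have e2 : cz ≤ bH := by exact_mod_cast (h3 ▸ hbH ▸ hzH)
  -- the image of the generic point is generic
  have hgen : eG ∈ Set.range Φ.left := by
    refine ⟨ξ, ?_⟩
    by_contra hne
    have hs : eG ⤳ Φ.left ξ := specializes_iff_mem_closure.2 (by rw [heG]; trivial)
    have hns : ¬ Φ.left ξ ⤳ eG := fun h => hne (h.antisymm hs).eq
    have h5 := Groth.L22.FibreIrr.dim_lt_of_specializes hs hns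
    rw [h2, haG] at h5
    have : aξ + 1 ≤ aG := by exact_mod_cast h5
    omega
  have hr : closure (Set.range Φ.left) = Set.univ := by
    refine Set.eq_univ_of_univ_subset ?_
    rw [← heG]
    exact closure_mono (Set.singleton_subset_iff.2 hgen)
  haveI : IsLocallyNoetherian G.left := LocallyOfFiniteType.isLocallyNoetherian G.hom
  haveI : CompactSpace G.left := QuasiCompact.compactSpace_of_compactSpace G.hom
  haveI : IsNoetherian G.left := ⟨⟩
  obtain ⟨U, hU, hUd, hUE⟩ := Groth.L19.AlgGrpBasic.exists_open_dense_of_constructible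
    (Groth.L19.AlgGrpBasic.isConstructible_range (G := G ⊗ H) (X := G) Φ)
  rw [hr] at hUE hUd
  refine ⟨⟨U, hU⟩, ?_, fun y hy => hUE ⟨hy, trivial⟩⟩
  by_contra hne
  rw [Set.not_nonempty_iff_eq_empty] at hne
  have h6 : (ptOf y₀) ∈ closure (U ∩ Set.univ) := hUd trivial
  rw [show U = (∅ : Set G.left) from hne, Set.empty_inter, closure_empty] at h6
  exact h6

end Groth.L08.Borel
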