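import Groth.Agent.L08.Borel.TorusImage

/-!
# Regular points of subtori
-/

set_option autoImplicit false
set_option backward.isDefEq.respectTransparency.types false
set_option linter.style.haveILetI false
set_option linter.unusedSectionVars false

universe u

open CategoryTheory CategoryTheory.Limits MonoidalCategory CartesianMonoidalCategory MonObj AlgebraicGeometry
open TensorProduct WithConv
open Groth.L25.Bridge (P)
open Groth.L08.TorusQuot (sp sp_left sp_comp exists_sp toPt toPt_pre toPt_post SP Pt pre post spA)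

noncomputable section

namespace Groth.L08.Borel.Regular

variable {k : Type u} [Field k] {A : Type u} [CommRing A] [HopfAlgebra k A] {M : Type} [CommGroup M]
  (c : A →ₐc[k] MonoidAlgebra k M)

/-- evaluation of a coefficientwise point -/
def eval {R : Type u} [CommRing R] [Algebra k R] (g : A →ₐ[k] R) (h : MonoidAlgebra k M →ₐ[k] R) :
    MonoidAlgebra A M →ₐ[k] R :=
  MonoidAlgebra.liftNCAlgHom g ((h : MonoidAlgebra k M →* R).comp (MonoidAlgebra.of k M)) fun _ _ => Commute.all _ _

theorem eval_single {R : Type u} [CommRing R] [Algebra k R] (g : A →ₐ[k] R) (h : MonoidAlgebra k M →ₐ[k] R)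
    (m : M) (a : A) : eval g h (MonoidAlgebra.single m a) = g a * h (MonoidAlgebra.single m 1) :=
  MonoidAlgebra.liftNC_single _ _ _ _

/-- the universal conjugate -/
def adjPt : WithConv (A →ₐ[k] MonoidAlgebra A M) :=
  pre c (toConv (MonoidAlgebra.mapAlgHom M (Algebra.ofId k A))) * toConv MonoidAlgebra.singleOneAlgHom *
    (pre c (toConv (MonoidAlgebra.mapAlgHom M (Algebra.ofId k A))))⁻¹

theorem post_adjPt {R : Type u} [CommRing R] [Algebra k R] (g : Pt k A R) (h : Pt k (MonoidAlgebra k M) R) :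
    post (eval g.ofConv h.ofConv) (adjPt c) = pre c h * g * (pre c h)⁻¹ := by
  have e1 : post (eval g.ofConv h.ofConv) (toConv (MonoidAlgebra.mapAlgHom M (Algebra.ofId k A))) = h := by
    refine WithConv.ofConv_injective ?_
    refine MonoidAlgebra.algHom_ext (fun m => ?_) (Subsingleton.elim _ _)
    show eval g.ofConv h.ofConv (MonoidAlgebra.mapAlgHom M (Algebra.ofId k A) (MonoidAlgebra.single m 1)) = _
    rw [MonoidAlgebra.mapAlgHom_single, map_one, eval_single, map_one, _root_.one_mul]
  have e2 : post (eval g.ofConv h.ofConv) (toConv MonoidAlgebra.singleOneAlgHom) = g := by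
    refine WithConv.ofConv_injective (AlgHom.ext fun a => ?_)
    show eval g.ofConv h.ofConv (MonoidAlgebra.single 1 a) = _
    rw [eval_single, ← MonoidAlgebra.one_def, map_one, _root_.mul_one]
  rw [adjPt, map_mul, map_mul, map_inv, ← Groth.L08.TorusQuot.pre_post, e1, e2]

/-- the weight components of a function -/
def wt (a : A) (m : M) : A := ((adjPt c).ofConv a).coeff m

/-- the finitely many weights of a function -/
def wts (a : A) : Finset M := ((adjPt c).ofConv a).coeff.support

theorem conj_apply {R : Type u} [CommRing R] [Algebra k R] (g : Pt k A R) (h : Pt k (MonoidAlgebra k M) R) (a : A) :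
    (pre c h * g * (pre c h)⁻¹).ofConv a =
      ∑ m ∈ wts c a, g.ofConv (wt c a m) * h.ofConv (MonoidAlgebra.single m 1) := by
  rw [← post_adjPt, Groth.L08.TorusQuot.post_apply]
  conv_lhs => rw [← MonoidAlgebra.sum_coeff_single ((adjPt c).ofConv a), Finsupp.sum, map_sum]
  exact Finset.sum_congr rfl fun m _ => eval_single _ _ _ _

/-- components are eigenvectors for conjugation -/
theorem wt_conj {R : Type u} [CommRing R] [Algebra k R] (g : Pt k A R) (h : Pt k (MonoidAlgebra k M) R) (a : A) (m : M) :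
    (pre c h * g * (pre c h)⁻¹).ofConv (wt c a m) = g.ofConv (wt c a m) * h.ofConv (MonoidAlgebra.single m 1) := by
  let inc : R →ₐ[k] MonoidAlgebra R M := MonoidAlgebra.singleOneAlgHom
  let H : Pt k (MonoidAlgebra k M) (MonoidAlgebra R M) := toConv (MonoidAlgebra.mapAlgHom M (Algebra.ofId k R))
  let gh := pre c h * g * (pre c h)⁻¹
  have e : post (eval (post inc gh).ofConv H.ofConv) (adjPt c) =
      post (eval (post inc g).ofConv (H * post inc h).ofConv) (adjPt c) := by
    rw [post_adjPt, post_adjPt, map_mul, map_mul, map_mul, map_inv, Groth.L08.TorusQuot.pre_post, mul_inv_rev]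
    simp only [_root_.mul_assoc]
  have hl : ∀ z : MonoidAlgebra A M, (eval (post inc gh).ofConv H.ofConv z).coeff m = gh.ofConv (z.coeff m) := by
    intro z
    induction z using MonoidAlgebra.induction_linear with
    | zero => simp
    | add x y hx hy => simp [map_add, hx, hy]
    | single n b =>
      rw [eval_single]
      show (MonoidAlgebra.single 1 (gh.ofConv b) * MonoidAlgebra.mapAlgHom M (Algebra.ofId k R)
        (MonoidAlgebra.single n 1)).coeff m = gh.ofConv ((MonoidAlgebra.single n b).coeff m)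
      rw [MonoidAlgebra.mapAlgHom_single, map_one, MonoidAlgebra.single_mul_single, _root_.one_mul, _root_.mul_one,
        MonoidAlgebra.coeff_single, MonoidAlgebra.coeff_single]
      by_cases hn : n = m
      · subst hn; simp
      · simp [Finsupp.single_eq_of_ne' hn]
  have hr : ∀ z : MonoidAlgebra A M, (eval (post inc g).ofConv (H * post inc h).ofConv z).coeff m =
      g.ofConv (z.coeff m) * h.ofConv (MonoidAlgebra.single m 1) := by
    intro z
    induction z using MonoidAlgebra.induction_linear with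
    | zero => simp
    | add x y hx hy => simp [map_add, hx, hy, add_mul]
    | single n b =>
      rw [eval_single, AlgHom.convMul_apply,
        (MonoidAlgebra.isGroupLikeElem_single_one (R := k) (A := k) n).comul_eq_tmul_self,
        Algebra.TensorProduct.lift_tmul]
      show (MonoidAlgebra.single 1 (g.ofConv b) * (MonoidAlgebra.mapAlgHom M (Algebra.ofId k R)
        (MonoidAlgebra.single n 1) * MonoidAlgebra.single 1 (h.ofConv (MonoidAlgebra.single n 1)))).coeff m = _
      rw [MonoidAlgebra.mapAlgHom_single, map_one, MonoidAlgebra.single_mul_single, MonoidAlgebra.single_mul_single,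
        _root_.one_mul, _root_.mul_one, _root_.one_mul, MonoidAlgebra.coeff_single, MonoidAlgebra.coeff_single]
      by_cases hn : n = m
      · subst hn; simp
      · simp [Finsupp.single_eq_of_ne' hn]
  have h0 := congrArg (fun p => (p.ofConv a).coeff m) e
  simp only [Groth.L08.TorusQuot.post_apply] at h0
  rw [hl, hr] at h0
  exact h0

/-- avoiding finitely many nontrivial characters -/
theorem exists_avoid [IsAlgClosed k] {n : ℕ} (F : Finset (Multiplicative (Fin n → ℤ))) :
    ∃ χ : Multiplicative (Fin n → ℤ) →* kˣ, ∀ m ∈ F, m ≠ 1 → χ m ≠ 1 := by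
  classical
  let p : Multiplicative (Fin n → ℤ) → Polynomial ℤ := fun m =>
    ∑ i, Polynomial.C (m.toAdd i) * Polynomial.X ^ (i : ℕ)
  have hp : ∀ m, m ≠ 1 → p m ≠ 0 := fun m hm h => hm (Multiplicative.toAdd.injective (funext fun i => by
    have := congrArg (fun q => q.coeff (i : ℕ)) h
    simpa [p, Polynomial.finsetSum_coeff, Polynomial.coeff_C_mul_X_pow, Fin.val_inj] using this))
  obtain ⟨N, hN⟩ := Infinite.exists_notMem_finset ((∏ m ∈ F.filter (· ≠ 1), p m).roots.toFinset)
  have hN' : ∀ m ∈ F, m ≠ 1 → (p m).eval N ≠ 0 := fun m hm hm1 h0 => by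
    refine hN (Multiset.mem_toFinset.2 ((Polynomial.mem_roots ?_).2 ?_))
    · exact Finset.prod_ne_zero_iff.2 fun x hx => hp x (Finset.mem_filter.1 hx).2
    · rw [Polynomial.IsRoot, Polynomial.eval_prod]
      exact Finset.prod_eq_zero (Finset.mem_filter.2 ⟨hm, hm1⟩) h0
  let d : Multiplicative (Fin n → ℤ) → ℤ := fun m => (p m).eval N
  haveI : Infinite k := IsAlgClosed.instInfinite
  obtain ⟨t, ht⟩ := Infinite.exists_notMem_finset
    (insert (0 : k) ((∏ m ∈ F.filter (· ≠ 1),
      ((Polynomial.X : Polynomial k) ^ (d m).natAbs - Polynomial.C 1)).roots.toFinset))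
  rw [Finset.mem_insert, not_or] at ht
  let u : kˣ := Units.mk0 t ht.1
  let L : Multiplicative (Fin n → ℤ) →* Multiplicative ℤ :=
    AddMonoidHom.toMultiplicative
      { toFun := fun v => ∑ i, v i * N ^ (i : ℕ), map_zero' := by simp,
        map_add' := fun v w => by simp [add_mul, Finset.sum_add_distrib] }
  have hL : ∀ m, (L m).toAdd = d m := fun m => by
    show ∑ i, m.toAdd i * N ^ (i : ℕ) = (p m).eval N
    simp [p, Polynomial.eval_finsetSum]
  refine ⟨(zpowersHom kˣ u).comp L, fun m hm hm1 h => ?_⟩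
  rw [MonoidHom.comp_apply, zpowersHom_apply, hL] at h
  have hpow : t ^ (d m).natAbs = 1 := by
    have h' : (u : kˣ) ^ ((d m).natAbs : ℤ) = 1 := by
      rcases Int.natAbs_eq (d m) with e | e
      · rwa [← e]
      · rw [e, zpow_neg, inv_eq_one] at h; exact h
    rw [zpow_natCast] at h'
    exact (Units.val_pow_eq_pow_val u _).symm.trans (congrArg Units.val h')
  refine ht.2 (Multiset.mem_toFinset.2 ((Polynomial.mem_roots ?_).2 ?_))
  · exact Finset.prod_ne_zero_iff.2 fun x hx => Polynomial.X_pow_sub_C_ne_zero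
      (Int.natAbs_pos.2 (hN' x (Finset.mem_filter.1 hx).1 (Finset.mem_filter.1 hx).2)) 1
  · rw [Polynomial.IsRoot, Polynomial.eval_prod]
    exact Finset.prod_eq_zero (Finset.mem_filter.2 ⟨hm, hm1⟩) (by simp [hpow])

/-- a regular point of the torus, algebraically -/
theorem exists_regular [IsAlgClosed k] [Algebra.FiniteType k A] {n : ℕ}
    (c : A →ₐc[k] MonoidAlgebra k (Multiplicative (Fin n → ℤ))) :
    ∃ s : Pt k (MonoidAlgebra k (Multiplicative (Fin n → ℤ))) k, ∀ (R : Type u) [CommRing R] [Algebra k R] (g : Pt k A R),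
      pre c (post (Algebra.ofId k R) s) * g = g * pre c (post (Algebra.ofId k R) s) →
        ∀ h : Pt k (MonoidAlgebra k (Multiplicative (Fin n → ℤ))) R, pre c h * g = g * pre c h := by
  classical
  obtain ⟨G, hG⟩ := Algebra.FiniteType.out (R := k) (A := A)
  obtain ⟨χ, hχ⟩ := exists_avoid (k := k) (G.biUnion (wts c))
  refine ⟨toConv (MonoidAlgebra.lift k k _ ((Units.coeHom k).comp χ)), fun R _ _ g hg h => ?_⟩
  set hs := post (Algebra.ofId k R) (toConv (MonoidAlgebra.lift k k _ ((Units.coeHom k).comp χ))) with hhs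
  have hfix : pre c hs * g * (pre c hs)⁻¹ = g := by rw [hg, mul_inv_cancel_right]
  suffices e : pre c h * g * (pre c h)⁻¹ = g by
    calc pre c h * g = pre c h * g * (pre c h)⁻¹ * pre c h := (inv_mul_cancel_right _ _).symm
      _ = g * pre c h := by rw [e]
  refine WithConv.ofConv_injective (AlgHom.ext_of_adjoin_eq_top hG fun a ha => ?_)
  rw [conj_apply]
  refine (Finset.sum_congr rfl fun m hm => ?_).trans ((conj_apply c g hs a).symm.trans
    (congrArg (fun p => p.ofConv a) hfix))
  have hz := wt_conj c g hs a m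
  rw [hfix] at hz
  have hval : hs.ofConv (MonoidAlgebra.single m 1) = algebraMap k R (χ m) := by
    show algebraMap k R (MonoidAlgebra.lift k k _ ((Units.coeHom k).comp χ) (MonoidAlgebra.single m 1)) = _
    simp
  by_cases h1 : m = 1
  · subst h1
    rw [← MonoidAlgebra.one_def, map_one, map_one]
  · have hne : (χ m : k) - 1 ≠ 0 := fun e => hχ m (Finset.mem_biUnion.2 ⟨a, ha, hm⟩) h1
      (Units.ext (sub_eq_zero.1 e))
    have hu : IsUnit (algebraMap k R ((χ m : k) - 1)) := (isUnit_iff_ne_zero.2 hne).map _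
    have h0 : g.ofConv (wt c a m) = 0 := hu.mul_left_eq_zero.1 (by
      rw [map_sub, map_one, mul_sub, _root_.mul_one, sub_eq_zero, ← hval]; exact hz.symm)
    rw [h0, zero_mul, zero_mul]

end Groth.L08.Borel.Regular

namespace Groth.L08.Borel

open Groth.L08.HomSpace GrpObj

variable {k : Type u} [Field k] [IsAlgClosed k]

local notation "U1" => 𝟙_ (Over (Spec (CommRingCat.of k)))

/-- a subtorus has a point with the same centralizer -/
theorem exists_regular_point {G S : Over (Spec (CommRingCat.of k))} [GrpObj G] [GrpObj S] [IsAffine G.left]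
    [LocallyOfFiniteType G.hom] (iS : S ⟶ G) [IsMonHom iS] (hS : Red.IsTorus S) :
    ∃ s : U1 ⟶ S, ∀ (T : Over (Spec (CommRingCat.of k))) (g : T ⟶ G),
      g * (toUnit T ≫ s ≫ iS) = (toUnit T ≫ s ≫ iS) * g ↔
        ∀ (T' : Over (Spec (CommRingCat.of k))) (t : T' ⟶ T) (h : T' ⟶ S),
          (t ≫ g) * (h ≫ iS) = (h ≫ iS) * (t ≫ g) := by
  obtain ⟨A, _, _, ⟨eG⟩⟩ := Groth.L25.Bridge.exists_hopf G
  obtain ⟨n, ⟨eS⟩⟩ := exists_laurent_of_torus hS
  let φ : P k A ⟶ G := eG.inv.hom.hom
  let ψ : G ⟶ P k A := eG.hom.hom.hom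
  have hψφ : ψ ≫ φ = 𝟙 G := congrArg (fun f => f.hom.hom) eG.hom_inv_id
  haveI : IsMonHom φ := eG.inv.hom.isMonHom_hom
  haveI : IsMonHom ψ := eG.hom.hom.isMonHom_hom
  haveI : IsIso φ := ⟨ψ, congrArg (fun f => f.hom.hom) eG.inv_hom_id, hψφ⟩
  haveI : IsIso φ.left := inferInstanceAs (IsIso ((Over.forget _).map φ))
  haveI hft : LocallyOfFiniteType (P k A).hom := by rw [← Over.w φ]; infer_instance
  haveI : Algebra.FiniteType k A := by
    change LocallyOfFiniteType (Spec.map (CommRingCat.ofHom (algebraMap k A))) at hft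
    rwa [HasRingHomProperty.Spec_iff (P := @LocallyOfFiniteType), CommRingCat.hom_ofHom,
      RingHom.finiteType_algebraMap] at hft
  let C := MonoidAlgebra k (Multiplicative (Fin n → ℤ))
  let a : P k C ⟶ S := eS.inv.hom.hom
  let b : S ⟶ P k C := eS.hom.hom.hom
  have hba : b ≫ a = 𝟙 S := congrArg (fun f => f.hom.hom) eS.hom_inv_id
  haveI : IsMonHom a := eS.inv.hom.isMonHom_hom
  obtain ⟨c, hc⟩ := exists_sp (a ≫ iS ≫ ψ)
  obtain ⟨s₀, hs₀⟩ := Regular.exists_regular c
  refine ⟨unitToSpec ≫ toPt s₀ ≫ a, fun T g => ⟨fun hg T' t h => ?_, fun hall => ?_⟩⟩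
  · refine hom_ext_affine _ _ fun R _ _ u => ?_
    obtain ⟨g₀, hg₀⟩ := (Spec.mapMulEquiv (R := k) (S := A) (T := R)).surjective ((u ≫ t ≫ g) ≫ ψ)
    obtain ⟨h₀, hh₀⟩ := (Spec.mapMulEquiv (R := k) (S := C) (T := R)).surjective ((u ≫ h) ≫ b)
    have eh : toPt (pre c h₀) = ((u ≫ h) ≫ iS) ≫ ψ := by
      rw [toPt_pre, show toPt h₀ = (u ≫ h) ≫ b from hh₀, hc]
      simp only [Category.assoc, reassoc_of% hba]
    have es : toPt (pre c (Groth.L08.TorusQuot.post (Algebra.ofId k R) s₀)) =
        ((toUnit _ ≫ (unitToSpec ≫ toPt s₀ ≫ a)) ≫ iS) ≫ ψ := by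
      rw [toPt_pre, toPt_post, hc, show spA (Algebra.ofId k R) = toUnit (SP k R) ≫ unitToSpec from hom_ext_base _ _]
      simp only [Category.assoc]
    have key := hs₀ R g₀ ?_ h₀
    · have h2 : toPt (pre c h₀) * toPt g₀ = toPt g₀ * toPt (pre c h₀) :=
        (map_mul _ _ _).symm.trans ((congrArg toPt key).trans (map_mul _ _ _))
      rw [eh, show toPt g₀ = (u ≫ t ≫ g) ≫ ψ from hg₀, ← MonObj.mul_comp, ← MonObj.mul_comp,
        cancel_mono] at h2
      rw [MonObj.comp_mul, MonObj.comp_mul, ← Category.assoc u h iS]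
      exact h2.symm
    · refine (Spec.mapMulEquiv (R := k) (S := A) (T := R)).injective ?_
      refine (map_mul _ _ _).trans (Eq.trans ?_ (map_mul _ _ _).symm)
      show toPt _ * toPt _ = toPt _ * toPt _
      rw [es, show toPt g₀ = (u ≫ t ≫ g) ≫ ψ from hg₀, ← MonObj.mul_comp, ← MonObj.mul_comp]
      have := congrArg (fun z => (u ≫ t) ≫ z) hg
      simp only [MonObj.comp_mul] at this
      rw [← Category.assoc (u ≫ t) (toUnit T), toUnit_unique ((u ≫ t) ≫ toUnit T) (toUnit _)] at this
      simp only [Category.assoc] at this ⊢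
      rw [this]
  · have := hall T (𝟙 T) (toUnit T ≫ unitToSpec ≫ toPt s₀ ≫ a)
    simpa only [Category.id_comp, Category.assoc] using this

end Groth.L08.Borel
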