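import Groth.Agent.L08.Borel.Cartan
import Groth.Agent.L08.Borel.Regular
import Groth.Agent.L08.Borel.Dominant
import Groth.Agent.S3006
import Groth.Agent.S8087

/-!
# A connected affine group is the union of the conjugates of a Borel subgroup
-/

set_option autoImplicit false
set_option backward.isDefEq.respectTransparency.types false
set_option linter.style.haveILetI false
set_option linter.unusedSectionVars false

universe u

open CategoryTheory CategoryTheory.Limits MonoidalCategory CartesianMonoidalCategory MonObj GrpObj AlgebraicGeometry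

noncomputable section

namespace Groth.L08.Borel

variable {k : Type u} [Field k] [IsAlgClosed k]

local notation "U1" => 𝟙_ (Over (Spec (CommRingCat.of k)))

/-- normalizing points fall into finitely many cosets of the centralizer -/
theorem exists_finite_reps {G T C : Over (Spec (CommRingCat.of k))} [GrpObj G] [GrpObj T] [GrpObj C] [IsAffine G.left]
    [Smooth G.hom] [ConnectedSpace G.left] {iT : T ⟶ G} [IsMonHom iT] [Mono iT] (hT : Red.IsTorus T) {c : C ⟶ G}
    (hc : Red.IsCentralizerOf iT c) :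
    ∃ R : Set (U1 ⟶ G), R.Finite ∧ ∀ g : U1 ⟶ G,
      (∀ (X : Over (Spec (CommRingCat.of k))) (h : X ⟶ T),
        (∃ h' : X ⟶ T, (toUnit X ≫ g) * (h ≫ iT) * (toUnit X ≫ g)⁻¹ = h' ≫ iT) ∧
        (∃ h' : X ⟶ T, (toUnit X ≫ g)⁻¹ * (h ≫ iT) * (toUnit X ≫ g) = h' ≫ iT)) →
      ∃ r ∈ R, ∃ z : U1 ⟶ C, r * (z ≫ c) = g := by
  classical
  haveI : IsAffineHom G.hom := isAffineHom_of_isAffine _
  haveI : LocallyOfFiniteType G.hom := inferInstance
  haveI : QuasiCompact G.hom := quasiCompact_of_compactSpace _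
  haveI : LocallyOfFinitePresentation G.hom := LocallyOfFinitePresentation.iff_locallyOfFiniteType.2 inferInstance
  have hm := Groth.L25.Locus.isMultTypeFT_of_isTorus hT
  haveI hcl : IsClosedImmersion iT.left :=
    Groth.L25.Locus.isClosedImmersion_of_mono (Groth.L25.Locus.locally_of_multTypeFT hm) iT
  obtain ⟨-, N, gN, n, hn, hnc, hns⟩ := Groth.Agent.S3006.result (Spec (CommRingCat.of k)) G T iT hcl hT
  haveI := hn.1; haveI := hn.2.1; haveI := hnc; haveI := hns; haveI := hc.1; haveI := hc.2.1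
  obtain ⟨f, hf, hfo, hfc⟩ := Groth.L25.Locus.exists_clopen_centralizer hm iT c n hc hn
  haveI := hfo
  haveI : LocallyOfFiniteType N.hom := inferInstance
  haveI : QuasiCompact N.hom := by rw [← Over.w n]; infer_instance
  haveI : CompactSpace N.left := QuasiCompact.compactSpace_of_compactSpace N.hom
  -- translates of the open centralizer
  let L : (U1 ⟶ N) → (C ⟶ N) := fun x => (toUnit C ≫ x) * f
  have hLo : ∀ x, IsOpen (Set.range (L x).left) := fun x => by
    let τ : N ≅ N :=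
      { hom := (toUnit N ≫ x) * 𝟙 N
        inv := (toUnit N ≫ x)⁻¹ * 𝟙 N
        hom_inv_id := by
          simp only [MonObj.comp_mul, GrpObj.comp_inv, Category.comp_id, ← Category.assoc,
            toUnit_unique (((toUnit N ≫ x) * 𝟙 N) ≫ toUnit N) (toUnit N), inv_mul_cancel_left]
        inv_hom_id := by
          simp only [MonObj.comp_mul, Category.comp_id, ← Category.assoc,
            toUnit_unique (((toUnit N ≫ x)⁻¹ * 𝟙 N) ≫ toUnit N) (toUnit N), mul_inv_cancel_left] }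
    haveI : IsIso τ.hom := τ.isIso_hom
    haveI : IsIso τ.hom.left := inferInstanceAs (IsIso ((Over.forget _).map τ.hom))
    have e : L x = f ≫ τ.hom := by
      simp only [L, τ, MonObj.comp_mul, Category.comp_id, ← Category.assoc, toUnit_unique (f ≫ toUnit N) (toUnit C)]
    haveI : IsOpenImmersion (L x).left := by rw [e, Over.comp_left]; infer_instance
    exact (L x).left.isOpenEmbedding.isOpen_range
  have huniv : Set.univ ⊆ ⋃ x, Set.range (L x).left := by
    intro p _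
    by_contra hp
    obtain ⟨x, hx⟩ := exists_pt_mem (X := N) (O := (⋃ x, Set.range (L x).left)ᶜ)
      (isOpen_iUnion hLo).isClosed_compl.isLocallyClosed ⟨p, hp⟩
    refine hx (Set.mem_iUnion.2 ⟨x, ptOf (1 : U1 ⟶ C), ?_⟩)
    show ptOf ((1 : U1 ⟶ C) ≫ L x) = ptOf x
    refine congrArg ptOf ?_
    have e1 : (1 : U1 ⟶ C) ≫ f = 1 := by
      rw [← cancel_mono n, Category.assoc, hf, MonObj.one_comp, MonObj.one_comp]
    simp only [L, MonObj.comp_mul, ← Category.assoc, toUnit_unique ((1 : U1 ⟶ C) ≫ toUnit C) (𝟙 _), Category.id_comp, e1,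
      _root_.mul_one]
  obtain ⟨F, hF⟩ := isCompact_univ.elim_finite_subcover _ hLo huniv
  refine ⟨(fun x => x ≫ n) '' (F : Set (U1 ⟶ N)), F.finite_toSet.image _, fun g hg => ?_⟩
  obtain ⟨u, hu⟩ := (hn.2.2 U1 g).2 fun X' x h => by
    obtain ⟨⟨h₁, e₁⟩, h₂, e₂⟩ := hg X' h
    rw [toUnit_unique x (toUnit X')]
    exact ⟨⟨h₁, e₁⟩, ⟨h₂, e₂⟩⟩
  obtain ⟨x, hxF, hx⟩ := Set.mem_iUnion₂.1 (hF (Set.mem_univ (ptOf u)))
  haveI : LocallyOfFiniteType C.hom := by rw [← Over.w f]; infer_instance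
  obtain ⟨z, hz⟩ := exists_pt_lift (L x) u hx
  refine ⟨x ≫ n, ⟨x, hxF, rfl⟩, z, ?_⟩
  rw [← hu, ← hz]
  simp only [L, MonObj.comp_mul, MonObj.mul_comp, ← Category.assoc, toUnit_unique (z ≫ toUnit C) (𝟙 _),
    Category.id_comp]
  rw [Category.assoc z f n, hf]

/-- a regular point of a maximal torus fixes finitely many cosets of its centralizer -/
theorem finite_fixed {G T C X : Over (Spec (CommRingCat.of k))} [GrpObj G] [GrpObj T] [GrpObj C] [IsAffine G.left]
    [Smooth G.hom] [ConnectedSpace G.left] {iT : T ⟶ G} (hT : AGF.IsMaxTorus iT) {c : C ⟶ G}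
    (hc : Red.IsCentralizerOf iT c) {a : AlgGrp.Action G X} {o : U1 ⟶ X} (hX : AGF.IsQuotient c X a o)
    {t : T ⟶ C} (ht : t ≫ c = iT) (s : U1 ⟶ T)
    (hs : ∀ (W : Over (Spec (CommRingCat.of k))) (g : W ⟶ G),
      g * (toUnit W ≫ s ≫ iT) = (toUnit W ≫ s ≫ iT) * g ↔
        ∀ (T' : Over (Spec (CommRingCat.of k))) (w : T' ⟶ W) (h : T' ⟶ T),
          (w ≫ g) * (h ≫ iT) = (h ≫ iT) * (w ≫ g)) :
    Set.Finite {x : U1 ⟶ X | lift ((s ≫ t) ≫ c) x ≫ a.act = x} := by
  haveI := hT.1; haveI := hT.2.1; haveI := hc.1; haveI := hc.2.1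
  haveI : LocallyOfFiniteType G.hom := inferInstance
  obtain ⟨h1, h2, h3, h4, -, hcen⟩ := centralizer_props hT.2.2.1 hc
  haveI := h1; haveI := h2; haveI := h3; haveI := h4
  obtain ⟨R, hR, hreps⟩ := exists_finite_reps hT.2.2.1 hc
  refine (hR.image fun r => r ≫ a.orbitMap o).subset fun x hx => ?_
  obtain ⟨g, rfl⟩ := exists_point_eq hX x
  have hx' : ((s ≫ iT) * g) ≫ a.orbitMap o = g ≫ a.orbitMap o := by
    rw [mul_orbitMap a o, ← ht, ← Category.assoc]; exact hx
  obtain ⟨z, hz⟩ := (orbitMap_eq_iff hX _ _).1 hx'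
  have hz' : z⁻¹ ≫ c = g⁻¹ * (s ≫ iT) * g := by
    rw [GrpObj.inv_comp, hz]; group
  -- the conjugate torus commutes with the torus
  haveI := isMonHom_conjBy g iT
  haveI := mono_conjBy g iT
  obtain ⟨j, hj⟩ := (hc.2.2 T (AGF.conjBy g iT)).2 ((hs T (AGF.conjBy g iT)).1 (by
    have e := hcen T (toUnit T ≫ z⁻¹) (𝟙 T)
    rw [Category.id_comp, Category.assoc, hz', MonObj.comp_mul, MonObj.comp_mul, GrpObj.comp_inv] at e
    simp only [AGF.conjBy]
    calc (toUnit T ≫ g) * iT * (toUnit T ≫ g)⁻¹ * (toUnit T ≫ s ≫ iT)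
        = (toUnit T ≫ g) * (iT * ((toUnit T ≫ g)⁻¹ * (toUnit T ≫ s ≫ iT) * (toUnit T ≫ g))) * (toUnit T ≫ g)⁻¹ := by
          group
      _ = (toUnit T ≫ g) * ((toUnit T ≫ g)⁻¹ * (toUnit T ≫ s ≫ iT) * (toUnit T ≫ g) * iT) * (toUnit T ≫ g)⁻¹ := by
          rw [e]
      _ = _ := by group))
  haveI : IsMonHom j := isMonHom_of_comp_mono j c (AGF.conjBy g iT) hj
  haveI : Mono j := by
    haveI : Mono (j ≫ c) := hj ▸ inferInstance
    exact mono_of_mono j c
  obtain ⟨h, φ, hφ⟩ := maxTorus_absorbing (isMaxTorus_factor (iB := c) (t := t) (ht.symm ▸ hT)) T j hT.2.2.1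
  have hj2 : j = φ ≫ t := by
    have e := congrArg (AGF.conjBy h⁻¹) hφ
    rw [conjBy_conjBy, inv_mul_cancel, conjBy_one] at e
    refine e.symm.trans ?_
    rw [← cancel_mono c, conjBy_comp, Category.assoc, ht]
    show (toUnit T ≫ h⁻¹ ≫ c) * (φ ≫ iT) * (toUnit T ≫ h⁻¹ ≫ c)⁻¹ = φ ≫ iT
    rw [← Category.assoc (toUnit T), hcen T (toUnit T ≫ h⁻¹) φ, mul_inv_cancel_right]
  have hconj : φ ≫ iT = AGF.conjBy g iT := by rw [← ht, ← Category.assoc, ← hj2, hj, ht]
  haveI : IsIso φ := by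
    obtain ⟨hTa, hTs, -⟩ := torus_props hT.2.2.1
    haveI := hTa; haveI := hTs
    haveI : Mono φ := by
      haveI : Mono (φ ≫ iT) := hconj ▸ inferInstance
      exact mono_of_mono φ iT
    haveI : IsAffineHom T.hom := isAffineHom_of_isAffine _
    haveI : LocallyOfFinitePresentation T.hom := LocallyOfFinitePresentation.iff_locallyOfFiniteType.2 inferInstance
    haveI : Mono ((Over.forget _).map φ) := inferInstance
    haveI : Mono φ.left := ‹_›
    haveI : IsIso φ.left := Groth.L08.MonoEndo.isIso_of_mono T.hom _ (Over.w φ)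
    haveI : IsIso ((Over.forget _).map φ) := ‹_›
    exact isIso_of_reflects_iso φ (Over.forget _)
  obtain ⟨r, hr, z', hz''⟩ := hreps g fun W w => by
    refine ⟨⟨w ≫ φ, ?_⟩, w ≫ inv φ, ?_⟩
    · rw [Category.assoc, hconj, comp_conjBy]
    · have e : w ≫ iT = (toUnit W ≫ g) * ((w ≫ inv φ) ≫ iT) * (toUnit W ≫ g)⁻¹ := by
        conv_lhs => rw [← IsIso.inv_hom_id_assoc φ iT, hconj, comp_conjBy, comp_conjBy, ← Category.assoc]
      rw [e]; group
  refine ⟨r, hr, (orbitMap_eq_iff hX _ _).2 ⟨z', ?_⟩⟩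
  rw [← hz'', inv_mul_cancel_left]

/-- conjugates of the centralizer of a maximal torus contain a nonempty open set -/
theorem exists_open_cartan {G T C : Over (Spec (CommRingCat.of k))} [GrpObj G] [GrpObj T] [GrpObj C] [IsAffine G.left]
    [Smooth G.hom] [ConnectedSpace G.left] {iT : T ⟶ G} (hT : AGF.IsMaxTorus iT) {c : C ⟶ G}
    (hc : Red.IsCentralizerOf iT c) :
    ∃ U : G.left.Opens, (U : Set ↥G.left).Nonempty ∧
      ∀ x : U1 ⟶ G, ptOf x ∈ U → ∃ (g : U1 ⟶ G) (y : U1 ⟶ C), g * (y ≫ c) * g⁻¹ = x := by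
  haveI := hT.1; haveI := hT.2.1; haveI := hc.1; haveI := hc.2.1
  haveI : LocallyOfFiniteType G.hom := inferInstance
  obtain ⟨h1, h2, h3, h4, ⟨t, ht⟩, -⟩ := centralizer_props hT.2.2.1 hc
  haveI := h1; haveI := h2; haveI := h3; haveI := h4
  obtain ⟨X, a, o, hX⟩ := exists_isQuotient c
  obtain ⟨s, hs⟩ := exists_regular_point iT hT.2.2.1
  obtain ⟨U, hne, hU⟩ := exists_open_conj hX (s ≫ t) (finite_fixed hT hc hX ht s hs)
  refine ⟨U, hne, fun x hx => ?_⟩
  haveI : LocallyOfFiniteType (G ⊗ C).hom := Groth.L19.AlgGrpBasic.lft_tensor G C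
  obtain ⟨p, hp⟩ := exists_pt_lift (fst G C * (snd G C ≫ c) * (fst G C)⁻¹) x (hU hx)
  refine ⟨p ≫ fst G C, p ≫ snd G C, ?_⟩
  rw [← hp]
  simp only [MonObj.comp_mul, GrpObj.comp_inv, Category.assoc]

/-- every point is conjugate into a given Borel subgroup -/
theorem exists_conj_mem_borel {G B : Over (Spec (CommRingCat.of k))} [GrpObj G] [GrpObj B] [IsAffine G.left]
    [Smooth G.hom] [ConnectedSpace G.left] {iB : B ⟶ G} (hB : Red.IsBorelOver k iB) (g : U1 ⟶ G) :
    ∃ (x : U1 ⟶ G) (b : U1 ⟶ B), x * (b ≫ iB) * x⁻¹ = g := by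
  haveI := hB.1; haveI := hB.2.1; haveI := hB.2.2.1; haveI := hB.2.2.2.1
  haveI : LocallyOfFiniteType G.hom := inferInstance
  haveI : LocallyOfFiniteType B.hom := inferInstance
  haveI : IsLocallyNoetherian G.left := LocallyOfFiniteType.isLocallyNoetherian G.hom
  haveI : IrreducibleSpace G.left := Groth.L25.Component.irreducibleSpace G
  obtain ⟨T₀, _, i₀, p, hm, hmono, h₀, -, -, -, -, habs⟩ := exists_absorbing_of_borel hB
  haveI := hm; haveI := hmono
  haveI : Mono iB := Groth.L08.mono_of_closedImmersion iB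
  have hmax : AGF.IsMaxTorus (i₀ ≫ iB) := isMaxTorus_of_absorbing _ h₀ habs
  obtain ⟨C, gC, c, hc⟩ := exists_centralizer_torus (i₀ ≫ iB) h₀
  obtain ⟨U, hne, hU⟩ := exists_open_cartan hmax hc
  obtain ⟨v, φ, hφ⟩ := exists_borel_centralizer hmax hc hB
  obtain ⟨X, a, o, hX⟩ := exists_isQuotient iB
  haveI := isProper_quotient_of_borel hB hX
  let Φ := fst G B * (snd G B ≫ iB) * (fst G B)⁻¹
  have hcl : IsClosed (Set.range Φ.left) := Groth.Agent.S8087.result k G B iB hB.2.1 X a o hX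
  haveI : JacobsonSpace G.left := LocallyOfFiniteType.jacobsonSpace G.hom
  have hsub : (U : Set G.left) ⊆ Set.range Φ.left := by
    intro q hq
    by_contra hc'
    obtain ⟨x, hx, hx'⟩ := exists_pt_mem (X := G) (O := (U : Set G.left) ∩ (Set.range Φ.left)ᶜ)
      (U.isOpen.inter hcl.isOpen_compl).isLocallyClosed ⟨q, hq, hc'⟩
    obtain ⟨w, y, hw⟩ := hU x hx
    refine hx' ⟨ptOf (lift (w * v⁻¹) (y ≫ φ)), ?_⟩
    show ptOf (lift (w * v⁻¹) (y ≫ φ) ≫ Φ) = ptOf x
    refine congrArg ptOf ?_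
    have e : (y ≫ φ) ≫ iB = v * (y ≫ c) * v⁻¹ := by
      rw [Category.assoc, hφ, comp_conjBy]
      simp only [AGF.conjBy, toUnit_unique (toUnit U1) (𝟙 _), Category.id_comp]
    simp only [Φ, MonObj.comp_mul, GrpObj.comp_inv, lift_fst, lift_snd_assoc, e, ← hw]
    group
  have hall : Set.range Φ.left = Set.univ := by
    refine Set.eq_univ_of_univ_subset ?_
    rw [← (U.isOpen.dense hne).closure_eq]
    exact closure_minimal hsub hcl
  haveI : LocallyOfFiniteType (G ⊗ B).hom := Groth.L19.AlgGrpBasic.lft_tensor G B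
  obtain ⟨q, hq⟩ := exists_pt_lift Φ g (hall.symm ▸ Set.mem_univ _)
  refine ⟨q ≫ fst G B, q ≫ snd G B, ?_⟩
  rw [← hq]
  simp only [Φ, MonObj.comp_mul, GrpObj.comp_inv, Category.assoc]

end Groth.L08.Borel
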