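import Groth.Agent.L08.Borel.GenCartan
import Groth.Agent.L08.Borel.Nilp
import Groth.Agent.S3929

/-!
# Nilpotent connected algebraic groups
-/

set_option autoImplicit false
set_option backward.isDefEq.respectTransparency.types false
set_option linter.style.haveILetI false
set_option linter.unusedSectionVars false

universe u

open CategoryTheory CategoryTheory.Limits MonoidalCategory CartesianMonoidalCategory MonObj GrpObj AlgebraicGeometry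
open Groth.L08.TorusQuot (SP)

noncomputable section

namespace Groth.L08.Borel

variable {k : Type u} [Field k] [IsAlgClosed k]

local notation "U1" => 𝟙_ (Over (Spec (CommRingCat.of k)))

variable {G : Over (Spec (CommRingCat.of k))} [GrpObj G] [Smooth G.hom] [QuasiCompact G.hom] [ConnectedSpace G.left]

/-- maximal tori exist -/
theorem exists_maxTorus_gen (G : Over (Spec (CommRingCat.of k))) [GrpObj G] [Smooth G.hom] [QuasiCompact G.hom]
    [ConnectedSpace G.left] :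
    ∃ (T : Over (Spec (CommRingCat.of k))) (_ : GrpObj T) (iT : T ⟶ G), AGF.IsMaxTorus iT := by
  obtain ⟨𝒟⟩ := exists_genData G
  letI := 𝒟.grpL
  haveI := 𝒟.affL; haveI := 𝒟.smL; haveI := 𝒟.connL; haveI := 𝒟.homl
  haveI : Mono 𝒟.l := by haveI := 𝒟.cll; exact Groth.L08.mono_of_closedImmersion 𝒟.l
  obtain ⟨B₀, gB₀, iB₀, hB₀⟩ := exists_borel 𝒟.L
  obtain ⟨T, gT, i₀, p₀, hm, hmono, hTt, -, -, -, -, habs⟩ := exists_absorbing_of_borel hB₀
  haveI := hB₀.1; haveI := hB₀.2.1; haveI := hm; haveI := hmono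
  haveI : Mono iB₀ := Groth.L08.mono_of_closedImmersion iB₀
  haveI : Mono ((i₀ ≫ iB₀) ≫ 𝒟.l) := mono_comp _ _
  refine ⟨T, gT, (i₀ ≫ iB₀) ≫ 𝒟.l, isMaxTorus_of_absorbing _ hTt fun S _ j _ _ hS => ?_⟩
  obtain ⟨b1, b2, b3, -, -⟩ := torus_props hS
  obtain ⟨tS, htS⟩ := 𝒟.factorL S j b1 b2 b3
  haveI : IsMonHom tS := isMonHom_of_comp_mono tS 𝒟.l j htS
  haveI : Mono tS := by haveI : Mono (tS ≫ 𝒟.l) := htS ▸ inferInstance; exact mono_of_mono tS 𝒟.l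
  obtain ⟨g, f, hf⟩ := habs S tS hS
  refine ⟨g ≫ 𝒟.l, f, ?_⟩
  have := congrArg (· ≫ 𝒟.l) hf
  simp only [Category.assoc, conjBy_comp, htS] at this ⊢
  exact this

/-- rational points are products from the affine part and the anti-affine part -/
theorem exists_decomp (𝒟 : GenData G) (g : U1 ⟶ G) :
    ∃ (a : U1 ⟶ 𝒟.L) (d : U1 ⟶ 𝒟.D), g = (a ≫ 𝒟.l) * (d ≫ 𝒟.κ) := by
  letI := 𝒟.grpH; letI := 𝒟.grpD
  haveI := 𝒟.affH; haveI := 𝒟.smH; haveI := 𝒟.homρ; haveI := 𝒟.surjL; haveI := 𝒟.smL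
  haveI : LocallyOfFiniteType G.hom := inferInstance
  obtain ⟨a, ha⟩ := exists_pt_lift (𝒟.l ≫ 𝒟.ρ) (g ≫ 𝒟.ρ) ((𝒟.l ≫ 𝒟.ρ).left.surjective _)
  obtain ⟨d, hd, -⟩ := 𝒟.kerκ.exists_lift ((a ≫ 𝒟.l)⁻¹ * g) (toUnit _) (by
    rw [MonObj.mul_comp, GrpObj.inv_comp, Category.assoc, ha, inv_mul_cancel, Hom.one_def])
  exact ⟨a, d, by rw [hd, mul_inv_cancel_left]⟩

/-- a nilpotent group of points makes every torus central -/
theorem central_of_nilpotent (h : Group.IsNilpotent (U1 ⟶ G))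
    (T : Over (Spec (CommRingCat.of k))) [GrpObj T] (j : T ⟶ G) [IsMonHom j] [Mono j] (hT : Red.IsTorus T)
    (X : Over (Spec (CommRingCat.of k))) (t : X ⟶ T) (g : X ⟶ G) : (t ≫ j) * g = g * (t ≫ j) := by
  obtain ⟨𝒟⟩ := exists_genData G
  letI := 𝒟.grpL
  haveI := 𝒟.affL; haveI := 𝒟.smL; haveI := 𝒟.connL; haveI := 𝒟.homl
  haveI : Mono 𝒟.l := by haveI := 𝒟.cll; exact Groth.L08.mono_of_closedImmersion 𝒟.l
  obtain ⟨T₁, g₁, i₁, h₁⟩ := exists_maxTorus_gen G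
  haveI := h₁.1; haveI := h₁.2.1
  obtain ⟨a1, a2, a3, -, -⟩ := torus_props h₁.2.2.1
  obtain ⟨t₁, ht₁⟩ := 𝒟.factorL T₁ i₁ a1 a2 a3
  have hmax : AGF.IsMaxTorus t₁ := isMaxTorus_factor (iB := 𝒟.l) (ht₁.symm ▸ h₁)
  let φ : (SP k k ⟶ 𝒟.L) →* (U1 ⟶ G) :=
    MonoidHom.mk' (fun a => exists_unit_iso.choose.inv ≫ a ≫ 𝒟.l) fun a b => by
      rw [MonObj.mul_comp, MonObj.comp_mul]
  have hφ : Function.Injective φ := fun a b e => (cancel_mono 𝒟.l).1 ((cancel_epi _).1 e)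
  haveI : Group.IsNilpotent (SP k k ⟶ 𝒟.L) := by
    haveI := h
    exact Group.nilpotent_of_mulEquiv (MonoidHom.ofInjective hφ).symm
  have hnilL : AGF.IsNilpotentGrp 𝒟.L := isNilpotentGrp_of_points 𝒟.L inferInstance
  have hc₁ : ∀ (g' : U1 ⟶ G) (s : U1 ⟶ T₁), g' * (s ≫ i₁) = (s ≫ i₁) * g' := fun g' s => by
    obtain ⟨a, d, rfl⟩ := exists_decomp 𝒟 g'
    have h0 := congrArg (· ≫ 𝒟.l) (maxTorus_commute_pts hnilL hmax a s)
    simp only [MonObj.mul_comp, Category.assoc, ht₁] at h0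
    rw [_root_.mul_assoc, 𝒟.central _ d (s ≫ i₁), ← _root_.mul_assoc, h0, _root_.mul_assoc]
  haveI := a2
  have hall := commute_of_points i₁ hc₁
  obtain ⟨g₀, f, hf⟩ := maxTorus_absorbing_gen h₁ T j hT
  have hj : f ≫ i₁ = j := by
    have e := congrArg (AGF.conjBy g₀⁻¹) hf
    rw [conjBy_conjBy, inv_mul_cancel, conjBy_one] at e
    rw [← e]
    simp only [AGF.conjBy]
    rw [hall _ (toUnit _ ≫ g₀⁻¹) f, mul_inv_cancel_right]
  rw [← hj, ← Category.assoc]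
  exact (hall X g (t ≫ f)).symm

/-- with a single maximal torus the group of points is nilpotent -/
theorem nilpotent_of_unique (huniq : ∀ (T T' : Over (Spec (CommRingCat.of k))) [GrpObj T] [GrpObj T'] (iT : T ⟶ G)
      (iT' : T' ⟶ G), AGF.IsMaxTorus iT → AGF.IsMaxTorus iT' → ∃ f : T ≅ T', f.hom ≫ iT' = iT) :
    Group.IsNilpotent (U1 ⟶ G) := by
  obtain ⟨𝒟⟩ := exists_genData G
  letI := 𝒟.grpL; letI := 𝒟.grpD
  haveI := 𝒟.affL; haveI := 𝒟.smL; haveI := 𝒟.connL; haveI := 𝒟.homl; haveI := 𝒟.homκ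
  haveI : Mono 𝒟.l := by haveI := 𝒟.cll; exact Groth.L08.mono_of_closedImmersion 𝒟.l
  have hL : AGF.IsNilpotentGrp 𝒟.L := by
    refine Groth.Agent.S3929.result k 𝒟.L fun T T' _ _ iT iT' hT hT' => ?_
    have ext : ∀ (S : Over (Spec (CommRingCat.of k))) [GrpObj S] (i : S ⟶ 𝒟.L), AGF.IsMaxTorus i →
        AGF.IsMaxTorus (i ≫ 𝒟.l) := fun S _ i hi => by
      haveI := hi.1; haveI := hi.2.1
      refine ⟨inferInstance, mono_comp _ _, hi.2.2.1, fun S' _ j _ _ f hS' hf => ?_⟩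
      obtain ⟨b1, b2, b3, -, -⟩ := torus_props hS'
      obtain ⟨z, hz⟩ := 𝒟.factorL S' j b1 b2 b3
      haveI : IsMonHom z := isMonHom_of_comp_mono z 𝒟.l j hz
      haveI : Mono z := by haveI : Mono (z ≫ 𝒟.l) := hz.symm ▸ inferInstance; exact mono_of_mono z 𝒟.l
      exact hi.2.2.2 S' z f hS' (by rw [← cancel_mono 𝒟.l, Category.assoc, hz, hf])
    obtain ⟨f, hf⟩ := huniq T T' (iT ≫ 𝒟.l) (iT' ≫ 𝒟.l) (ext T iT hT) (ext T' iT' hT')
    exact ⟨f, by rw [← cancel_mono 𝒟.l, Category.assoc, hf]⟩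
  obtain ⟨n, hn⟩ := hL
  haveI : Group.IsNilpotent (U1 ⟶ 𝒟.L) := ⟨⟨n, hn _⟩⟩
  let π : (U1 ⟶ 𝒟.L) →* (U1 ⟶ G) ⧸ Subgroup.center (U1 ⟶ G) :=
    (QuotientGroup.mk' _).comp (MonoidHom.mk' (fun a => a ≫ 𝒟.l) fun a b => MonObj.mul_comp a b _)
  have hπ : Function.Surjective π := fun q => by
    obtain ⟨g, rfl⟩ := QuotientGroup.mk'_surjective _ q
    obtain ⟨a, d, rfl⟩ := exists_decomp 𝒟 g
    refine ⟨a, ?_⟩
    show QuotientGroup.mk' _ (a ≫ 𝒟.l) = _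
    rw [QuotientGroup.mk'_apply, QuotientGroup.mk'_apply, QuotientGroup.eq, inv_mul_cancel_left]
    exact Subgroup.mem_center_iff.2 fun x => (𝒟.central _ d x).symm
  haveI : Group.IsNilpotent ((U1 ⟶ G) ⧸ Subgroup.center (U1 ⟶ G)) := Group.nilpotent_of_surjective π hπ
  exact Group.of_quotient_center_nilpotent inferInstance

/-- central tori make the maximal torus unique -/
theorem unique_of_central (hcen : ∀ (T : Over (Spec (CommRingCat.of k))) [GrpObj T] (j : T ⟶ G) [IsMonHom j] [Mono j],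
      Red.IsTorus T → ∀ (X : Over (Spec (CommRingCat.of k))) (t : X ⟶ T) (g : X ⟶ G), (t ≫ j) * g = g * (t ≫ j))
    (T T' : Over (Spec (CommRingCat.of k))) [GrpObj T] [GrpObj T'] (iT : T ⟶ G) (iT' : T' ⟶ G)
    (hT : AGF.IsMaxTorus iT) (hT' : AGF.IsMaxTorus iT') : ∃ f : T ≅ T', f.hom ≫ iT' = iT := by
  obtain ⟨g, f, hf⟩ := exists_maxTorus_conj_gen hT hT'
  haveI := hT.1; haveI := hT.2.1
  refine ⟨f, ?_⟩
  rw [hf]
  simp only [AGF.conjBy]
  have := hcen T iT hT.2.2.1 T (𝟙 T) (toUnit T ≫ g)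
  rw [Category.id_comp] at this
  rw [← this, mul_inv_cancel_right]

end Groth.L08.Borel
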