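import Groth.Agent.L08.Borel.CentKernel
import Groth.Agent.L08.Borel.SendsIntoSmooth
import Groth.Agent.L02.SchDom.MonoApps
import Mathlib.AlgebraicGeometry.Morphisms.FlatMono

/-!
# Cartan subgroups are centralizers of maximal tori
-/

set_option autoImplicit false
set_option backward.isDefEq.respectTransparency.types false
set_option linter.style.haveILetI false
set_option linter.unusedSectionVars false

universe u

open CategoryTheory CategoryTheory.Limits MonoidalCategory CartesianMonoidalCategory MonObj GrpObj AlgebraicGeometry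
open Groth.L25.NilAction (toBase ofBase toBase_mul toBase_one toBase_ofBase ofBase_toBase)

noncomputable section

namespace Groth.L08.Borel

variable {S S' : Scheme.{u}}

/-- centralizers are transported by isomorphisms of groups -/
theorem isCentralizerOf_transport {G G' H H' Z Z' : Over S} [GrpObj G] [GrpObj G'] [GrpObj Z] [GrpObj Z']
    (e : G ≅ G') [IsMonHom e.hom] {i : H ⟶ G} {i' : H' ⟶ G'} (a : H' ≅ H) (ha : a.hom ≫ i ≫ e.hom = i')
    {z : Z ⟶ G} {z' : Z' ⟶ G'} [IsMonHom z'] (b : Z' ≅ Z) (hb : b.hom ≫ z ≫ e.hom = z')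
    (h : Red.IsCentralizerOf i z) : Red.IsCentralizerOf i' z' := by
  haveI := h.1; haveI := h.2.1
  haveI : Mono z' := hb ▸ (inferInstance : Mono (b.hom ≫ z ≫ e.hom))
  refine ⟨inferInstance, inferInstance, fun X g => ⟨?_, fun hg => ?_⟩⟩
  · rintro ⟨w, rfl⟩ X' x s
    have h1 := congrArg (· ≫ e.hom) ((h.2.2 X (w ≫ b.hom ≫ z)).1 ⟨w ≫ b.hom, by rw [Category.assoc]⟩ X' x (s ≫ a.hom))
    simp only [MonObj.mul_comp, Category.assoc, ha, hb] at h1
    exact h1
  · obtain ⟨w, hw⟩ := (h.2.2 X (g ≫ e.inv)).2 fun X' x s => by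
      have h1 := congrArg (· ≫ e.inv) (hg X' x (s ≫ a.inv))
      simp only [MonObj.mul_comp, Category.assoc, ← ha, Iso.inv_hom_id_assoc, Iso.hom_inv_id, Category.comp_id] at h1
      exact h1
    exact ⟨w ≫ b.inv, by rw [← hb, Category.assoc, b.inv_hom_id_assoc, reassoc_of% hw, e.inv_hom_id, Category.comp_id]⟩

/-- the base change of a Cartan subgroup is a Cartan subgroup -/
theorem isCartan_bc {G C : Over S} [GrpObj G] [GrpObj C] [Smooth G.hom] [QuasiCompact G.hom] {c : C ⟶ G}
    (hc : SGA3x.IsCartan c) (j : S' ⟶ S) : SGA3x.IsCartan ((Over.pullback j).map c) := by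
  obtain ⟨h1, h2, h3, h4⟩ := hc
  haveI := h1; haveI := h2; haveI := h3
  haveI : IsMonHom ((Over.pullback j).map c) := Groth.L25.MonoClosed.isMonHom_pullbackMap _ _
  haveI : Mono ((Over.pullback j).map c) := Functor.map_mono _ _
  refine ⟨inferInstance, inferInstance, MorphismProperty.pullback_snd C.hom j h3, fun p => ?_⟩
  haveI : IsMonHom ((Over.pullback (Red.geomPt p)).map ((Over.pullback j).map c)) :=
    Groth.L25.MonoClosed.isMonHom_pullbackMap _ _
  refine ⟨inferInstance, Functor.map_mono _ _, ?_⟩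
  obtain ⟨θ, hθ⟩ := exists_geomPt_map j p
  obtain ⟨-, -, T, gT, i, hi, hcen⟩ := h4 (j p)
  haveI : Smooth (Red.geomFibre (j p) G).hom := inferInstanceAs (Smooth (pullback.snd G.hom (Red.geomPt (j p))))
  haveI : QuasiCompact (Red.geomFibre (j p) G).hom :=
    inferInstanceAs (QuasiCompact (pullback.snd G.hom (Red.geomPt (j p))))
  have hiθ := isMaxTorus_bc_field (isMaxTorus_of_isMaximalTorus hi) θ
  haveI := hiθ.1; haveI := hiθ.2.1
  haveI := (isMonHom_fibreIso j θ hθ G).2
  haveI := (isMonHom_fibreIso j θ hθ G).1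
  let i' : Red.bc θ T ⟶ Red.geomFibre p (Red.bc j G) := (Over.pullback θ).map i ≫ (fibreIso j θ hθ G).inv
  haveI : IsMonHom (fibreIso j θ hθ G).symm.hom := (isMonHom_fibreIso j θ hθ G).2
  refine ⟨Red.bc θ T, inferInstance, i', isMaximalTorus_of_isMaxTorus ?_,
    isCentralizerOf_transport (fibreIso j θ hθ G).symm (Iso.refl _) (Category.id_comp _) (fibreIso j θ hθ C) ?_
      (isCentralizerOf_bc θ hcen)⟩
  · refine ⟨inferInstanceAs (IsMonHom (_ ≫ _)), mono_comp _ _, hiθ.2.2.1, fun T₁ _ a _ _ f h₁ hf => ?_⟩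
    exact hiθ.2.2.2 T₁ (a ≫ (fibreIso j θ hθ G).hom) f h₁ (by
      rw [reassoc_of% hf]; simp only [i', Category.assoc, Iso.inv_hom_id, Category.comp_id])
  · rw [Iso.symm_hom, ← Category.assoc, ← fibreIso_naturality, Category.assoc, Iso.hom_inv_id, Category.comp_id]

/-- over an algebraically closed field a Cartan subgroup is the centralizer of every maximal torus inside it -/
theorem isCentralizerOf_of_le {k : Type u} [Field k] [IsAlgClosed k] {G C T T' : Over (Spec (CommRingCat.of k))}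
    [GrpObj G] [GrpObj C] [GrpObj T] [GrpObj T'] [Smooth G.hom] [QuasiCompact G.hom] {c : C ⟶ G}
    {i' : T' ⟶ G} (hT' : AGF.IsMaxTorus i') (hc : Red.IsCentralizerOf i' c) {i : T ⟶ G} (hT : AGF.IsMaxTorus i)
    (t : T ⟶ C) (ht : t ≫ c = i) : Red.IsCentralizerOf i c := by
  haveI := hT.1; haveI := hT.2.1; haveI := hT'.1; haveI := hT'.2.1
  haveI : IsSeparated G.hom := Groth.L08.AbelianGrp.isSeparated G
  obtain ⟨Z, gZ, z, hz, hzi, hzs⟩ := Groth.L25.Locus.exists_smooth_centralizer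
    (Groth.L25.Locus.locally_of_multTypeFT (Groth.L25.Locus.isMultTypeFT_of_isTorus hT'.2.2.1)) i'
  haveI := hz.1; haveI := hz.2.1; haveI := hzi; haveI := hzs
  haveI : QuasiCompact Z.hom := by rw [← Over.w z]; infer_instance
  obtain ⟨-, -, -, -, hcomm⟩ := torus_props hT'.2.2.1
  obtain ⟨t', ht'⟩ := (hz.2.2 T' i').2 fun X x h => by rw [← MonObj.mul_comp, ← MonObj.mul_comp, hcomm X x h]
  obtain ⟨tz, htz⟩ := (hz.2.2 T i).2 ((hc.2.2 T i).1 ⟨t, ht⟩)
  haveI : IsMonHom t' := isMonHom_of_comp_mono t' z i' ht'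
  haveI : Mono t' := by haveI : Mono (t' ≫ z) := ht'.symm ▸ inferInstance; exact mono_of_mono t' z
  obtain ⟨f, hf⟩ := central_torus_le_maxTorus t' hT'.2.2.1 (fun X g s => by
    rw [← cancel_mono z, MonObj.mul_comp, MonObj.mul_comp, Category.assoc, ht']
    have := (hz.2.2 X (g ≫ z)).1 ⟨g, rfl⟩ X (𝟙 X) s
    rwa [Category.id_comp] at this) (isMaxTorus_factor (iB := z) (htz.symm ▸ hT))
  have hfi : f ≫ i = i' := by rw [← htz, reassoc_of% hf, ht']
  haveI : IsIso f := hT'.2.2.2 T i f hT.2.2.1 hfi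
  haveI := hc.1
  haveI : IsMonHom (Iso.refl G).hom := inferInstanceAs (IsMonHom (𝟙 G))
  exact isCentralizerOf_transport (Iso.refl G) (asIso f).symm (by simp [← hfi]) (Iso.refl C) (by simp) hc

/-- a flat monomorphism of finite presentation which is surjective is an isomorphism -/
theorem isIso_of_flat_mono {X Y : Over S} (f : X ⟶ Y) [Mono f.left] [Flat f.left] [Surjective f.left]
    [LocallyOfFinitePresentation f.left] : IsIso f := by
  haveI : IsOpenImmersion f.left := IsOpenImmersion.of_flat_of_mono f.left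
  haveI : IsIso f.left := by
    haveI : Epi f.left.base := (TopCat.epi_iff_surjective _).2 f.left.surjective
    exact IsOpenImmersion.isIso f.left
  haveI : IsIso ((Over.forget S).map f) := ‹IsIso f.left›
  exact isIso_of_reflects_iso f (Over.forget S)

variable {G C T : Over S} [GrpObj G] [GrpObj C] [GrpObj T]

/-- a homomorphism monomorphism onto a smooth group, surjective on geometric fibres, is an isomorphism -/
theorem isIso_of_mono_hom [Smooth G.hom] [Smooth C.hom] (v : C ⟶ G) [IsMonHom v] [Mono v]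
    (hs : ∀ s : S, Surjective ((Over.pullback (Red.geomPt s)).map v).left) : IsIso v := by
  haveI : Surjective v.left := surjective_of_geomFibres v hs
  haveI : GeometricallyReduced G.hom := Groth.Agent.AV.geometricallyReduced_of_smooth G.hom
  haveI : LocallyOfFiniteType G.hom := inferInstance
  haveI : Flat v.left := (Groth.L08.FlatHom.flat_of_surjective_fibres C G v).1
  haveI : LocallyOfFinitePresentation v.left := by
    haveI : LocallyOfFinitePresentation (v.left ≫ G.hom) := by rw [Over.w v]; infer_instance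
    exact Groth.L20.locallyOfFinitePresentation_of_comp v.left G.hom
  haveI : Mono v.left := inferInstanceAs (Mono ((Over.forget S).map v))
  exact isIso_of_flat_mono v

/-- a morphism with a section is surjective -/
theorem surjective_of_section {X Y : Over S} (f : X ⟶ Y) (s : Y ⟶ X) (h : s ≫ f = 𝟙 Y) : Surjective f.left :=
  ⟨fun y => ⟨s.left y, by rw [← Scheme.Hom.comp_apply, ← Over.comp_left, h]; rfl⟩⟩

/-- **A Cartan subgroup is the centralizer of every maximal torus it contains.** -/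
theorem isCentralizerOf_cartan [Smooth G.hom] [IsSeparated G.hom] [QuasiCompact G.hom] {c : C ⟶ G}
    (hc : SGA3x.IsCartan c) {i : T ⟶ G} (hT : Red.IsMaximalTorus i) (t : T ⟶ C) (ht : t ≫ c = i) :
    Red.IsCentralizerOf i c := by
  haveI := hT.1; haveI := hT.2.1; haveI := hc.1; haveI := hc.2.1; haveI := hc.2.2.1
  have m₁ := Groth.L25.Locus.isMultTypeFT_of_isTorus hT.2.2.1
  haveI : Mono c.left := inferInstanceAs (Mono ((Over.forget S).map c))
  haveI : IsSeparated C.hom := by rw [← Over.w c]; infer_instance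
  haveI : IsMonHom t := Groth.L25.Bridge.isMonHom_of_mul t fun X a b => by
    rw [← cancel_mono c, Category.assoc, ht, MonObj.mul_comp (a ≫ t) (b ≫ t) c, Category.assoc, Category.assoc, ht]
    exact MonObj.mul_comp a b i
  -- the fibres
  have hfib : ∀ s : S, Red.IsCentralizerOf ((Over.pullback (Red.geomPt s)).map i)
      ((Over.pullback (Red.geomPt s)).map c) := fun s => by
    obtain ⟨-, -, T', gT', i', hi', hcen⟩ := hc.2.2.2 s
    haveI : IsMonHom ((Over.pullback (Red.geomPt s)).map i) := Groth.L25.MonoClosed.isMonHom_pullbackMap _ _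
    haveI : Mono ((Over.pullback (Red.geomPt s)).map i) := Functor.map_mono _ _
    haveI : Smooth (Red.geomFibre s G).hom := inferInstanceAs (Smooth (pullback.snd G.hom (Red.geomPt s)))
    haveI : QuasiCompact (Red.geomFibre s G).hom := inferInstanceAs (QuasiCompact (pullback.snd G.hom (Red.geomPt s)))
    exact isCentralizerOf_of_le (isMaxTorus_of_isMaximalTorus hi') hcen
      ⟨inferInstance, inferInstance, Groth.L25.Locus.isTorus_bc hT.2.2.1 _,
        fun T₁ _ a _ _ f h₁ hf => hT.2.2.2 s T₁ a f h₁ hf⟩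
      ((Over.pullback (Red.geomPt s)).map t) (by rw [← Functor.map_comp, ht])
  -- the torus is central in the Cartan subgroup
  obtain ⟨Z₀, g₀, z₀, hz₀, hz₀i, hz₀s⟩ := Groth.L25.Locus.exists_smooth_centralizer
    (Groth.L25.Locus.locally_of_multTypeFT m₁) t
  haveI := hz₀.1; haveI := hz₀.2.1; haveI := hz₀s
  haveI : IsIso z₀ := isIso_of_mono_hom z₀ fun s => by
    have hb := isCentralizerOf_bc (Red.geomPt s) hz₀
    haveI : IsMonHom ((Over.pullback (Red.geomPt s)).map c) := (hfib s).1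
    haveI : Mono ((Over.pullback (Red.geomPt s)).map c) := (hfib s).2.1
    obtain ⟨w, hw⟩ := (hb.2.2 _ (𝟙 (Red.geomFibre s C))).2 fun X' x h => by
      rw [← cancel_mono ((Over.pullback (Red.geomPt s)).map c), MonObj.mul_comp, MonObj.mul_comp, Category.comp_id,
        Category.assoc, ← Functor.map_comp, ht]
      exact ((hfib s).2.2 _ ((Over.pullback (Red.geomPt s)).map c)).1 ⟨𝟙 _, Category.id_comp _⟩ X' x h
    exact surjective_of_section _ w hw
  have hcentral : ∀ (X : Over S) (g : X ⟶ C) (s : X ⟶ T), g * (s ≫ t) = (s ≫ t) * g := fun X g s => by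
    have := (hz₀.2.2 X g).1 ⟨g ≫ inv z₀, by rw [Category.assoc, IsIso.inv_hom_id, Category.comp_id]⟩ X (𝟙 X) s
    rwa [Category.id_comp] at this
  -- and the Cartan subgroup is the centralizer
  obtain ⟨Z, gZ, z, hz, hzi, hzs⟩ := Groth.L25.Locus.exists_smooth_centralizer
    (Groth.L25.Locus.locally_of_multTypeFT m₁) i
  haveI := hz.1; haveI := hz.2.1; haveI := hzs
  obtain ⟨v, hv⟩ := (hz.2.2 C c).2 fun X' x h => by
    rw [← ht, ← Category.assoc, ← MonObj.mul_comp, ← MonObj.mul_comp, hcentral X' x h]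
  haveI : IsMonHom v := Groth.L25.Bridge.isMonHom_of_mul v fun X a b => by
    rw [← cancel_mono z, Category.assoc, hv, MonObj.mul_comp (a ≫ v) (b ≫ v) z, Category.assoc, Category.assoc, hv]
    exact MonObj.mul_comp a b c
  haveI : Mono v := by haveI : Mono (v ≫ z) := hv.symm ▸ inferInstance; exact mono_of_mono v z
  haveI : IsIso v := isIso_of_mono_hom v fun s => by
    have hb := isCentralizerOf_bc (Red.geomPt s) hz
    haveI : Mono ((Over.pullback (Red.geomPt s)).map z) := hb.2.1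
    obtain ⟨w, hw⟩ := ((hfib s).2.2 _ ((Over.pullback (Red.geomPt s)).map z)).2
      ((hb.2.2 _ _).1 ⟨𝟙 _, Category.id_comp _⟩)
    exact surjective_of_section _ w (by
      rw [← cancel_mono ((Over.pullback (Red.geomPt s)).map z), Category.assoc, ← Functor.map_comp, hv, hw,
        Category.id_comp])
  haveI : IsMonHom (Iso.refl G).hom := inferInstanceAs (IsMonHom (𝟙 G))
  exact isCentralizerOf_transport (Iso.refl G) (Iso.refl T) (by simp) (asIso v) (by simp [hv]) hz

/-- commuting maximal tori are equal -/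
theorem exists_iso_of_commute [Smooth G.hom] [IsSeparated G.hom] [QuasiCompact G.hom] {T₂ : Over S} [GrpObj T₂]
    {i₁ : T ⟶ G} (h₁ : Red.IsMaximalTorus i₁) {i₂ : T₂ ⟶ G} (h₂ : Red.IsMaximalTorus i₂)
    (hcom : ∀ (X : Over S) (a : X ⟶ T₂) (b : X ⟶ T), (a ≫ i₂) * (b ≫ i₁) = (b ≫ i₁) * (a ≫ i₂)) :
    ∃ φ : T ≅ T₂, φ.hom ≫ i₂ = i₁ := by
  haveI := h₁.1; haveI := h₁.2.1; haveI := h₂.1; haveI := h₂.2.1
  have m₁ := Groth.L25.Locus.isMultTypeFT_of_isTorus h₁.2.2.1
  obtain ⟨Z, gZ, z, hc, hci, hCs⟩ := Groth.L25.Locus.exists_smooth_centralizer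
    (Groth.L25.Locus.locally_of_multTypeFT m₁) i₁
  haveI := hc.1; haveI := hc.2.1; haveI := hci; haveI := hCs
  haveI : QuasiCompact Z.hom := by rw [← Over.w z]; infer_instance
  haveI : IsSeparated Z.hom := by rw [← Over.w z]; infer_instance
  obtain ⟨t₁, ht₁⟩ := (hc.2.2 T i₁).2 fun X' x h => by
    rw [← MonObj.mul_comp, ← MonObj.mul_comp, Groth.L25.Central.mul_comm_of_multTypeFT m₁ x h]
  obtain ⟨t₂, ht₂⟩ := (hc.2.2 T₂ i₂).2 fun X' x h => hcom X' x h
  have fac : ∀ {T : Over S} [GrpObj T] {i : T ⟶ G} (t : T ⟶ Z), t ≫ z = i → Red.IsMaximalTorus i →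
      Red.IsMaximalTorus t := by
    intro T _ i t ht h
    haveI := h.1; haveI := h.2.1
    haveI : IsMonHom t := Groth.L25.Bridge.isMonHom_of_mul t fun X a b => by
      rw [← cancel_mono z, Category.assoc, ht, MonObj.mul_comp (a ≫ t) (b ≫ t) z, Category.assoc, Category.assoc, ht]
      exact MonObj.mul_comp a b i
    haveI : Mono (t ≫ z) := ht.symm ▸ inferInstance
    haveI : Mono t := mono_of_mono t z
    refine ⟨inferInstance, inferInstance, h.2.2.1, fun s T₃ _ a _ _ f h₃ hf => ?_⟩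
    haveI : IsMonHom ((Over.pullback (Red.geomPt s)).map z) := Groth.L25.MonoClosed.isMonHom_pullbackMap _ _
    haveI : Mono ((Over.pullback (Red.geomPt s)).map z) := Functor.map_mono _ _
    haveI : IsMonHom (a ≫ (Over.pullback (Red.geomPt s)).map z) := inferInstance
    haveI : Mono (a ≫ (Over.pullback (Red.geomPt s)).map z) := mono_comp _ _
    exact h.2.2.2 s T₃ (a ≫ (Over.pullback (Red.geomPt s)).map z) f h₃ (by rw [reassoc_of% hf, ← Functor.map_comp, ht])
  obtain ⟨φ, hφ⟩ := exists_iso_of_central_maximal (fac t₁ ht₁ h₁) (fun X g s => by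
    rw [← cancel_mono z, MonObj.mul_comp, MonObj.mul_comp, Category.assoc, ht₁]
    have := (hc.2.2 X (g ≫ z)).1 ⟨g, rfl⟩ X (𝟙 X) s
    rwa [Category.id_comp] at this) (fac t₂ ht₂ h₂)
  exact ⟨φ.symm, by rw [← ht₁, ← ht₂, ← hφ, Iso.symm_hom, Category.assoc, φ.inv_hom_id_assoc]⟩

/-- fibres of tori are irreducible -/
theorem irrFib_of_isTorus {T₀ : Over S} [GrpObj T₀] [Smooth T₀.hom] (hT : Red.IsTorus T₀) :
    Groth.L02.SchDom.IrrFib T₀.hom :=
  Groth.L02.SchDom.irrFib_of_group T₀ fun s =>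
    (Groth.L25.Locus.smooth_connected_torus (k := S.residueField s)
      (Groth.L25.Locus.isTorus_bc hT (S.fromSpecResidueField s))).2

/-- over a base with a maximal torus, a Cartan subgroup contains a maximal torus etale locally -/
theorem exists_torus_in_cartan [Smooth G.hom] [IsSeparated G.hom] [QuasiCompact G.hom] {c : C ⟶ G}
    (hc : SGA3x.IsCartan c) {i₀ : T ⟶ G} (hT : Red.IsMaximalTorus i₀) :
    ∃ (S' : Scheme.{u}) (F : S' ⟶ S), Etale F ∧ Surjective F ∧
      ∃ (B : Over S') (_ : GrpObj B) (iB : B ⟶ Red.bc F G) (t : B ⟶ Red.bc F C),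
        Red.IsMaximalTorus iB ∧ t ≫ (Over.pullback F).map c = iB := by
  haveI := hT.1; haveI := hT.2.1; haveI := hc.1; haveI := hc.2.1; haveI := hc.2.2.1
  haveI : LocallyOfFiniteType G.hom := inferInstance
  haveI : Smooth T.hom := smooth_of_isTorus hT.2.2.1
  haveI : Mono c.left := inferInstanceAs (Mono ((Over.forget S).map c))
  haveI : LocallyOfFinitePresentation c.left := by
    haveI : LocallyOfFinitePresentation (c.left ≫ G.hom) := by rw [Over.w c]; infer_instance
    exact Groth.L20.locallyOfFinitePresentation_of_comp c.left G.hom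
  obtain ⟨W, w, hwc, hwl, hW⟩ := Groth.L02.SchDom.exists_conjTransporter (irrFib_of_isTorus hT.2.2.1) i₀ c
  haveI := hwc; haveI := hwl
  haveI : Mono w := Over.mono_of_mono_left w
  haveI := Groth.L25.Locus.smooth_sends_smooth
    (Groth.L25.Locus.locally_of_multTypeFT (Groth.L25.Locus.isMultTypeFT_of_isTorus hT.2.2.1)) i₀ c w hW
  have hpt : ∀ s : S, Nonempty (Over.mk (Red.geomPt s) ⟶ W) := by
    intro s
    obtain ⟨-, -, T', gT', i', hi', hcen⟩ := hc.2.2.2 s
    haveI : IsMonHom ((Over.pullback (Red.geomPt s)).map i₀) := Groth.L25.MonoClosed.isMonHom_pullbackMap _ _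
    haveI : Mono ((Over.pullback (Red.geomPt s)).map i₀) := Functor.map_mono _ _
    haveI : Smooth (Red.geomFibre s G).hom := inferInstanceAs (Smooth (pullback.snd G.hom (Red.geomPt s)))
    haveI : QuasiCompact (Red.geomFibre s G).hom := inferInstanceAs (QuasiCompact (pullback.snd G.hom (Red.geomPt s)))
    have h' := isMaxTorus_of_isMaximalTorus hi'
    obtain ⟨-, -, -, -, hcomm⟩ := torus_props h'.2.2.1
    haveI := h'.1
    obtain ⟨t', ht'⟩ := (hcen.2.2 T' i').2 fun X x h => by rw [← MonObj.mul_comp, ← MonObj.mul_comp, hcomm X x h]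
    obtain ⟨g, f, hf⟩ := exists_maxTorus_conj_any
      (⟨inferInstance, inferInstance, Groth.L25.Locus.isTorus_bc hT.2.2.1 _,
        fun T₁ _ a _ _ f₁ h₁ hf₁ => hT.2.2.2 s T₁ a f₁ h₁ hf₁⟩ :
        AGF.IsMaxTorus ((Over.pullback (Red.geomPt s)).map i₀)) h'
    let j := Red.geomPt s
    let e : Over.mk j ⟶ Over.mk ((𝟙_ (Over _)).hom ≫ j) := Over.homMk (𝟙 _) (by
      show 𝟙 _ ≫ 𝟙 _ ≫ j = j
      rw [Category.id_comp, Category.id_comp])
    let x : Over.mk j ⟶ G := e ≫ toBase j g
    have hx : ∀ (Y : Over (Spec (CommRingCat.of (AlgebraicClosure (S.residueField s))))),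
        toBase j (toUnit Y ≫ g) = (Over.homMk Y.hom rfl : Over.mk (Y.hom ≫ j) ⟶ Over.mk j) ≫ x := fun Y => by
      apply Over.OverMorphism.ext
      show ((toUnit Y).left ≫ g.left) ≫ _ = Y.hom ≫ 𝟙 _ ≫ g.left ≫ _
      rw [show (toUnit Y).left = Y.hom from (Category.comp_id _).symm.trans (Over.w (toUnit Y)), Category.id_comp,
        Category.assoc]
    have hs := exists_sends_of_fibre j (i₁ := i₀) (i₂ := c) g (f.hom ≫ t') (by
      rw [Category.assoc, ht', hf]) x hx
    obtain ⟨wp, -⟩ := (hW _ x).2 hs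
    exact ⟨wp⟩
  obtain ⟨S', F, hF, hFs, ⟨p⟩⟩ := exists_etale_cover_point W hpt
  obtain ⟨φ, hφ⟩ := Groth.L25.Locus.exists_half F i₀ c (x := p ≫ w) ((hW _ _).1 ⟨p, rfl⟩)
  haveI : Smooth (Red.bc F G).hom := inferInstanceAs (Smooth (pullback.snd G.hom F))
  haveI : QuasiCompact (Red.bc F G).hom := inferInstanceAs (QuasiCompact (pullback.snd G.hom F))
  exact ⟨S', F, hF, hFs, Red.bc F T, inferInstance, _, φ,
    isMaximalTorus_conj (isMaximalTorus_bc hT F) (Groth.L25.Locus.sectionOf F (p ≫ w)), hφ⟩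

/-- **every Cartan subgroup is the centralizer of a maximal torus** -/
theorem exists_maximalTorus_of_cartan {G C : Over S} [GrpObj G] [GrpObj C] [Smooth G.hom] [IsSeparated G.hom]
    [QuasiCompact G.hom] (hG : SGA3x.HasMaxTorusFpqcLocally G) {c : C ⟶ G} (hc : SGA3x.IsCartan c) :
    ∃ (T : Over S) (_ : GrpObj T) (i : T ⟶ G), Red.IsMaximalTorus i ∧ Red.IsCentralizerOf i c := by
  haveI := hc.1; haveI := hc.2.1
  obtain ⟨S₁, π₁, hπf, hπs, hπc, T₀, gT₀, i₀, hT₀⟩ := hG
  haveI := hπf; haveI := hπs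
  haveI : Smooth (Red.bc π₁ G).hom := inferInstanceAs (Smooth (pullback.snd G.hom π₁))
  haveI : QuasiCompact (Red.bc π₁ G).hom := inferInstanceAs (QuasiCompact (pullback.snd G.hom π₁))
  haveI : IsSeparated (Red.bc π₁ G).hom := inferInstanceAs (IsSeparated (pullback.snd G.hom π₁))
  obtain ⟨S₃, p, hpe, hps, B, gB, iB₁, t₁, hiB₁, ht₁⟩ := exists_torus_in_cartan (isCartan_bc hc π₁) hT₀
  haveI := hpe; haveI := hps; haveI := hiB₁.1; haveI := hiB₁.2.1
  let π := p ≫ π₁
  let iB : B ⟶ Red.bc π G := iB₁ ≫ (ActBC.bcCompIso p π₁ G rfl).hom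
  let tB : B ⟶ Red.bc π C := t₁ ≫ (ActBC.bcCompIso p π₁ C rfl).hom
  have htB : tB ≫ (Over.pullback π).map c = iB := by
    simp only [iB, tB, π, Category.assoc]
    rw [← ActBC.bcCompIso_hom_naturality p π₁ rfl c, reassoc_of% ht₁]
  have hiB : Red.IsMaximalTorus iB := by
    refine ⟨inferInstanceAs (IsMonHom (_ ≫ _)), mono_comp _ _, hiB₁.2.2.1, fun s T₁ _ a _ _ f₁ h₁ hf => ?_⟩
    haveI : IsMonHom ((Over.pullback (Red.geomPt s)).map (ActBC.bcCompIso p π₁ G rfl).inv) :=
      Groth.L25.MonoClosed.isMonHom_pullbackMap _ _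
    haveI : Mono ((Over.pullback (Red.geomPt s)).map (ActBC.bcCompIso p π₁ G rfl).inv) := Functor.map_mono _ _
    refine hiB₁.2.2.2 s T₁ (a ≫ (Over.pullback (Red.geomPt s)).map (ActBC.bcCompIso p π₁ G rfl).inv) f₁ h₁ ?_
    rw [reassoc_of% hf, ← Functor.map_comp]
    simp only [iB, Category.assoc, Iso.hom_inv_id, Category.comp_id]
  haveI : Flat π := inferInstanceAs (Flat (p ≫ π₁))
  haveI : Surjective π := inferInstanceAs (Surjective (p ≫ π₁))
  have hπ := cover_comp p π₁ (fun V hV => cover_of_lfp p V hV) hπc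
  obtain ⟨T, gT, i, hT, ψ, hψ⟩ := exists_maximalTorus_desc hπ hiB fun P p₁ p₂ h => by
    haveI : Smooth (Red.bc π G).hom := inferInstanceAs (Smooth (pullback.snd G.hom π))
    haveI : QuasiCompact (Red.bc π G).hom := inferInstanceAs (QuasiCompact (pullback.snd G.hom π))
    haveI : Smooth (Red.bc (p₁ ≫ π) G).hom := inferInstanceAs (Smooth (pullback.snd G.hom (p₁ ≫ π)))
    haveI : QuasiCompact (Red.bc (p₁ ≫ π) G).hom := inferInstanceAs (QuasiCompact (pullback.snd G.hom (p₁ ≫ π)))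
    haveI : IsSeparated (Red.bc (p₁ ≫ π) G).hom := inferInstanceAs (IsSeparated (pullback.snd G.hom (p₁ ≫ π)))
    have hp : ∀ (q : P ⟶ S₃) (e : q ≫ π = p₁ ≫ π), Red.IsMaximalTorus (Groth.L25.Descent.pullInc iB q e) ∧
        ∃ t : Red.bc q B ⟶ Red.bc (p₁ ≫ π) C,
          t ≫ (Over.pullback (p₁ ≫ π)).map c = Groth.L25.Descent.pullInc iB q e := fun q e => by
      have hm := isMaximalTorus_bc hiB q
      haveI := hm.1; haveI := hm.2.1
      refine ⟨⟨inferInstanceAs (IsMonHom (_ ≫ _)), mono_comp _ _, hm.2.2.1, fun s T₁ _ a _ _ f h₁ hf => ?_⟩,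
        (Over.pullback q).map tB ≫ (ActBC.bcCompIso q π C e).hom, ?_⟩
      · haveI : IsMonHom ((Over.pullback (Red.geomPt s)).map (ActBC.bcCompIso q π G e).inv) :=
          Groth.L25.MonoClosed.isMonHom_pullbackMap _ _
        haveI : Mono ((Over.pullback (Red.geomPt s)).map (ActBC.bcCompIso q π G e).inv) := Functor.map_mono _ _
        refine hm.2.2.2 s T₁ (a ≫ (Over.pullback (Red.geomPt s)).map (ActBC.bcCompIso q π G e).inv) f h₁ ?_
        rw [reassoc_of% hf, ← Functor.map_comp]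
        simp only [Groth.L25.Descent.pullInc, Category.assoc, Iso.hom_inv_id, Category.comp_id]
      · simp only [Groth.L25.Descent.pullInc, Category.assoc]
        rw [← ActBC.bcCompIso_hom_naturality q π e c, ← Functor.map_comp_assoc, htB]
    obtain ⟨m₁, u₁, hu₁⟩ := hp p₁ rfl
    obtain ⟨m₂, u₂, hu₂⟩ := hp p₂ h.symm
    have hcen := isCentralizerOf_cartan (isCartan_bc hc (p₁ ≫ π)) m₁ u₁ hu₁
    refine exists_iso_of_commute m₁ m₂ fun X a b => ?_
    have := (hcen.2.2 X (a ≫ Groth.L25.Descent.pullInc iB p₂ h.symm)).1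
      ⟨a ≫ u₂, by rw [Category.assoc, hu₂]⟩ X (𝟙 X) b
    rwa [Category.id_comp] at this
  obtain ⟨t, ht⟩ := exists_fac_desc hπ c i (ψ.hom ≫ tB) (by rw [Category.assoc, htB, hψ])
  exact ⟨T, gT, i, hT, isCentralizerOf_cartan hc hT t ht⟩

end Groth.L08.Borel
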