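import Groth.Agent.L08.Borel.Geom
import Groth.Agent.S3904
import Groth.Agent.S7993

/-!
# Borel and parabolic subgroups over an arbitrary field
-/

set_option autoImplicit false
set_option backward.isDefEq.respectTransparency.types false
set_option linter.style.haveILetI false

universe u

open CategoryTheory CategoryTheory.Limits MonoidalCategory CartesianMonoidalCategory MonObj AlgebraicGeometry

noncomputable section

namespace Groth.L08.Borel

variable {k : Type u} [Field k]

/-- the point of the spectrum of a field -/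
abbrev pt0 (k : Type u) [Field k] : ↥(Spec (CommRingCat.of k)) := IsLocalRing.closedPoint k

theorem eq_pt0 (s : ↥(Spec (CommRingCat.of k))) : s = pt0 k := Subsingleton.elim (α := PrimeSpectrum k) _ _

/-- the algebraic closure over a point -/
abbrev geomField (s : ↥(Spec (CommRingCat.of k))) : Type u := AlgebraicClosure ((Spec (CommRingCat.of k)).residueField s)

theorem isProper_iff_bc {G H X : Over (Spec (CommRingCat.of k))} [GrpObj G] [GrpObj H] [IsAffine G.left]
    [LocallyOfFiniteType G.hom] {i : H ⟶ G} [IsMonHom i] [IsClosedImmersion i.left] {a : AlgGrp.Action G X}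
    {o : 𝟙_ (Over (Spec (CommRingCat.of k))) ⟶ X} (hX : AGF.IsQuotient i X a o)
    {Ω : Type u} [Field Ω] (θ : Spec (CommRingCat.of Ω) ⟶ Spec (CommRingCat.of k)) :
    IsProper X.hom ↔ IsProper (Red.bc θ X).hom := by
  constructor
  · intro h
    exact MorphismProperty.pullback_snd (P := @IsProper) _ _ h
  · intro h
    obtain ⟨hsep, -⟩ := isSeparated_quotient hX
    haveI := hX.1
    have hd : (@Surjective ⊓ @Flat ⊓ @QuasiCompact : MorphismProperty Scheme.{u}) θ :=
      ⟨⟨(bc_props_field θ).1, (bc_props_field θ).2.1⟩, (bc_props_field θ).2.2⟩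
    haveI : UniversallyClosed (pullback.snd X.hom θ) := h.toUniversallyClosed
    haveI : UniversallyClosed X.hom :=
      MorphismProperty.of_isPullback_of_descendsAlong (P := @UniversallyClosed)
        (IsPullback.of_hasPullback X.hom θ).flip hd ‹UniversallyClosed (pullback.snd X.hom θ)›
    exact { toIsSeparated := hsep }

/-- properness of quotients and parabolic subgroups over any field -/
theorem isProper_quotient_iff {G P X : Over (Spec (CommRingCat.of k))} [GrpObj G] [GrpObj P] [IsAffine G.left]
    [Smooth G.hom] [ConnectedSpace G.left] {iP : P ⟶ G} [IsMonHom iP] [IsClosedImmersion iP.left] [Smooth P.hom]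
    {a : AlgGrp.Action G X} {o : 𝟙_ (Over (Spec (CommRingCat.of k))) ⟶ X} (hX : AGF.IsQuotient iP X a o) :
    IsProper X.hom ↔ Red.IsParabolic iP := by
  haveI : LocallyOfFiniteType G.hom := inferInstance
  haveI : Mono iP := Over.mono_of_mono_left iP
  have key : ∀ s : ↥(Spec (CommRingCat.of k)), IsProper X.hom ↔
      Red.IsParabolicOver (geomField s) ((Over.pullback (Red.geomPt s)).map iP) := by
    intro s
    haveI := isAffine_bc (Red.geomPt s) G
    haveI := smooth_bc (Red.geomPt s) G
    haveI := connectedSpace_bc' (Red.geomPt s) G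
    haveI := smooth_bc (Red.geomPt s) P
    haveI : IsMonHom ((Over.pullback (Red.geomPt s)).map iP) := Groth.L25.MonoClosed.isMonHom_pullbackMap _ _
    exact (isProper_iff_bc hX (Red.geomPt s)).trans (Groth.Agent.S3904.result (geomField s)
      (Red.bc (Red.geomPt s) G) (Red.bc (Red.geomPt s) P) ((Over.pullback (Red.geomPt s)).map iP)
      (isClosedImmersion_map _ iP) (Red.bc (Red.geomPt s) X) (bcAct (Red.geomPt s) a) (bcPt (Red.geomPt s) o)
      (isQuotient_bc (Red.geomPt s) hX))
  exact ⟨fun h => ⟨inferInstance, inferInstance, inferInstance, fun s => (key s).1 h⟩,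
    fun h => (key (pt0 k)).2 (h.2.2.2 _)⟩

theorem isParabolic_of_isBorel {G B : Over (Spec (CommRingCat.of k))} [GrpObj G] [GrpObj B] {iB : B ⟶ G}
    (hB : Red.IsBorel iB) : Red.IsParabolic iB := by
  refine ⟨hB.1, hB.2.1, hB.2.2.1, fun s => ?_⟩
  have h := hB.2.2.2 s
  exact ⟨h.1, h.2.1, h.2.2.1, _, inferInstance, 𝟙 _, by rw [Category.id_comp]; exact h⟩

theorem connectedSpace_of_isBorel {G B : Over (Spec (CommRingCat.of k))} [GrpObj G] [GrpObj B] {iB : B ⟶ G}
    (hB : Red.IsBorel iB) : ConnectedSpace B.left := by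
  haveI : ConnectedSpace ↥(pullback B.hom (Red.geomPt (pt0 k))) := (hB.2.2.2 (pt0 k)).2.2.2.1
  haveI := surjective_fst_bc (Red.geomPt (pt0 k)) B
  exact (pullback.fst B.hom (Red.geomPt (pt0 k))).surjective.connectedSpace
    (pullback.fst B.hom (Red.geomPt (pt0 k))).continuous

/-- the quotient by a Borel subgroup is proper with only constant functions -/
theorem quotient_borel_props {G B X : Over (Spec (CommRingCat.of k))} [GrpObj G] [GrpObj B] [IsAffine G.left]
    [Smooth G.hom] [ConnectedSpace G.left] {iB : B ⟶ G} (hB : Red.IsBorel iB)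
    {a : AlgGrp.Action G X} {o : 𝟙_ (Over (Spec (CommRingCat.of k))) ⟶ X} (hX : AGF.IsQuotient iB X a o) :
    IsProper X.hom ∧ Function.Bijective X.hom.appTop.hom := by
  haveI := hB.1; haveI := hB.2.1; haveI := hB.2.2.1
  haveI : LocallyOfFiniteType G.hom := inferInstance
  haveI : QuasiCompact G.hom := quasiCompact_of_compactSpace _
  haveI : Mono iB := Over.mono_of_mono_left iB
  haveI : IsProper X.hom := (isProper_quotient_iff hX).2 (isParabolic_of_isBorel hB)
  haveI : Smooth X.hom := Groth.Agent.S7993.result k G B X iB a o hX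
  haveI : IsReduced X.left := Groth.Agent.AV.isReduced_of_smooth_field X.hom
  haveI := hX.2.2.1
  haveI : ConnectedSpace X.left := (a.orbitMap o).left.surjective.connectedSpace (a.orbitMap o).left.continuous
  exact ⟨inferInstance, Groth.L08.FibreTranslate.bijective_appTop X o⟩

/-- an element centralizing a Borel subgroup is central -/
theorem commutes_of_commutes_borel {G B T : Over (Spec (CommRingCat.of k))} [GrpObj G] [GrpObj B] [IsAffine G.left]
    [Smooth G.hom] [ConnectedSpace G.left] {iB : B ⟶ G} (hB : Red.IsBorel iB) (g : T ⟶ G)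
    (hg : ∀ (T' : Over (Spec (CommRingCat.of k))) (t : T' ⟶ T) (b : T' ⟶ B),
      (t ≫ g) * (b ≫ iB) = (b ≫ iB) * (t ≫ g)) :
    ∀ (T' : Over (Spec (CommRingCat.of k))) (t : T' ⟶ T) (h : T' ⟶ G), (t ≫ g) * h = h * (t ≫ g) := by
  haveI := hB.1; haveI := hB.2.1
  haveI : LocallyOfFiniteType G.hom := inferInstance
  haveI : QuasiCompact G.hom := quasiCompact_of_compactSpace _
  obtain ⟨X, a, o, hX⟩ := exists_isQuotient iB
  obtain ⟨hp, hbij⟩ := quotient_borel_props hB hX
  haveI := hp
  haveI : CompactSpace X.left := QuasiCompact.compactSpace_of_compactSpace X.hom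
  -- `y ↦ y g y⁻¹` is right invariant under `B`
  let f : T ⊗ G ⟶ G := snd T G * (fst T G ≫ g) * (snd T G)⁻¹
  have hf : ∀ (W : Over (Spec (CommRingCat.of k))) (t : W ⟶ T) (x : W ⟶ G),
      lift t x ≫ f = x * (t ≫ g) * x⁻¹ := fun W t x => by
    simp only [f, MonObj.comp_mul, GrpObj.comp_inv, lift_snd, lift_fst_assoc]
  have h := orbit_invariant_const hX hbij f fun W t x y ⟨z, hz⟩ => by
    rw [hf, hf, show y = x * (z ≫ iB) by rw [hz, mul_inv_cancel_left]]
    rw [_root_.mul_assoc x (z ≫ iB) (t ≫ g), ← hg W t z]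
    group
  intro T' t y
  have h1 := hf T' t y
  rw [h, ← Category.assoc, lift_fst, ← Category.assoc, comp_lift, Category.comp_id, MonObj.comp_one, hf] at h1
  rw [_root_.one_mul, _root_.inv_one, _root_.mul_one] at h1
  calc (t ≫ g) * y = (y * (t ≫ g) * y⁻¹) * y := by rw [← h1]
    _ = y * (t ≫ g) := by group

/-- the image of a Borel subgroup is smooth -/
theorem smooth_of_surjective {B B' : Over (Spec (CommRingCat.of k))} [GrpObj B] [GrpObj B'] [Smooth B.hom]
    [QuasiCompact B.hom] [LocallyOfFiniteType B'.hom] [IsReduced B'.left] (p : B ⟶ B') [IsMonHom p] [Surjective p.left] :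
    Smooth B'.hom := by
  obtain ⟨C, gC, p', i, hp', hi, hpi, hf, hs, hlfp, hc⟩ := Groth.L08.AbelianGrp.exists_image p
  haveI := hf; haveI := hs; haveI := hlfp; haveI := hc
  haveI hBC : Smooth (p'.left ≫ C.hom) := by rw [Over.w p']; infer_instance
  haveI hCs : Smooth C.hom := Groth.L23.FppfSmooth.smooth_of_fppf_comp p'.left C.hom hBC
  haveI : Surjective (p'.left ≫ i.left) := by rw [← Over.comp_left, hpi]; infer_instance
  haveI : Surjective i.left := Surjective.of_comp p'.left i.left
  haveI : IsIso i.left := Groth.L00.ReducedSub.isIso_of_isImmersion_surjective i.left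
  rw [show B'.hom = inv i.left ≫ C.hom by rw [IsIso.eq_inv_comp]; exact Over.w i]
  infer_instance

theorem isMonHom_of_comp_mono {B B' G : Over (Spec (CommRingCat.of k))} [GrpObj B] [GrpObj B'] [GrpObj G]
    (p : B ⟶ B') (i : B' ⟶ G) [IsMonHom i] [Mono i] (f : B ⟶ G) [IsMonHom f] (hp : p ≫ i = f) : IsMonHom p :=
  { one_hom := by rw [← cancel_mono i, Category.assoc, hp, IsMonHom.one_hom, IsMonHom.one_hom]
    mul_hom := by
      rw [← cancel_mono i, Category.assoc, hp, IsMonHom.mul_hom, Category.assoc, IsMonHom.mul_hom (f := i),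
        ← hp, tensorHom_comp_tensorHom_assoc] }

/-- the image of a Borel subgroup is a Borel subgroup, over any field -/
theorem isBorel_image {G Q B B' : Over (Spec (CommRingCat.of k))} [GrpObj G] [GrpObj Q] [GrpObj B] [GrpObj B']
    [IsAffine G.left] [Smooth G.hom] [ConnectedSpace G.left] [IsAffine Q.left] [Smooth Q.hom] [ConnectedSpace Q.left]
    (q : G ⟶ Q) [IsMonHom q] [Surjective q.left] {iB : B ⟶ G} (hB : Red.IsBorel iB)
    (iB' : B' ⟶ Q) [IsMonHom iB'] [IsClosedImmersion iB'.left] [IsReduced B'.left]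
    (p : B ⟶ B') [Surjective p.left] (hp : p ≫ iB' = iB ≫ q) : Red.IsBorel iB' := by
  haveI := hB.1; haveI := hB.2.1; haveI := hB.2.2.1
  haveI : Mono iB' := Over.mono_of_mono_left iB'
  haveI : IsMonHom p := isMonHom_of_comp_mono p iB' (iB ≫ q) hp
  haveI : IsAffine B.left := isAffine_of_isAffineHom iB.left
  haveI : QuasiCompact B.hom := quasiCompact_of_compactSpace _
  haveI : LocallyOfFiniteType B'.hom := by rw [← Over.w iB']; infer_instance
  haveI : Smooth B'.hom := smooth_of_surjective p
  refine ⟨inferInstance, inferInstance, inferInstance, fun s => ?_⟩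
  let F := Over.pullback (Red.geomPt s)
  haveI := isAffine_bc (Red.geomPt s) G
  haveI := smooth_bc (Red.geomPt s) G
  haveI := connectedSpace_bc' (Red.geomPt s) G
  haveI := isAffine_bc (Red.geomPt s) Q
  haveI := smooth_bc (Red.geomPt s) Q
  haveI := connectedSpace_bc' (Red.geomPt s) Q
  haveI := smooth_bc (Red.geomPt s) B'
  haveI : IsMonHom (F.map q) := Groth.L25.MonoClosed.isMonHom_pullbackMap _ _
  haveI : IsMonHom (F.map iB') := Groth.L25.MonoClosed.isMonHom_pullbackMap _ _
  haveI := surjective_map (Red.geomPt s) q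
  haveI := surjective_map (Red.geomPt s) p
  haveI := isClosedImmersion_map (Red.geomPt s) iB'
  obtain ⟨C, gC, p', i, -, hpi, hps, hC⟩ := exists_image_borel (F.map q) (hB.2.2.2 s)
  haveI := hC.2.1; haveI := hC.2.2.1; haveI := hps
  haveI : IsReduced C.left := Groth.Agent.AV.isReduced_of_smooth_field C.hom
  haveI : IsReduced (Red.bc (Red.geomPt s) B').left := Groth.Agent.AV.isReduced_of_smooth_field (Red.bc (Red.geomPt s) B').hom
  have e : (F.map p).left ≫ (F.map iB').left = p'.left ≫ i.left := by
    rw [← Over.comp_left, ← Over.comp_left, hpi, ← Functor.map_comp, hp, Functor.map_comp]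
  obtain ⟨e₀, he₀⟩ := Groth.L00.ReducedSub.exists_iso i.left (F.map iB').left (by
    rw [← (F.map p).left.surjective.range_comp (F.map iB').left, ← p'.left.surjective.range_comp i.left,
      ← TopCat.coe_comp, ← TopCat.coe_comp, ← Scheme.Hom.comp_base, ← Scheme.Hom.comp_base, e])
  let e' : F.obj B' ≅ C := Over.isoMk e₀ (by
    rw [← Over.w i, reassoc_of% he₀]
    exact Over.w (F.map iB'))
  exact isBorelOver_of_iso hC (F.map iB') e' (Over.OverMorphism.ext he₀)

end Groth.L08.Borel
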