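import Groth.Agent.L08.Borel.General
import Groth.Agent.L08.Borel.OverField
import Groth.Prelude.Def_Red2

/-!
# Centralizers of maximal tori lie in the Borel subgroups containing the torus
-/

set_option autoImplicit false
set_option backward.isDefEq.respectTransparency.types false
set_option linter.style.haveILetI false
set_option linter.unusedSectionVars false

universe u

open CategoryTheory CategoryTheory.Limits MonoidalCategory CartesianMonoidalCategory MonObj GrpObj AlgebraicGeometry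
open Groth.L25.NilAction

noncomputable section

namespace Groth.L08.Borel

variable {k : Type u} [Field k]

/-- centralizers commute with base change -/
theorem isCentralizerOf_bc {S P : Scheme.{u}} (j : P ⟶ S) {G T C : Over S} [GrpObj G] [GrpObj T] [GrpObj C]
    {iT : T ⟶ G} {c : C ⟶ G} (hc : Red.IsCentralizerOf iT c) :
    Red.IsCentralizerOf ((Over.pullback j).map iT) ((Over.pullback j).map c) := by
  haveI := hc.1; haveI := hc.2.1
  refine ⟨Groth.L25.MonoClosed.isMonHom_pullbackMap _ _, inferInstance, fun Y g => ⟨?_, fun hg => ?_⟩⟩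
  · rintro ⟨z, rfl⟩ X' x h
    refine toBase_injective j _ _ ?_
    rw [toBase_mul, toBase_mul, toBase_comp j x, toBase_map', toBase_map']
    exact (hc.2.2 _ (toBase j z ≫ c)).1 ⟨toBase j z, rfl⟩ _ ((Over.map j).map x) (toBase j h)
  · obtain ⟨z, hz⟩ := (hc.2.2 _ (toBase j g)).2 fun X' x h => by
      have hxw : x.left ≫ Y.hom ≫ j = X'.hom := Over.w x
      let Z : Over P := Over.mk (x.left ≫ Y.hom)
      let e : X' ⟶ Over.mk (Z.hom ≫ j) := Over.homMk (𝟙 X'.left) (by
        show 𝟙 _ ≫ (x.left ≫ Y.hom) ≫ j = X'.hom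
        rw [Category.id_comp, Category.assoc, hxw])
      let e' : Over.mk (Z.hom ≫ j) ⟶ X' := Over.homMk (𝟙 X'.left) (by
        show 𝟙 _ ≫ X'.hom = (x.left ≫ Y.hom) ≫ j
        rw [Category.id_comp, Category.assoc, hxw])
      let y : Z ⟶ Y := Over.homMk x.left rfl
      have hee : e ≫ e' = 𝟙 X' := Over.OverMorphism.ext (Category.id_comp _)
      have hx : (Over.map j).map y = e' ≫ x := Over.OverMorphism.ext (Category.id_comp _).symm
      have hh := congrArg (fun m => e ≫ toBase j m) (hg Z y (ofBase j (e' ≫ h)))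
      rw [toBase_mul, toBase_mul, toBase_comp j y, toBase_map', toBase_ofBase, hx, MonObj.comp_mul,
        MonObj.comp_mul] at hh
      simp only [Category.assoc, reassoc_of% hee] at hh
      exact hh
    exact ⟨ofBase j z, by rw [ofBase_comp, hz, ofBase_toBase]⟩

theorem isMaxTorus_geomFibre {G T : Over (Spec (CommRingCat.of k))} [GrpObj G] [GrpObj T] {iT : T ⟶ G}
    (hT : Red.IsMaximalTorus iT) (s : ↥(Spec (CommRingCat.of k))) :
    AGF.IsMaxTorus ((Over.pullback (Red.geomPt s)).map iT) := by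
  haveI := hT.1; haveI := hT.2.1
  exact ⟨Groth.L25.MonoClosed.isMonHom_pullbackMap _ _, inferInstance,
    Groth.L25.Locus.isTorus_bc hT.2.2.1 (Red.geomPt s), fun T' _ j _ _ f hT' hf => hT.2.2.2 s T' j f hT' hf⟩

variable [IsAlgClosed k]

local notation "U1" => 𝟙_ (Over (Spec (CommRingCat.of k)))

/-- the centralizer of a maximal torus lies in every Borel subgroup containing it -/
theorem centralizer_le_borel {G T C B : Over (Spec (CommRingCat.of k))} [GrpObj G] [GrpObj T] [GrpObj C] [GrpObj B]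
    [IsAffine G.left] [Smooth G.hom] [ConnectedSpace G.left] {iT : T ⟶ G} (hT : AGF.IsMaxTorus iT) {c : C ⟶ G}
    (hc : Red.IsCentralizerOf iT c) {iB : B ⟶ G} (hB : Red.IsBorelOver k iB) (t : T ⟶ B) (ht : t ≫ iB = iT) :
    ∃ f : C ⟶ B, f ≫ iB = c := by
  haveI := hT.1; haveI := hT.2.1; haveI := hc.1; haveI := hc.2.1
  haveI := hB.1; haveI := hB.2.1; haveI := hB.2.2.1; haveI := hB.2.2.2.1
  haveI : Mono iB := Groth.L08.mono_of_closedImmersion iB
  haveI : IsAffine B.left := isAffine_of_isAffineHom iB.left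
  obtain ⟨h1, h2, h3, h4, ⟨tC, htC⟩, -⟩ := centralizer_props hT.2.2.1 hc
  obtain ⟨g, φ, hφ⟩ := exists_borel_centralizer hT hc hB
  -- both tori lie in `B`
  have e1 : (tC ≫ φ) ≫ iB = AGF.conjBy g iT := by rw [Category.assoc, hφ, comp_conjBy, htC]
  obtain ⟨b, f, hf⟩ := exists_maxTorus_conj (G := B)
    (isMaxTorus_factor (iB := iB) (e1.symm ▸ isMaxTorus_conjBy hT g))
    (isMaxTorus_factor (iB := iB) (t := t) (ht.symm ▸ hT))
  let n : U1 ⟶ G := (b ≫ iB) * g
  have hn : f.hom ≫ iT = AGF.conjBy n iT := by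
    rw [← ht, reassoc_of% hf, conjBy_comp, e1, conjBy_conjBy, ht]
  -- `n` normalizes the torus, hence its centralizer
  obtain ⟨u, hu⟩ := (hc.2.2 C (AGF.conjBy n⁻¹ c)).2 fun X' x h => by
    have e : h ≫ iT = AGF.conjBy n⁻¹ ((h ≫ f.hom) ≫ iT) := by
      rw [Category.assoc, hn, comp_conjBy, conjBy_conjBy, inv_mul_cancel, conjBy_one]
    have hh := (hc.2.2 C c).1 ⟨𝟙 C, Category.id_comp c⟩ X' x (h ≫ f.hom)
    rw [comp_conjBy, e]
    simp only [AGF.conjBy]
    calc (toUnit X' ≫ n⁻¹) * (x ≫ c) * (toUnit X' ≫ n⁻¹)⁻¹ *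
          ((toUnit X' ≫ n⁻¹) * ((h ≫ f.hom) ≫ iT) * (toUnit X' ≫ n⁻¹)⁻¹)
        = (toUnit X' ≫ n⁻¹) * ((x ≫ c) * ((h ≫ f.hom) ≫ iT)) * (toUnit X' ≫ n⁻¹)⁻¹ := by group
      _ = (toUnit X' ≫ n⁻¹) * (((h ≫ f.hom) ≫ iT) * (x ≫ c)) * (toUnit X' ≫ n⁻¹)⁻¹ := by rw [hh]
      _ = _ := by group
  refine ⟨AGF.conjBy b (u ≫ φ), ?_⟩
  rw [conjBy_comp, Category.assoc, hφ, comp_conjBy, hu, conjBy_conjBy, conjBy_conjBy]
  simp [n, conjBy_one]

/-- a point centralizing a torus lies with it in a Borel subgroup -/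
theorem exists_borel_torus_point {G S : Over (Spec (CommRingCat.of k))} [GrpObj G] [GrpObj S] [IsAffine G.left]
    [Smooth G.hom] [ConnectedSpace G.left] (iS : S ⟶ G) [IsMonHom iS] [Mono iS] (hS : Red.IsTorus S) (c : U1 ⟶ G)
    (hcomm : ∀ (X : Over (Spec (CommRingCat.of k))) (s : X ⟶ S),
      (toUnit X ≫ c) * (s ≫ iS) = (s ≫ iS) * (toUnit X ≫ c)) :
    ∃ (B : Over (Spec (CommRingCat.of k))) (_ : GrpObj B) (iB : B ⟶ G) (_ : Red.IsBorelOver k iB) (t : S ⟶ B)
      (b : U1 ⟶ B), t ≫ iB = iS ∧ b ≫ iB = c := by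
  obtain ⟨Z, gZ, z, hz⟩ := exists_centralizer_torus iS hS
  haveI := hz.1; haveI := hz.2.1
  obtain ⟨h1, h2, h3, h4, ⟨t, ht⟩, hcen⟩ := centralizer_props hS hz
  haveI := h1; haveI := h2; haveI := h3; haveI := h4
  obtain ⟨cZ, hcZ⟩ := (hz.2.2 U1 c).2 fun X' x h => by
    rw [toUnit_unique x (toUnit X')]; exact hcomm X' h
  obtain ⟨B₀, g₀, i₀, h₀⟩ := exists_borel Z
  obtain ⟨x, y, hxy⟩ := exists_conj_mem_borel h₀ cZ
  have hB := isBorelOver_conjBy h₀ x
  haveI := hB.1; haveI := hB.2.1; haveI := hB.2.2.1; haveI := hB.2.2.2.1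
  haveI : LocallyOfFiniteType Z.hom := inferInstance
  haveI : IsMonHom t := isMonHom_of_comp_mono t z iS ht
  obtain ⟨hSa, hSs, hSc, hSsol, -⟩ := torus_props hS
  haveI := hSa; haveI := hSs; haveI := hSc
  obtain ⟨X, a, o, hX⟩ := exists_isQuotient (AGF.conjBy x i₀)
  haveI := isProper_quotient_of_borel hB hX
  obtain ⟨g, φ, hφ⟩ := exists_conj_factor t hSsol hX
  have hφ' : φ ≫ AGF.conjBy x i₀ = t := by
    rw [hφ, ← cancel_mono z, conjBy_comp, ht]
    simp only [AGF.conjBy]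
    have := hcen S (toUnit S ≫ g) (𝟙 S)
    rw [Category.id_comp, Category.assoc] at this
    rw [this, mul_inv_cancel_right]
  haveI : IsAffine B₀.left := isAffine_of_isAffineHom (AGF.conjBy x i₀).left
  haveI : IsClosedImmersion (AGF.conjBy x i₀ ≫ z).left :=
    inferInstanceAs (IsClosedImmersion ((AGF.conjBy x i₀).left ≫ z.left))
  haveI : QuasiCompact G.hom := quasiCompact_of_compactSpace _
  obtain ⟨B, gB, b, hb, f, hf⟩ := exists_borel_ge (AGF.conjBy x i₀ ≫ z) hB.2.2.2.2.1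
  refine ⟨B, gB, b, hb, φ ≫ f, y ≫ f, ?_, ?_⟩
  · rw [Category.assoc, hf, reassoc_of% hφ', ht]
  · rw [Category.assoc, hf, ← hcZ, ← hxy, ← Category.assoc, comp_conjBy]
    simp only [AGF.conjBy, toUnit_unique (toUnit U1) (𝟙 _), Category.id_comp]

end Groth.L08.Borel
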