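import Groth.Prelude.Def_AGF
import Groth.Prelude.Def_Red
import Groth.Prelude.Def_ActBC
import Groth.Agent.L25.MonoClosed.Main
import Groth.Agent.L25.Locus.CentConnAll
import Groth.Agent.L08.Borel.CentBorel

/-!
# Maximal tori over an algebraically closed field in the two senses
-/

set_option autoImplicit false
set_option backward.isDefEq.respectTransparency.types false
set_option linter.style.haveILetI false
set_option linter.unusedSectionVars false

universe u

open CategoryTheory CategoryTheory.Limits MonoidalCategory CartesianMonoidalCategory MonObj GrpObj AlgebraicGeometry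

noncomputable section

namespace Groth.L08.Borel

section Iso

variable {S P : Scheme.{u}} (θ : P ⟶ S) (ι' : S ⟶ P) (h : ι' ≫ θ = 𝟙 S)

/-- base change there and back -/
def backIso (X : Over S) : Red.bc ι' (Red.bc θ X) ≅ X :=
  ActBC.bcCompIso ι' θ X h ≪≫ (Over.pullbackId (X := S)).app X

theorem backIso_naturality {X Y : Over S} (f : X ⟶ Y) :
    (Over.pullback ι').map ((Over.pullback θ).map f) ≫ (backIso θ ι' h Y).hom = (backIso θ ι' h X).hom ≫ f := by
  simp only [backIso, Iso.trans_hom, Iso.app_hom, Category.assoc]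
  rw [← Category.assoc, ActBC.bcCompIso_hom_naturality ι' θ h f, Category.assoc]
  exact congrArg (_ ≫ ·) ((Over.pullbackId (X := S)).hom.naturality f)

theorem isMonHom_backIso (X : Over S) [GrpObj X] : IsMonHom (backIso θ ι' h X).hom := by
  let u : Red.bc (𝟙 S) X ⟶ X := ((Functor.mapGrpNatIso (Over.pullbackId (X := S))).app (Grp.mk X)).hom.hom.hom
  haveI hu : IsMonHom u :=
    ((Functor.mapGrpNatIso (Over.pullbackId (X := S))).app (Grp.mk X)).hom.hom.isMonHom_hom
  exact inferInstanceAs (IsMonHom ((ActBC.bcCompIso ι' θ X h).hom ≫ u))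

end Iso

variable {k : Type u} [Field k] [IsAlgClosed k]

/-- over an algebraically closed field the geometric point is an isomorphism -/
theorem exists_inverse_geomPt (s : ↥(Spec (CommRingCat.of k))) :
    ∃ ι' : Spec (CommRingCat.of k) ⟶ Spec (CommRingCat.of (AlgebraicClosure ((Spec (CommRingCat.of k)).residueField s))),
      ι' ≫ Red.geomPt s = 𝟙 _ ∧ Red.geomPt s ≫ ι' = 𝟙 _ := by
  obtain ⟨φ, hφ⟩ : ∃ φ : CommRingCat.of k ⟶
      CommRingCat.of (AlgebraicClosure ((Spec (CommRingCat.of k)).residueField s)), Spec.map φ = Red.geomPt s :=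
    ⟨Spec.preimage (Red.geomPt s), Spec.map_preimage _⟩
  let K := AlgebraicClosure ((Spec (CommRingCat.of k)).residueField s)
  obtain ⟨ψ, hψ⟩ : ∃ ψ : CommRingCat.of k ⟶ (Spec (CommRingCat.of k)).residueField s,
      Spec.map ψ = (Spec (CommRingCat.of k)).fromSpecResidueField s :=
    ⟨Spec.preimage _, Spec.map_preimage _⟩
  have hψf : ψ.hom.Finite := by
    haveI : IsPreimmersion (Spec.map ψ) := hψ.symm ▸ inferInstance
    haveI hc : IsClosedImmersion (Spec.map ψ) := .of_isPreimmersion _ (by
      haveI : Subsingleton ↥(Spec (CommRingCat.of k)) := inferInstanceAs (Subsingleton (PrimeSpectrum k))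
      exact isClosed_discrete _)
    exact (IsFinite.SpecMap_iff (f := ψ)).1 inferInstance
  have hφ' : φ = ψ ≫ CommRingCat.ofHom (algebraMap ((Spec (CommRingCat.of k)).residueField s) K) := Spec.map_injective (by
    rw [hφ, Spec.map_comp, hψ]; rfl)
  letI : Algebra k ((Spec (CommRingCat.of k)).residueField s) := ψ.hom.toAlgebra
  have hφK : φ.hom = algebraMap k K := by
    rw [hφ', IsScalarTower.algebraMap_eq k ((Spec (CommRingCat.of k)).residueField s) K]
    rfl
  haveI : Module.Finite k ((Spec (CommRingCat.of k)).residueField s) :=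
    hψf
  haveI : Algebra.IsAlgebraic k K :=
    Algebra.IsAlgebraic.trans k ((Spec (CommRingCat.of k)).residueField s) K
  have hb : Function.Bijective φ.hom := hφK ▸ IsAlgClosed.algebraMap_bijective_of_isIntegral (k := k) (K := K)
  haveI : IsIso φ := (ConcreteCategory.isIso_iff_bijective φ).2 hb
  exact ⟨Spec.map (inv φ), by rw [← hφ, ← Spec.map_comp, IsIso.hom_inv_id, Spec.map_id],
    by rw [← hφ, ← Spec.map_comp, IsIso.inv_hom_id, Spec.map_id]⟩

/-- over an algebraically closed field maximal tori are maximal subtori -/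
theorem isMaxTorus_of_isMaximalTorus {G T : Over (Spec (CommRingCat.of k))} [GrpObj G] [GrpObj T] {iT : T ⟶ G}
    (hT : Red.IsMaximalTorus iT) : AGF.IsMaxTorus iT := by
  haveI := hT.1
  refine ⟨hT.1, hT.2.1, hT.2.2.1, fun T' _ j _ _ f hT' hf => ?_⟩
  haveI : Mono iT := hT.2.1
  obtain ⟨s⟩ : Nonempty ↥(Spec (CommRingCat.of k)) := inferInstance
  obtain ⟨ι', h1, h2⟩ := exists_inverse_geomPt s
  haveI : IsMonHom ((Over.pullback (Red.geomPt s)).map j) := Groth.L25.MonoClosed.isMonHom_pullbackMap _ _
  haveI : Mono ((Over.pullback (Red.geomPt s)).map j) := Functor.map_mono _ _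
  haveI : IsIso ((Over.pullback (Red.geomPt s)).map f) := hT.2.2.2 s _ ((Over.pullback (Red.geomPt s)).map j) _
    (Groth.L25.Locus.isTorus_bc hT' (Red.geomPt s)) (by rw [← Functor.map_comp, hf])
  have e := backIso_naturality (Red.geomPt s) ι' h1 f
  rw [← Iso.inv_comp_eq] at e
  rw [← e]
  infer_instance

/-- over an algebraically closed field maximal subtori are maximal tori -/
theorem isMaximalTorus_of_isMaxTorus {G T : Over (Spec (CommRingCat.of k))} [GrpObj G] [GrpObj T] {iT : T ⟶ G}
    (hT : AGF.IsMaxTorus iT) : Red.IsMaximalTorus iT := by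
  haveI := hT.1
  refine ⟨hT.1, hT.2.1, hT.2.2.1, fun s T' _ j _ _ f hT' hf => ?_⟩
  obtain ⟨ι', h1, h2⟩ := exists_inverse_geomPt s
  haveI := isMonHom_backIso (Red.geomPt s) ι' h1 G
  haveI : IsMonHom ((Over.pullback ι').map j) := Groth.L25.MonoClosed.isMonHom_pullbackMap _ _
  haveI : Mono ((Over.pullback ι').map j) := Functor.map_mono _ _
  let j'' : Red.bc ι' T' ⟶ G := (Over.pullback ι').map j ≫ (backIso (Red.geomPt s) ι' h1 G).hom
  haveI : Mono j'' := mono_comp _ _
  haveI : IsMonHom j'' := inferInstanceAs (IsMonHom (_ ≫ _))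
  let f'' : T ⟶ Red.bc ι' T' := (backIso (Red.geomPt s) ι' h1 T).inv ≫ (Over.pullback ι').map f
  haveI hi : IsIso f'' := hT.2.2.2 _ j'' f'' (Groth.L25.Locus.isTorus_bc hT' ι') (by
    simp only [f'', j'', Category.assoc]
    rw [← Functor.map_comp_assoc, hf, backIso_naturality, Iso.inv_hom_id_assoc])
  have e : (Over.pullback ι').map f = (backIso (Red.geomPt s) ι' h1 T).hom ≫ f'' := by
    simp only [f'', Iso.hom_inv_id_assoc]
  haveI : IsIso ((Over.pullback ι').map f) := by rw [e]; infer_instance
  have e' := backIso_naturality ι' (Red.geomPt s) h2 f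
  rw [← Iso.inv_comp_eq] at e'
  rw [← e']
  infer_instance

theorem isMaximalTorus_iff_isMaxTorus {G T : Over (Spec (CommRingCat.of k))} [GrpObj G] [GrpObj T] {iT : T ⟶ G} :
    Red.IsMaximalTorus iT ↔ AGF.IsMaxTorus iT :=
  ⟨isMaxTorus_of_isMaximalTorus, isMaximalTorus_of_isMaxTorus⟩

end Groth.L08.Borel
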