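import Groth.Agent.L08.Borel.GenImage
import Groth.Agent.L08.Borel.IsoBase
import Groth.Agent.L25.NhdEq.Subgroup
import Groth.Agent.L25.MonoClosed.Main

/-!
# Central tori lie in every maximal torus
-/

set_option autoImplicit false
set_option backward.isDefEq.respectTransparency.types false
set_option linter.style.haveILetI false
set_option linter.unusedSectionVars false

universe u

open CategoryTheory CategoryTheory.Limits MonoidalCategory CartesianMonoidalCategory MonObj GrpObj AlgebraicGeometry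
open Topology TopologicalSpace

noncomputable section

namespace Groth.L08.Borel

/-- over an algebraically closed field a central torus lies in every maximal torus (no connectedness needed) -/
theorem central_torus_le_maxTorus {k : Type u} [Field k] [IsAlgClosed k] {C T T' : Over (Spec (CommRingCat.of k))}
    [GrpObj C] [GrpObj T] [GrpObj T'] [Smooth C.hom] [QuasiCompact C.hom] (iT : T ⟶ C) [IsMonHom iT] [Mono iT]
    (hT : Red.IsTorus T)
    (hc : ∀ (X : Over (Spec (CommRingCat.of k))) (g : X ⟶ C) (s : X ⟶ T), g * (s ≫ iT) = (s ≫ iT) * g)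
    {iT' : T' ⟶ C} (hT' : AGF.IsMaxTorus iT') : ∃ f : T ⟶ T', f ≫ iT' = iT := by
  haveI : LocallyOfFiniteType C.hom := inferInstance
  haveI := hT'.1; haveI := hT'.2.1
  obtain ⟨C₀, g₀, j, hj⟩ := Groth.L08.Chev.exists_idComp C
  haveI := hj.hom; haveI := hj.closedImm; haveI := hj.smooth; haveI := hj.connectedSpace; haveI := hj.quasiCompact
  haveI : Mono j := Groth.L08.mono_of_closedImmersion j
  obtain ⟨a1, a2, a3, -, -⟩ := torus_props hT
  obtain ⟨b1, b2, b3, -, -⟩ := torus_props hT'.2.2.1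
  haveI := a3; haveI := b3
  obtain ⟨t, ht⟩ := hj.exists_lift_hom iT
  obtain ⟨t', ht'⟩ := hj.exists_lift_hom iT'
  haveI : IsMonHom t := isMonHom_of_comp_mono t j iT ht
  haveI : Mono t := by haveI : Mono (t ≫ j) := ht.symm ▸ inferInstance; exact mono_of_mono t j
  obtain ⟨g, f, hf⟩ := maxTorus_absorbing_gen (isMaxTorus_factor (iB := j) (ht'.symm ▸ hT')) T t hT
  refine ⟨f, ?_⟩
  have := congrArg (· ≫ j) hf
  simp only [Category.assoc, ht', conjBy_comp, ht] at this
  rw [this]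
  simp only [AGF.conjBy]
  have hcc := hc T (toUnit T ≫ g ≫ j) (𝟙 T)
  rw [Category.id_comp] at hcc
  rw [hcc, mul_inv_cancel_right]

variable {S : Scheme.{u}}

/-- factorisations of points over a residue field from factorisations on the geometric fibre -/
theorem fac_of_geomFibre {H₁ H₂ G : Over S} (i₁ : H₁ ⟶ G) (i₂ : H₂ ⟶ G) [Mono i₂] (s : S)
    (ψ : Red.geomFibre s H₁ ⟶ Red.geomFibre s H₂)
    (hψ : ψ ≫ (Over.pullback (Red.geomPt s)).map i₂ = (Over.pullback (Red.geomPt s)).map i₁)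
    (X : Over S) (w : X.left ⟶ Spec (S.residueField s)) (hw : w ≫ S.fromSpecResidueField s = X.hom) (h : X ⟶ H₁) :
    ∃ h' : X ⟶ H₂, h' ≫ i₂ = h ≫ i₁ := by
  let θ : Spec (CommRingCat.of (AlgebraicClosure (S.residueField s))) ⟶ Spec (S.residueField s) :=
    Spec.map (CommRingCat.ofHom (algebraMap (S.residueField s) (AlgebraicClosure (S.residueField s))))
  haveI : Surjective θ := ⟨fun p => ⟨IsLocalRing.closedPoint _, Subsingleton.elim (α := PrimeSpectrum (S.residueField s)) _ _⟩⟩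
  haveI : Flat θ := Flat.SpecMap_iff.2 (RingHom.flat_algebraMap_iff.2 inferInstance)
  let P : Over S := Over.mk (pullback.fst w θ ≫ X.hom)
  let c : P ⟶ X := Over.homMk (pullback.fst w θ)
  haveI : Surjective c.left := inferInstanceAs (Surjective (pullback.fst w θ))
  haveI : Flat c.left := inferInstanceAs (Flat (pullback.fst w θ))
  haveI : QuasiCompact c.left := inferInstanceAs (QuasiCompact (pullback.fst w θ))
  obtain ⟨h'', hh''⟩ := Groth.L25.NhdEq.fac_of_map (Red.geomPt s) i₁ i₂ ψ hψ P (pullback.snd w θ) (by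
    show pullback.snd w θ ≫ θ ≫ S.fromSpecResidueField s = pullback.fst w θ ≫ X.hom
    rw [← pullback.condition_assoc, hw]) (c ≫ h)
  obtain ⟨h', hh'⟩ := exists_desc_fpqc c h'' fun a b e => by
    rw [← cancel_mono i₂, Category.assoc, Category.assoc, hh'', Category.assoc, reassoc_of% e]
  refine ⟨h', ?_⟩
  haveI : Epi c.left := Flat.epi_of_flat_of_surjective c.left
  haveI : Epi c := Over.epi_of_epi_left c
  rw [← cancel_epi c, reassoc_of% hh', hh'', Category.assoc]

/-- morphisms factoring locally through a monomorphism factor -/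
theorem exists_fac_of_local {X H G : Over S} (i : H ⟶ G) [Mono i] (g : X ⟶ G)
    (hloc : ∀ x : X.left, ∃ U : X.left.Opens, x ∈ U ∧
      ∃ h : Over.mk (U.ι ≫ X.hom) ⟶ H, h ≫ i = (Over.homMk U.ι : Over.mk (U.ι ≫ X.hom) ⟶ X) ≫ g) :
    ∃ h : X ⟶ H, h ≫ i = g := by
  choose U hU h hh using hloc
  let 𝒰 := X.left.openCoverOfIsOpenCover U (IsOpenCover.mk
    (top_le_iff.1 fun x _ => Opens.mem_iSup.2 ⟨x, hU x⟩))
  have hl : ∀ (x : X.left), (h x).left ≫ i.left = (U x).ι ≫ g.left := fun x => congrArg (fun m => m.left) (hh x)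
  let m : X.left ⟶ H.left := 𝒰.glueMorphisms (fun x => (h x).left) fun x y => by
    let Z : Over S := Over.mk (pullback.fst (𝒰.f x) (𝒰.f y) ≫ (U x).ι ≫ X.hom)
    let p : Z ⟶ Over.mk ((U x).ι ≫ X.hom) := Over.homMk (pullback.fst (𝒰.f x) (𝒰.f y)) rfl
    let q : Z ⟶ Over.mk ((U y).ι ≫ X.hom) := Over.homMk (pullback.snd (𝒰.f x) (𝒰.f y)) (by
      show pullback.snd (𝒰.f x) (𝒰.f y) ≫ 𝒰.f y ≫ X.hom = pullback.fst (𝒰.f x) (𝒰.f y) ≫ 𝒰.f x ≫ X.hom
      rw [← pullback.condition_assoc])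
    have e : p ≫ h x = q ≫ h y := by
      rw [← cancel_mono i, Category.assoc, Category.assoc, hh, hh]
      apply Over.OverMorphism.ext
      show pullback.fst (𝒰.f x) (𝒰.f y) ≫ 𝒰.f x ≫ g.left = pullback.snd (𝒰.f x) (𝒰.f y) ≫ 𝒰.f y ≫ g.left
      rw [← pullback.condition_assoc]
    exact congrArg (fun m => m.left) e
  refine ⟨Over.homMk m ?_, Over.OverMorphism.ext ?_⟩
  · refine 𝒰.hom_ext _ _ fun x => ?_
    rw [← Category.assoc, Scheme.Cover.ι_glueMorphisms]
    exact Over.w (h x)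
  · refine 𝒰.hom_ext _ _ fun x => ?_
    show 𝒰.f x ≫ m ≫ i.left = 𝒰.f x ≫ g.left
    rw [← Category.assoc, Scheme.Cover.ι_glueMorphisms]
    exact hl x

/-- subgroups of multiplicative type that agree on geometric fibres, the first being central there, are nested -/
theorem exists_fac_of_fibres {H₁ H₂ G : Over S} [GrpObj H₁] [GrpObj H₂] [GrpObj G] (h₁ : SGA3x.IsMultTypeFT H₁)
    (h₂ : SGA3x.IsMultTypeFT H₂) [LocallyOfFinitePresentation G.hom] (i₁ : H₁ ⟶ G) [IsMonHom i₁] (i₂ : H₂ ⟶ G)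
    [IsMonHom i₂] [Mono i₂] [IsImmersion i₂.left]
    (hfac : ∀ (s : S) (X : Over S) (w : X.left ⟶ Spec (S.residueField s)), w ≫ S.fromSpecResidueField s = X.hom →
      ∀ h : X ⟶ H₁, ∃ h' : X ⟶ H₂, h' ≫ i₂ = h ≫ i₁)
    (hcent : ∀ (s : S) (X : Over S) (w : X.left ⟶ Spec (S.residueField s)), w ≫ S.fromSpecResidueField s = X.hom →
      ∀ (g : X ⟶ G) (h : X ⟶ H₁), g * (h ≫ i₁) = (h ≫ i₁) * g) :
    ∃ f : H₁ ⟶ H₂, f ≫ i₂ = i₁ := by
  refine exists_fac_of_local i₂ i₁ fun x => ?_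
  obtain ⟨U, hsU, hU⟩ := Groth.L25.NhdEq.exists_nhd_fac h₁ h₂ i₁ i₂ (Or.inr inferInstance) (H₁.hom x)
    (hfac _) (hcent _)
  refine ⟨H₁.hom ⁻¹ᵁ U, hsU, ?_⟩
  refine hU (Over.mk ((H₁.hom ⁻¹ᵁ U).ι ≫ H₁.hom)) ?_ (Over.homMk (H₁.hom ⁻¹ᵁ U).ι)
  rintro _ ⟨y, rfl⟩
  exact y.2

/-- **A central torus that is maximal is the only maximal torus.** -/
theorem exists_iso_of_central_maximal {C T T' : Over S} [GrpObj C] [GrpObj T] [GrpObj T'] [Smooth C.hom]
    [QuasiCompact C.hom] [IsSeparated C.hom] {iT : T ⟶ C} (hT : Red.IsMaximalTorus iT)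
    (hc : ∀ (X : Over S) (g : X ⟶ C) (s : X ⟶ T), g * (s ≫ iT) = (s ≫ iT) * g)
    {iT' : T' ⟶ C} (hT' : Red.IsMaximalTorus iT') : ∃ φ : T' ≅ T, φ.hom ≫ iT = iT' := by
  haveI := hT.1; haveI := hT.2.1; haveI := hT'.1; haveI := hT'.2.1
  have m₁ := Groth.L25.Locus.isMultTypeFT_of_isTorus hT.2.2.1
  have m₂ := Groth.L25.Locus.isMultTypeFT_of_isTorus hT'.2.2.1
  haveI : LocallyOfFiniteType C.hom := inferInstance
  haveI := Groth.L25.MonoClosed.isClosedImmersion_of_mono m₁ iT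
  haveI := Groth.L25.MonoClosed.isClosedImmersion_of_mono m₂ iT'
  have key : ∀ s : S, ∃ ψ : Red.geomFibre s T ≅ Red.geomFibre s T',
      ψ.hom ≫ (Over.pullback (Red.geomPt s)).map iT' = (Over.pullback (Red.geomPt s)).map iT := by
    intro s
    haveI : IsMonHom ((Over.pullback (Red.geomPt s)).map iT) := Groth.L25.MonoClosed.isMonHom_pullbackMap _ _
    haveI : IsMonHom ((Over.pullback (Red.geomPt s)).map iT') := Groth.L25.MonoClosed.isMonHom_pullbackMap _ _
    haveI : Mono ((Over.pullback (Red.geomPt s)).map iT) := Functor.map_mono _ _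
    haveI : Mono ((Over.pullback (Red.geomPt s)).map iT') := Functor.map_mono _ _
    haveI : Smooth (Red.geomFibre s C).hom := inferInstanceAs (Smooth (pullback.snd C.hom (Red.geomPt s)))
    haveI : QuasiCompact (Red.geomFibre s C).hom := inferInstanceAs (QuasiCompact (pullback.snd C.hom (Red.geomPt s)))
    have htT := Groth.L25.Locus.isTorus_bc hT.2.2.1 (Red.geomPt s)
    have htT' := Groth.L25.Locus.isTorus_bc hT'.2.2.1 (Red.geomPt s)
    have hcs : ∀ (X : Over (Spec (CommRingCat.of (AlgebraicClosure (S.residueField s))))) (g : X ⟶ Red.geomFibre s C)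
        (x : X ⟶ Red.geomFibre s T), g * (x ≫ (Over.pullback (Red.geomPt s)).map iT) =
          (x ≫ (Over.pullback (Red.geomPt s)).map iT) * g := fun X g x => by
      apply Groth.L25.CentralLift.toBase_injective
      rw [Groth.L25.NilAction.toBase_mul, Groth.L25.NilAction.toBase_mul, Groth.L25.SplitSub.toBase_map]
      exact hc _ _ _
    have hmax' : AGF.IsMaxTorus ((Over.pullback (Red.geomPt s)).map iT') :=
      ⟨inferInstance, inferInstance, htT', fun T₁ _ j _ _ f h₁ hf => hT'.2.2.2 s T₁ j f h₁ hf⟩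
    obtain ⟨f, hf⟩ := central_torus_le_maxTorus _ htT hcs hmax'
    haveI : IsIso f := hT.2.2.2 s _ _ f htT' hf
    exact ⟨asIso f, hf⟩
  obtain ⟨f, hf⟩ := exists_fac_of_fibres m₁ m₂ iT iT'
    (fun s => by obtain ⟨ψ, hψ⟩ := key s; exact fac_of_geomFibre iT iT' s ψ.hom hψ) fun s X _ _ => hc X
  obtain ⟨f', hf'⟩ := exists_fac_of_fibres m₂ m₁ iT' iT
    (fun s => by
      obtain ⟨ψ, hψ⟩ := key s
      exact fac_of_geomFibre iT' iT s ψ.inv (by rw [← hψ, ψ.inv_hom_id_assoc]))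
    fun s X w hw g h => by
      obtain ⟨ψ, hψ⟩ := key s
      obtain ⟨h', hh'⟩ := fac_of_geomFibre iT' iT s ψ.inv (by rw [← hψ, ψ.inv_hom_id_assoc]) X w hw h
      rw [← hh']
      exact hc X g h'
  exact ⟨⟨f', f, by rw [← cancel_mono iT', Category.assoc, hf, hf', Category.id_comp],
    by rw [← cancel_mono iT, Category.assoc, hf', hf, Category.id_comp]⟩, hf'⟩

end Groth.L08.Borel
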