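import Groth.Agent.L08.Borel.MaxTorusBC
import Groth.Agent.L25.Descent.Subgroup
import Groth.Agent.L25.SplitSub.SmoothTorus
import Groth.Agent.L25.TorLift.Central
import Groth.Agent.L08.FlatHom

/-!
# Base change and fpqc descent of maximal tori
-/

set_option autoImplicit false
set_option backward.isDefEq.respectTransparency.types false
set_option linter.style.haveILetI false
set_option linter.unusedSectionVars false

universe u

open CategoryTheory CategoryTheory.Limits MonoidalCategory CartesianMonoidalCategory MonObj GrpObj AlgebraicGeometry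

noncomputable section

namespace Groth.L25.Descent

variable {S S' : Scheme.{u}} {π : S' ⟶ S} {G : Over S} [GrpObj G] {H' : Over S'} [GrpObj H']
  (j' : H' ⟶ Red.bc π G)

/-- **descent of a subgroup of multiplicative type whose two pullbacks agree** -/
theorem exists_subgroup_of_pullInc_eq [IsSeparated G.hom] [LocallyOfFinitePresentation G.hom] [QuasiCompact G.hom]
    [QuasiSeparated G.hom] [Flat π] [Surjective π]
    (hcov : ∀ V : S.Opens, IsAffineOpen V → ∃ W : S'.Opens, IsCompact (W : Set S') ∧ π.base '' (W : Set S') = (V : Set S))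
    (hH' : SGA3x.IsMultTypeFT H') [IsMonHom j'] [IsImmersion j'.left]
    (huniq : ∀ (P : Scheme.{u}) (p₁ p₂ : P ⟶ S') (h : p₁ ≫ π = p₂ ≫ π),
      ∃ φ : Red.bc p₁ H' ≅ Red.bc p₂ H', φ.hom ≫ pullInc j' p₂ h.symm = pullInc j' p₁ rfl) :
    ∃ (H : Over S) (_ : GrpObj H) (j : H ⟶ G), IsMonHom j ∧ IsImmersion j.left ∧ SGA3x.IsMultTypeFT H ∧
      ∃ φ : Red.bc π H ≅ H', φ.hom ≫ j' = (Over.pullback π).map j := by
  suffices hd : ∃ (H : Over S) (j : H ⟶ G), IsImmersion j.left ∧
      ∃ φ : Red.bc π H ≅ H', φ.hom ≫ j' = (Over.pullback π).map j by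
    obtain ⟨H, j, hj, φ, hφ⟩ := hd
    have : Mono j := Over.mono_of_mono_left j
    obtain ⟨hg, hjm⟩ := Locus.exists_subgroup j (Sub j') (points_iff j' hcov j φ hφ) (sub_one j') (sub_mul j') (sub_inv j')
    letI := hg
    have := hjm
    have : Mono j' := Over.mono_of_mono_left j'
    have : IsMonHom φ.hom := Bridge.isMonHom_of_mul φ.hom fun Y a b => by
      rw [← cancel_mono j', Category.assoc, hφ, MonObj.mul_comp (a ≫ φ.hom) (b ≫ φ.hom) j', Category.assoc, Category.assoc, hφ]
      exact MonObj.mul_comp a b ((Over.pullback π).map j)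
    exact ⟨H, hg, j, hjm, hj, isMultTypeFT_descend hcov φ hH', φ, hφ⟩
  let q₀ := pullback.fst G.hom π
  have : Flat q₀ := MorphismProperty.pullback_fst G.hom π inferInstance
  have : Surjective q₀ := MorphismProperty.pullback_fst G.hom π inferInstance
  have hcov₀ : ∀ V : G.left.Opens, IsAffineOpen V → ∃ W : (pullback G.hom π).Opens,
      IsCompact (W : Set ↥(pullback G.hom π)) ∧ q₀.base '' (W : Set ↥(pullback G.hom π)) = (V : Set G.left) :=
    fun V hV => MultTypeBC.exists_compact_image π hcov G.hom V hV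
  have : Groth.L20.SchDesc.Cov q₀ := cov_of_cover q₀ hcov₀
  let f : H'.left ⟶ pullback G.hom π := j'.left
  have hfs : f ≫ pullback.snd G.hom π = H'.hom := Over.w j'
  have hex : ∀ {T : Scheme.{u}} (v : T ⟶ H'.left) (x : T ⟶ pullback G.hom π),
      v ≫ f ≫ q₀ = x ≫ q₀ → ∃ w : T ⟶ H'.left, w ≫ f = x := by
    intro T v x h
    have hc : (v ≫ H'.hom) ≫ π = (x ≫ pullback.snd G.hom π) ≫ π := by
      rw [Category.assoc, Category.assoc, ← pullback.condition, ← Category.assoc x, ← h, ← hfs]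
      simp only [q₀, Category.assoc, pullback.condition]
    obtain ⟨φ, hφ⟩ := huniq _ (v ≫ H'.hom) (x ≫ pullback.snd G.hom π) hc
    let a : T ⟶ (Red.bc (v ≫ H'.hom) H').left := pullback.lift v (𝟙 T) (by rw [Category.id_comp])
    let w : T ⟶ H'.left := a ≫ φ.hom.left ≫ pullback.fst H'.hom (x ≫ pullback.snd G.hom π)
    have ha : a ≫ φ.hom.left ≫ pullback.snd H'.hom (x ≫ pullback.snd G.hom π) = 𝟙 T := by
      rw [show φ.hom.left ≫ pullback.snd H'.hom _ = pullback.snd H'.hom (v ≫ H'.hom) from Over.w φ.hom]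
      exact pullback.lift_snd _ _ _
    refine ⟨w, pullback.hom_ext ?_ ?_⟩
    · have h2 := congrArg (fun m => m.left ≫ pullback.fst G.hom ((v ≫ H'.hom) ≫ π)) hφ
      simp only [Over.comp_left, Category.assoc, Groth.L25.Descent.pullInc_fst] at h2
      show ((a ≫ φ.hom.left ≫ pullback.fst H'.hom _) ≫ f) ≫ q₀ = x ≫ q₀
      rw [← h]
      simp only [Category.assoc]
      refine (congrArg (a ≫ ·) h2).trans ?_
      exact pullback.lift_fst_assoc _ _ _ _
    · rw [Category.assoc, hfs]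
      show (a ≫ φ.hom.left ≫ pullback.fst H'.hom _) ≫ H'.hom = _
      rw [Category.assoc, Category.assoc, pullback.condition, ← Category.assoc φ.hom.left, ← Category.assoc a, ha,
        Category.id_comp]
  choose act hact using @hex
  have : IsImmersion f := ‹IsImmersion j'.left›
  let P : Groth.L20.SchDesc.Pre q₀ f :=
    { act := act
      hom := hact
      natural := fun g v x e e' => (cancel_mono f).1 (by rw [hact, Category.assoc, hact])
      self := fun v e => (cancel_mono f).1 (hact _ _ _)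
      comp := fun v x y e e' e'' => (cancel_mono f).1 (by rw [hact, hact]) }
  obtain ⟨d⟩ := Groth.L20.SchDesc.effective_of_isIndQuasiAffineHom
    (Groth.L20.isIndQuasiAffineHom_of_isImmersion f) P
  let H : Over S := Over.mk (d.a ≫ G.hom)
  let j : H ⟶ G := Over.homMk d.a rfl
  have sq : IsPullback d.q H'.hom (d.a ≫ G.hom) π := by
    have h1 := d.isPullback.flip.paste_vert (IsPullback.of_hasPullback G.hom π)
    rwa [hfs] at h1
  let e : H' ≅ Red.bc π H := Over.isoMk sq.isoPullback sq.isoPullback_hom_snd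
  have he : e.hom ≫ (Over.pullback π).map j = j' := by
    apply Over.OverMorphism.ext
    apply pullback.hom_ext
    · show (sq.isoPullback.hom ≫ ((Over.pullback π).map j).left) ≫ pullback.fst G.hom π = f ≫ q₀
      rw [Category.assoc, ActBC.pullback_map_left_fst, d.isPullback.w]
      exact sq.isoPullback_hom_fst_assoc d.a
    · exact (Over.w (e.hom ≫ (Over.pullback π).map j)).trans (Over.w j').symm
  refine ⟨H, j, ?_, e.symm, ?_⟩
  · have hqc : QuasiCompact f := by
      have : IsAffineHom H'.hom := Groth.L25.HomSmooth.isAffineHom_of_locally (Groth.L25.Locus.locally_of_multTypeFT hH')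
      have : QuasiSeparated (Red.bc π G).hom := MorphismProperty.pullback_snd G.hom π ‹_›
      have : QuasiCompact (f ≫ pullback.snd G.hom π) := by rw [hfs]; infer_instance
      exact QuasiCompact.of_comp f (pullback.snd G.hom π)
    have h1 : (@IsImmersion ⊓ @QuasiCompact : MorphismProperty Scheme.{u}) (pullback.snd d.a q₀) := by
      rw [← d.isPullback.flip.isoPullback_inv_snd]
      exact (MorphismProperty.cancel_left_of_respectsIso _ _ _).2 ⟨inferInstance, hqc⟩
    have := Groth.L23.descendsAlong_qcImmersion.{u}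
    refine (FpqcLocal.of_fpqc (P := (@IsImmersion ⊓ @QuasiCompact : MorphismProperty Scheme.{u}))
      d.a (𝟙 G.left) q₀ hcov₀ fun s => ⟨⊤, trivial, ?_⟩).1
    refine FpqcLocal.bc_comp d.a (pullback.snd (𝟙 G.left) ((⊤ : Scheme.Opens _).ι ≫ q₀) ≫ (⊤ : Scheme.Opens _).ι) q₀
      (pullback.fst (𝟙 G.left) ((⊤ : Scheme.Opens _).ι ≫ q₀)) ?_ h1
    rw [Category.assoc, ← pullback.condition, Category.comp_id]
  · rw [Iso.symm_hom, Iso.inv_comp_eq]
    exact he.symm


end Groth.L25.Descent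

namespace Groth.L08.Borel

variable {S S' : Scheme.{u}}

/-- geometric points lift -/
theorem exists_geomPt_map (j : S' ⟶ S) (p : S') :
    ∃ θ : Spec (CommRingCat.of (AlgebraicClosure (S'.residueField p))) ⟶
        Spec (CommRingCat.of (AlgebraicClosure (S.residueField (j p)))),
      θ ≫ Red.geomPt (j p) = Red.geomPt p ≫ j := by
  let κ := S.residueField (j p)
  let κ' := S'.residueField p
  let Ω := AlgebraicClosure κ'
  letI : Algebra κ κ' := (j.residueFieldMap p).hom.toAlgebra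
  letI : Algebra κ Ω := ((algebraMap κ' Ω).comp (algebraMap κ κ')).toAlgebra
  let φ : AlgebraicClosure κ →ₐ[κ] Ω := IsAlgClosed.lift
  have hring : φ.toRingHom.comp (algebraMap κ (AlgebraicClosure κ)) =
      (algebraMap κ' Ω).comp (j.residueFieldMap p).hom := RingHom.ext fun x => φ.commutes x
  refine ⟨Spec.map (CommRingCat.ofHom φ.toRingHom), ?_⟩
  show Spec.map (CommRingCat.ofHom φ.toRingHom) ≫
    Spec.map (CommRingCat.ofHom (algebraMap κ (AlgebraicClosure κ))) ≫ S.fromSpecResidueField (j p) =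
    (Spec.map (CommRingCat.ofHom (algebraMap κ' Ω)) ≫ S'.fromSpecResidueField p) ≫ j
  rw [Category.assoc, ← Scheme.Hom.SpecMap_residueFieldMap_fromSpecResidueField j p, ← Category.assoc,
    ← Category.assoc, ← Spec.map_comp, ← Spec.map_comp]
  exact congrArg (fun r => r ≫ S.fromSpecResidueField (j p)) (congrArg Spec.map (CommRingCat.hom_ext hring))

/-- the geometric fibre of a base change as an extension of a geometric fibre -/
def fibreIso (j : S' ⟶ S) {p : S'} {s : S}
    (θ : Spec (CommRingCat.of (AlgebraicClosure (S'.residueField p))) ⟶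
      Spec (CommRingCat.of (AlgebraicClosure (S.residueField s))))
    (hθ : θ ≫ Red.geomPt s = Red.geomPt p ≫ j) (X : Over S) :
    Red.bc (Red.geomPt p) (Red.bc j X) ≅ Red.bc θ (Red.geomFibre s X) :=
  ActBC.bcCompIso (Red.geomPt p) j X rfl ≪≫ (ActBC.bcCompIso θ (Red.geomPt s) X hθ).symm

theorem fibreIso_naturality (j : S' ⟶ S) {p : S'} {s : S}
    (θ : Spec (CommRingCat.of (AlgebraicClosure (S'.residueField p))) ⟶
      Spec (CommRingCat.of (AlgebraicClosure (S.residueField s))))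
    (hθ : θ ≫ Red.geomPt s = Red.geomPt p ≫ j) {X Y : Over S} (f : X ⟶ Y) :
    (Over.pullback (Red.geomPt p)).map ((Over.pullback j).map f) ≫ (fibreIso j θ hθ Y).hom =
      (fibreIso j θ hθ X).hom ≫ (Over.pullback θ).map ((Over.pullback (Red.geomPt s)).map f) := by
  simp only [fibreIso, Iso.trans_hom, Iso.symm_hom, Category.assoc]
  rw [← Category.assoc, ActBC.bcCompIso_hom_naturality (Red.geomPt p) j rfl f, Category.assoc]
  congr 1
  rw [Iso.eq_inv_comp, ← Category.assoc, Iso.comp_inv_eq]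
  exact (ActBC.bcCompIso_hom_naturality θ (Red.geomPt s) hθ f).symm

theorem isMonHom_fibreIso (j : S' ⟶ S) {p : S'} {s : S}
    (θ : Spec (CommRingCat.of (AlgebraicClosure (S'.residueField p))) ⟶
      Spec (CommRingCat.of (AlgebraicClosure (S.residueField s))))
    (hθ : θ ≫ Red.geomPt s = Red.geomPt p ≫ j) (X : Over S) [GrpObj X] :
    IsMonHom (fibreIso j θ hθ X).hom ∧ IsMonHom (fibreIso j θ hθ X).inv := by
  simp only [fibreIso, Iso.trans_hom, Iso.trans_inv, Iso.symm_hom, Iso.symm_inv]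
  constructor <;> infer_instance

variable {G T : Over S} [GrpObj G] [GrpObj T]

/-- **maximal tori are stable under base change** -/
theorem isMaximalTorus_bc [Smooth G.hom] [QuasiCompact G.hom] {i : T ⟶ G} (hT : Red.IsMaximalTorus i)
    (j : S' ⟶ S) : Red.IsMaximalTorus ((Over.pullback j).map i) := by
  haveI := hT.1; haveI := hT.2.1
  haveI : IsMonHom ((Over.pullback j).map i) := Groth.L25.MonoClosed.isMonHom_pullbackMap _ _
  refine ⟨inferInstance, Functor.map_mono _ _, Groth.L25.Locus.isTorus_bc hT.2.2.1 j, fun p T' _ a _ _ f hT' hf => ?_⟩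
  obtain ⟨θ, hθ⟩ := exists_geomPt_map j p
  haveI : IsMonHom ((Over.pullback (Red.geomPt (j p))).map i) := Groth.L25.MonoClosed.isMonHom_pullbackMap _ _
  haveI : Mono ((Over.pullback (Red.geomPt (j p))).map i) := Functor.map_mono _ _
  haveI : Smooth (Red.geomFibre (j p) G).hom := inferInstanceAs (Smooth (pullback.snd G.hom (Red.geomPt (j p))))
  haveI : QuasiCompact (Red.geomFibre (j p) G).hom :=
    inferInstanceAs (QuasiCompact (pullback.snd G.hom (Red.geomPt (j p))))
  have hs : AGF.IsMaxTorus ((Over.pullback (Red.geomPt (j p))).map i) :=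
    ⟨inferInstance, inferInstance, Groth.L25.Locus.isTorus_bc hT.2.2.1 _,
      fun T₁ _ b _ _ g h₁ hg => hT.2.2.2 (j p) T₁ b g h₁ hg⟩
  have hp := isMaxTorus_bc_field hs θ
  haveI := (isMonHom_fibreIso j θ hθ G).1
  let b : T' ⟶ Red.bc θ (Red.geomFibre (j p) G) := a ≫ (fibreIso j θ hθ G).hom
  haveI : IsMonHom b := inferInstanceAs (IsMonHom (a ≫ (fibreIso j θ hθ G).hom))
  haveI : Mono b := mono_comp _ _
  haveI : IsIso ((fibreIso j θ hθ T).inv ≫ f) := hp.2.2.2 T' b _ hT' (by
    rw [Category.assoc, Iso.inv_comp_eq, ← fibreIso_naturality, ← hf, Category.assoc])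
  exact IsIso.of_isIso_comp_left (fibreIso j θ hθ T).inv f

/-- isomorphisms descend along extensions of fields -/
theorem isIso_of_bc_field {k K : Type u} [Field k] [Field K] (θ : Spec (CommRingCat.of K) ⟶ Spec (CommRingCat.of k))
    {A B : Over (Spec (CommRingCat.of k))} (f : A ⟶ B) [IsIso ((Over.pullback θ).map f)] : IsIso f := by
  obtain ⟨hs, hfl, hq⟩ := Groth.L08.Borel.bc_props_field θ
  haveI : IsIso ((Over.pullback θ).map f).left := inferInstanceAs (IsIso ((Over.forget (Spec (CommRingCat.of K))).map ((Over.pullback θ).map f)))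
  haveI : IsIso f.left := by
    show (MorphismProperty.isomorphisms Scheme.{u}) f.left
    exact MorphismProperty.of_isPullback_of_descendsAlong (Q := @Surjective ⊓ @Flat ⊓ @QuasiCompact)
      (Groth.L25.SchImage.isPullback_fst_map θ f).flip
      ⟨⟨MorphismProperty.pullback_fst _ _ hs, MorphismProperty.pullback_fst _ _ hfl⟩,
        MorphismProperty.pullback_fst _ _ hq⟩
      (MorphismProperty.isomorphisms.infer_property _)
  haveI : IsIso ((Over.forget _).map f) := ‹IsIso f.left›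
  exact isIso_of_reflects_iso f (Over.forget _)

/-- **maximality descends along surjective maps** -/
theorem isMaximalTorus_of_bc {i : T ⟶ G} [IsMonHom i] [Mono i] (hT : Red.IsTorus T) (j : S' ⟶ S) [Surjective j]
    (h : Red.IsMaximalTorus ((Over.pullback j).map i)) : Red.IsMaximalTorus i := by
  refine ⟨inferInstance, inferInstance, hT, fun s T' _ a _ _ f hT' hf => ?_⟩
  obtain ⟨p, rfl⟩ := j.surjective s
  obtain ⟨θ, hθ⟩ := exists_geomPt_map j p
  haveI := (isMonHom_fibreIso j θ hθ G).2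
  haveI : IsMonHom ((Over.pullback θ).map a) := Groth.L25.MonoClosed.isMonHom_pullbackMap _ _
  haveI : Mono ((Over.pullback θ).map a) := Functor.map_mono _ _
  let b : Red.bc θ T' ⟶ Red.geomFibre p (Red.bc j G) := (Over.pullback θ).map a ≫ (fibreIso j θ hθ G).inv
  haveI : IsMonHom b := inferInstanceAs (IsMonHom (_ ≫ _))
  haveI : Mono b := mono_comp _ _
  haveI : IsIso ((fibreIso j θ hθ T).hom ≫ (Over.pullback θ).map f) :=
    h.2.2.2 p _ b _ (Groth.L25.Locus.isTorus_bc hT' θ) (by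
      rw [Category.assoc, ← Functor.map_comp_assoc, hf, ← Category.assoc, ← fibreIso_naturality, Category.assoc,
        Iso.hom_inv_id, Category.comp_id])
  haveI : IsIso ((Over.pullback θ).map f) := IsIso.of_isIso_comp_left (fibreIso j θ hθ T).hom _
  exact isIso_of_bc_field θ f

/-- being a torus descends along fpqc coverings -/
theorem isTorus_descend {T : Over S} [GrpObj T] (π : S' ⟶ S) [Flat π] [Surjective π]
    (hcov : ∀ V : S.Opens, IsAffineOpen V → ∃ W : S'.Opens, IsCompact (W : Set S') ∧ π.base '' (W : Set S') = (V : Set S))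
    (hT : Red.IsTorus (Red.bc π T)) : Red.IsTorus T := by
  have hm : SGA3x.IsMultTypeFT T := by
    haveI : IsMonHom (Iso.refl (Red.bc π T)).hom := inferInstanceAs (IsMonHom (𝟙 _))
    exact Groth.L25.Descent.isMultTypeFT_descend hcov (Iso.refl _) (Groth.L25.Locus.isMultTypeFT_of_isTorus hT)
  refine isTorus_of_geomFibres hm fun s => ?_
  obtain ⟨p, rfl⟩ := π.surjective s
  obtain ⟨θ, hθ⟩ := exists_geomPt_map π p
  haveI := (isMonHom_fibreIso π θ hθ T).1
  have h := Groth.L25.TorLift.isTorus_of_iso (Grp.mkIso' (fibreIso π θ hθ T))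
    (Groth.L25.Locus.isTorus_bc hT (Red.geomPt p))
  obtain ⟨S₁, f, hflat, hsurj, hqc, hloc⟩ := h
  obtain ⟨hs, hfl, hq⟩ := Groth.L08.Borel.bc_props_field θ
  refine ⟨S₁, f ≫ θ, inferInstance, inferInstance, fun V hV => ?_, fun s => ?_⟩
  · rcases Set.eq_empty_or_nonempty (SetLike.coe V) with he | ⟨z, hz⟩
    · exact ⟨⊥, isCompact_empty, by simp [he]⟩
    obtain ⟨W, hW, hWV⟩ := hqc ⊤ (isAffineOpen_top _)
    refine ⟨W, hW, ?_⟩
    rw [show ((f ≫ θ).base : S₁ → _) = θ.base ∘ f.base from funext fun z => Scheme.Hom.comp_apply f θ z,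
      Set.image_comp, hWV]
    refine Set.eq_of_subset_of_subset ?_ fun y _ => ?_
    · rintro _ ⟨x, -, rfl⟩
      convert hz using 1
      exact Subsingleton.elim (α := PrimeSpectrum _) _ _
    · obtain ⟨x, rfl⟩ := θ.surjective y
      exact ⟨x, trivial, rfl⟩
  · obtain ⟨U, hU, r, ⟨e⟩⟩ := hloc s
    refine ⟨U, hU, r, ⟨?_⟩⟩
    exact (Grp.mkIso' (ActBC.bcCompIso (U.ι ≫ f) θ (Red.geomFibre (π p) T) (Category.assoc _ _ _))).symm ≪≫ e

/-- tori are smooth over any base -/
theorem smooth_of_isTorus {T : Over S} [GrpObj T] (hT : Red.IsTorus T) : Smooth T.hom := by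
  obtain ⟨S₁, f, hflat, hsurj, hqc, hloc⟩ := hT
  haveI := hflat
  refine Groth.L25.FpqcLocal.of_fpqc (P := @Smooth) T.hom (𝟙 S) f hqc fun s => ?_
  obtain ⟨U, hU, r, ⟨e⟩⟩ := hloc s
  refine ⟨U, hU, Groth.L25.FpqcLocal.bc_comp T.hom (pullback.snd (𝟙 S) (U.ι ≫ f)) (U.ι ≫ f)
    (pullback.fst (𝟙 S) (U.ι ≫ f)) (by rw [← pullback.condition, Category.comp_id]) ?_⟩
  haveI : Smooth (Red.DS U.toScheme (Fin r → ℤ)).hom := Groth.L25.SplitSub.smooth_DS _ r
  haveI : IsIso e.hom.hom.hom.left :=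
    inferInstanceAs (IsIso ((Over.forget _).map ((Grp.forget (Over U.toScheme)).map e.hom)))
  show Smooth (Red.bc (U.ι ≫ f) T).hom
  rw [← Over.w e.hom.hom.hom]
  infer_instance

/-- **a maximal torus over an fpqc covering whose pullbacks agree descends** -/
theorem exists_maximalTorus_desc [Smooth G.hom] [IsSeparated G.hom] [QuasiCompact G.hom] {π : S' ⟶ S} [Flat π]
    [Surjective π]
    (hcov : ∀ V : S.Opens, IsAffineOpen V → ∃ W : S'.Opens, IsCompact (W : Set S') ∧ π.base '' (W : Set S') = (V : Set S))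
    {T' : Over S'} [GrpObj T'] {i' : T' ⟶ Red.bc π G} (hT' : Red.IsMaximalTorus i')
    (huniq : ∀ (P : Scheme.{u}) (p₁ p₂ : P ⟶ S') (h : p₁ ≫ π = p₂ ≫ π),
      ∃ φ : Red.bc p₁ T' ≅ Red.bc p₂ T',
        φ.hom ≫ Groth.L25.Descent.pullInc i' p₂ h.symm = Groth.L25.Descent.pullInc i' p₁ rfl) :
    ∃ (T : Over S) (_ : GrpObj T) (i : T ⟶ G), Red.IsMaximalTorus i ∧
      ∃ φ : Red.bc π T ≅ T', φ.hom ≫ i' = (Over.pullback π).map i := by
  haveI := hT'.1; haveI := hT'.2.1
  have hm := Groth.L25.Locus.isMultTypeFT_of_isTorus hT'.2.2.1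
  haveI : LocallyOfFinitePresentation G.hom := inferInstance
  haveI : IsSeparated (Red.bc π G).hom := inferInstanceAs (IsSeparated (pullback.snd G.hom π))
  haveI : QuasiCompact (Red.bc π G).hom := inferInstanceAs (QuasiCompact (pullback.snd G.hom π))
  haveI : LocallyOfFiniteType (Red.bc π G).hom := inferInstanceAs (LocallyOfFiniteType (pullback.snd G.hom π))
  haveI := Groth.L25.MonoClosed.isClosedImmersion_of_mono hm i'
  obtain ⟨T, gT, i, hi, him, -, φ, hφ⟩ := Groth.L25.Descent.exists_subgroup_of_pullInc_eq i' hcov hm huniq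
  haveI := hi; haveI := him
  haveI : Mono i := Over.mono_of_mono_left i
  haveI : IsMonHom φ.hom := Groth.L25.Bridge.isMonHom_of_mul φ.hom fun Y a b => by
    rw [← cancel_mono i', Category.assoc, hφ, MonObj.mul_comp (a ≫ φ.hom) (b ≫ φ.hom) i', Category.assoc,
      Category.assoc, hφ]
    haveI : IsMonHom ((Over.pullback π).map i) := Groth.L25.MonoClosed.isMonHom_pullbackMap _ _
    exact MonObj.mul_comp a b ((Over.pullback π).map i)
  have htor : Red.IsTorus (Red.bc π T) := Groth.L25.TorLift.isTorus_of_iso (Grp.mkIso' φ).symm hT'.2.2.1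
  haveI : IsMonHom ((Over.pullback π).map i) := Groth.L25.MonoClosed.isMonHom_pullbackMap _ _
  refine ⟨T, gT, i, isMaximalTorus_of_bc (isTorus_descend π hcov htor) π ?_, φ, hφ⟩
  refine ⟨inferInstance, Functor.map_mono _ _, htor, fun s T₁ _ a _ _ f h₁ hf => ?_⟩
  haveI : IsIso ((Over.pullback (Red.geomPt s)).map φ.inv ≫ f) := hT'.2.2.2 s T₁ a _ h₁ (by
    rw [Category.assoc, hf, ← Functor.map_comp, ← hφ, φ.inv_hom_id_assoc])
  exact IsIso.of_isIso_comp_left ((Over.pullback (Red.geomPt s)).map φ.inv) f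

/-- **maximal tori with the same image under a homomorphism with central kernel are equal** -/
theorem exists_iso_of_central_kernel {G' T₁ T₂ T' : Over S} [GrpObj G'] [GrpObj T₁] [GrpObj T₂] [GrpObj T']
    [Smooth G.hom] [IsSeparated G.hom] [QuasiCompact G.hom] (u : G ⟶ G') [IsMonHom u]
    (hker : ∀ (X : Over S) (z : X ⟶ G), z ≫ u = 1 → ∀ (X' : Over S) (x : X' ⟶ X) (g : X' ⟶ G),
      (x ≫ z) * g = g * (x ≫ z))
    {i₁ : T₁ ⟶ G} (h₁ : Red.IsMaximalTorus i₁) {i₂ : T₂ ⟶ G} (h₂ : Red.IsMaximalTorus i₂)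
    {i' : T' ⟶ G'} (h' : Red.IsMaximalTorus i') (v₁ : T₁ ⟶ T') (v₂ : T₂ ⟶ T')
    (hv₁ : v₁ ≫ i' = i₁ ≫ u) (hv₂ : v₂ ≫ i' = i₂ ≫ u) (hs : Surjective v₁.left) :
    ∃ φ : T₁ ≅ T₂, φ.hom ≫ i₂ = i₁ := by
  haveI := h₁.1; haveI := h₁.2.1; haveI := h₂.1; haveI := h₂.2.1; haveI := h'.1; haveI := h'.2.1; haveI := hs
  haveI : Smooth T₁.hom := smooth_of_isTorus h₁.2.2.1
  haveI : Smooth T'.hom := smooth_of_isTorus h'.2.2.1
  haveI : IsMonHom v₁ := Groth.L25.Bridge.isMonHom_of_mul v₁ fun X a b => by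
    rw [← cancel_mono i', Category.assoc, hv₁, MonObj.mul_comp (a ≫ v₁) (b ≫ v₁) i', Category.assoc,
      Category.assoc, hv₁]
    exact MonObj.mul_comp a b (i₁ ≫ u)
  haveI : GeometricallyReduced T'.hom := Groth.Agent.AV.geometricallyReduced_of_smooth T'.hom
  haveI : Flat v₁.left := (Groth.L08.FlatHom.flat_of_surjective_fibres T₁ T' v₁).1
  have m₁ := Groth.L25.Locus.isMultTypeFT_of_isTorus h₁.2.2.1
  obtain ⟨C, gC, c, hc, hci, hCs⟩ := Groth.L25.Locus.exists_smooth_centralizer
    (Groth.L25.Locus.locally_of_multTypeFT m₁) i₁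
  haveI := hc.1; haveI := hc.2.1; haveI := hci; haveI := hCs
  haveI : QuasiCompact C.hom := by rw [← Over.w c]; infer_instance
  haveI : IsSeparated C.hom := by rw [← Over.w c]; infer_instance
  obtain ⟨t₁, ht₁⟩ := (hc.2.2 T₁ i₁).2 fun X' x h => by
    rw [← MonObj.mul_comp, ← MonObj.mul_comp, Groth.L25.Central.mul_comm_of_multTypeFT m₁ x h]
  obtain ⟨t₂, ht₂⟩ := (hc.2.2 T₂ i₂).2 fun X' x h => by
    let q := pullback.fst (x ≫ v₂).left v₁.left
    haveI : Flat q := MorphismProperty.pullback_fst _ _ ‹Flat v₁.left›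
    haveI : Surjective q := MorphismProperty.pullback_fst _ _ hs
    haveI : Epi q := Flat.epi_of_flat_of_surjective q
    let X'' : Over S := Over.mk (q ≫ X'.hom)
    let Q : X'' ⟶ X' := Over.homMk q rfl
    haveI : Epi Q.left := ‹Epi q›
    haveI : Epi Q := Over.epi_of_epi_left Q
    let a : X'' ⟶ T₁ := Over.homMk (pullback.snd _ _) (by
      show pullback.snd _ _ ≫ T₁.hom = q ≫ X'.hom
      rw [← Over.w v₁, ← pullback.condition_assoc, Over.w (x ≫ v₂)])
    have ha : a ≫ v₁ = Q ≫ x ≫ v₂ := Over.OverMorphism.ext pullback.condition.symm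
    let z : X'' ⟶ G := (Q ≫ x ≫ i₂) * (a ≫ i₁)⁻¹
    have hz : z ≫ u = 1 := by
      simp only [z, MonObj.mul_comp, GrpObj.inv_comp, Category.assoc, ← hv₁, ← hv₂, reassoc_of% ha, mul_inv_cancel]
    have hzc := hker X'' z hz X'' (𝟙 _) (Q ≫ h ≫ i₁)
    rw [Category.id_comp] at hzc
    have hac : (a ≫ i₁) * (Q ≫ h ≫ i₁) = (Q ≫ h ≫ i₁) * (a ≫ i₁) := by
      rw [← Category.assoc Q h, ← MonObj.mul_comp, ← MonObj.mul_comp,
        Groth.L25.Central.mul_comm_of_multTypeFT m₁ a (Q ≫ h)]
    rw [← cancel_epi Q, MonObj.comp_mul, MonObj.comp_mul]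
    have e : Q ≫ x ≫ i₂ = z * (a ≫ i₁) := by simp only [z, inv_mul_cancel_right]
    rw [e, _root_.mul_assoc, hac, ← _root_.mul_assoc, hzc, _root_.mul_assoc]
  haveI : IsMonHom t₁ := Groth.L25.Bridge.isMonHom_of_mul t₁ fun X a b => by
    rw [← cancel_mono c, Category.assoc, ht₁, MonObj.mul_comp (a ≫ t₁) (b ≫ t₁) c, Category.assoc, Category.assoc, ht₁]
    exact MonObj.mul_comp a b i₁
  haveI : IsMonHom t₂ := Groth.L25.Bridge.isMonHom_of_mul t₂ fun X a b => by
    rw [← cancel_mono c, Category.assoc, ht₂, MonObj.mul_comp (a ≫ t₂) (b ≫ t₂) c, Category.assoc, Category.assoc, ht₂]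
    exact MonObj.mul_comp a b i₂
  have fac : ∀ {T : Over S} [GrpObj T] {i : T ⟶ G} (t : T ⟶ C) [IsMonHom t], t ≫ c = i → Red.IsMaximalTorus i →
      Red.IsMaximalTorus t := by
    intro T _ i t _ ht h
    haveI := h.2.1
    haveI : Mono (t ≫ c) := ht.symm ▸ inferInstance
    haveI : Mono t := mono_of_mono t c
    refine ⟨inferInstance, inferInstance, h.2.2.1, fun s T₃ _ a _ _ f h₃ hf => ?_⟩
    haveI : IsMonHom ((Over.pullback (Red.geomPt s)).map c) := Groth.L25.MonoClosed.isMonHom_pullbackMap _ _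
    haveI : Mono ((Over.pullback (Red.geomPt s)).map c) := Functor.map_mono _ _
    haveI : IsMonHom (a ≫ (Over.pullback (Red.geomPt s)).map c) := inferInstance
    haveI : Mono (a ≫ (Over.pullback (Red.geomPt s)).map c) := mono_comp _ _
    exact h.2.2.2 s T₃ (a ≫ (Over.pullback (Red.geomPt s)).map c) f h₃ (by rw [reassoc_of% hf, ← Functor.map_comp, ht])
  obtain ⟨φ, hφ⟩ := exists_iso_of_central_maximal (fac t₁ ht₁ h₁) (fun X g s => by
    rw [← cancel_mono c, MonObj.mul_comp, MonObj.mul_comp, Category.assoc, ht₁]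
    have := (hc.2.2 X (g ≫ c)).1 ⟨g, rfl⟩ X (𝟙 X) s
    rwa [Category.id_comp] at this) (fac t₂ ht₂ h₂)
  exact ⟨φ.symm, by rw [← ht₁, ← ht₂, ← hφ, Iso.symm_hom, Category.assoc, φ.inv_hom_id_assoc]⟩

end Groth.L08.Borel
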