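import Groth.Agent.L08.Borel.CartanTransporter
import Groth.Agent.L08.Borel.CartanTorus
import Groth.Agent.L08.Borel.MaxTorusDesc
import Groth.Agent.L08.Borel.GenNilp
import Groth.Agent.L08.Borel.CentTorus
import Groth.Agent.L08.GrpQC

/-!
# A subgroup which is a Cartan subgroup at a point is one near that point
-/

set_option autoImplicit false
set_option backward.isDefEq.respectTransparency.types false
set_option linter.style.haveILetI false
set_option linter.unusedSectionVars false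

universe u

open CategoryTheory CategoryTheory.Limits MonoidalCategory CartesianMonoidalCategory MonObj GrpObj AlgebraicGeometry
open Groth.L25.NilAction

noncomputable section

namespace Groth.L08.Borel

/-- Cartan subgroups over a field are transported by isomorphisms -/
theorem isCartanOver_transport {k : Type u} [Field k] [IsAlgClosed k] {G G' C C' : Over (Spec (CommRingCat.of k))}
    [GrpObj G] [GrpObj G'] [GrpObj C] [GrpObj C'] {c : C ⟶ G} {c' : C' ⟶ G'} (eC : C ≅ C') [IsMonHom eC.hom]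
    (eG : G ≅ G') [IsMonHom eG.hom] (h : eC.hom ≫ c' = c ≫ eG.hom) (hc : SGA3x.IsCartanOver k c) :
    SGA3x.IsCartanOver k c' := by
  obtain ⟨h1, h2, T, gT, i, hi, hcen⟩ := hc
  haveI := h1; haveI := h2
  have hm := isMaxTorus_of_isMaximalTorus hi
  haveI := hm.1; haveI := hm.2.1
  have hc' : c' = eC.inv ≫ c ≫ eG.hom := by rw [← h, Iso.inv_hom_id_assoc]
  haveI : IsMonHom eC.inv := inferInstance
  haveI : IsMonHom c' := hc' ▸ (inferInstance : IsMonHom (eC.inv ≫ c ≫ eG.hom))
  haveI : Mono c' := hc' ▸ (inferInstance : Mono (eC.inv ≫ c ≫ eG.hom))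
  haveI : IsMonHom eG.inv := inferInstance
  refine ⟨inferInstance, inferInstance, T, gT, i ≫ eG.hom,
    isMaximalTorus_of_isMaxTorus ⟨inferInstance, mono_comp _ _, hm.2.2.1, fun T₁ _ a _ _ f h₁ hf => ?_⟩,
    isCentralizerOf_transport eG (Iso.refl T) (Category.id_comp _) eC.symm hc'.symm hcen⟩
  exact hm.2.2.2 T₁ (a ≫ eG.inv) f h₁ (by rw [reassoc_of% hf, Iso.hom_inv_id, Category.comp_id])

/-- connected fibres give connected fibres at field points -/
theorem connectedSpace_bc_point {S : Scheme.{u}} (G : Over S) [GrpObj G]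
    (hconn : ∀ s : S, _root_.IsConnected (G.hom.base ⁻¹' {s})) {K : Type u} [Field K]
    (q : Spec (CommRingCat.of K) ⟶ S) : ConnectedSpace ↥(Red.bc q G).left := by
  have h := Groth.L25.Extension.isConnected_fibre_bc q G hconn (IsLocalRing.closedPoint _)
  rw [connectedSpace_iff_univ]
  refine (congrArg _root_.IsConnected ?_).mp h
  exact Set.eq_univ_of_forall fun x => Subsingleton.elim (α := PrimeSpectrum K) _ _

/-- a smooth group with connected fibres has irreducible geometric fibres -/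
theorem irrFib_of_isConnected {S : Scheme.{u}} (G : Over S) [GrpObj G] [Smooth G.hom]
    (hconn : ∀ s : S, _root_.IsConnected (G.hom.base ⁻¹' {s})) : Groth.L02.SchDom.IrrFib G.hom :=
  Groth.L02.SchDom.IrrFib.of_connected G.hom fun s => connectedSpace_bc_point G hconn (Red.geomPt s)

set_option maxHeartbeats 800000 in
/-- comparison of a subgroup with the centralizer of one of its tori -/
theorem exists_centralizer_comparison {S : Scheme.{u}} {G C T : Over S} [GrpObj G] [GrpObj C] [GrpObj T]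
    [Smooth G.hom] [IsSeparated G.hom] [QuasiCompact G.hom] (hconn : ∀ s : S, _root_.IsConnected (G.hom.base ⁻¹' {s}))
    [Smooth C.hom] [IsSeparated C.hom] (c : C ⟶ G) [IsMonHom c] [Mono c] (hT : Red.IsTorus T) (t : T ⟶ C)
    [IsMonHom t] :
    ∃ (Z₀ Z : Over S) (_ : GrpObj Z₀) (_ : GrpObj Z) (z₀ : Z₀ ⟶ C) (v : Z₀ ⟶ Z),
      (IsMonHom z₀ ∧ Mono z₀ ∧ IsMonHom v ∧ Mono v) ∧ (Smooth Z₀.hom ∧ Smooth Z.hom) ∧
      Groth.L02.SchDom.IrrFib Z.hom ∧
      (IsIso z₀ → IsIso v → Red.IsCentralizerOf (t ≫ c) c) ∧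
      ∀ {S' : Scheme.{u}} (j : S' ⟶ S),
        (Red.IsCentralizerOf ((Over.pullback j).map (t ≫ c)) ((Over.pullback j).map c) →
          IsIso ((Over.pullback j).map z₀) ∧ IsIso ((Over.pullback j).map v)) ∧
        (IsIso ((Over.pullback j).map z₀) → IsIso ((Over.pullback j).map v) →
          Red.IsCentralizerOf ((Over.pullback j).map (t ≫ c)) ((Over.pullback j).map c)) := by
  haveI : Smooth T.hom := smooth_of_isTorus hT
  have hl := Groth.L25.Locus.locally_of_multTypeFT (Groth.L25.Locus.isMultTypeFT_of_isTorus hT)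
  obtain ⟨Z₀, g₀, z₀, hz₀, hz₀i, hz₀s⟩ := Groth.L25.Locus.exists_smooth_centralizer hl t
  obtain ⟨Z, gZ, z, hz, hzi, hzs⟩ := Groth.L25.Locus.exists_smooth_centralizer hl (t ≫ c)
  haveI := hz₀.1; haveI := hz₀.2.1; haveI := hz₀s; haveI := hz.1; haveI := hz.2.1; haveI := hzs; haveI := hzi
  obtain ⟨v, hv⟩ := (hz.2.2 Z₀ (z₀ ≫ c)).2 fun X' x h => by
    have h1 := congrArg (· ≫ c) ((hz₀.2.2 Z₀ z₀).1 ⟨𝟙 _, Category.id_comp _⟩ X' x h)
    simpa only [MonObj.mul_comp, Category.assoc] using h1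
  haveI : IsMonHom v := Groth.L25.Bridge.isMonHom_of_mul v fun X a b => by
    rw [← cancel_mono z, Category.assoc, hv, MonObj.mul_comp (a ≫ v) (b ≫ v) z, Category.assoc, Category.assoc, hv]
    exact MonObj.mul_comp a b (z₀ ≫ c)
  haveI : Mono v := by haveI : Mono (v ≫ z) := hv.symm ▸ mono_comp _ _; exact mono_of_mono v z
  refine ⟨Z₀, Z, g₀, gZ, z₀, v, ⟨inferInstance, inferInstance, inferInstance, inferInstance⟩,
    ⟨inferInstance, inferInstance⟩, ?_, fun h₀ h₁ => ?_, fun {S'} j => ?_⟩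
  · refine Groth.L02.SchDom.IrrFib.of_connected Z.hom fun s => ?_
    haveI : Smooth (Red.geomFibre s G).hom := MorphismProperty.pullback_snd G.hom _ ‹_›
    haveI : QuasiCompact (Red.geomFibre s G).hom := MorphismProperty.pullback_snd G.hom _ ‹_›
    haveI : ConnectedSpace ↥(Red.geomFibre s G).left := connectedSpace_bc_point G hconn _
    haveI : IsMonHom ((Over.pullback (Red.geomPt s)).map (t ≫ c)) := Groth.L25.MonoClosed.isMonHom_pullbackMap _ _
    exact (Groth.L25.Locus.centralizer_smooth_connected _ _ ((Over.pullback (Red.geomPt s)).map (t ≫ c))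
      (Groth.L25.Locus.isTorus_bc hT _) _ _ (isCentralizerOf_bc (Red.geomPt s) hz)).2
  · haveI : IsMonHom (Iso.refl G).hom := inferInstanceAs (IsMonHom (𝟙 G))
    refine isCentralizerOf_transport (Iso.refl G) (Iso.refl _) (by simp)
      ((asIso z₀).symm ≪≫ asIso v) ?_ hz
    simp only [Iso.trans_hom, Iso.symm_hom, asIso_inv, asIso_hom, Iso.refl_hom, Category.comp_id, Category.assoc]
    rw [hv, IsIso.inv_hom_id_assoc]
  let F := Over.pullback j
  haveI : Mono (F.map c) := Functor.map_mono _ _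
  haveI : IsMonHom (F.map c) := Groth.L25.MonoClosed.isMonHom_pullbackMap _ _
  haveI : Mono (F.map z₀) := Functor.map_mono _ _
  haveI : Mono (F.map v) := Functor.map_mono _ _
  haveI : Mono (F.map z) := Functor.map_mono _ _
  haveI : IsMonHom (F.map z) := Groth.L25.MonoClosed.isMonHom_pullbackMap _ _
  have hb₀ := isCentralizerOf_bc j hz₀
  have hb := isCentralizerOf_bc j hz
  refine ⟨fun h => ?_, fun h₀ h₁ => ?_⟩
  · obtain ⟨w₀, hw₀⟩ := (hb₀.2.2 _ (𝟙 (F.obj C))).2 fun X' x s => by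
      rw [← cancel_mono (F.map c), MonObj.mul_comp, MonObj.mul_comp, Category.comp_id, Category.assoc,
        ← Functor.map_comp]
      exact (h.2.2 _ (F.map c)).1 ⟨𝟙 _, Category.id_comp _⟩ X' x s
    haveI : IsSplitEpi (F.map z₀) := IsSplitEpi.mk' ⟨w₀, hw₀⟩
    haveI : IsIso (F.map z₀) := isIso_of_mono_of_isSplitEpi _
    obtain ⟨w, hw⟩ := (h.2.2 _ (F.map z)).2 ((hb.2.2 _ _).1 ⟨𝟙 _, Category.id_comp _⟩)
    haveI : IsSplitEpi (F.map v) := IsSplitEpi.mk' ⟨w ≫ inv (F.map z₀), by
      rw [← cancel_mono (F.map z), Category.assoc, ← Functor.map_comp, hv, Functor.map_comp, Category.assoc,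
        IsIso.inv_hom_id_assoc, hw, Category.id_comp]⟩
    exact ⟨inferInstance, isIso_of_mono_of_isSplitEpi _⟩
  · haveI : IsMonHom (Iso.refl (F.obj G)).hom := inferInstanceAs (IsMonHom (𝟙 (F.obj G)))
    refine isCentralizerOf_transport (Iso.refl (F.obj G)) (Iso.refl _) (by simp [F])
      ((asIso (F.map z₀)).symm ≪≫ asIso (F.map v)) ?_ hb
    simp only [Iso.trans_hom, Iso.symm_hom, asIso_inv, asIso_hom, Iso.refl_hom, Category.comp_id, Category.assoc]
    rw [← Functor.map_comp, hv, Functor.map_comp, IsIso.inv_hom_id_assoc]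

set_option maxHeartbeats 800000 in
/-- being a Cartan subgroup is insensitive to extensions of algebraically closed fields -/
theorem isCartanOver_bc_iff {k K : Type u} [Field k] [IsAlgClosed k] [Field K] [IsAlgClosed K]
    (θ : Spec (CommRingCat.of K) ⟶ Spec (CommRingCat.of k)) {G C : Over (Spec (CommRingCat.of k))} [GrpObj G]
    [GrpObj C] [Smooth G.hom] [QuasiCompact G.hom] [ConnectedSpace G.left] [Smooth C.hom] [ConnectedSpace C.left]
    (c : C ⟶ G) [IsMonHom c] [Mono c] :
    SGA3x.IsCartanOver K ((Over.pullback θ).map c) ↔ SGA3x.IsCartanOver k c := by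
  haveI : QuasiCompact C.hom := Groth.L08.ActSep.quasiCompact_of_connected fun x => by
    convert isConnected_univ (α := ↥C.left) using 1
    exact Set.eq_univ_of_forall fun y => Subsingleton.elim (α := PrimeSpectrum k) _ _
  haveI : IsSeparated G.hom := Groth.L08.AbelianGrp.isSeparated G
  haveI : IsSeparated C.hom := Groth.L08.AbelianGrp.isSeparated C
  let F := Over.pullback θ
  haveI : IsMonHom (F.map c) := Groth.L25.MonoClosed.isMonHom_pullbackMap _ _
  haveI : Mono (F.map c) := Functor.map_mono _ _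
  haveI : Smooth (Red.bc θ G).hom := MorphismProperty.pullback_snd G.hom θ ‹_›
  haveI : QuasiCompact (Red.bc θ G).hom := MorphismProperty.pullback_snd G.hom θ ‹_›
  haveI : Smooth (Red.bc θ C).hom := MorphismProperty.pullback_snd C.hom θ ‹_›
  haveI : QuasiCompact (Red.bc θ C).hom := MorphismProperty.pullback_snd C.hom θ ‹_›
  constructor
  · rintro ⟨-, -, T', gT', i', hi', hcen⟩
    have hm' := isMaxTorus_of_isMaximalTorus hi'
    haveI := hm'.1; haveI := hm'.2.1
    obtain ⟨T, gT, t, ht⟩ := exists_maxTorus_gen C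
    haveI := ht.1; haveI := ht.2.1
    have htK := isMaxTorus_bc_field ht θ
    haveI := htK.1; haveI := htK.2.1
    obtain ⟨-, -, -, -, hcomm⟩ := torus_props hm'.2.2.1
    obtain ⟨t', ht'⟩ := (hcen.2.2 T' i').2 fun X x h => by rw [← MonObj.mul_comp, ← MonObj.mul_comp, hcomm X x h]
    haveI : IsMonHom t' := isMonHom_of_comp_mono t' (F.map c) i' ht'
    haveI : Mono t' := by haveI : Mono (t' ≫ F.map c) := ht'.symm ▸ hm'.2.1; exact mono_of_mono t' (F.map c)
    obtain ⟨f, hf⟩ := central_torus_le_maxTorus t' hm'.2.2.1 (fun X g s => by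
      rw [← cancel_mono (F.map c), MonObj.mul_comp, MonObj.mul_comp, Category.assoc, ht']
      have := (hcen.2.2 X (g ≫ F.map c)).1 ⟨g, rfl⟩ X (𝟙 X) s
      rwa [Category.id_comp] at this) htK
    have hfi : f ≫ F.map (t ≫ c) = i' := by rw [Functor.map_comp, reassoc_of% hf, ht']
    haveI : IsMonHom (F.map (t ≫ c)) := Groth.L25.MonoClosed.isMonHom_pullbackMap _ _
    haveI : Mono (F.map (t ≫ c)) := by rw [Functor.map_comp]; exact mono_comp _ _
    haveI : IsIso f := hm'.2.2.2 _ (F.map (t ≫ c)) f htK.2.2.1 hfi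
    have hG : AGF.IsMaxTorus (t ≫ c) := by
      refine ⟨inferInstance, mono_comp _ _, ht.2.2.1, fun T₁ _ a _ _ g h₁ hg => ?_⟩
      haveI : IsMonHom (F.map a) := Groth.L25.MonoClosed.isMonHom_pullbackMap _ _
      haveI : Mono (F.map a) := Functor.map_mono _ _
      haveI : IsIso (f ≫ F.map g) := hm'.2.2.2 _ (F.map a) (f ≫ F.map g) (Groth.L25.Locus.isTorus_bc h₁ θ) (by
        rw [Category.assoc, ← Functor.map_comp, hg, hfi])
      haveI : IsIso ((Over.pullback θ).map g) := IsIso.of_isIso_comp_left f (F.map g)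
      exact isIso_of_bc_field θ g
    haveI : IsMonHom (Iso.refl (Red.bc θ G)).hom := inferInstanceAs (IsMonHom (𝟙 _))
    have hcK : Red.IsCentralizerOf (F.map (t ≫ c)) (F.map c) :=
      isCentralizerOf_transport (Iso.refl _) (asIso f).symm (by simp [← hfi]) (Iso.refl _) (by simp [F]) hcen
    have hconn : ∀ s : ↥(Spec (CommRingCat.of k)), _root_.IsConnected (G.hom.base ⁻¹' {s}) := fun s => by
      convert isConnected_univ (α := ↥G.left) using 1
      exact Set.eq_univ_of_forall fun y => Subsingleton.elim (α := PrimeSpectrum k) _ _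
    obtain ⟨Z₀, Z, g₀, gZ, z₀, v, ⟨m₀, n₀, m₁, n₁⟩, -, -, hiso, hcmp⟩ := exists_centralizer_comparison hconn c ht.2.2.1 t
    obtain ⟨e₀, e₁⟩ := (hcmp θ).1 hcK
    haveI := e₀; haveI := e₁
    haveI : IsIso z₀ := isIso_of_bc_field θ z₀
    haveI : IsIso v := isIso_of_bc_field θ v
    exact ⟨inferInstance, inferInstance, T, gT, t ≫ c, isMaximalTorus_of_isMaxTorus hG, hiso inferInstance inferInstance⟩
  · rintro ⟨-, -, T, gT, i, hi, hcen⟩
    have hm := isMaxTorus_bc_field (isMaxTorus_of_isMaximalTorus hi) θ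
    exact ⟨inferInstance, inferInstance, _, _, _, isMaximalTorus_of_isMaxTorus hm, isCentralizerOf_bc θ hcen⟩

/-- `C` is a Cartan subgroup at the geometric point over `s` -/
def CartanAt {S : Scheme.{u}} {G C : Over S} [GrpObj G] [GrpObj C] (c : C ⟶ G) (s : S) : Prop :=
  SGA3x.IsCartanOver (AlgebraicClosure (S.residueField s)) ((Over.pullback (Red.geomPt s)).map c)

variable {S S' : Scheme.{u}} {G C : Over S} [GrpObj G] [GrpObj C]

set_option maxHeartbeats 800000 in
/-- being a Cartan subgroup at a point is compatible with base change -/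
theorem cartanAt_bc [Smooth G.hom] [QuasiCompact G.hom] [Smooth C.hom]
    (hconn : ∀ s : S, _root_.IsConnected (G.hom.base ⁻¹' {s})) (hC : ∀ s : S, _root_.IsConnected (C.hom.base ⁻¹' {s}))
    (c : C ⟶ G) [IsMonHom c] [Mono c] (j : S' ⟶ S) (p : S') :
    CartanAt ((Over.pullback j).map c) p ↔ CartanAt c (j p) := by
  obtain ⟨θ, hθ⟩ := exists_geomPt_map j p
  let q := Red.geomPt (j p)
  let c₀ := (Over.pullback q).map c
  haveI : IsMonHom c₀ := Groth.L25.MonoClosed.isMonHom_pullbackMap _ _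
  haveI : Mono c₀ := Functor.map_mono _ _
  haveI : Smooth (Red.bc q G).hom := MorphismProperty.pullback_snd G.hom q ‹_›
  haveI : QuasiCompact (Red.bc q G).hom := MorphismProperty.pullback_snd G.hom q ‹_›
  haveI : Smooth (Red.bc q C).hom := MorphismProperty.pullback_snd C.hom q ‹_›
  haveI : ConnectedSpace ↥(Red.bc q G).left := connectedSpace_bc_point G hconn q
  haveI : ConnectedSpace ↥(Red.bc q C).left := connectedSpace_bc_point C hC q
  haveI := (isMonHom_fibreIso j θ hθ G).1
  haveI := (isMonHom_fibreIso j θ hθ C).1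
  haveI : IsMonHom (fibreIso j θ hθ G).symm.hom := (isMonHom_fibreIso j θ hθ G).2
  haveI : IsMonHom (fibreIso j θ hθ C).symm.hom := (isMonHom_fibreIso j θ hθ C).2
  refine Iff.trans ⟨fun h => ?_, fun h => ?_⟩ (isCartanOver_bc_iff θ c₀)
  · exact isCartanOver_transport (fibreIso j θ hθ C) (fibreIso j θ hθ G) (fibreIso_naturality j θ hθ c).symm h
  · refine isCartanOver_transport (fibreIso j θ hθ C).symm (fibreIso j θ hθ G).symm ?_ h
    rw [Iso.symm_hom, Iso.symm_hom, Iso.inv_comp_eq, ← Category.assoc, ← fibreIso_naturality, Category.assoc,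
      Iso.hom_inv_id, Category.comp_id]

set_option maxHeartbeats 1600000 in
/-- with a maximal torus on the base, being a Cartan subgroup is open -/
theorem exists_open_cartanAt [Smooth G.hom] [IsSeparated G.hom] [QuasiCompact G.hom] [Smooth C.hom]
    (hconn : ∀ s : S, _root_.IsConnected (G.hom.base ⁻¹' {s})) (hC : ∀ s : S, _root_.IsConnected (C.hom.base ⁻¹' {s}))
    (c : C ⟶ G) [IsMonHom c] [IsClosedImmersion c.left]
    {T : Over S} [GrpObj T] {i₀ : T ⟶ G} (hT : Red.IsMaximalTorus i₀) (p : S) (hp : CartanAt c p) :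
    ∃ O : S.Opens, p ∈ O ∧ ∀ u ∈ O, CartanAt c u := by
  haveI := hT.1; haveI := hT.2.1
  haveI : Mono c := Over.mono_of_mono_left c
  haveI : Smooth T.hom := smooth_of_isTorus hT.2.2.1
  haveI : LocallyOfFinitePresentation c.left := by
    haveI : LocallyOfFinitePresentation (c.left ≫ G.hom) := by rw [Over.w c]; infer_instance
    exact Groth.L20.locallyOfFinitePresentation_of_comp c.left G.hom
  obtain ⟨W, w, hwc, hwl, hW⟩ := Groth.L02.SchDom.exists_conjTransporter (irrFib_of_isTorus hT.2.2.1) i₀ c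
  haveI := hwc; haveI := hwl
  haveI : Mono w := Over.mono_of_mono_left w
  haveI := Groth.L25.Locus.smooth_sends_smooth
    (Groth.L25.Locus.locally_of_multTypeFT (Groth.L25.Locus.isMultTypeFT_of_isTorus hT.2.2.1)) i₀ c w hW
  have hpt : Nonempty (Over.mk (Red.geomPt p) ⟶ W) := by
    obtain ⟨-, -, T', gT', i', hi', hcen⟩ := hp
    haveI : IsMonHom ((Over.pullback (Red.geomPt p)).map i₀) := Groth.L25.MonoClosed.isMonHom_pullbackMap _ _
    haveI : Mono ((Over.pullback (Red.geomPt p)).map i₀) := Functor.map_mono _ _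
    haveI : Smooth (Red.geomFibre p G).hom := inferInstanceAs (Smooth (pullback.snd G.hom (Red.geomPt p)))
    haveI : QuasiCompact (Red.geomFibre p G).hom := inferInstanceAs (QuasiCompact (pullback.snd G.hom (Red.geomPt p)))
    have h' := isMaxTorus_of_isMaximalTorus hi'
    obtain ⟨-, -, -, -, hcomm⟩ := torus_props h'.2.2.1
    haveI := h'.1
    obtain ⟨t', ht'⟩ := (hcen.2.2 T' i').2 fun X x h => by rw [← MonObj.mul_comp, ← MonObj.mul_comp, hcomm X x h]
    obtain ⟨g, f, hf⟩ := exists_maxTorus_conj_any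
      (⟨inferInstance, inferInstance, Groth.L25.Locus.isTorus_bc hT.2.2.1 _,
        fun T₁ _ a _ _ f₁ h₁ hf₁ => hT.2.2.2 p T₁ a f₁ h₁ hf₁⟩ :
        AGF.IsMaxTorus ((Over.pullback (Red.geomPt p)).map i₀)) h'
    let j := Red.geomPt p
    let e : Over.mk j ⟶ Over.mk ((𝟙_ (Over _)).hom ≫ j) := Over.homMk (𝟙 _) (by
      show 𝟙 _ ≫ 𝟙 _ ≫ j = j
      rw [Category.id_comp, Category.id_comp])
    let x : Over.mk j ⟶ G := e ≫ toBase j g
    have hx : ∀ (Y : Over (Spec (CommRingCat.of (AlgebraicClosure (S.residueField p))))),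
        toBase j (toUnit Y ≫ g) = (Over.homMk Y.hom rfl : Over.mk (Y.hom ≫ j) ⟶ Over.mk j) ≫ x := fun Y => by
      apply Over.OverMorphism.ext
      show ((toUnit Y).left ≫ g.left) ≫ _ = Y.hom ≫ 𝟙 _ ≫ g.left ≫ _
      rw [show (toUnit Y).left = Y.hom from (Category.comp_id _).symm.trans (Over.w (toUnit Y)), Category.id_comp,
        Category.assoc]
    have hs := exists_sends_of_fibre j (i₁ := i₀) (i₂ := c) g (f.hom ≫ t') (by
      rw [Category.assoc, ht', hf]) x hx
    obtain ⟨wp, -⟩ := (hW _ x).2 hs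
    exact ⟨wp⟩
  obtain ⟨V, e, he, hpe, ⟨π⟩⟩ := Groth.L25.Locus.exists_etale_nhd_point (W := W) p hpt.some
  haveI := he
  obtain ⟨φ, hφ⟩ := Groth.L25.Locus.exists_half e i₀ c (x := π ≫ w) ((hW _ _).1 ⟨π, rfl⟩)
  obtain ⟨v₀, hv₀⟩ := hpe
  haveI : Smooth (Red.bc e G).hom := MorphismProperty.pullback_snd G.hom e ‹_›
  haveI : QuasiCompact (Red.bc e G).hom := MorphismProperty.pullback_snd G.hom e ‹_›
  haveI : IsSeparated (Red.bc e G).hom := MorphismProperty.pullback_snd G.hom e ‹_›
  haveI : Smooth (Red.bc e C).hom := MorphismProperty.pullback_snd C.hom e ‹_›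
  let c₁ := (Over.pullback e).map c
  haveI : IsMonHom c₁ := Groth.L25.MonoClosed.isMonHom_pullbackMap _ _
  haveI : Mono c₁ := Functor.map_mono _ _
  haveI : IsClosedImmersion c₁.left :=
    MorphismProperty.of_isPullback (P := @IsClosedImmersion) (Groth.L25.SchImage.isPullback_fst_map e c) ‹_›
  haveI : IsSeparated (Red.bc e C).hom := by rw [← Over.w c₁]; infer_instance
  have hm := isMaximalTorus_conj (isMaximalTorus_bc hT e) (Groth.L25.Locus.sectionOf e (π ≫ w))
  haveI := hm.1; haveI := hm.2.1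
  haveI : IsMonHom φ := Groth.L25.Bridge.isMonHom_of_mul φ fun X a b => by
    rw [← cancel_mono c₁, Category.assoc, hφ, MonObj.mul_comp (a ≫ φ) (b ≫ φ) c₁, Category.assoc, Category.assoc, hφ]
    exact MonObj.mul_comp a b _
  have hm' : Red.IsMaximalTorus (φ ≫ c₁) := by rw [hφ]; exact hm
  have hconn' := fun s => Groth.L25.Extension.isConnected_fibre_bc e G hconn s
  have hC' := fun s => Groth.L25.Extension.isConnected_fibre_bc e C hC s
  obtain ⟨Z₀, Z, g₀, gZ, z₀, v, ⟨m₀, n₀, m₁, n₁⟩, ⟨s₀, s₁⟩, hirr, -, hcmp⟩ :=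
    exists_centralizer_comparison hconn' c₁ hm'.2.2.1 φ
  have hcen : Red.IsCentralizerOf ((Over.pullback (Red.geomPt v₀)).map (φ ≫ c₁))
      ((Over.pullback (Red.geomPt v₀)).map c₁) := by
    obtain ⟨-, -, T', gT', i', hi', hcen'⟩ := (cartanAt_bc hconn hC c e v₀).2 (hv₀.symm ▸ hp)
    haveI := hm'.1; haveI := hm'.2.1
    haveI : IsMonHom ((Over.pullback (Red.geomPt v₀)).map (φ ≫ c₁)) := Groth.L25.MonoClosed.isMonHom_pullbackMap _ _
    haveI : Mono ((Over.pullback (Red.geomPt v₀)).map (φ ≫ c₁)) := Functor.map_mono _ _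
    haveI : Smooth (Red.geomFibre v₀ (Red.bc e G)).hom := MorphismProperty.pullback_snd _ _ ‹_›
    haveI : QuasiCompact (Red.geomFibre v₀ (Red.bc e G)).hom := MorphismProperty.pullback_snd _ _ ‹_›
    exact isCentralizerOf_of_le (isMaxTorus_of_isMaximalTorus hi') hcen'
      ⟨inferInstance, inferInstance, Groth.L25.Locus.isTorus_bc hm'.2.2.1 _,
        fun T₁ _ a _ _ f h₁ hf => hm'.2.2.2 v₀ T₁ a f h₁ hf⟩
      ((Over.pullback (Red.geomPt v₀)).map φ) (Functor.map_comp _ _ _).symm
  obtain ⟨i₀', i₁'⟩ := (hcmp _).1 hcen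
  haveI := m₀; haveI := n₀; haveI := m₁; haveI := n₁; haveI := s₀; haveI := s₁
  have hv : Red.geomPt v₀ (IsLocalRing.closedPoint _) = v₀ := by
    show (Spec.map _ ≫ V.fromSpecResidueField v₀) _ = v₀
    rw [Scheme.Hom.comp_apply]
    exact V.fromSpecResidueField_apply v₀ _
  have hfl : ∀ {A B : Over V} (f : A ⟶ B) [IsIso ((Over.pullback (Red.geomPt v₀)).map f)],
      Flat ((Over.pullback (V.fromSpecResidueField v₀)).map f).left := by
    intro A B f _
    haveI : IsIso ((Over.pullback (Red.geomPt v₀)).map f).left :=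
      inferInstanceAs (IsIso ((Over.forget _).map ((Over.pullback (Red.geomPt v₀)).map f)))
    have h := flat_fibre_of_point f (Red.geomPt v₀) inferInstance
    rwa [hv] at h
  haveI := i₀'; haveI := i₁'
  obtain ⟨U₀, hvU₀, hU₀⟩ := exists_open_isOpenImmersion z₀ v₀ (hfl z₀)
  obtain ⟨U₁, hvU₁, hU₁⟩ := exists_open_isOpenImmersion v v₀ (hfl v)
  let U := U₀ ⊓ U₁
  have hcart : ∀ u ∈ U, CartanAt c (e u) := fun u hu => by
    refine (cartanAt_bc hconn hC c e u).1 ?_
    let q := U.ι
    haveI := hU₀ q (U.range_ι.trans_subset (inf_le_left (b := U₁)))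
    haveI := hU₁ q (U.range_ι.trans_subset (inf_le_right (a := U₀)))
    haveI : Smooth (Red.bc q Z₀).hom := MorphismProperty.pullback_snd Z₀.hom q s₀
    haveI : Smooth (Red.bc q (Red.bc e C)).hom := MorphismProperty.pullback_snd _ q ‹_›
    haveI : Smooth (Red.bc q Z).hom := MorphismProperty.pullback_snd Z.hom q s₁
    haveI : IsMonHom ((Over.pullback q).map z₀) := Groth.L25.MonoClosed.isMonHom_pullbackMap _ _
    haveI : IsMonHom ((Over.pullback q).map v) := Groth.L25.MonoClosed.isMonHom_pullbackMap _ _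
    haveI : Mono ((Over.pullback q).map z₀) := Functor.map_mono _ _
    haveI : Mono ((Over.pullback q).map v) := Functor.map_mono _ _
    have h := (hcmp q).2 (isIso_of_open_subgroup (irrFib_bc q (irrFib_of_isConnected (Red.bc e C) hC')) _)
      (isIso_of_open_subgroup (irrFib_bc q hirr) _)
    haveI : IsMonHom ((Over.pullback q).map c₁) := h.1
    haveI : IsClosedImmersion ((Over.pullback q).map c₁).left :=
      MorphismProperty.of_isPullback (P := @IsClosedImmersion) (Groth.L25.SchImage.isPullback_fst_map q c₁) ‹_›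
    refine (cartanAt_bc hconn' hC' c₁ q ⟨u, hu⟩).1 ?_
    haveI : Smooth (Red.bc q (Red.bc e G)).hom := MorphismProperty.pullback_snd _ q ‹_›
    haveI : QuasiCompact (Red.bc q (Red.bc e G)).hom := MorphismProperty.pullback_snd _ q ‹_›
    haveI : Mono ((Over.pullback q).map c₁) := h.2.1
    have hq := isMaximalTorus_bc hm' q
    haveI := hq.1; haveI := hq.2.1
    haveI : IsMonHom ((Over.pullback (Red.geomPt (⟨u, hu⟩ : U.toScheme))).map ((Over.pullback q).map c₁)) :=
      Groth.L25.MonoClosed.isMonHom_pullbackMap _ _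
    refine ⟨inferInstance, Functor.map_mono _ _, _, _, _,
      isMaximalTorus_of_isMaxTorus ⟨Groth.L25.MonoClosed.isMonHom_pullbackMap _ _, Functor.map_mono _ _,
        Groth.L25.Locus.isTorus_bc hq.2.2.1 _, fun T₁ _ a _ _ f h₁ hf => hq.2.2.2 ⟨u, hu⟩ T₁ a f h₁ hf⟩,
      isCentralizerOf_bc _ h⟩
  refine ⟨⟨e '' U, e.isOpenMap _ U.2⟩, ⟨v₀, ⟨hvU₀, hvU₁⟩, hv₀⟩, ?_⟩
  rintro _ ⟨u, hu, rfl⟩
  exact hcart u hu

end Groth.L08.Borel
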