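import Groth.Agent.L08.Borel.Cover
import Groth.Agent.L08.SmallNorm.GaffFun

/-!
# Borel subgroups of connected algebraic groups
-/

set_option autoImplicit false
set_option backward.isDefEq.respectTransparency.types false
set_option linter.style.haveILetI false
set_option linter.unusedSectionVars false

universe u

open CategoryTheory CategoryTheory.Limits MonoidalCategory CartesianMonoidalCategory MonObj GrpObj AlgebraicGeometry
open Topology TopologicalSpace

noncomputable section

namespace Groth.L08.Borel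

variable {k : Type u} [Field k] [IsAlgClosed k]

local notation "U1" => 𝟙_ (Over (Spec (CommRingCat.of k)))

theorem dim_nat_closure {G : Over (Spec (CommRingCat.of k))} [LocallyOfFiniteType G.hom] (x : G.left) :
    ∃ n : ℕ, topologicalKrullDim (closure ({x} : Set G.left)) = (n : WithBot ℕ∞) :=
  Groth.L22.GeomConn.exists_nat_dim_closure G.hom x

/-- a connected solvable closed subgroup lies in a Borel subgroup -/
theorem exists_borel_ge {G S : Over (Spec (CommRingCat.of k))} [GrpObj G] [GrpObj S] [Smooth G.hom]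
    [QuasiCompact G.hom] (i : S ⟶ G) [IsMonHom i] [IsClosedImmersion i.left] [Smooth S.hom] [ConnectedSpace S.left]
    (hS : Red.IsSolvableGrp S) :
    ∃ (B : Over (Spec (CommRingCat.of k))) (_ : GrpObj B) (b : B ⟶ G), Red.IsBorelOver k b ∧
      ∃ f : S ⟶ B, f ≫ b = i := by
  classical
  haveI : LocallyOfFiniteType G.hom := inferInstance
  haveI : CompactSpace G.left := QuasiCompact.compactSpace_of_compactSpace G.hom
  obtain ⟨N, hN⟩ := Groth.L19.AlgGrpBasic.exists_dim_bound G.hom
  let P : ℕ → Prop := fun n => ∃ (B : Over (Spec (CommRingCat.of k))) (_ : GrpObj B) (b : B ⟶ G),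
    (IsMonHom b ∧ IsClosedImmersion b.left ∧ Smooth B.hom ∧ ConnectedSpace B.left ∧ Red.IsSolvableGrp B ∧
      ∃ f : S ⟶ B, f ≫ b = i) ∧ ∃ e : B.left, closure ({e} : Set B.left) = Set.univ ∧
        topologicalKrullDim (closure ({b.left e} : Set G.left)) = (n : WithBot ℕ∞)
  have gen : ∀ (B : Over (Spec (CommRingCat.of k))) [GrpObj B] (b : B ⟶ G), Smooth B.hom → ConnectedSpace B.left →
      ∃ (n : ℕ) (e : B.left), closure ({e} : Set B.left) = Set.univ ∧
        topologicalKrullDim (closure ({b.left e} : Set G.left)) = (n : WithBot ℕ∞) := by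
    intro B _ b hs hc
    haveI := hs; haveI := hc
    haveI : LocallyOfFiniteType B.hom := inferInstance
    haveI : IsLocallyNoetherian B.left := LocallyOfFiniteType.isLocallyNoetherian B.hom
    haveI : IrreducibleSpace B.left := Groth.L25.Component.irreducibleSpace B
    obtain ⟨n, hn⟩ := dim_nat_closure (b.left (genericPoint B.left))
    exact ⟨n, _, (genericPoint_spec _).def, hn⟩
  have hbound : ∀ n, P n → n ≤ N := fun n ⟨B, _, b, _, e, _, hn⟩ => by
    have h := hn ▸ (topologicalKrullDim_subspace_le G.left (closure ({b.left e} : Set G.left))).trans hN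
    exact_mod_cast h
  obtain ⟨n₀, e₀, he₀, hn₀⟩ := gen S i inferInstance inferInstance
  have hP : P n₀ := ⟨S, ‹_›, i, ⟨‹_›, ‹_›, inferInstance, inferInstance, hS, 𝟙 S, Category.id_comp i⟩, e₀, he₀, hn₀⟩
  obtain ⟨B, gB, b, ⟨hm, hc, hs, hcon, hsol, f, hf⟩, e, he, hn⟩ := Nat.findGreatest_spec (hbound _ hP) hP
  refine ⟨B, gB, b, ⟨hm, hc, hs, hcon, hsol, fun B' _ b' _ g hc' hs' hcon' hsol' hg => ?_⟩, f, hf⟩
  obtain ⟨n', e', he', hn'⟩ := gen B' b' hs' hcon'
  have hle : n' ≤ Nat.findGreatest P N := Nat.le_findGreatest (hbound _ ?_) ?_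
  rotate_left
  · exact ⟨B', ‹_›, b', ⟨‹_›, hc', hs', hcon', hsol', f ≫ g, by rw [Category.assoc, hg, hf]⟩, e', he', hn'⟩
  · exact ⟨B', ‹_›, b', ⟨‹_›, hc', hs', hcon', hsol', f ≫ g, by rw [Category.assoc, hg, hf]⟩, e', he', hn'⟩
  haveI := hc; haveI := hc'; haveI := hs'
  have hsp : b'.left e' ⤳ b.left e := by
    rw [← hg, Over.comp_left, Scheme.Hom.comp_apply]
    exact Specializes.map (specializes_iff_mem_closure.2 (by rw [he']; trivial)) b'.left.continuous
  have hsp' : b.left e ⤳ b'.left e' := by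
    by_contra hne
    have h5 := Groth.L22.FibreIrr.dim_lt_of_specializes hsp hne
    rw [hn, hn'] at h5
    have : Nat.findGreatest P N + 1 ≤ n' := by exact_mod_cast h5
    omega
  haveI : IsClosedImmersion (g.left ≫ b'.left) := by rw [← Over.comp_left, hg]; exact hc
  haveI : IsClosedImmersion g.left := IsClosedImmersion.of_comp g.left b'.left
  haveI : Surjective g.left := ⟨fun x => by
    have hx : e' ⤳ x := specializes_iff_mem_closure.2 (by rw [he']; trivial)
    have h1 : b'.left e' ∈ Set.range b.left := hsp'.mem_closed b.left.isClosedEmbedding.isClosed_range ⟨e, rfl⟩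
    obtain ⟨y, hy⟩ := h1
    have h2 : g.left y = e' := b'.left.isClosedEmbedding.injective (by
      rw [← hy, ← hg, Over.comp_left, Scheme.Hom.comp_apply])
    exact Set.mem_range.1 (hx.mem_closed g.left.isClosedEmbedding.isClosed_range ⟨y, h2⟩)⟩
  haveI : IsReduced B'.left := Groth.Agent.AV.isReduced_of_smooth_field B'.hom
  haveI : IsIso g.left := isIso_of_isClosedImmersion_of_surjective g.left
  haveI : IsIso ((Over.forget _).map g) := ‹_›
  exact isIso_of_reflects_iso g (Over.forget _)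

/-- every point of a connected algebraic group lies in a Borel subgroup -/
theorem exists_borel_mem {G : Over (Spec (CommRingCat.of k))} [GrpObj G] [Smooth G.hom] [QuasiCompact G.hom]
    [ConnectedSpace G.left] (g : U1 ⟶ G) :
    ∃ (B : Over (Spec (CommRingCat.of k))) (_ : GrpObj B) (b : B ⟶ G), Red.IsBorelOver k b ∧
      ∃ g' : U1 ⟶ B, g' ≫ b = g := by
  haveI : LocallyOfFiniteType G.hom := inferInstance
  obtain ⟨L, gL, l, Q, gQ, q, hl, hlc, hls, hlcon, hla, -, hq, hqs, hqf, hqlfp, hker, hQp, hQs, hQc⟩ :=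
    Groth.L08.ChevPerf.exists_chevalley G
  haveI := hl; haveI := hlc; haveI := hls; haveI := hlcon; haveI := hla; haveI := hq; haveI := hqs
  haveI := hQp; haveI := hQs; haveI := hQc
  -- the anti-affine part
  haveI := Groth.L08.AffHull.compactSpace (G := G)
  haveI := Groth.L08.AffHull.quasiSeparatedSpace (G := G)
  obtain ⟨_, _, _, _⟩ := Groth.L08.AffHull.hull_props (G := G)
  obtain ⟨D, gD, κ, hκ, hκc, -, sqD⟩ := Groth.L08.AbelianGrp.exists_kernel (Groth.L08.AffHull.rho G)
  haveI := hκ; haveI := hκc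
  haveI : IsAffine (Groth.L08.AffHull.hull G).left := inferInstanceAs (IsAffine (Spec _))
  haveI hsD : Surjective (κ ≫ q).left :=
    Groth.L08.SmallNorm.surjective_of_affine_quotient' q κ (Groth.L08.AffHull.rho G) sqD
  have hDO := Groth.L08.AffHull.isIso_appTop_kernel κ sqD
  haveI : LocallyOfFiniteType D.hom := by rw [← Over.w κ]; infer_instance
  haveI : QuasiCompact D.hom := by rw [← Over.w κ]; infer_instance
  haveI : Smooth D.hom := Groth.L08.AffHull.smooth_of_antiAffine D hDO
  haveI : ConnectedSpace D.left := Groth.L08.AffHull.connectedSpace_of_antiAffine D hDO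
  have hcen : ∀ (T : Over (Spec (CommRingCat.of k))) (m : T ⟶ D) (x : T ⟶ G),
      (m ≫ κ) * x = x * (m ≫ κ) := fun T m x => by
    haveI := hDO
    have hc := Groth.L08.Centre.central (H := D) (G := G) (ConcreteCategory.bijective_of_isIso D.hom.appTop).2 κ
    have := congrArg (fun e => lift m x ≫ e) hc
    simpa only [MonObj.comp_mul, lift_fst_assoc, lift_snd] using this
  -- write the point as a product and move the affine factor into a Borel subgroup
  haveI : Surjective ((l ⊗ₘ κ) ≫ μ[G]).left := (Groth.L08.Chev.surjective_mul_of_surjective l κ q hker hsD).1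
  haveI : LocallyOfFiniteType (L ⊗ D).hom := Groth.L19.AlgGrpBasic.lft_tensor L D
  obtain ⟨p, hp⟩ := exists_pt_lift ((l ⊗ₘ κ) ≫ μ[G]) g (((l ⊗ₘ κ) ≫ μ[G]).left.surjective _)
  obtain ⟨B₀, g₀, i₀, h₀⟩ := exists_borel L
  obtain ⟨x, y, hxy⟩ := exists_conj_mem_borel h₀ (p ≫ fst L D)
  have hB := isBorelOver_conjBy h₀ x
  haveI := hB.1; haveI := hB.2.1; haveI := hB.2.2.1; haveI := hB.2.2.2.1
  haveI : LocallyOfFiniteType B₀.hom := inferInstance
  haveI : IsAffine B₀.left := isAffine_of_isAffineHom (AGF.conjBy x i₀).left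
  haveI : QuasiCompact B₀.hom := quasiCompact_of_compactSpace _
  let j : B₀ ⊗ D ⟶ G := ((AGF.conjBy x i₀ ≫ l) ⊗ₘ κ) ≫ μ[G]
  haveI : IsMonHom j := Groth.L08.Chev.isMonHom_mul (AGF.conjBy x i₀ ≫ l) κ fun T a m => (hcen T m _).symm
  haveI : QuasiCompact (B₀ ⊗ D).hom := Groth.L19.AlgGrpBasic.qc_tensor B₀ D
  haveI : Smooth (B₀ ⊗ D).hom := inferInstanceAs (Smooth (pullback.fst B₀.hom D.hom ≫ B₀.hom))
  haveI : ConnectedSpace (B₀ ⊗ D).left := by
    haveI : IsLocallyNoetherian B₀.left := LocallyOfFiniteType.isLocallyNoetherian B₀.hom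
    haveI : IsLocallyNoetherian D.left := LocallyOfFiniteType.isLocallyNoetherian D.hom
    haveI : IrreducibleSpace B₀.left := Groth.L25.Component.irreducibleSpace B₀
    haveI : IrreducibleSpace D.left := Groth.L25.Component.irreducibleSpace D
    haveI : GeometricallyIrreducible B₀.hom := Groth.L25.Component.geometricallyIrreducible B₀
    haveI : IrreducibleSpace (B₀ ⊗ D).left := Groth.L19.AlgGrpBasic.irreducibleSpace_tensor B₀ D
    infer_instance
  obtain ⟨S, gS, π, iS, hπ, hiS, hfac, hπs, hSc, hSs, hScon, hSsol⟩ := exists_image_smooth j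
  haveI := hiS; haveI := hSc; haveI := hSs; haveI := hScon
  have hsolBD : Red.IsSolvableGrp (B₀ ⊗ D) := by
    refine isSolvableGrp_of_pts ?_
    haveI := isSolvable_pts hB.2.2.2.2.1
    have hcD : ∀ a b : U1 ⟶ D, a * b = b * a := fun a b => by
      haveI : Mono κ := Groth.L08.mono_of_closedImmersion κ
      rw [← cancel_mono κ, MonObj.mul_comp, MonObj.mul_comp, hcen _ a (b ≫ κ)]
    haveI : Group.IsSolvable (U1 ⟶ D) := ⟨⟨1, by
      rw [derivedSeries_one, commutator_eq_bot_iff_center_eq_top, eq_top_iff]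
      exact fun a _ => Subgroup.mem_center_iff.2 fun b => hcD b a⟩⟩
    let Ψ : (U1 ⟶ B₀ ⊗ D) →* (U1 ⟶ B₀) × (U1 ⟶ D) := MonoidHom.mk'
      (fun u => (u ≫ fst B₀ D, u ≫ snd B₀ D)) fun u v => Prod.ext (MonObj.mul_comp _ _ _) (MonObj.mul_comp _ _ _)
    exact Group.isSolvable_of_isSolvable_injective (f := Ψ) fun u v h =>
      CartesianMonoidalCategory.hom_ext _ _ (congrArg Prod.fst h) (congrArg Prod.snd h)
  obtain ⟨B, gB, b, hb, f, hf⟩ := exists_borel_ge iS (hSsol hsolBD)
  refine ⟨B, gB, b, hb, lift y (p ≫ snd L D) ≫ π ≫ f, ?_⟩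
  simp only [Category.assoc, hf, hfac]
  rw [← hp]
  simp only [j, lift_map_assoc, ← Hom.mul_def]
  have e : y ≫ AGF.conjBy x i₀ = p ≫ fst L D := by
    rw [← hxy, comp_conjBy]
    simp only [AGF.conjBy, toUnit_unique (toUnit U1) (𝟙 _), Category.id_comp]
  rw [reassoc_of% e, show (l ⊗ₘ κ) ≫ μ[G] = (fst L D ≫ l) * (snd L D ≫ κ) from by rw [Hom.mul_def]; congr 1,
    MonObj.comp_mul, Category.assoc]

end Groth.L08.Borel
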