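import Groth.Agent.L08.Borel.Fixed
import Groth.Agent.L08.Chev.Comp
import Groth.Agent.L08.Chev.Orbit
import Groth.Agent.L08.MonoClosed
import Groth.Agent.L08.Albanese.ChowImage

/-!
# The reduced identity component has finite index
-/

set_option autoImplicit false
set_option backward.isDefEq.respectTransparency.types false
set_option linter.style.haveILetI false

universe u

open CategoryTheory CategoryTheory.Limits MonoidalCategory CartesianMonoidalCategory MonObj AlgebraicGeometry

noncomputable section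

namespace Groth.L08.Borel

variable {k : Type u} [Field k]

local notation "U1" => 𝟙_ (Over (Spec (CommRingCat.of k)))

/-- quotients of affine groups exist -/
theorem exists_isQuotient {G H : Over (Spec (CommRingCat.of k))} [GrpObj G] [GrpObj H] [IsAffine G.left]
    [LocallyOfFiniteType G.hom] (i : H ⟶ G) [IsMonHom i] [IsClosedImmersion i.left] :
    ∃ (X : Over (Spec (CommRingCat.of k))) (a : AlgGrp.Action G X) (o : U1 ⟶ X), AGF.IsQuotient i X a o := by
  obtain ⟨Q, p, a, hlft, -, hs, hf, -, sq, horb⟩ := Groth.L08.HomSpace.exists_quotient i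
  refine ⟨Q, a, η[G] ≫ p, hlft, ?_, ?_, ?_⟩
  · rw [horb]; exact hf
  · rw [horb]; exact hs
  · rw [horb]; exact sq

/-- translation by a rational point -/
theorem exists_translate {G X : Over (Spec (CommRingCat.of k))} [GrpObj G] (a : AlgGrp.Action G X) (g : U1 ⟶ G) :
    ∃ σ : X ≅ X, ∀ x : U1 ⟶ X, x ≫ σ.hom = lift g x ≫ a.act := by
  have h : ∀ g g' : U1 ⟶ G, (lift (toUnit X ≫ g) (𝟙 X) ≫ a.act) ≫ lift (toUnit X ≫ g') (𝟙 X) ≫ a.act =
      lift (toUnit X ≫ (g' * g)) (𝟙 X) ≫ a.act := fun g g' => by
    rw [MonObj.comp_mul, Groth.L25.Actions.mul_act, ← Category.assoc, comp_lift, ← Category.assoc,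
      toUnit_unique ((lift (toUnit X ≫ g) (𝟙 X) ≫ a.act) ≫ toUnit X) (toUnit X), Category.comp_id]
  have h1 : lift (toUnit X ≫ (1 : U1 ⟶ G)) (𝟙 X) ≫ a.act = 𝟙 X := by
    rw [MonObj.comp_one, Groth.L25.Actions.one_act]
  refine ⟨⟨lift (toUnit X ≫ g) (𝟙 X) ≫ a.act, lift (toUnit X ≫ g⁻¹) (𝟙 X) ≫ a.act, ?_, ?_⟩, fun x => ?_⟩
  · rw [h, inv_mul_cancel, h1]
  · rw [h, mul_inv_cancel, h1]
  · show x ≫ lift (toUnit X ≫ g) (𝟙 X) ≫ a.act = _
    rw [← Category.assoc, comp_lift, ← Category.assoc, toUnit_unique (x ≫ toUnit X) (𝟙 U1), Category.id_comp,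
      Category.comp_id]

variable [IsAlgClosed k]

/-- a subgroup containing an open subset has finite quotient -/
theorem isFinite_quotient_of_isOpen_range {G H X : Over (Spec (CommRingCat.of k))} [GrpObj G] [GrpObj H]
    [IsAffine G.left] [LocallyOfFiniteType G.hom] {i : H ⟶ G} [IsMonHom i] [IsClosedImmersion i.left]
    {a : AlgGrp.Action G X} {o : U1 ⟶ X} (hX : AGF.IsQuotient i X a o) (hopen : IsOpen (Set.range i.left)) :
    IsFinite X.hom := by
  obtain ⟨hsep, hqc⟩ := isSeparated_quotient hX
  haveI := hsep; haveI := hqc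
  haveI := hX.1; haveI := hX.2.1; haveI := hX.2.2.1
  haveI := lfp_orbitMap hX
  haveI : LocallyOfFiniteType H.hom := by rw [← Over.w i]; infer_instance
  have hio : i ≫ a.orbitMap o = toUnit H ≫ o := by
    rw [← one_orbitMap a o]
    exact (orbitMap_eq_iff hX i (1 : H ⟶ G)).2 ⟨GrpObj.inv (X := H), by
      rw [_root_.mul_one, GrpObj.inv_hom i, Hom.inv_def]⟩
  have himg : (a.orbitMap o).left '' (Set.range i.left) = {ptOf o} := by
    rw [← Set.range_comp, ← TopCat.coe_comp, ← Scheme.Hom.comp_base, ← Over.comp_left, hio, Over.comp_left]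
    refine Set.Subset.antisymm ?_ ?_
    · rw [← range_pt o, Scheme.Hom.comp_base, TopCat.coe_comp]
      exact Set.range_comp_subset_range _ _
    · rintro _ rfl
      exact ⟨η[H].left (IsLocalRing.closedPoint k), congrArg o.left (Subsingleton.elim (α := PrimeSpectrum k) _ _)⟩
  have ho : IsOpen ({ptOf o} : Set X.left) := himg ▸ (a.orbitMap o).left.isOpenMap _ hopen
  have hq : ∀ q : U1 ⟶ X, IsOpen ({ptOf q} : Set X.left) := by
    intro q
    obtain ⟨g, rfl⟩ := exists_pt_lift (a.orbitMap o) q ((a.orbitMap o).left.surjective _)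
    obtain ⟨σ, hσ⟩ := exists_translate a g
    have e : g ≫ a.orbitMap o = o ≫ σ.hom := by
      rw [hσ, comp_orbitMap, toUnit_unique (toUnit U1) (𝟙 _), Category.id_comp]
    haveI : IsIso σ.hom.left := inferInstanceAs (IsIso ((Over.forget _).map σ.hom))
    rw [e]
    have : ({ptOf (o ≫ σ.hom)} : Set X.left) = σ.hom.left '' {ptOf o} := by
      rw [Set.image_singleton]; rfl
    rw [this]
    exact σ.hom.left.isOpenEmbedding.isOpenMap _ ho
  haveI : DiscreteTopology X.left := by
    refine discreteTopology_iff_isOpen_singleton.2 fun x => ?_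
    obtain ⟨q, hqx⟩ := exists_pt_mem (X := X) (O := closure {x}) isClosed_closure.isLocallyClosed
      ⟨x, subset_closure rfl⟩
    have hx : x = ptOf q := by
      have hs : x ⤳ ptOf q := specializes_iff_mem_closure.2 hqx
      exact hs.mem_open (hq q) rfl
    exact hx ▸ hq q
  haveI : CompactSpace X.left := QuasiCompact.compactSpace_of_compactSpace X.hom
  haveI : Finite X.left := finite_of_compact_of_discrete
  exact Groth.L21.CurveTop.isFinite_of_discrete X.hom

/-- The reduced identity component is smooth connected, with finite quotient. -/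
theorem exists_red_component (H : Over (Spec (CommRingCat.of k))) [GrpObj H] [IsAffine H.left]
    [LocallyOfFiniteType H.hom] :
    ∃ (K : Over (Spec (CommRingCat.of k))) (_ : GrpObj K) (j : K ⟶ H), IsMonHom j ∧ IsClosedImmersion j.left ∧
      Smooth K.hom ∧ ConnectedSpace K.left ∧
      ∃ (X : Over (Spec (CommRingCat.of k))) (a : AlgGrp.Action H X) (o : U1 ⟶ X),
        AGF.IsQuotient j X a o ∧ IsProper X.hom := by
  obtain ⟨N, gN, j, hj⟩ := Groth.L08.Chev.exists_idComp H
  haveI := hj.hom; haveI := hj.closedImm; haveI := hj.connectedSpace; haveI := hj.lft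
  haveI : QuasiCompact H.hom := quasiCompact_of_compactSpace _
  obtain ⟨K, gK, m, hm, hred, hmc, hmr⟩ := Groth.L08.MonoClosed.exists_reduced_subgroup (G := N) Set.univ isClosed_univ
    trivial (fun _ _ _ => trivial) (fun _ _ => trivial)
  haveI := hm; haveI := hred; haveI := hmc
  haveI : LocallyOfFiniteType K.hom := by rw [← Over.w m]; infer_instance
  haveI : Surjective m.left := ⟨Set.range_eq_univ.1 hmr⟩
  haveI : ConnectedSpace K.left := by
    refine connectedSpace_iff_univ.2 ⟨?_, ?_⟩
    · exact ⟨η[K].left (IsLocalRing.closedPoint k), trivial⟩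
    · refine m.left.isClosedEmbedding.toIsEmbedding.toIsInducing.isPreconnected_image.1 ?_
      rw [Set.image_univ, hmr]
      exact isPreconnected_univ
  haveI := Groth.L08.Chev.geometricallyReduced_of_reduced K
  haveI : GeometricallyIntegral K.hom := Groth.Agent.AV.geometricallyIntegral_of_connected K
  haveI hKs : Smooth K.hom := Groth.L08.Albanese.smooth_of_geometricallyIntegral K
  haveI : IsMonHom (m ≫ j) := inferInstance
  haveI : IsClosedImmersion (m ≫ j).left := inferInstanceAs (IsClosedImmersion (m.left ≫ j.left))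
  obtain ⟨X, a, o, hX⟩ := exists_isQuotient (m ≫ j)
  refine ⟨K, gK, m ≫ j, inferInstance, inferInstance, hKs, inferInstance, X, a, o, hX, ?_⟩
  have hopen : IsOpen (Set.range (m ≫ j).left) := by
    rw [Over.comp_left, Scheme.Hom.comp_base, TopCat.coe_comp, Set.range_comp, hmr, Set.image_univ]
    haveI := hj.openImm
    exact j.left.isOpenEmbedding.isOpen_range
  haveI := isFinite_quotient_of_isOpen_range hX hopen
  infer_instance

end Groth.L08.Borel
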