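import Groth.Agent.L08.Borel.ProperSub
import Groth.Agent.L08.Borel.RedComp
import Groth.Agent.L08.Borel.Conj
import Groth.Agent.S5366
import Groth.Agent.L19.QuotientMap
import Groth.Agent.L08.Chev.Core
import Mathlib.AlgebraicGeometry.Morphisms.FlatDescent

/-!
# `G/B` is proper
-/

set_option autoImplicit false
set_option backward.isDefEq.respectTransparency.types false
set_option linter.style.haveILetI false

universe u

open CategoryTheory CategoryTheory.Limits MonoidalCategory CartesianMonoidalCategory MonObj AlgebraicGeometry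

noncomputable section

namespace Groth.L08.Borel

variable {k : Type u} [Field k]

local notation "U1" => 𝟙_ (Over (Spec (CommRingCat.of k)))

/-- proper quotients compose -/
theorem exists_proper_comp {G P H Z X : Over (Spec (CommRingCat.of k))} [GrpObj G] [GrpObj P] [GrpObj H]
    [IsAffine G.left] [LocallyOfFiniteType G.hom]
    {i : P ⟶ G} [IsMonHom i] [IsClosedImmersion i.left] {h : H ⟶ P} [IsMonHom h] [IsClosedImmersion h.left]
    {a : AlgGrp.Action G X} {o : U1 ⟶ X} (hX : AGF.IsQuotient i X a o) [IsProper X.hom]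
    {c : AlgGrp.Action P Z} {z : U1 ⟶ Z} (hZ : AGF.IsQuotient h Z c z) [IsProper Z.hom] :
    ∃ (Y : Over (Spec (CommRingCat.of k))) (b : AlgGrp.Action G Y) (y : U1 ⟶ Y),
      AGF.IsQuotient (h ≫ i) Y b y ∧ IsProper Y.hom := by
  haveI : IsClosedImmersion (h ≫ i).left := inferInstanceAs (IsClosedImmersion (h.left ≫ i.left))
  obtain ⟨Y, b, y, hY⟩ := exists_isQuotient (h ≫ i)
  refine ⟨Y, b, y, hY, ?_⟩
  obtain ⟨qbar, hq⟩ := exists_desc hY (a.orbitMap o) fun T u v ⟨t, ht⟩ =>
    (orbitMap_eq_iff hX u v).2 ⟨t ≫ h, by rw [Category.assoc]; exact ht⟩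
  haveI := hX.1; haveI := hY.1; haveI := hZ.1
  haveI := hX.2.1; haveI := hX.2.2.1; haveI := hY.2.1; haveI := hY.2.2.1; haveI := hZ.2.1; haveI := hZ.2.2.1
  haveI : IsAffine P.left := isAffine_of_isAffineHom i.left
  haveI : LocallyOfFiniteType P.hom := by rw [← Over.w i]; infer_instance
  haveI : QuasiCompact G.hom := quasiCompact_of_compactSpace _
  haveI : IsLocallyNoetherian X.left := LocallyOfFiniteType.isLocallyNoetherian X.hom
  haveI : IsLocallyNoetherian Y.left := LocallyOfFiniteType.isLocallyNoetherian Y.hom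
  haveI : IsLocallyNoetherian Z.left := LocallyOfFiniteType.isLocallyNoetherian Z.hom
  haveI : QuasiCompact (a.orbitMap o).left := quasiCompact_of_compactSpace _
  haveI : QuasiCompact (b.orbitMap y).left := quasiCompact_of_compactSpace _
  haveI : QuasiCompact (c.orbitMap z).left := quasiCompact_of_compactSpace _
  haveI : Mono i := Over.mono_of_mono_left i
  obtain ⟨Φ, hΦ⟩ := Groth.L19.QuotientMap.exists_isPullback (l := h) rfl hY.2.2.2 hX.2.2.2 hZ.2.2.2
    (Groth.L25.DescHom.cov_of_flat _) (Groth.L25.DescHom.cov_of_flat _) qbar hq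
  have hd : (@Surjective ⊓ @Flat ⊓ @QuasiCompact : MorphismProperty Scheme.{u}) (a.orbitMap o).left :=
    ⟨⟨inferInstance, inferInstance⟩, inferInstance⟩
  haveI : UniversallyClosed (fst G Z).left :=
    MorphismProperty.of_isPullback (P := @UniversallyClosed) (Groth.L25.Actions.isPullback_snd G Z).flip
      (inferInstanceAs (UniversallyClosed Z.hom))
  haveI : UniversallyClosed qbar.left :=
    MorphismProperty.of_isPullback_of_descendsAlong (P := @UniversallyClosed) (hΦ.map (Over.forget _)) hd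
      ‹UniversallyClosed (fst G Z).left›
  obtain ⟨hsep, -⟩ := isSeparated_quotient hY
  haveI : UniversallyClosed Y.hom := by rw [← Over.w qbar]; infer_instance
  exact { toIsSeparated := hsep }

/-- the quotient by the whole group is a point -/
theorem exists_proper_self (G : Over (Spec (CommRingCat.of k))) [GrpObj G] [IsAffine G.left]
    [LocallyOfFiniteType G.hom] :
    ∃ (X : Over (Spec (CommRingCat.of k))) (a : AlgGrp.Action G X) (o : U1 ⟶ X),
      AGF.IsQuotient (𝟙 G) X a o ∧ IsProper X.hom := by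
  haveI : IsClosedImmersion (𝟙 G : G ⟶ G).left := inferInstanceAs (IsClosedImmersion (𝟙 G.left))
  obtain ⟨X, a, o, hX⟩ := exists_isQuotient (𝟙 G)
  refine ⟨X, a, o, hX, ?_⟩
  haveI := effectiveEpi_orbitMap hX
  have e : a.orbitMap o = toUnit G ≫ o := by
    rw [← one_orbitMap a o, ← Category.id_comp (a.orbitMap o)]
    exact (orbitMap_eq_iff hX (𝟙 G) (1 : G ⟶ G)).2 ⟨(𝟙 G)⁻¹, by simp⟩
  have h : X.hom ≫ o.left = 𝟙 X.left := by
    rw [← cancel_epi (a.orbitMap o).left, Category.comp_id, reassoc_of% (Over.w (a.orbitMap o))]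
    exact (congrArg CommaMorphism.left e).symm
  haveI : IsIso X.hom := ⟨o.left, h, Over.w o⟩
  infer_instance

variable [IsAlgClosed k]

theorem isSolvableGrp_of_pts {G : Over (Spec (CommRingCat.of k))} [GrpObj G] [Smooth G.hom] [QuasiCompact G.hom]
    (h : Group.IsSolvable (U1 ⟶ G)) : Red.IsSolvableGrp G := by
  obtain ⟨n, hn⟩ := h.solvable
  refine ⟨n, (Groth.Agent.S5366.result k G k n).1.2 ?_⟩
  have he : Spec.map (CommRingCat.ofHom (algebraMap k k)) = 𝟙 (Spec (CommRingCat.of k)) := by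
    rw [Algebra.algebraMap_self]; exact Spec.map_id _
  let T : Over (Spec (CommRingCat.of k)) := Over.mk (Spec.map (CommRingCat.ofHom (algebraMap k k)))
  let e : T ≅ U1 := Over.isoMk (Iso.refl _) (by show 𝟙 _ ≫ 𝟙 _ = Spec.map _; rw [he, Category.comp_id])
  let Φ : (T ⟶ G) →* (U1 ⟶ G) := MonoidHom.mk' (fun f => e.inv ≫ f) fun f g => MonObj.comp_mul _ _ _
  have hinj : Function.Injective Φ := fun f g hfg => (cancel_epi e.inv).1 hfg
  refine (Subgroup.map_eq_bot_iff_of_injective _ hinj).1 (le_bot_iff.1 ?_)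
  exact (map_derivedSeries_le_derivedSeries Φ n).trans hn.le

/-- an affine connected group has a smooth connected solvable subgroup with proper quotient -/
theorem exists_solvable_proper (G : Over (Spec (CommRingCat.of k))) [GrpObj G] [IsAffine G.left] [Smooth G.hom]
    [ConnectedSpace G.left] :
    ∃ (B : Over (Spec (CommRingCat.of k))) (_ : GrpObj B) (i : B ⟶ G), IsMonHom i ∧ IsClosedImmersion i.left ∧
      Smooth B.hom ∧ ConnectedSpace B.left ∧ Red.IsSolvableGrp B ∧
      ∃ (X : Over (Spec (CommRingCat.of k))) (a : AlgGrp.Action G X) (o : U1 ⟶ X),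
        AGF.IsQuotient i X a o ∧ IsProper X.hom := by
  haveI : LocallyOfFiniteType G.hom := inferInstance
  haveI : QuasiCompact G.hom := quasiCompact_of_compactSpace _
  haveI : IsLocallyNoetherian G.left := LocallyOfFiniteType.isLocallyNoetherian G.hom
  haveI : IsNoetherian G.left := ⟨⟩
  let S : Set (TopologicalSpace.Closeds G.left) := {C | ∃ (B : Over (Spec (CommRingCat.of k))) (_ : GrpObj B)
      (i : B ⟶ G), IsMonHom i ∧ IsClosedImmersion i.left ∧ Set.range i.left = (C : Set G.left) ∧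
      Smooth B.hom ∧ ConnectedSpace B.left ∧ ∃ (X : Over (Spec (CommRingCat.of k))) (a : AlgGrp.Action G X)
        (o : U1 ⟶ X), AGF.IsQuotient i X a o ∧ IsProper X.hom}
  have hS : S.Nonempty := ⟨⊤, G, inferInstance, 𝟙 G, inferInstance, inferInstanceAs (IsClosedImmersion (𝟙 G.left)),
    Set.range_id, inferInstance, inferInstance, exists_proper_self G⟩
  obtain ⟨C, ⟨B, gB, i, hi, hic, hr, hsm, hcon, X, a, o, hX, hpr⟩, hmin⟩ :=
    (wellFounded_lt (α := TopologicalSpace.Closeds G.left)).has_min S hS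
  haveI := hi; haveI := hic; haveI := hsm; haveI := hcon; haveI := hpr
  haveI : IsAffine B.left := isAffine_of_isAffineHom i.left
  haveI : QuasiCompact B.hom := quasiCompact_of_compactSpace _
  refine ⟨B, gB, i, hi, hic, hsm, hcon, ?_, X, a, o, hX, hpr⟩
  by_contra hns
  obtain ⟨H, gH, h, hh, hhc, hne, Z, c, z, hZ, hZp⟩ :=
    exists_proper_subgroup B fun hs => hns (isSolvableGrp_of_pts hs)
  haveI := hh; haveI := hhc; haveI := hZp
  haveI : IsAffine H.left := isAffine_of_isAffineHom h.left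
  haveI : LocallyOfFiniteType H.hom := by rw [← Over.w h]; infer_instance
  obtain ⟨K, gK, j, hj, hjc, hKs, hKc, W, d, w, hW, hWp⟩ := exists_red_component H
  haveI := hj; haveI := hjc; haveI := hWp
  haveI : IsClosedImmersion (h ≫ i).left := inferInstanceAs (IsClosedImmersion (h.left ≫ i.left))
  obtain ⟨Y, b, y, hY, hYp⟩ := exists_proper_comp hX hZ
  haveI := hYp
  obtain ⟨Y', b', y', hY', hYp'⟩ := exists_proper_comp hY hW
  haveI : IsClosedImmersion (j ≫ h ≫ i).left := inferInstanceAs (IsClosedImmersion (j.left ≫ h.left ≫ i.left))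
  let D : TopologicalSpace.Closeds G.left :=
    ⟨Set.range (j ≫ h ≫ i).left, (j ≫ h ≫ i).left.isClosedEmbedding.isClosed_range⟩
  refine hmin D ⟨K, gK, j ≫ h ≫ i, inferInstance, inferInstance, rfl, hKs, hKc, Y', b', y', hY', hYp'⟩ ?_
  refine lt_of_le_of_ne ?_ fun e => hne ?_
  · show Set.range (j ≫ h ≫ i).left ⊆ (C : Set G.left)
    rw [← hr]
    rintro _ ⟨t, rfl⟩
    exact ⟨h.left (j.left t), rfl⟩
  · refine Set.range_eq_univ.2 fun x => ?_
    have e' : Set.range (j ≫ h ≫ i).left = Set.range i.left :=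
      (congrArg (fun E : TopologicalSpace.Closeds G.left => (E : Set G.left)) e).trans hr.symm
    obtain ⟨t, ht⟩ : i.left x ∈ Set.range (j ≫ h ≫ i).left := e' ▸ ⟨x, rfl⟩
    exact ⟨j.left t, i.left.isClosedEmbedding.injective ht⟩

/-- The quotient by a Borel subgroup is proper. -/
theorem isProper_quotient_of_borel {G B X : Over (Spec (CommRingCat.of k))} [GrpObj G] [IsAffine G.left]
    [Smooth G.hom] [ConnectedSpace G.left] [GrpObj B] {iB : B ⟶ G} (hB : Red.IsBorelOver k iB)
    {a : AlgGrp.Action G X} {o : U1 ⟶ X} (hX : AGF.IsQuotient iB X a o) : IsProper X.hom := by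
  obtain ⟨hm, hc, hs, hcon, hsol, hmax⟩ := hB
  haveI := hm; haveI := hc; haveI := hs; haveI := hcon
  haveI : LocallyOfFiniteType G.hom := inferInstance
  haveI : IsAffine B.left := isAffine_of_isAffineHom iB.left
  obtain ⟨B₀, g₀, i₀, hm₀, hc₀, hs₀, hcon₀, hsol₀, X₀, a₀, o₀, hX₀, hp₀⟩ := exists_solvable_proper G
  haveI := hm₀; haveI := hc₀; haveI := hs₀; haveI := hcon₀; haveI := hp₀
  obtain ⟨g, f, hf⟩ := exists_conj_factor iB hsol hX₀
  haveI : IsMonHom (AGF.conjBy g⁻¹ i₀) := isMonHom_conjBy g⁻¹ i₀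
  haveI : Mono i₀ := Over.mono_of_mono_left i₀
  haveI : Mono (AGF.conjBy g⁻¹ i₀) := mono_conjBy g⁻¹ i₀
  haveI : LocallyOfFiniteType B₀.hom := by rw [← Over.w i₀]; infer_instance
  haveI : IsAffine B₀.left := isAffine_of_isAffineHom i₀.left
  haveI : IsAffineHom (AGF.conjBy g⁻¹ i₀).left := isAffineHom_of_isAffine _
  haveI : IsClosedImmersion (AGF.conjBy g⁻¹ i₀).left := Groth.L08.MonoClosed.isClosedImmersion_of_field _
  have hf' : f ≫ AGF.conjBy g⁻¹ i₀ = iB := by
    rw [comp_conjBy, hf, conjBy_conjBy, inv_mul_cancel, conjBy_one]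
  haveI : IsIso f := hmax B₀ (AGF.conjBy g⁻¹ i₀) f ‹_› hs₀ hcon₀ hsol₀ hf'
  have hi₀ : ∀ {T : Over (Spec (CommRingCat.of k))} (t : T ⟶ B₀),
      (toUnit T ≫ g)⁻¹ * (t ≫ i₀) * (toUnit T ≫ g) = (t ≫ inv f) ≫ iB := by
    intro T t
    have h := congrArg (t ≫ ·) (hf'.symm ▸ (IsIso.inv_hom_id_assoc f (AGF.conjBy g⁻¹ i₀)).symm :
      AGF.conjBy g⁻¹ i₀ = inv f ≫ iB)
    rw [comp_conjBy, conjBy_inv, ← Category.assoc] at h
    exact h
  obtain ⟨r, hr⟩ := exists_desc hX₀ (((𝟙 G) * (toUnit G ≫ g)) ≫ a.orbitMap o) fun T x y ⟨t, ht⟩ => by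
    simp only [← Category.assoc, MonObj.comp_mul, Category.comp_id]
    rw [toUnit_unique (x ≫ toUnit G) (toUnit T), toUnit_unique (y ≫ toUnit G) (toUnit T)]
    refine (orbitMap_eq_iff hX _ _).2 ⟨t ≫ inv f, ?_⟩
    rw [← hi₀, ht]
    group
  obtain ⟨hsep, -⟩ := isSeparated_quotient hX
  haveI := hsep; haveI := hX.1; haveI := hX.2.2.1
  haveI : Surjective ((a₀.orbitMap o₀).left ≫ r.left) := by
    rw [← Over.comp_left, hr, Over.comp_left]
    refine ⟨(a.orbitMap o).left.surjective.comp fun x => ?_⟩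
    let σ : G ⟶ G := 𝟙 G * (toUnit G ≫ g)
    let τ : G ⟶ G := 𝟙 G * (toUnit G ≫ g⁻¹)
    refine ⟨τ.left x, ?_⟩
    have e : τ ≫ σ = 𝟙 G := by
      simp only [σ, τ, MonObj.comp_mul, Category.comp_id, ← Category.assoc]
      rw [toUnit_unique ((𝟙 G * (toUnit G ≫ g⁻¹)) ≫ toUnit G) (toUnit G), GrpObj.comp_inv]
      group
    exact congr(($e).left x)
  haveI : Surjective r.left := Surjective.of_comp (a₀.orbitMap o₀).left r.left
  exact Groth.L08.Chev.isProper_of_surjective r

end Groth.L08.Borel
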