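import Groth.Agent.L08.Borel.DynCell
import Groth.Agent.L08.Borel.General
import Groth.Agent.S3900
import Groth.Agent.L25.ConnIrred

/-!
# Transporters of Borel subgroups into subgroups containing them
-/

set_option autoImplicit false
set_option backward.isDefEq.respectTransparency.types false
set_option linter.style.haveILetI false
set_option linter.unusedSectionVars false

universe u

open CategoryTheory CategoryTheory.Limits MonoidalCategory CartesianMonoidalCategory MonObj GrpObj AlgebraicGeometry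
open Groth.L08.TorusQuot (SP)

noncomputable section

namespace Groth.L08.Borel

variable {k : Type u} [Field k]

/-- factorisations through a monomorphism are local on the source -/
theorem factor_of_local {X H G : Over (Spec (CommRingCat.of k))} (g : X ⟶ G) (iH : H ⟶ G) [Mono iH.left]
    (h : ∀ y : X.left, ∃ (V : X.left.Opens) (hV : IsAffineOpen V), y ∈ V ∧ ∃ z, z ≫ iH.left = hV.fromSpec ≫ g.left) :
    ∃ z : X ⟶ H, z ≫ iH = g := by
  choose V hV hy z hz using h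
  let 𝒰 : X.left.OpenCover :=
    (X.left.openCoverOfIsOpenCover V (TopologicalSpace.IsOpenCover.mk (eq_top_iff.2 fun y _ => TopologicalSpace.Opens.mem_iSup.2 ⟨y, hy y⟩)))
  let zz : ∀ y : 𝒰.I₀, 𝒰.X y ⟶ H.left := fun y => (hV y).isoSpec.hom ≫ z y
  have hzz : ∀ y, zz y ≫ iH.left = 𝒰.f y ≫ g.left := fun y =>
    (Category.assoc _ _ _).trans ((congrArg ((hV y).isoSpec.hom ≫ ·) (hz y)).trans
      ((Category.assoc _ _ _).symm.trans (congrArg (· ≫ g.left) (hV y).isoSpec_hom_fromSpec)))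
  let Z := 𝒰.glueMorphisms zz fun a b => (cancel_mono iH.left).1
    ((Category.assoc _ _ _).trans ((congrArg (pullback.fst (𝒰.f a) (𝒰.f b) ≫ ·) (hzz a)).trans
      ((pullback.condition_assoc _).trans ((congrArg (pullback.snd (𝒰.f a) (𝒰.f b) ≫ ·) (hzz b).symm).trans
        (Category.assoc _ _ _).symm))))
  have hZ : Z ≫ iH.left = g.left := 𝒰.hom_ext _ _ fun y => by
    rw [← Category.assoc, Scheme.Cover.ι_glueMorphisms, hzz]
  exact ⟨Over.homMk Z (by rw [← Over.w iH, reassoc_of% hZ, Over.w g]), Over.OverMorphism.ext hZ⟩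

variable [IsAlgClosed k]

local notation "U1" => 𝟙_ (Over (Spec (CommRingCat.of k)))

/-- a smooth connected solvable subgroup through which the transporters into closed subgroups are trivial -/
theorem exists_rigid_subgroup {G T C : Over (Spec (CommRingCat.of k))} [GrpObj G] [GrpObj T] [GrpObj C]
    [IsAffine G.left] [Smooth G.hom] [ConnectedSpace G.left] {iT : T ⟶ G} (hT : AGF.IsMaxTorus iT) {c : C ⟶ G}
    (hc : Red.IsCentralizerOf iT c) :
    ∃ (W : Over (Spec (CommRingCat.of k))) (_ : GrpObj W) (iw : W ⟶ G) (t : T ⟶ W),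
      IsMonHom iw ∧ IsClosedImmersion iw.left ∧ Smooth W.hom ∧ ConnectedSpace W.left ∧ Red.IsSolvableGrp W ∧
      t ≫ iw = iT ∧
      ∀ (H : Over (Spec (CommRingCat.of k))) [GrpObj H] (iH : H ⟶ G) [IsMonHom iH] [IsClosedImmersion iH.left],
        (∃ w : W ⟶ H, w ≫ iH = iw) → ∀ (X : Over (Spec (CommRingCat.of k))) (g : X ⟶ G),
          (∀ (X' : Over (Spec (CommRingCat.of k))) (x : X' ⟶ X) (y : X' ⟶ W),
            ∃ h' : X' ⟶ H, (x ≫ g)⁻¹ * (y ≫ iw) * (x ≫ g) = h' ≫ iH) →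
          ∃ z : X ⟶ H, z ≫ iH = g := by
  obtain ⟨W, gW, iw, t, Q, q, a, p, h1, h2, h3, h4, h5, ht, hqo, ⟨e₀, -⟩, hqap, -, key⟩ := exists_cell hT hc
  refine ⟨W, gW, iw, t, h1, h2, h3, h4, h5, ht, fun H _ iH _ _ hw X g hg => ?_⟩
  obtain ⟨w, hw⟩ := hw
  haveI := hqo
  haveI : LocallyOfFiniteType G.hom := inferInstance
  haveI : IrreducibleSpace G.left := Groth.L25.ConnIrred.irreducibleSpace G
  let Ω := q.left.opensRange
  have hΩ : (Ω : Set G.left).Nonempty := ⟨_, Set.mem_range_self (e₀.left (IsLocalRing.closedPoint k))⟩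
  let L : (U1 ⟶ G) → (G ⟶ G) := fun x => (toUnit G ≫ x) * 𝟙 G
  have hcover : ∀ z : G.left, ∃ x : U1 ⟶ G, ptOf x ∈ Ω ∧ (L x).left z ∈ Ω := by
    by_contra hcon
    push Not at hcon
    obtain ⟨z, hz⟩ := hcon
    let O : Set G.left := ⋃ x : {x : U1 ⟶ G // ptOf x ∈ Ω}, (L x.1).left ⁻¹' Ω
    have hO : IsOpen O := isOpen_iUnion fun x => Ω.isOpen.preimage (L x.1).left.continuous
    obtain ⟨g₀, hg₀⟩ := exists_pt_mem (X := G) (O := Oᶜ) hO.isClosed_compl.isLocallyClosed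
      ⟨z, fun hzO => by obtain ⟨x, hx⟩ := Set.mem_iUnion.1 hzO; exact hz x.1 x.2 hx⟩
    let R₀ : G ⟶ G := 𝟙 G * (toUnit G ≫ g₀)
    haveI : IsIso R₀ := ⟨𝟙 G * (toUnit G ≫ g₀)⁻¹, by
      constructor
      · simp only [R₀, MonObj.comp_mul, GrpObj.comp_inv, Category.comp_id, ← Category.assoc,
          toUnit_unique ((𝟙 G * (toUnit G ≫ g₀)) ≫ toUnit G) (toUnit G), mul_inv_cancel_right]
      · simp only [R₀, MonObj.comp_mul, Category.comp_id, ← Category.assoc,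
          toUnit_unique ((𝟙 G * (toUnit G ≫ g₀)⁻¹) ≫ toUnit G) (toUnit G), inv_mul_cancel_right]⟩
    haveI : IsIso R₀.left := inferInstanceAs (IsIso ((Over.forget _).map R₀))
    obtain ⟨y, hy⟩ := hΩ
    have hne : ((Ω : Set G.left) ∩ R₀.left ⁻¹' Ω).Nonempty :=
      nonempty_preirreducible_inter Ω.isOpen (Ω.isOpen.preimage R₀.left.continuous) ⟨y, hy⟩
        ⟨(inv R₀.left) y, by
          show R₀.left ((inv R₀.left) y) ∈ Ω
          rw [← Scheme.Hom.comp_apply, IsIso.inv_hom_id]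
          exact hy⟩
    obtain ⟨x, hx1, hx2⟩ := exists_pt_mem (X := G)
      (Ω.isOpen.inter (Ω.isOpen.preimage R₀.left.continuous)).isLocallyClosed hne
    refine hg₀ (Set.mem_iUnion.2 ⟨⟨x, hx1⟩, ?_⟩)
    have e : g₀ ≫ L x = x ≫ R₀ := by
      simp only [L, R₀, MonObj.comp_mul, Category.comp_id, ← Category.assoc, toUnit_unique (g₀ ≫ toUnit G) (𝟙 _),
        toUnit_unique (x ≫ toUnit G) (𝟙 _), Category.id_comp]
    show ptOf (g₀ ≫ L x) ∈ Ω
    rw [e]
    exact hx2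
  refine factor_of_local g iH fun y => ?_
  obtain ⟨x, hx, hxy⟩ := hcover (g.left y)
  let gx : X ⟶ G := g ≫ L x
  obtain ⟨_, ⟨V, hV, rfl⟩, hyV, hVsub⟩ := X.left.isBasis_affineOpens.exists_subset_of_mem_open
    (show y ∈ gx.left ⁻¹ᵁ Ω from hxy) (gx.left ⁻¹ᵁ Ω).isOpen
  refine ⟨V, hV, hyV, ?_⟩
  letI : Algebra k Γ(X.left, V) := (Spec.preimage (hV.fromSpec ≫ X.hom)).hom.toAlgebra
  let s : SP k Γ(X.left, V) ⟶ X := Over.homMk hV.fromSpec (Spec.map_preimage _).symm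
  haveI : LocallyOfFiniteType Q.hom := by rw [← Over.w q]; infer_instance
  obtain ⟨x₀, hx₀⟩ := exists_pt_lift (X := Q) q x hx
  have hr : Set.range (s ≫ gx).left ⊆ Set.range q.left := by
    rintro _ ⟨v, rfl⟩
    refine hVsub ?_
    rw [← hV.range_fromSpec]
    exact ⟨v, rfl⟩
  let v₀ := IsOpenImmersion.lift q.left (s ≫ gx).left hr
  let v : SP k Γ(X.left, V) ⟶ Q := Over.homMk v₀ (by
    rw [← Over.w q, ← Category.assoc, IsOpenImmersion.lift_fac, Over.w])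
  have hv : v ≫ q = s ≫ gx := Over.OverMorphism.ext (IsOpenImmersion.lift_fac _ _ _)
  let u : SP k Γ(X.left, V) ⟶ Q := toUnit _ ≫ x₀
  obtain ⟨h', hh'⟩ := hg _ s (u ≫ p)
  have hconjT : ∀ (X' : Over (Spec (CommRingCat.of k))) (x' : X' ⟶ SP k Γ(X.left, V)) (σ : X' ⟶ T),
      ∃ h'' : X' ⟶ H, (x' ≫ s ≫ g)⁻¹ * (σ ≫ iT) * (x' ≫ s ≫ g) = h'' ≫ iH := fun X' x' σ => by
    obtain ⟨h'', e⟩ := hg X' (x' ≫ s) (σ ≫ t)
    refine ⟨h'', ?_⟩
    rw [← e, Category.assoc, Category.assoc, ht]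
  obtain ⟨z, hz⟩ := key H iH Γ(X.left, V) (s ≫ g) u v ((v ≫ p ≫ w) * h'⁻¹) ⟨t ≫ w, by
    rw [Category.assoc, hw, ht]⟩ hconjT (by
    have e1 : s ≫ gx = (toUnit _ ≫ x) * (s ≫ g) := by
      simp only [gx, L, MonObj.comp_mul, Category.comp_id, ← Category.assoc,
        toUnit_unique ((s ≫ g) ≫ toUnit G) (toUnit (SP k Γ(X.left, V)))]
    have e2 : (u ≫ a) * (u ≫ p ≫ iw) = toUnit _ ≫ x := by
      rw [← MonObj.comp_mul, ← hqap, ← hx₀, Category.assoc]
    rw [← e2] at e1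
    rw [← hv, hqap, MonObj.comp_mul] at e1
    simp only [u, Category.assoc] at e1 hh' ⊢
    simp only [MonObj.mul_comp, GrpObj.inv_comp, Category.assoc, hw]
    rw [← hh', ← _root_.mul_assoc (v ≫ a), e1]
    group)
  exact ⟨z.left, congrArg CommaMorphism.left hz⟩

omit [IsAlgClosed k] in
/-- conjugates of closed subgroups are closed -/
theorem isClosedImmersion_conjBy {G H : Over (Spec (CommRingCat.of k))} [GrpObj G] (g : U1 ⟶ G) (i : H ⟶ G)
    [IsClosedImmersion i.left] : IsClosedImmersion (AGF.conjBy g i).left := by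
  let τ := AGF.conjBy g (𝟙 G)
  have h : ∀ a : U1 ⟶ G, AGF.conjBy a (𝟙 G) ≫ AGF.conjBy a⁻¹ (𝟙 G) = 𝟙 G := fun a => by
    rw [comp_conjBy, Category.comp_id, conjBy_conjBy, inv_mul_cancel, conjBy_one]
  haveI : IsIso τ := ⟨AGF.conjBy g⁻¹ (𝟙 G), h g, by have := h g⁻¹; rwa [_root_.inv_inv] at this⟩
  haveI : IsIso τ.left := inferInstanceAs (IsIso ((Over.forget _).map τ))
  have e : AGF.conjBy g i = i ≫ τ := by rw [comp_conjBy, Category.comp_id]
  rw [e, Over.comp_left]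
  infer_instance

/-- a point conjugating a Borel subgroup into a closed subgroup containing it lies in the subgroup -/
theorem mem_of_conj_borel {G P B : Over (Spec (CommRingCat.of k))} [GrpObj G] [GrpObj P] [GrpObj B]
    [IsAffine G.left] [Smooth G.hom] [ConnectedSpace G.left] (iP : P ⟶ G) [IsMonHom iP] [IsClosedImmersion iP.left]
    {iB : B ⟶ G} (hB : Red.IsBorelOver k iB) (b : B ⟶ P) (hb : b ≫ iP = iB)
    (X : Over (Spec (CommRingCat.of k))) (g : X ⟶ G)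
    (hg : ∀ (X' : Over (Spec (CommRingCat.of k))) (x : X' ⟶ X) (h : X' ⟶ B),
      ∃ h' : X' ⟶ P, (x ≫ g)⁻¹ * (h ≫ iB) * (x ≫ g) = h' ≫ iP) :
    ∃ z : X ⟶ P, z ≫ iP = g := by
  obtain ⟨B₁, _, i₁, hB₁⟩ := exists_borel G
  obtain ⟨T, _, iT₁, -, hTm, hTmono, hT, -, -, -, -, habs⟩ := exists_absorbing_of_borel hB₁
  haveI := hB₁.1; haveI := hB₁.2.1; haveI := hTm; haveI := hTmono
  haveI : Mono i₁ := Groth.L08.mono_of_closedImmersion i₁
  haveI : Mono (iT₁ ≫ i₁) := mono_comp _ _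
  have hmax : AGF.IsMaxTorus (iT₁ ≫ i₁) := isMaxTorus_of_absorbing _ hT habs
  obtain ⟨C, _, c, hc⟩ := exists_centralizer_torus (iT₁ ≫ i₁) hT
  obtain ⟨W, gW, iw, t, hw1, hw2, hw3, hw4, hw5, ht, key⟩ := exists_rigid_subgroup hmax hc
  haveI := hw1; haveI := hw2; haveI := hw3; haveI := hw4
  haveI : QuasiCompact G.hom := quasiCompact_of_compactSpace _
  obtain ⟨B₀, gB₀, i₀, h₀, f, hf⟩ := exists_borel_ge iw hw5
  obtain ⟨x, e, he⟩ := Groth.Agent.S3900.result k G B₀ B i₀ iB h₀ hB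
  haveI := isMonHom_conjBy x⁻¹ iP
  haveI := isClosedImmersion_conjBy x⁻¹ iP
  obtain ⟨z, hz⟩ := key P (AGF.conjBy x⁻¹ iP) ⟨f ≫ e.hom ≫ b, by
    rw [comp_conjBy, Category.assoc, Category.assoc, hb, he, comp_conjBy, conjBy_conjBy, inv_mul_cancel, conjBy_one, hf]⟩
    X (AGF.conjBy x⁻¹ g) fun X' y w => by
    obtain ⟨h', hh'⟩ := hg X' y (w ≫ f ≫ e.hom)
    refine ⟨h', ?_⟩
    have e1 : (w ≫ f ≫ e.hom) ≫ iB = AGF.conjBy x (w ≫ iw) := by
      rw [Category.assoc, Category.assoc, he, comp_conjBy, hf, comp_conjBy]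
    rw [e1] at hh'
    rw [comp_conjBy, comp_conjBy, ← hh']
    simp only [AGF.conjBy, GrpObj.comp_inv]
    group
  refine ⟨z, ?_⟩
  rw [comp_conjBy] at hz
  have := congrArg (AGF.conjBy x) hz
  rwa [conjBy_conjBy, conjBy_conjBy, mul_inv_cancel, conjBy_one, conjBy_one] at this

end Groth.L08.Borel
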