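import Groth.Agent.L08.Borel.GenImage
import Groth.Agent.L25.TorLift.TorusCov
import Groth.Agent.L25.SplitSub.ImageMult
import Groth.Agent.L25.MonoClosed.Main
import Groth.Agent.L25.Locus.Transporter
import Groth.Agent.L25.Dyn.CentConn

/-!
# The image of a maximal torus, any base
-/

set_option autoImplicit false
set_option backward.isDefEq.respectTransparency.types false
set_option linter.style.haveILetI false
set_option linter.unusedSectionVars false

universe u

open CategoryTheory CategoryTheory.Limits MonoidalCategory CartesianMonoidalCategory MonObj GrpObj AlgebraicGeometry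
open Topology TopologicalSpace

noncomputable section

namespace Groth.L08.Borel

/-- a group of multiplicative type whose geometric fibres are tori is a torus -/
theorem isTorus_of_geomFibres {S : Scheme.{u}} {H : Over S} [GrpObj H] (hH : SGA3x.IsMultTypeFT H)
    (h₀ : ∀ x : S, Red.IsTorus (Red.geomFibre x H)) : Red.IsTorus H := by
  obtain ⟨S', f, hflat, hsurj, hqc, hloc⟩ := hH
  refine ⟨S', f, hflat, hsurj, hqc, fun s => ?_⟩
  obtain ⟨U, hU, M, _, -, ⟨e⟩⟩ := hloc s
  let s' : U.toScheme := ⟨s, hU⟩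
  let x : S := (U.ι ≫ f) s'
  let K := AlgebraicClosure (U.toScheme.residueField s')
  letI : Algebra (S.residueField x) (U.toScheme.residueField s') :=
    ((U.ι ≫ f).residueFieldMap s').hom.toAlgebra
  letI : Algebra (S.residueField x) K :=
    ((algebraMap (U.toScheme.residueField s') K).comp (algebraMap (S.residueField x) (U.toScheme.residueField s'))).toAlgebra
  let φ : AlgebraicClosure (S.residueField x) →ₐ[S.residueField x] K := IsAlgClosed.lift
  let q : Spec (CommRingCat.of K) ⟶ U.toScheme :=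
    Spec.map (CommRingCat.ofHom (algebraMap (U.toScheme.residueField s') K)) ≫ U.toScheme.fromSpecResidueField s'
  let ξ₀ : Spec (CommRingCat.of K) ⟶ Spec (CommRingCat.of (AlgebraicClosure (S.residueField x))) :=
    Spec.map (CommRingCat.ofHom φ.toRingHom)
  have hξ : ξ₀ ≫ Red.geomPt x = q ≫ U.ι ≫ f := by
    simp only [ξ₀, q, Red.geomPt, Category.assoc]
    rw [← Category.assoc (Spec.map _) (Spec.map _), ← Spec.map_comp, ← CommRingCat.ofHom_comp,
      show φ.toRingHom.comp (algebraMap (S.residueField x) (AlgebraicClosure (S.residueField x))) =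
        (algebraMap (U.toScheme.residueField s') K).comp ((U.ι ≫ f).residueFieldMap s').hom from φ.comp_algebraMap,
      CommRingCat.ofHom_comp, Spec.map_comp, Category.assoc]
    congr 1
    exact Scheme.Hom.SpecMap_residueFieldMap_fromSpecResidueField (U.ι ≫ f) s'
  obtain ⟨K', _, _, r, ⟨d⟩⟩ := Groth.L25.Dyn.exists_field_split (Groth.L25.Locus.isTorus_bc (h₀ x) ξ₀)
  let π := Spec.map (CommRingCat.ofHom (algebraMap K K'))
  let e1 : Grp.mk (Red.bc π (Red.bc ξ₀ (Red.bc (Red.geomPt x) H))) ≅ Grp.mk (Red.bc (π ≫ q ≫ U.ι ≫ f) H) :=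
    (Over.pullback π).mapGrp.mapIso (Grp.mkIso' (ActBC.bcCompIso ξ₀ (Red.geomPt x) H hξ)) ≪≫
      Grp.mkIso' (ActBC.bcCompIso π (q ≫ U.ι ≫ f) H rfl)
  let e2 := Groth.L25.TrivLocus.restrictIso (U.ι ≫ f) (π ≫ q) e (d := π ≫ q ≫ U.ι ≫ f) (Category.assoc _ _ _)
  obtain ⟨g⟩ := Groth.L25.TorLift.addEquiv_of_ds (e2.symm ≪≫ e1.symm ≪≫ d)
  exact ⟨U, hU, r, ⟨e ≪≫ Groth.L25.TorLift.dsCongr _ g⟩⟩

variable {k : Type u} [Field k] [IsAlgClosed k]

/-- a maximal torus of the identity component is one of the group, and conversely -/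
theorem isMaxTorus_comp_idComp {G G₀ T : Over (Spec (CommRingCat.of k))} [GrpObj G] [GrpObj G₀] [GrpObj T]
    {j : G₀ ⟶ G} (hj : Groth.L08.Chev.IdCompData j) {t : T ⟶ G₀} (ht : AGF.IsMaxTorus t) :
    AGF.IsMaxTorus (t ≫ j) := by
  haveI := hj.hom; haveI := hj.closedImm
  haveI : Mono j := Groth.L08.mono_of_closedImmersion j
  haveI := ht.1; haveI := ht.2.1
  refine ⟨inferInstance, mono_comp _ _, ht.2.2.1, fun S _ i _ _ f hS hf => ?_⟩
  obtain ⟨-, -, b3, -, -⟩ := torus_props hS
  haveI := b3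
  obtain ⟨w, hw⟩ := hj.exists_lift_hom i
  haveI : IsMonHom w := isMonHom_of_comp_mono w j i hw
  haveI : Mono w := by haveI : Mono (w ≫ j) := hw.symm ▸ inferInstance; exact mono_of_mono w j
  exact ht.2.2.2 S w f hS (by rw [← cancel_mono j, Category.assoc, hw, hf])

/-- a surjective homomorphism of smooth groups is surjective on identity components -/
theorem exists_surjective_idComp {G G' G₀ G₀' : Over (Spec (CommRingCat.of k))} [GrpObj G] [GrpObj G'] [GrpObj G₀]
    [GrpObj G₀'] [Smooth G.hom] [QuasiCompact G.hom] [Smooth G'.hom] {j : G₀ ⟶ G}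
    (hj : Groth.L08.Chev.IdCompData j) {j' : G₀' ⟶ G'} (hj' : Groth.L08.Chev.IdCompData j') (u : G ⟶ G') [IsMonHom u]
    [Surjective u.left] :
    ∃ u₀ : G₀ ⟶ G₀', IsMonHom u₀ ∧ Surjective u₀.left ∧ u₀ ≫ j' = j ≫ u := by
  haveI := hj.hom; haveI := hj.closedImm; haveI := hj.smooth; haveI := hj.connectedSpace; haveI := hj.quasiCompact
  haveI := hj'.hom; haveI := hj'.closedImm; haveI := hj'.connectedSpace
  haveI : Mono j' := Groth.L08.mono_of_closedImmersion j'
  haveI : LocallyOfFiniteType G.hom := inferInstance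
  haveI : LocallyOfFiniteType G'.hom := inferInstance
  haveI : LocallyOfFiniteType G₀.hom := inferInstance
  haveI : IsReduced G'.left := Groth.Agent.AV.isReduced_of_smooth_field G'.hom
  obtain ⟨u₀, hu₀⟩ := hj'.exists_lift_hom (j ≫ u)
  refine ⟨u₀, isMonHom_of_comp_mono u₀ j' _ hu₀, ?_, hu₀⟩
  -- the homomorphism is open
  obtain ⟨C, gC, p, i, hp, hi, hpi, hpf, hps, hplfp, hic⟩ := Groth.L08.AbelianGrp.exists_image u
  haveI := hpf; haveI := hps; haveI := hplfp; haveI := hic
  haveI : Surjective i.left := ⟨fun y => by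
    obtain ⟨x, hx⟩ := u.left.surjective y
    exact ⟨p.left x, by rw [← Scheme.Hom.comp_apply, ← Over.comp_left, hpi, hx]⟩⟩
  haveI : IsIso i.left := isIso_of_isClosedImmersion_of_surjective i.left
  have hopen : IsOpenMap u.left := by
    rw [← hpi]
    show IsOpenMap (p.left ≫ i.left)
    haveI : IsOpenImmersion i.left := IsOpenImmersion.of_isIso _
    exact i.left.isOpenEmbedding.isOpenMap.comp p.left.isOpenMap
  -- the image of the component is clopen
  haveI := hj.openImm; haveI := hj'.openImm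
  obtain ⟨D, gD, q, d, hq, hd, hqd, hqf, hqs, hqlfp, hdc⟩ := Groth.L08.AbelianGrp.exists_image (j ≫ u)
  haveI := hqs; haveI := hdc
  have e : Set.range (j ≫ u).left = Set.range d.left := by
    rw [← hqd]
    exact (q.left.surjective.range_comp d.left)
  have hclopen : IsClopen (Set.range (j ≫ u).left) := by
    refine ⟨e ▸ d.left.isClosedEmbedding.isClosed_range, ?_⟩
    rw [show Set.range (j ≫ u).left = u.left '' Set.range j.left from Set.range_comp u.left j.left]
    exact hopen _ j.left.isOpenEmbedding.isOpen_range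
  haveI := hj.connectedSpace
  have huniv : j'.left ⁻¹' Set.range (j ≫ u).left = Set.univ :=
    (hclopen.preimage j'.left.continuous).eq_univ ⟨u₀.left (Classical.arbitrary _), Classical.arbitrary _, by
      rw [← hu₀]; rfl⟩
  refine ⟨fun y => ?_⟩
  obtain ⟨x, hx⟩ := huniv.ge (Set.mem_univ y)
  refine ⟨x, j'.left.isClosedEmbedding.injective ?_⟩
  rw [← hx, ← hu₀]; rfl

/-- **images of maximal tori are maximal tori, no connectedness assumed** -/
theorem isMaxTorus_image_any {G G' T Q : Over (Spec (CommRingCat.of k))} [GrpObj G] [GrpObj G'] [GrpObj T] [GrpObj Q]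
    [Smooth G.hom] [QuasiCompact G.hom] [Smooth G'.hom] [QuasiCompact G'.hom] (u : G ⟶ G') [IsMonHom u]
    [Surjective u.left] {iT : T ⟶ G} (hT : AGF.IsMaxTorus iT) (iQ : Q ⟶ G') [IsMonHom iQ] [IsClosedImmersion iQ.left]
    (w : T ⟶ Q) [IsMonHom w] [Flat w.left] [Surjective w.left] (hw : w ≫ iQ = iT ≫ u) :
    AGF.IsMaxTorus iQ := by
  haveI := hT.1; haveI := hT.2.1
  haveI : LocallyOfFiniteType G.hom := inferInstance
  haveI : LocallyOfFiniteType G'.hom := inferInstance
  haveI : Mono iQ := Groth.L08.mono_of_closedImmersion iQ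
  obtain ⟨G₀, g₀, j, hj⟩ := Groth.L08.Chev.exists_idComp G
  obtain ⟨G₀', g₀', j', hj'⟩ := Groth.L08.Chev.exists_idComp G'
  haveI := hj.hom; haveI := hj.closedImm; haveI := hj.smooth; haveI := hj.connectedSpace; haveI := hj.quasiCompact
  haveI := hj'.hom; haveI := hj'.closedImm; haveI := hj'.smooth; haveI := hj'.connectedSpace; haveI := hj'.quasiCompact
  haveI : Mono j := Groth.L08.mono_of_closedImmersion j
  haveI : Mono j' := Groth.L08.mono_of_closedImmersion j'
  obtain ⟨u₀, hu₀, hu₀s, hu₀j⟩ := exists_surjective_idComp hj hj' u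
  haveI := hu₀; haveI := hu₀s
  obtain ⟨a1, a2, a3, -, -⟩ := torus_props hT.2.2.1
  haveI := a1; haveI := a2; haveI := a3
  haveI : ConnectedSpace Q.left := w.left.surjective.connectedSpace w.left.continuous
  obtain ⟨t, ht⟩ := hj.exists_lift_hom iT
  obtain ⟨q, hq⟩ := hj'.exists_lift_hom iQ
  haveI : IsMonHom q := isMonHom_of_comp_mono q j' iQ hq
  haveI : Mono q := by haveI : Mono (q ≫ j') := hq.symm ▸ inferInstance; exact mono_of_mono q j'
  have h := (isMaxTorus_image_gen u₀ (isMaxTorus_factor (iB := j) (ht.symm ▸ hT)) q w (by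
    rw [← cancel_mono j', Category.assoc, hq, hw, Category.assoc, hu₀j, reassoc_of% ht])).1
  exact hq ▸ isMaxTorus_comp_idComp hj' h

/-- **the image of a maximal torus is a maximal torus, any base** -/
theorem exists_image_maximalTorus {S : Scheme.{u}} {G G' T : Over S} [GrpObj G] [GrpObj G'] [GrpObj T]
    [Smooth G.hom] [QuasiCompact G.hom] [Smooth G'.hom] [IsSeparated G'.hom] [QuasiCompact G'.hom]
    (f : G ⟶ G') [IsMonHom f] (hf : ∀ s : S, Surjective ((Over.pullback (Red.geomPt s)).map f).left) {i : T ⟶ G}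
    (hT : Red.IsMaximalTorus i) :
    ∃ (T' : Over S) (_ : GrpObj T') (i' : T' ⟶ G') (v : T ⟶ T'), Red.IsMaximalTorus i' ∧ IsMonHom v ∧
      v ≫ i' = i ≫ f ∧ Surjective v.left ∧ Flat v.left := by
  haveI := hT.1; haveI := hT.2.1
  haveI : LocallyOfFinitePresentation G'.hom := inferInstance
  obtain ⟨Q, gQ, j, hjm, q, hqm, hjc, hQ, hqf, hqs, hqj⟩ := Groth.L25.SplitSub.exists_image_of_locally
    (Groth.L25.Locus.locally_of_multTypeFT (Groth.L25.Locus.isMultTypeFT_of_isTorus hT.2.2.1)) (i ≫ f)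
  haveI := hjm; haveI := hqm; haveI := hjc; haveI := hqf; haveI := hqs
  have key : ∀ s : S, Red.IsTorus (Red.geomFibre s Q) ∧ AGF.IsMaxTorus ((Over.pullback (Red.geomPt s)).map j) := by
    intro s
    haveI : IsMonHom ((Over.pullback (Red.geomPt s)).map j) := Groth.L25.MonoClosed.isMonHom_pullbackMap _ _
    haveI : IsMonHom ((Over.pullback (Red.geomPt s)).map q) := Groth.L25.MonoClosed.isMonHom_pullbackMap _ _
    haveI : IsMonHom ((Over.pullback (Red.geomPt s)).map f) := Groth.L25.MonoClosed.isMonHom_pullbackMap _ _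
    haveI : IsMonHom ((Over.pullback (Red.geomPt s)).map i) := Groth.L25.MonoClosed.isMonHom_pullbackMap _ _
    haveI : Mono ((Over.pullback (Red.geomPt s)).map i) := Functor.map_mono _ _
    haveI : Smooth (Red.geomFibre s G).hom := inferInstanceAs (Smooth (pullback.snd G.hom (Red.geomPt s)))
    haveI : QuasiCompact (Red.geomFibre s G).hom := inferInstanceAs (QuasiCompact (pullback.snd G.hom (Red.geomPt s)))
    haveI : Smooth (Red.geomFibre s G').hom := inferInstanceAs (Smooth (pullback.snd G'.hom (Red.geomPt s)))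
    haveI : QuasiCompact (Red.geomFibre s G').hom := inferInstanceAs (QuasiCompact (pullback.snd G'.hom (Red.geomPt s)))
    haveI : IsClosedImmersion ((Over.pullback (Red.geomPt s)).map j).left :=
      MorphismProperty.of_isPullback (Groth.L25.SchImage.isPullback_fst_map (Red.geomPt s) j) ‹_›
    haveI : Flat ((Over.pullback (Red.geomPt s)).map q).left :=
      MorphismProperty.of_isPullback (Groth.L25.SchImage.isPullback_fst_map (Red.geomPt s) q) ‹_›
    haveI : Surjective ((Over.pullback (Red.geomPt s)).map q).left :=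
      MorphismProperty.of_isPullback (Groth.L25.SchImage.isPullback_fst_map (Red.geomPt s) q) ‹_›
    haveI := hf s
    have hTs : AGF.IsMaxTorus ((Over.pullback (Red.geomPt s)).map i) :=
      ⟨inferInstance, inferInstance, Groth.L25.Locus.isTorus_bc hT.2.2.1 _,
        fun T₁ _ j₁ _ _ f₁ h₁ hf₁ => hT.2.2.2 s T₁ j₁ f₁ h₁ hf₁⟩
    have hm := isMaxTorus_image_any ((Over.pullback (Red.geomPt s)).map f) hTs
      ((Over.pullback (Red.geomPt s)).map j) ((Over.pullback (Red.geomPt s)).map q)
      (by rw [← Functor.map_comp, hqj, Functor.map_comp])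
    exact ⟨hm.2.2.1, hm⟩
  haveI : Mono j := Over.mono_of_mono_left j
  exact ⟨Q, gQ, j, q, ⟨hjm, inferInstance, isTorus_of_geomFibres hQ fun s => (key s).1,
    fun s T₁ _ j₁ _ _ f₁ h₁ hf₁ => (key s).2.2.2.2 T₁ j₁ f₁ h₁ hf₁⟩, hqm, hqj, hqs, hqf⟩

end Groth.L08.Borel
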