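import Groth.Agent.L08.Borel.CentTorus
import Groth.Agent.L08.Borel.ImageTorus
import Groth.Agent.L25.Locus.Conjugacy

/-!
# Maximal tori are conjugate etale locally
-/

set_option autoImplicit false
set_option backward.isDefEq.respectTransparency.types false
set_option linter.style.haveILetI false
set_option linter.unusedSectionVars false

universe u

open CategoryTheory CategoryTheory.Limits MonoidalCategory CartesianMonoidalCategory MonObj GrpObj AlgebraicGeometry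
open Topology TopologicalSpace

noncomputable section

namespace Groth.L08.Borel

/-- maximal tori of a smooth group over an algebraically closed field are conjugate -/
theorem exists_maxTorus_conj_any {k : Type u} [Field k] [IsAlgClosed k] {G T T' : Over (Spec (CommRingCat.of k))}
    [GrpObj G] [GrpObj T] [GrpObj T'] [Smooth G.hom] [QuasiCompact G.hom] {iT : T ⟶ G} {iT' : T' ⟶ G}
    (hT : AGF.IsMaxTorus iT) (hT' : AGF.IsMaxTorus iT') :
    ∃ (g : 𝟙_ (Over (Spec (CommRingCat.of k))) ⟶ G) (f : T ≅ T'), f.hom ≫ iT' = AGF.conjBy g iT := by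
  haveI : LocallyOfFiniteType G.hom := inferInstance
  haveI := hT.1; haveI := hT.2.1; haveI := hT'.1; haveI := hT'.2.1
  obtain ⟨G₀, g₀, j, hj⟩ := Groth.L08.Chev.exists_idComp G
  haveI := hj.hom; haveI := hj.closedImm; haveI := hj.smooth; haveI := hj.connectedSpace; haveI := hj.quasiCompact
  haveI : Mono j := Groth.L08.mono_of_closedImmersion j
  obtain ⟨-, -, a3, -, -⟩ := torus_props hT.2.2.1
  obtain ⟨-, -, b3, -, -⟩ := torus_props hT'.2.2.1
  haveI := a3; haveI := b3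
  obtain ⟨t, ht⟩ := hj.exists_lift_hom iT
  obtain ⟨t', ht'⟩ := hj.exists_lift_hom iT'
  obtain ⟨g, f, hf⟩ := exists_maxTorus_conj_gen (isMaxTorus_factor (iB := j) (ht.symm ▸ hT))
    (isMaxTorus_factor (iB := j) (ht'.symm ▸ hT'))
  exact ⟨g ≫ j, f, by rw [← ht', reassoc_of% hf, conjBy_comp, ht]⟩

variable {S : Scheme.{u}} {G T₁ T₂ : Over S} [GrpObj G] [GrpObj T₁] [GrpObj T₂]

/-- transport of a conjugation to points over the base -/
theorem exists_sends_of_fibre {P : Scheme.{u}} (j : P ⟶ S) {i₁ : T₁ ⟶ G} {i₂ : T₂ ⟶ G}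
    (g : 𝟙_ (Over P) ⟶ Red.bc j G) (φ : Red.bc j T₁ ⟶ Red.bc j T₂)
    (hφ : φ ≫ (Over.pullback j).map i₂ =
      (toUnit _ ≫ g) * (Over.pullback j).map i₁ * (toUnit _ ≫ g)⁻¹) (x : Over.mk j ⟶ G)
    (hx : ∀ (Y : Over P), Groth.L25.NilAction.toBase j (toUnit Y ≫ g) =
      (Over.homMk Y.hom rfl : Over.mk (Y.hom ≫ j) ⟶ Over.mk j) ≫ x) :
    Groth.L25.Locus.Sends i₁ i₂ (Over.mk j) x := by
  intro X' t h
  have ht : t.left ≫ j = X'.hom := Over.w t
  let Y : Over P := Over.mk t.left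
  let c : X' ⟶ Over.mk (Y.hom ≫ j) := Over.homMk (𝟙 _) (by
    show 𝟙 X'.left ≫ t.left ≫ j = X'.hom
    rw [Category.id_comp, ht])
  let c' : Over.mk (Y.hom ≫ j) ⟶ X' := Over.homMk (𝟙 _) (by
    show 𝟙 X'.left ≫ X'.hom = t.left ≫ j
    rw [Category.id_comp, ht])
  have hcc : c ≫ c' = 𝟙 X' := Over.OverMorphism.ext (Category.id_comp _)
  have hcx : c ≫ (Over.homMk Y.hom rfl : Over.mk (Y.hom ≫ j) ⟶ Over.mk j) = t := Over.OverMorphism.ext (Category.id_comp _)
  let a : Y ⟶ Red.bc j T₁ := Groth.L25.NilAction.ofBase j (c' ≫ h)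
  refine ⟨c ≫ Groth.L25.NilAction.toBase j (a ≫ φ), ?_⟩
  have e := congrArg (fun m => Groth.L25.NilAction.toBase j (a ≫ m)) hφ
  simp only [MonObj.comp_mul, GrpObj.comp_inv, ← Category.assoc a (toUnit _), toUnit_unique (a ≫ toUnit _) (toUnit Y)] at e
  rw [← Category.assoc a φ, Groth.L25.Locus.toBase_map] at e
  rw [Category.assoc, e, Groth.L25.NilAction.toBase_mul, Groth.L25.NilAction.toBase_mul,
    Groth.L25.Locus.toBase_map, Groth.L25.NilAction.toBase_ofBase]
  rw [show Groth.L25.NilAction.toBase j (toUnit Y ≫ g)⁻¹ = (Groth.L25.NilAction.toBase j (toUnit Y ≫ g))⁻¹ from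
    (eq_inv_of_mul_eq_one_left (by rw [← Groth.L25.NilAction.toBase_mul, inv_mul_cancel, Groth.L25.NilAction.toBase_one]))]
  simp only [hx, MonObj.comp_mul, GrpObj.comp_inv, ← Category.assoc, hcx, hcc, Category.id_comp]

/-- a conjugation on a base change gives a point of the transporter -/
theorem exists_transporter_point {P : Scheme.{u}} (j : P ⟶ S) {i₁ : T₁ ⟶ G} {i₂ : T₂ ⟶ G}
    (g : 𝟙_ (Over P) ⟶ Red.bc j G) (f : Red.bc j T₁ ≅ Red.bc j T₂)
    (hf : f.hom ≫ (Over.pullback j).map i₂ =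
      (toUnit _ ≫ g) * (Over.pullback j).map i₁ * (toUnit _ ≫ g)⁻¹) :
    ∃ x : Over.mk j ⟶ G, Groth.L25.Locus.Sends i₁ i₂ (Over.mk j) x ∧
      Groth.L25.Locus.SendsBack i₁ i₂ (Over.mk j) x := by
  let e : Over.mk j ⟶ Over.mk ((𝟙_ (Over P)).hom ≫ j) := Over.homMk (𝟙 _) (by
    show 𝟙 _ ≫ 𝟙 _ ≫ j = j
    rw [Category.id_comp, Category.id_comp])
  let x : Over.mk j ⟶ G := e ≫ Groth.L25.NilAction.toBase j g
  have hx : ∀ (Y : Over P), Groth.L25.NilAction.toBase j (toUnit Y ≫ g) =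
      (Over.homMk Y.hom rfl : Over.mk (Y.hom ≫ j) ⟶ Over.mk j) ≫ x := fun Y => by
    apply Over.OverMorphism.ext
    show ((toUnit Y).left ≫ g.left) ≫ _ = Y.hom ≫ 𝟙 _ ≫ g.left ≫ _
    rw [show (toUnit Y).left = Y.hom from (Category.comp_id _).symm.trans (Over.w (toUnit Y)), Category.id_comp,
      Category.assoc]
  have s1 := exists_sends_of_fibre j (i₁ := i₁) (i₂ := i₂) g f.hom hf x hx
  have hinv : f.inv ≫ (Over.pullback j).map i₁ =
      (toUnit _ ≫ g⁻¹) * (Over.pullback j).map i₂ * (toUnit _ ≫ g⁻¹)⁻¹ := by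
    have e1 := congrArg (f.inv ≫ ·) hf
    simp only [Iso.inv_hom_id_assoc, MonObj.comp_mul, GrpObj.comp_inv, ← Category.assoc f.inv (toUnit _),
      toUnit_unique (f.inv ≫ toUnit _) (toUnit _)] at e1
    rw [e1, GrpObj.comp_inv, _root_.inv_inv]
    group
  have hx' : ∀ (Y : Over P), Groth.L25.NilAction.toBase j (toUnit Y ≫ g⁻¹) =
      (Over.homMk Y.hom rfl : Over.mk (Y.hom ≫ j) ⟶ Over.mk j) ≫ x⁻¹ := fun Y => by
    rw [GrpObj.comp_inv, GrpObj.comp_inv, ← hx Y]
    exact eq_inv_of_mul_eq_one_left (by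
      rw [← Groth.L25.NilAction.toBase_mul, inv_mul_cancel, Groth.L25.NilAction.toBase_one])
  have s2' := exists_sends_of_fibre j (i₁ := i₂) (i₂ := i₁) g⁻¹ f.inv hinv x⁻¹ hx'
  refine ⟨x, s1, fun X' t h => ?_⟩
  obtain ⟨h', e'⟩ := s2' X' t h
  refine ⟨h', ?_⟩
  simpa only [GrpObj.comp_inv, _root_.inv_inv] using e'

/-- a smooth scheme with a point over every geometric point has a point over an etale cover -/
theorem exists_etale_cover_point (W : Over S) [Smooth W.hom]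
    (hpt : ∀ s : S, Nonempty (Over.mk (Red.geomPt s) ⟶ W)) :
    ∃ (S' : Scheme.{u}) (F : S' ⟶ S), Etale F ∧ Surjective F ∧ Nonempty (Over.mk F ⟶ W) := by
  choose S' e he hse hne using fun s => Groth.L25.Locus.exists_etale_nhd_point (W := W) s (hpt s).some
  choose p hp using hse
  refine ⟨∐ S', Sigma.desc e, IsZariskiLocalAtSource.sigmaDesc (P := @Etale) he, ⟨fun s => ⟨(Sigma.ι S' s) (p s), ?_⟩⟩,
    ⟨Over.homMk (Sigma.desc fun s => (hne s).some.left) (Sigma.hom_ext _ _ fun s => ?_)⟩⟩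
  · rw [← Scheme.Hom.comp_apply, Sigma.ι_desc]
    exact hp s
  · rw [← Category.assoc, Sigma.ι_desc]
    exact ((Over.w (hne s).some)).trans (Sigma.ι_desc e s).symm

/-- packaging of a conjugating point -/
theorem exists_conjBy_of_sends {S' : Scheme.{u}} (F : S' ⟶ S) (hF : Etale F) (hFs : Surjective F) {i₁ : T₁ ⟶ G}
    {i₂ : T₂ ⟶ G} [IsMonHom i₁] [IsMonHom i₂] [Mono i₁] [Mono i₂] (x : Over.mk F ⟶ G)
    (h1 : Groth.L25.Locus.Sends i₁ i₂ (Over.mk F) x) (h2 : Groth.L25.Locus.SendsBack i₁ i₂ (Over.mk F) x) :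
    ∃ (S' : Scheme.{u}) (f : S' ⟶ S), Etale f ∧ Surjective f ∧
      ∃ g : 𝟙_ (Over S') ⟶ Red.bc f G, SGA3x.ConjBy ((Over.pullback f).map i₁) ((Over.pullback f).map i₂) g :=
  ⟨S', F, hF, hFs, Groth.L25.Locus.sectionOf F x, Groth.L25.Locus.conjBy_of_sends F x i₁ i₂ h1 h2⟩

/-- **maximal tori are conjugate etale locally** -/
theorem maxTori_conj_etale [Smooth G.hom] [IsSeparated G.hom] [QuasiCompact G.hom] {i₁ : T₁ ⟶ G} {i₂ : T₂ ⟶ G}
    (h₁ : Red.IsMaximalTorus i₁) (h₂ : Red.IsMaximalTorus i₂) :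
    ∃ (S' : Scheme.{u}) (f : S' ⟶ S), Etale f ∧ Surjective f ∧
      ∃ g : 𝟙_ (Over S') ⟶ Red.bc f G, SGA3x.ConjBy ((Over.pullback f).map i₁) ((Over.pullback f).map i₂) g := by
  haveI := h₁.1; haveI := h₁.2.1; haveI := h₂.1; haveI := h₂.2.1
  haveI : LocallyOfFiniteType G.hom := inferInstance
  have m₁ := Groth.L25.Locus.isMultTypeFT_of_isTorus h₁.2.2.1
  have m₂ := Groth.L25.Locus.isMultTypeFT_of_isTorus h₂.2.2.1
  haveI := Groth.L25.MonoClosed.isClosedImmersion_of_mono m₁ i₁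
  haveI := Groth.L25.MonoClosed.isClosedImmersion_of_mono m₂ i₂
  have l₁ := Groth.L25.Locus.locally_of_multTypeFT m₁
  have l₂ := Groth.L25.Locus.locally_of_multTypeFT m₂
  obtain ⟨W, i, hi, hl, hW⟩ := Groth.L25.Locus.exists_subgroupTransporter l₁ l₂ i₁ i₂
  haveI := hi
  have a₁ : LocallyOfFinitePresentation i₁.left := by
    have := Groth.L25.Locus.lfp_of_multTypeFT m₁
    have : LocallyOfFinitePresentation (i₁.left ≫ G.hom) := by rw [Over.w i₁]; infer_instance
    exact Groth.L20.locallyOfFinitePresentation_of_comp i₁.left G.hom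
  have a₂ : LocallyOfFinitePresentation i₂.left := by
    have := Groth.L25.Locus.lfp_of_multTypeFT m₂
    have : LocallyOfFinitePresentation (i₂.left ≫ G.hom) := by rw [Over.w i₂]; infer_instance
    exact Groth.L20.locallyOfFinitePresentation_of_comp i₂.left G.hom
  haveI := hl a₁ a₂
  haveI : Mono i := Over.mono_of_mono_left i
  haveI := Groth.L25.Locus.smooth_subgroupTransporter l₁ l₂ i₁ i₂ i hW
  -- a point of the transporter over each geometric point
  have hpt : ∀ s : S, Nonempty (Over.mk (Red.geomPt s) ⟶ W) := by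
    intro s
    haveI : IsMonHom ((Over.pullback (Red.geomPt s)).map i₁) := Groth.L25.MonoClosed.isMonHom_pullbackMap _ _
    haveI : IsMonHom ((Over.pullback (Red.geomPt s)).map i₂) := Groth.L25.MonoClosed.isMonHom_pullbackMap _ _
    haveI : Smooth (Red.geomFibre s G).hom := inferInstanceAs (Smooth (pullback.snd G.hom (Red.geomPt s)))
    haveI : QuasiCompact (Red.geomFibre s G).hom := inferInstanceAs (QuasiCompact (pullback.snd G.hom (Red.geomPt s)))
    have hs : ∀ {T : Over S} [GrpObj T] (iT : T ⟶ G), Red.IsMaximalTorus iT →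
        AGF.IsMaxTorus ((Over.pullback (Red.geomPt s)).map iT) := fun iT h => by
      haveI := h.1; haveI := h.2.1
      exact ⟨Groth.L25.MonoClosed.isMonHom_pullbackMap _ _, Functor.map_mono _ _,
        Groth.L25.Locus.isTorus_bc h.2.2.1 _, fun T₁ _ j₁ _ _ f₁ ht hf => h.2.2.2 s T₁ j₁ f₁ ht hf⟩
    obtain ⟨g, f, hf⟩ := exists_maxTorus_conj_any (hs i₁ h₁) (hs i₂ h₂)
    obtain ⟨x, hx⟩ := exists_transporter_point (Red.geomPt s) g f hf
    exact ⟨((hW _ x).2 hx).choose⟩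
  obtain ⟨S', F, hF, hFs, ⟨w⟩⟩ := exists_etale_cover_point W hpt
  haveI := hF; haveI := hFs
  obtain ⟨w1, w2⟩ := (hW _ (w ≫ i)).1 ⟨w, rfl⟩
  exact exists_conjBy_of_sends F hF hFs (w ≫ i) w1 w2

end Groth.L08.Borel
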