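import Groth.Agent.L08.Borel.MaxTorusDesc
import Groth.Agent.L08.Borel.MaxToriConj

/-!
# Maximal tori under homomorphisms with central kernel
-/

set_option autoImplicit false
set_option backward.isDefEq.respectTransparency.types false
set_option linter.style.haveILetI false
set_option linter.unusedSectionVars false

universe u

open CategoryTheory CategoryTheory.Limits MonoidalCategory CartesianMonoidalCategory MonObj GrpObj AlgebraicGeometry
open Groth.L25.NilAction (toBase ofBase toBase_mul toBase_one toBase_ofBase ofBase_toBase)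

noncomputable section

namespace Groth.L08.Borel

variable {S S' S'' : Scheme.{u}}

/-- open surjective flat lfp maps are coverings -/
theorem cover_of_lfp (f : S' ⟶ S) [Flat f] [LocallyOfFinitePresentation f] [Surjective f]
    (V : S.Opens) (hV : IsAffineOpen V) :
    ∃ W : S'.Opens, IsCompact (W : Set S') ∧ f.base '' (W : Set S') = (V : Set S) := by
  haveI : UniversallyOpen f := inferInstance
  have ho : IsOpenMap f.base := f.isOpenMap
  have hb : ∀ v : V, ∃ A : S'.Opens, IsAffineOpen A ∧ A ≤ f ⁻¹ᵁ V ∧ v.1 ∈ f.base '' (A : Set S') := by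
    intro v
    obtain ⟨z, hz⟩ := f.surjective v.1
    obtain ⟨_, ⟨A, hA, rfl⟩, hzA, hle⟩ := S'.isBasis_affineOpens.exists_subset_of_mem_open
      (show z ∈ f ⁻¹ᵁ V from show f z ∈ V by rw [hz]; exact v.2) (f ⁻¹ᵁ V).2
    exact ⟨A, hA, hle, z, hzA, hz⟩
  choose A hA hAle hv using hb
  obtain ⟨t, ht⟩ := hV.isCompact.elim_finite_subcover (fun v : V => f.base '' (A v : Set S'))
    (fun v => ho _ (A v).2) (fun x hx => Set.mem_iUnion.2 ⟨⟨x, hx⟩, hv ⟨x, hx⟩⟩)
  refine ⟨⨆ v ∈ t, A v, ?_, ?_⟩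
  · simp only [TopologicalSpace.Opens.coe_iSup]
    exact t.isCompact_biUnion fun v _ => (hA v).isCompact
  · simp only [TopologicalSpace.Opens.coe_iSup, Set.image_iUnion]
    exact Set.Subset.antisymm (Set.iUnion₂_subset fun v _ => by
      rintro _ ⟨z, hz, rfl⟩
      exact hAle v hz) ht

/-- composites of coverings are coverings -/
theorem cover_comp (g : S'' ⟶ S') (f : S' ⟶ S)
    (hg : ∀ V : S'.Opens, IsAffineOpen V → ∃ W : S''.Opens, IsCompact (W : Set S'') ∧ g.base '' (W : Set S'') = (V : Set S'))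
    (hf : ∀ V : S.Opens, IsAffineOpen V → ∃ W : S'.Opens, IsCompact (W : Set S') ∧ f.base '' (W : Set S') = (V : Set S))
    (V : S.Opens) (hV : IsAffineOpen V) :
    ∃ W : S''.Opens, IsCompact (W : Set S'') ∧ (g ≫ f).base '' (W : Set S'') = (V : Set S) := by
  obtain ⟨W, hW, hWV⟩ := hf V hV
  choose D hD hzD hDW using fun z : W => show ∃ D : S'.Opens, IsAffineOpen D ∧ z.1 ∈ D ∧ D ≤ W by
    obtain ⟨_, ⟨D, hD, rfl⟩, hz, hle⟩ := S'.isBasis_affineOpens.exists_subset_of_mem_open z.2 W.2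
    exact ⟨D, hD, hz, hle⟩
  choose E hE hED using fun z => hg (D z) (hD z)
  obtain ⟨t, ht⟩ := hW.elim_finite_subcover (fun z : W => (D z : Set S')) (fun z => (D z).2)
    (fun z hz => Set.mem_iUnion.2 ⟨⟨z, hz⟩, hzD ⟨z, hz⟩⟩)
  refine ⟨⨆ z ∈ t, E z, ?_, ?_⟩
  · simp only [TopologicalSpace.Opens.coe_iSup]
    exact t.isCompact_biUnion fun z _ => hE z
  · rw [← hWV, show ((g ≫ f).base : S'' → S) = f.base ∘ g.base from funext fun z => Scheme.Hom.comp_apply g f z,
      Set.image_comp]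
    congr 1
    simp only [TopologicalSpace.Opens.coe_iSup, Set.image_iUnion, hED]
    exact (Set.iUnion₂_subset fun z _ => hDW z).antisymm ht

variable {G G' : Over S} [GrpObj G] [GrpObj G']

/-- the hypothesis of a central kernel is stable under base change -/
theorem central_kernel_bc (π : S' ⟶ S) (u : G ⟶ G')
    (hker : ∀ (X : Over S) (z : X ⟶ G), z ≫ u = 1 → ∀ (X' : Over S) (x : X' ⟶ X) (g : X' ⟶ G),
      (x ≫ z) * g = g * (x ≫ z))
    (X : Over S') (z : X ⟶ Red.bc π G) (hz : z ≫ (Over.pullback π).map u = 1) (X' : Over S') (x : X' ⟶ X)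
    (g : X' ⟶ Red.bc π G) : (x ≫ z) * g = g * (x ≫ z) := by
  apply Groth.L25.CentralLift.toBase_injective
  rw [toBase_mul, toBase_mul]
  have h := hker _ (toBase π (x ≫ z)) (by
    rw [← Groth.L25.SplitSub.toBase_map, Category.assoc, hz, MonObj.comp_one, toBase_one]) _ (𝟙 _) (toBase π g)
  rwa [Category.id_comp] at h

/-- surjectivity on geometric fibres is surjectivity -/
theorem surjective_of_geomFibres (u : G ⟶ G')
    (hu : ∀ s : S, Surjective ((Over.pullback (Red.geomPt s)).map u).left) : Surjective u.left := by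
  refine ⟨fun y => ?_⟩
  let s := G'.hom y
  obtain ⟨y', hy'⟩ : y ∈ Set.range (pullback.fst G'.hom (Red.geomPt s)) := by
    rw [Scheme.Pullback.range_fst]
    refine ⟨IsLocalRing.closedPoint _, ?_⟩
    rw [show Red.geomPt s = Spec.map _ ≫ S.fromSpecResidueField s from rfl, Scheme.Hom.comp_apply]
    exact (S.fromSpecResidueField_apply s _)
  obtain ⟨x, hx⟩ := (hu s).surj y'
  refine ⟨(pullback.fst G.hom (Red.geomPt s)) x, ?_⟩
  rw [← hy', ← hx, ← Scheme.Hom.comp_apply, ← Scheme.Hom.comp_apply,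
    (Groth.L25.SchImage.isPullback_fst_map (Red.geomPt s) u).w]

theorem surjective_bcMap {X Y : Over S} (π : S' ⟶ S) (u : X ⟶ Y) [Surjective u.left] :
    Surjective ((Over.pullback π).map u).left :=
  MorphismProperty.of_isPullback (Groth.L25.SchImage.isPullback_fst_map π u) ‹_›

/-- base change of a base change of a morphism -/
theorem pullInc_bc {T : Over S} (i : T ⟶ G) (π : S' ⟶ S) (p : S'' ⟶ S') {c : S'' ⟶ S} (h : p ≫ π = c) :
    Groth.L25.Descent.pullInc ((Over.pullback π).map i) p h =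
      (ActBC.bcCompIso p π T h).hom ≫ (Over.pullback c).map i :=
  ActBC.bcCompIso_hom_naturality p π h i

/-- factorisations through monomorphisms descend along coverings -/
theorem exists_fac_desc {π : S' ⟶ S} [Flat π] [Surjective π]
    (hcov : ∀ V : S.Opens, IsAffineOpen V → ∃ W : S'.Opens, IsCompact (W : Set S') ∧ π.base '' (W : Set S') = (V : Set S))
    {T H K : Over S} (i : H ⟶ K) [Mono i] (g : T ⟶ K) (w : Red.bc π T ⟶ Red.bc π H)
    (hw : w ≫ (Over.pullback π).map i = (Over.pullback π).map g) : ∃ h : T ⟶ H, h ≫ i = g := by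
  let q := fst T (Over.mk π)
  let p := snd T (Over.mk π)
  obtain ⟨e, he⟩ : ∃ e, e ≫ i = q ≫ g := ⟨(Groth.L25.Descent.adjP p).inv ≫
      toBase π (ofBase π ((Groth.L25.Descent.adjP p).hom ≫ q) ≫ w), by
    rw [Category.assoc, ← Groth.L25.SplitSub.toBase_map, Category.assoc, hw, Groth.L25.SplitSub.toBase_map,
      toBase_ofBase, Category.assoc, Iso.inv_hom_id_assoc]⟩
  haveI : EffectiveEpi q.left := Groth.L25.Descent.effectiveEpi_pullback_fst T.hom π hcov
  obtain ⟨h, hh, -⟩ := Groth.L25.Actions.existsUnique_desc q e fun Z g₁ g₂ hg => by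
    rw [← cancel_mono i, Category.assoc, Category.assoc, he, ← Category.assoc, ← Category.assoc, hg]
  haveI : Epi q := Over.epi_of_epi_left _
  exact ⟨h, by rw [← cancel_epi q, ← Category.assoc, hh, he]⟩

/-- transport of a torus over a torus along a base change -/
theorem lift_bc [Smooth G.hom] [QuasiCompact G.hom] [Smooth G'.hom] [QuasiCompact G'.hom] (π : S' ⟶ S) (u : G ⟶ G')
    {T' : Over S} {i' : T' ⟶ G'} {B : Over S'} [GrpObj B] {iB : B ⟶ Red.bc π G} (hB : Red.IsMaximalTorus iB)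
    (vB : B ⟶ Red.bc π T') [Surjective vB.left] (hvB : vB ≫ (Over.pullback π).map i' = iB ≫ (Over.pullback π).map u)
    (p : S'' ⟶ S') {c : S'' ⟶ S} (e : p ≫ π = c) :
    Red.IsMaximalTorus (Groth.L25.Descent.pullInc iB p e) ∧
      ∃ v : Red.bc p B ⟶ Red.bc c T', Surjective v.left ∧
        v ≫ (Over.pullback c).map i' = Groth.L25.Descent.pullInc iB p e ≫ (Over.pullback c).map u := by
  haveI : Smooth (Red.bc π G).hom := inferInstanceAs (Smooth (pullback.snd G.hom π))
  haveI : QuasiCompact (Red.bc π G).hom := inferInstanceAs (QuasiCompact (pullback.snd G.hom π))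
  have h := isMaximalTorus_bc hB p
  haveI := h.1; haveI := h.2.1
  refine ⟨⟨inferInstanceAs (IsMonHom (_ ≫ _)), mono_comp _ _, h.2.2.1, fun s T₁ _ a _ _ f h₁ hf => ?_⟩,
    (Over.pullback p).map vB ≫ (ActBC.bcCompIso p π T' e).hom, ?_, ?_⟩
  · haveI : IsMonHom (ActBC.bcCompIso p π G e).inv := inferInstance
    haveI : IsMonHom ((Over.pullback (Red.geomPt s)).map (ActBC.bcCompIso p π G e).inv) :=
      Groth.L25.MonoClosed.isMonHom_pullbackMap _ _
    haveI : Mono ((Over.pullback (Red.geomPt s)).map (ActBC.bcCompIso p π G e).inv) := Functor.map_mono _ _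
    haveI : IsMonHom (a ≫ (Over.pullback (Red.geomPt s)).map (ActBC.bcCompIso p π G e).inv) := inferInstance
    haveI : Mono (a ≫ (Over.pullback (Red.geomPt s)).map (ActBC.bcCompIso p π G e).inv) := mono_comp _ _
    refine h.2.2.2 s T₁ (a ≫ (Over.pullback (Red.geomPt s)).map (ActBC.bcCompIso p π G e).inv) f h₁ ?_
    rw [reassoc_of% hf, ← Functor.map_comp]
    simp only [Groth.L25.Descent.pullInc, Category.assoc, Iso.hom_inv_id, Category.comp_id]
  · haveI : Surjective ((Over.pullback p).map vB).left := surjective_bcMap p vB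
    haveI : IsIso (ActBC.bcCompIso p π T' e).hom.left :=
      inferInstanceAs (IsIso ((Over.forget S'').map (ActBC.bcCompIso p π T' e).hom))
    rw [Over.comp_left]; infer_instance
  · simp only [Groth.L25.Descent.pullInc, Category.assoc]
    rw [← ActBC.bcCompIso_hom_naturality p π e i', ← ActBC.bcCompIso_hom_naturality p π e u,
      ← Functor.map_comp_assoc, hvB, Functor.map_comp_assoc]

/-- maximality is insensitive to conjugation -/
theorem isMaximalTorus_conj {T : Over S} [GrpObj T] {i : T ⟶ G} (hT : Red.IsMaximalTorus i) (g : 𝟙_ (Over S) ⟶ G) :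
    Red.IsMaximalTorus ((toUnit T ≫ g) * i * (toUnit T ≫ g)⁻¹) := by
  haveI := hT.1; haveI := hT.2.1
  let j := (toUnit T ≫ g) * i * (toUnit T ≫ g)⁻¹
  have hpt : ∀ {X : Over S} (a : X ⟶ T), a ≫ j = (toUnit X ≫ g) * (a ≫ i) * (toUnit X ≫ g)⁻¹ := fun a => by
    simp only [j, MonObj.comp_mul, GrpObj.comp_inv, comp_toUnit_assoc]
  haveI : IsMonHom j := Groth.L25.Bridge.isMonHom_of_mul j fun X a b => by
    rw [hpt, hpt, hpt, MonObj.mul_comp]; group
  haveI : Mono j := ⟨fun {X} a b h => by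
    rw [hpt, hpt] at h
    exact (cancel_mono i).1 (mul_left_cancel (mul_right_cancel h))⟩
  refine ⟨inferInstance, inferInstance, hT.2.2.1, fun s T₁ _ a _ _ f h₁ hf => ?_⟩
  let F := Over.pullback (Red.geomPt s)
  let y : 𝟙_ _ ⟶ Red.geomFibre s G := Functor.LaxMonoidal.ε F ≫ F.map g
  have hy : ∀ {X : Over S}, F.map (toUnit X ≫ g) = toUnit (F.obj X) ≫ y := fun {X} => by
    simp only [y, Functor.map_comp]
    rw [← Category.assoc (toUnit (F.obj X)), ← toUnit_unique (F.map (toUnit X) ≫ Functor.OplaxMonoidal.η F) (toUnit _)]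
    simp only [Category.assoc]
    congr 1
    exact (Iso.inv_hom_id_assoc (Functor.Monoidal.εIso F) _).symm
  let a' := (toUnit T₁ ≫ y)⁻¹ * a * (toUnit T₁ ≫ y)
  have hpt' : ∀ {X : Over _} (b : X ⟶ T₁), b ≫ a' = (toUnit X ≫ y)⁻¹ * (b ≫ a) * (toUnit X ≫ y) := fun b => by
    simp only [a', MonObj.comp_mul, GrpObj.comp_inv, comp_toUnit_assoc]
  haveI : IsMonHom a' := Groth.L25.Bridge.isMonHom_of_mul a' fun X b c => by
    rw [hpt', hpt', hpt', MonObj.mul_comp]; group
  haveI : Mono a' := ⟨fun {X} b c h => by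
    rw [hpt', hpt'] at h
    exact (cancel_mono a).1 (mul_left_cancel (mul_right_cancel h))⟩
  refine hT.2.2.2 s T₁ a' f h₁ ?_
  rw [hpt', hf, show F.map j = F.map (toUnit T ≫ g) * F.map i * (F.map (toUnit T ≫ g))⁻¹ from by
    simp only [j, show ∀ a b : T ⟶ G, F.map (a * b) = F.map a * F.map b from fun a b => map_mul F.homMonoidHom a b,
      show ∀ a : T ⟶ G, F.map a⁻¹ = (F.map a)⁻¹ from fun a => map_inv F.homMonoidHom a], hy]
  show (toUnit (F.obj T) ≫ y)⁻¹ * ((toUnit (F.obj T) ≫ y) * F.map i * (toUnit (F.obj T) ≫ y)⁻¹) * (toUnit (F.obj T) ≫ y) = F.map i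
  group

/-- over a base with a maximal torus, a covering with a torus over the given one -/
theorem exists_lift_cover [Smooth G.hom] [IsSeparated G.hom] [QuasiCompact G.hom] [Smooth G'.hom]
    [IsSeparated G'.hom] [QuasiCompact G'.hom] (u : G ⟶ G') [IsMonHom u]
    [Surjective u.left] {T₀ : Over S} [GrpObj T₀] {i₀ : T₀ ⟶ G} (hT₀ : Red.IsMaximalTorus i₀)
    {T' : Over S} [GrpObj T'] {i' : T' ⟶ G'} (hT' : Red.IsMaximalTorus i') :
    ∃ (S₃ : Scheme.{u}) (π : S₃ ⟶ S), Flat π ∧ Surjective π ∧ LocallyOfFinitePresentation π ∧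
      ∃ (B : Over S₃) (_ : GrpObj B) (iB : B ⟶ Red.bc π G) (v : B ⟶ Red.bc π T'), Red.IsMaximalTorus iB ∧
        Surjective v.left ∧ v ≫ (Over.pullback π).map i' = iB ≫ (Over.pullback π).map u := by
  haveI := hT'.1; haveI := hT'.2.1; haveI := hT₀.1; haveI := hT₀.2.1
  haveI : GeometricallyReduced G'.hom := Groth.Agent.AV.geometricallyReduced_of_smooth G'.hom
  haveI : LocallyOfFiniteType G'.hom := inferInstance
  haveI : Flat u.left := (Groth.L08.FlatHom.flat_of_surjective_fibres G G' u).1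
  haveI : LocallyOfFinitePresentation u.left := by
    haveI : LocallyOfFinitePresentation (u.left ≫ G'.hom) := by rw [Over.w u]; infer_instance
    exact Groth.L20.locallyOfFinitePresentation_of_comp u.left G'.hom
  obtain ⟨Q, gQ, jQ, q, hQ, hqm, hqj, hqs, hqf⟩ := exists_image_maximalTorus u (fun s => surjective_bcMap _ _) hT₀
  obtain ⟨S₂, f, hfe, hfs, g, φ, hφ⟩ := maxTori_conj_etale hQ hT'
  haveI := hfe; haveI := hfs
  let U := (Over.pullback f).map u
  haveI : Flat U.left := MorphismProperty.of_isPullback (Groth.L25.SchImage.isPullback_fst_map f u) ‹_›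
  haveI : Surjective U.left := MorphismProperty.of_isPullback (Groth.L25.SchImage.isPullback_fst_map f u) ‹_›
  haveI : LocallyOfFinitePresentation U.left :=
    MorphismProperty.of_isPullback (Groth.L25.SchImage.isPullback_fst_map f u) ‹_›
  let S₃ := pullback g.left U.left
  let r : S₃ ⟶ S₂ := pullback.fst _ _
  haveI : Flat r := MorphismProperty.pullback_fst _ _ ‹Flat U.left›
  haveI : Surjective r := MorphismProperty.pullback_fst _ _ ‹Surjective U.left›
  haveI : LocallyOfFinitePresentation r := MorphismProperty.pullback_fst _ _ ‹LocallyOfFinitePresentation U.left›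
  let y : Over.mk r ⟶ Red.bc f G := Over.homMk (pullback.snd g.left U.left) (by
    show pullback.snd g.left U.left ≫ (Red.bc f G).hom = r
    rw [← Over.w U, ← pullback.condition_assoc, Over.w g]
    exact Category.comp_id _)
  have hy : y ≫ U = toUnit _ ≫ g := Over.OverMorphism.ext pullback.condition.symm
  let x : 𝟙_ (Over S₃) ⟶ Red.bc r (Red.bc f G) :=
    ofBase r ((Over.homMk (𝟙 S₃) (by simp) : Over.mk ((𝟙_ (Over S₃)).hom ≫ r) ⟶ Over.mk r) ≫ y)
  haveI : Smooth (Red.bc f G).hom := inferInstanceAs (Smooth (pullback.snd G.hom f))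
  haveI : QuasiCompact (Red.bc f G).hom := inferInstanceAs (QuasiCompact (pullback.snd G.hom f))
  haveI : IsMonHom U := Groth.L25.MonoClosed.isMonHom_pullbackMap _ _
  haveI : IsMonHom ((Over.pullback r).map U) := Groth.L25.MonoClosed.isMonHom_pullbackMap _ _
  let I := (Over.pullback r).map ((Over.pullback f).map i₀)
  let iB₂ := (toUnit _ ≫ x) * I * (toUnit _ ≫ x)⁻¹
  have hiB₂ : Red.IsMaximalTorus iB₂ := isMaximalTorus_conj (isMaximalTorus_bc (isMaximalTorus_bc hT₀ f) r) x
  let vB₂ : Red.bc r (Red.bc f T₀) ⟶ Red.bc r (Red.bc f T') :=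
    (Over.pullback r).map ((Over.pullback f).map q ≫ φ.hom)
  haveI : Surjective vB₂.left := by
    haveI : Surjective ((Over.pullback f).map q ≫ φ.hom).left := by
      haveI : Surjective ((Over.pullback f).map q).left := by haveI := hqs; exact surjective_bcMap f q
      haveI : IsIso φ.hom.left := inferInstanceAs (IsIso ((Over.forget S₂).map φ.hom))
      rw [Over.comp_left]; infer_instance
    exact surjective_bcMap r _
  have hu₂ : ∀ (X : Over S₂), (Over.pullback r).map (toUnit X ≫ g) =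
      (toUnit (Red.bc r X) ≫ x) ≫ (Over.pullback r).map U := fun X => by
    apply Groth.L25.CentralLift.toBase_injective
    rw [Groth.L25.SplitSub.toBase_map]
    let c : Over.mk ((Red.bc r X).hom ≫ r) ⟶ Over.mk r := Over.homMk (Red.bc r X).hom rfl
    have e1 : toBase r (toUnit (Red.bc r X) ≫ x) = c ≫ y := by
      apply Over.OverMorphism.ext
      show ((Red.bc r X).hom ≫ x.left) ≫ pullback.fst _ r = (Red.bc r X).hom ≫ y.left
      rw [Category.assoc]
      congr 1
      exact (pullback.lift_fst _ _ _).trans (Category.id_comp _)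
    rw [e1, Category.assoc, hy, ← Category.assoc]
    conv_lhs => rw [← Category.id_comp ((Over.pullback r).map (toUnit X ≫ g))]
    rw [Groth.L25.SplitSub.toBase_map, ← Category.assoc]
    congr 1
    exact toUnit_unique _ _
  have hvB₂ : vB₂ ≫ (Over.pullback r).map ((Over.pullback f).map i') = iB₂ ≫ (Over.pullback r).map U := by
    have hm : ∀ {X Y : Over S₂} [GrpObj Y] (a b : X ⟶ Y), (Over.pullback r).map (a * b) =
        (Over.pullback r).map a * (Over.pullback r).map b := fun a b => map_mul (Over.pullback r).homMonoidHom a b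
    have hi : ∀ {X Y : Over S₂} [GrpObj Y] (a : X ⟶ Y), (Over.pullback r).map a⁻¹ =
        ((Over.pullback r).map a)⁻¹ := fun a => map_inv (Over.pullback r).homMonoidHom a
    simp only [vB₂]
    rw [← Functor.map_comp, Category.assoc, ← hφ, MonObj.comp_mul, MonObj.comp_mul, GrpObj.comp_inv,
      comp_toUnit_assoc, ← Functor.map_comp, hqj, Functor.map_comp, hm, hm, hi, hu₂]
    simp only [iB₂, I, U, Functor.map_comp, MonObj.mul_comp, GrpObj.inv_comp]
  haveI : Smooth (Red.bc f G').hom := inferInstanceAs (Smooth (pullback.snd G'.hom f))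
  haveI : QuasiCompact (Red.bc f G').hom := inferInstanceAs (QuasiCompact (pullback.snd G'.hom f))
  haveI : IsMonHom (ActBC.bcCompIso r f G rfl).hom := inferInstance
  let iB := iB₂ ≫ (ActBC.bcCompIso r f G rfl).hom
  refine ⟨S₃, r ≫ f, inferInstance, inferInstance, inferInstance, Red.bc r (Red.bc f T₀), inferInstance, iB,
    vB₂ ≫ (ActBC.bcCompIso r f T' rfl).hom, ?_, ?_, ?_⟩
  · haveI := hiB₂.1; haveI := hiB₂.2.1
    refine ⟨inferInstanceAs (IsMonHom (_ ≫ _)), mono_comp _ _, hiB₂.2.2.1, fun s T₁ _ a _ _ f₁ h₁ hf => ?_⟩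
    haveI : IsMonHom ((Over.pullback (Red.geomPt s)).map (ActBC.bcCompIso r f G rfl).inv) :=
      Groth.L25.MonoClosed.isMonHom_pullbackMap _ _
    haveI : Mono ((Over.pullback (Red.geomPt s)).map (ActBC.bcCompIso r f G rfl).inv) := Functor.map_mono _ _
    refine hiB₂.2.2.2 s T₁ (a ≫ (Over.pullback (Red.geomPt s)).map (ActBC.bcCompIso r f G rfl).inv) f₁ h₁ ?_
    rw [reassoc_of% hf, ← Functor.map_comp]
    simp only [iB, Category.assoc, Iso.hom_inv_id, Category.comp_id]
  · haveI : IsIso (ActBC.bcCompIso r f T' (rfl : r ≫ f = r ≫ f)).hom.left :=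
      inferInstanceAs (IsIso ((Over.forget S₃).map (ActBC.bcCompIso r f T' (rfl : r ≫ f = r ≫ f)).hom))
    rw [Over.comp_left]; infer_instance
  · simp only [iB, Category.assoc]
    rw [← ActBC.bcCompIso_hom_naturality r f rfl i', ← ActBC.bcCompIso_hom_naturality r f rfl u, reassoc_of% hvB₂]

/-- **every maximal torus of the target comes from one of the source** -/
theorem exists_lift_maximalTorus [Smooth G.hom] [IsSeparated G.hom] [QuasiCompact G.hom] [Smooth G'.hom]
    [IsSeparated G'.hom] [QuasiCompact G'.hom] (hG : SGA3x.HasMaxTorusFpqcLocally G) (u : G ⟶ G') [IsMonHom u]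
    (hu : ∀ s : S, Surjective ((Over.pullback (Red.geomPt s)).map u).left)
    (hker : ∀ (X : Over S) (z : X ⟶ G), z ≫ u = 1 → ∀ (X' : Over S) (x : X' ⟶ X) (g : X' ⟶ G),
      (x ≫ z) * g = g * (x ≫ z))
    {T' : Over S} [GrpObj T'] {i' : T' ⟶ G'} (hT' : Red.IsMaximalTorus i') :
    ∃ (T : Over S) (_ : GrpObj T) (i : T ⟶ G) (v : T ⟶ T'), Red.IsMaximalTorus i ∧ IsMonHom v ∧
      v ≫ i' = i ≫ u ∧ Surjective v.left ∧ Flat v.left := by
  haveI := hT'.1; haveI := hT'.2.1
  haveI : Surjective u.left := surjective_of_geomFibres u hu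
  obtain ⟨S₁, π₁, hπf, hπs, hπc, T₀, gT₀, i₀, hT₀⟩ := hG
  haveI := hπf; haveI := hπs
  haveI : IsMonHom ((Over.pullback π₁).map u) := Groth.L25.MonoClosed.isMonHom_pullbackMap _ _
  haveI : Smooth (Red.bc π₁ G).hom := inferInstanceAs (Smooth (pullback.snd G.hom π₁))
  haveI : QuasiCompact (Red.bc π₁ G).hom := inferInstanceAs (QuasiCompact (pullback.snd G.hom π₁))
  haveI : IsSeparated (Red.bc π₁ G).hom := inferInstanceAs (IsSeparated (pullback.snd G.hom π₁))
  haveI : Smooth (Red.bc π₁ G').hom := inferInstanceAs (Smooth (pullback.snd G'.hom π₁))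
  haveI : QuasiCompact (Red.bc π₁ G').hom := inferInstanceAs (QuasiCompact (pullback.snd G'.hom π₁))
  haveI : IsSeparated (Red.bc π₁ G').hom := inferInstanceAs (IsSeparated (pullback.snd G'.hom π₁))
  haveI : Surjective ((Over.pullback π₁).map u).left := surjective_bcMap π₁ u
  obtain ⟨S₃, p, hpf, hps, hpl, B, gB, iB₁, v₁, hiB₁, hv₁s, hv₁⟩ :=
    exists_lift_cover ((Over.pullback π₁).map u) hT₀ (isMaximalTorus_bc hT' π₁)
  haveI := hpf; haveI := hps; haveI := hpl; haveI := hiB₁.1; haveI := hiB₁.2.1; haveI := hv₁s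
  let π := p ≫ π₁
  let iB : B ⟶ Red.bc π G := iB₁ ≫ (ActBC.bcCompIso p π₁ G rfl).hom
  let vB : B ⟶ Red.bc π T' := v₁ ≫ (ActBC.bcCompIso p π₁ T' rfl).hom
  have hiB : Red.IsMaximalTorus iB := by
    refine ⟨inferInstanceAs (IsMonHom (_ ≫ _)), mono_comp _ _, hiB₁.2.2.1, fun s T₁ _ a _ _ f₁ h₁ hf => ?_⟩
    haveI : IsMonHom ((Over.pullback (Red.geomPt s)).map (ActBC.bcCompIso p π₁ G rfl).inv) :=
      Groth.L25.MonoClosed.isMonHom_pullbackMap _ _
    haveI : Mono ((Over.pullback (Red.geomPt s)).map (ActBC.bcCompIso p π₁ G rfl).inv) := Functor.map_mono _ _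
    refine hiB₁.2.2.2 s T₁ (a ≫ (Over.pullback (Red.geomPt s)).map (ActBC.bcCompIso p π₁ G rfl).inv) f₁ h₁ ?_
    rw [reassoc_of% hf, ← Functor.map_comp]
    simp only [iB, Category.assoc, Iso.hom_inv_id, Category.comp_id]
  haveI : Surjective vB.left := by
    haveI : IsIso (ActBC.bcCompIso p π₁ T' (rfl : p ≫ π₁ = p ≫ π₁)).hom.left :=
      inferInstanceAs (IsIso ((Over.forget S₃).map (ActBC.bcCompIso p π₁ T' (rfl : p ≫ π₁ = p ≫ π₁)).hom))
    show Surjective (v₁.left ≫ (ActBC.bcCompIso p π₁ T' rfl).hom.left)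
    infer_instance
  have hvB : vB ≫ (Over.pullback π).map i' = iB ≫ (Over.pullback π).map u := by
    simp only [iB, vB, π, Category.assoc]
    rw [← ActBC.bcCompIso_hom_naturality p π₁ rfl i', ← ActBC.bcCompIso_hom_naturality p π₁ rfl u, reassoc_of% hv₁]
  haveI : Flat π := inferInstanceAs (Flat (p ≫ π₁))
  haveI : Surjective π := inferInstanceAs (Surjective (p ≫ π₁))
  have hπ := cover_comp p π₁ (fun V hV => cover_of_lfp p V hV) hπc
  obtain ⟨T, gT, i, hT, ψ, hψ⟩ := exists_maximalTorus_desc hπ hiB fun P p₁ p₂ h => by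
    haveI : IsMonHom ((Over.pullback (p₁ ≫ π)).map u) := Groth.L25.MonoClosed.isMonHom_pullbackMap _ _
    haveI : Smooth (Red.bc (p₁ ≫ π) G).hom := inferInstanceAs (Smooth (pullback.snd G.hom (p₁ ≫ π)))
    haveI : QuasiCompact (Red.bc (p₁ ≫ π) G).hom := inferInstanceAs (QuasiCompact (pullback.snd G.hom (p₁ ≫ π)))
    haveI : IsSeparated (Red.bc (p₁ ≫ π) G).hom := inferInstanceAs (IsSeparated (pullback.snd G.hom (p₁ ≫ π)))
    obtain ⟨m₁, w₁, hs₁, hw₁⟩ := lift_bc π u hiB vB hvB p₁ (rfl : p₁ ≫ π = p₁ ≫ π)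
    obtain ⟨m₂, w₂, hs₂, hw₂⟩ := lift_bc π u hiB vB hvB p₂ h.symm
    exact exists_iso_of_central_kernel ((Over.pullback (p₁ ≫ π)).map u)
      (central_kernel_bc (p₁ ≫ π) u hker) m₁ m₂ (isMaximalTorus_bc hT' (p₁ ≫ π)) w₁ w₂ hw₁ hw₂ hs₁
  haveI := hT.1; haveI := hT.2.1
  obtain ⟨Q, gQ, jQ, q, hQ, hqm, hqj, hqs, hqf⟩ := exists_image_maximalTorus u hu hT
  -- the image is the given torus
  haveI := hQ.1; haveI := hQ.2.1; haveI := hqm; haveI := hqs; haveI := hqf
  haveI : LocallyOfFinitePresentation G'.hom := inferInstance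
  haveI := Groth.L25.MonoClosed.isClosedImmersion_of_mono (Groth.L25.Locus.isMultTypeFT_of_isTorus hQ.2.2.1) jQ
  haveI := Groth.L25.MonoClosed.isClosedImmersion_of_mono (Groth.L25.Locus.isMultTypeFT_of_isTorus hT'.2.2.1) i'
  obtain ⟨w, hw⟩ : ∃ w : T ⟶ T', w ≫ i' = i ≫ u :=
    exists_fac_desc hπ i' (i ≫ u) (ψ.hom ≫ vB) (by rw [Category.assoc, hvB, reassoc_of% hψ, Functor.map_comp])
  haveI : IsMonHom w := Groth.L25.Bridge.isMonHom_of_mul w fun X a b => by
    rw [← cancel_mono i', Category.assoc, hw, MonObj.mul_comp (a ≫ w) (b ≫ w) i', Category.assoc,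
      Category.assoc, hw]
    exact MonObj.mul_comp a b (i ≫ u)
  haveI : Smooth T'.hom := smooth_of_isTorus hT'.2.2.1
  haveI : Smooth T.hom := smooth_of_isTorus hT.2.2.1
  haveI : GeometricallyReduced T'.hom := Groth.Agent.AV.geometricallyReduced_of_smooth T'.hom
  haveI hsw : Surjective w.left := by
    have e : toBase π (ψ.hom ≫ vB) = toBase π (𝟙 _) ≫ w := by
      rw [← cancel_mono i', Category.assoc, hw, ← Groth.L25.SplitSub.toBase_map, Category.assoc, hvB,
        reassoc_of% hψ, ← Functor.map_comp, ← Category.id_comp ((Over.pullback π).map (i ≫ u)),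
        Groth.L25.SplitSub.toBase_map]
    haveI : IsIso ψ.hom.left := inferInstanceAs (IsIso ((Over.forget S₃).map ψ.hom))
    haveI : Surjective ((toBase π (𝟙 (Red.bc π T))).left ≫ w.left) := by
      rw [← Over.comp_left, ← e]
      show Surjective ((ψ.hom.left ≫ vB.left) ≫ pullback.fst T'.hom π)
      haveI : Surjective (pullback.fst T'.hom π) := MorphismProperty.pullback_fst _ _ ‹Surjective π›
      infer_instance
    exact Surjective.of_comp (toBase π (𝟙 (Red.bc π T))).left w.left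
  exact ⟨T, gT, i, w, hT, inferInstance, hw, hsw, (Groth.L08.FlatHom.flat_of_surjective_fibres T T' w).1⟩

end Groth.L08.Borel
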