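import Groth.Agent.L08.Borel.NormOpen
import Groth.Agent.L08.Borel.CentKernel
import Groth.Prelude.Def_SGA3x

/-!
# Normalizers of subgroups whose fibres contain Cartan subgroups
-/

set_option autoImplicit false
set_option backward.isDefEq.respectTransparency.types false
set_option linter.style.haveILetI false
set_option linter.unusedSectionVars false

universe u

open CategoryTheory CategoryTheory.Limits MonoidalCategory CartesianMonoidalCategory MonObj GrpObj AlgebraicGeometry
open Groth.L25.NilAction

noncomputable section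

namespace Groth.L08.Borel

variable {S : Scheme.{u}}

/-- the normalizer of a smooth subgroup containing Cartans fibrewise, in which it is open -/
theorem exists_open_normalizer {G H : Over S} [GrpObj G] [GrpObj H] [Smooth G.hom] [QuasiCompact G.hom]
    [Smooth H.hom] (i : H ⟶ G) [IsMonHom i] [Mono i]
    (hHconn : ∀ s : S, ConnectedSpace ↥(Red.geomFibre s H).left)
    (hHC : ∀ s : S, ∃ (C' : Over (Spec (CommRingCat.of (AlgebraicClosure (S.residueField s))))) (_ : GrpObj C')
      (c' : C' ⟶ Red.geomFibre s H), SGA3x.IsCartanOver _ (c' ≫ (Over.pullback (Red.geomPt s)).map i)) :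
    ∃ (N : Over S) (_ : GrpObj N) (n : N ⟶ G) (f : H ⟶ N), Red.IsNormalizerOf i n ∧ IsClosedImmersion n.left ∧
      QuasiCompact N.hom ∧ LocallyOfFinitePresentation N.hom ∧ f ≫ n = i ∧ IsOpenImmersion f.left := by
  haveI : Mono i.left := inferInstanceAs (Mono ((Over.forget S).map i))
  haveI : LocallyOfFinitePresentation i.left := by
    haveI : LocallyOfFinitePresentation (i.left ≫ G.hom) := by rw [Over.w i]; infer_instance
    exact Groth.L20.locallyOfFinitePresentation_of_comp i.left G.hom
  obtain ⟨N, n, hnc, hnl, hN⟩ := Groth.L02.SchDom.exists_normalizer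
    (Groth.L02.SchDom.IrrFib.of_connected H.hom fun s => hHconn s) i
  haveI := hnc; haveI := hnl
  haveI : Mono n := Over.mono_of_mono_left n
  obtain ⟨gN, hnm⟩ := Groth.L25.Locus.exists_subgroup n _ hN
    (fun T' x h => ⟨⟨h, by simp only [MonObj.comp_one]; group⟩, h, by simp only [MonObj.comp_one]; group⟩)
    (fun T' g₁ g₂ F₁ F₂ T'' x h => by
      obtain ⟨a, ha⟩ := (F₂ T'' x h).1
      obtain ⟨a', ha'⟩ := (F₁ T'' x a).1
      obtain ⟨b, hb⟩ := (F₁ T'' x h).2
      obtain ⟨b', hb'⟩ := (F₂ T'' x b).2
      simp only [MonObj.comp_mul]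
      exact ⟨⟨a', by rw [← ha', ← ha]; group⟩, b', by rw [← hb', ← hb]; group⟩)
    (fun T' g₁ F₁ T'' x h => by
      obtain ⟨⟨a, ha⟩, b, hb⟩ := F₁ T'' x h
      simp only [GrpObj.comp_inv]
      exact ⟨⟨b, by rw [← hb]; group⟩, a, by rw [← ha]; group⟩)
  haveI := hnm
  have hn : Red.IsNormalizerOf i n := ⟨inferInstance, inferInstance, hN⟩
  haveI : QuasiCompact N.hom := by rw [← Over.w n]; infer_instance
  haveI : LocallyOfFinitePresentation N.hom := by rw [← Over.w n]; infer_instance
  obtain ⟨f, hf⟩ := (hN H i).2 fun T' x h =>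
    ⟨⟨x * h * x⁻¹, by simp only [MonObj.mul_comp, GrpObj.inv_comp]⟩,
      x⁻¹ * h * x, by simp only [MonObj.mul_comp, GrpObj.inv_comp]⟩
  haveI : Mono (f ≫ n) := by rw [hf]; infer_instance
  haveI : Mono f := mono_of_mono f n
  haveI : Mono f.left := inferInstanceAs (Mono ((Over.forget S).map f))
  haveI : LocallyOfFinitePresentation f.left := by
    haveI : LocallyOfFinitePresentation (f.left ≫ N.hom) := by rw [Over.w f]; infer_instance
    exact Groth.L20.locallyOfFinitePresentation_of_comp f.left N.hom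
  haveI : Flat f.left := by
    refine flat_of_geomFibres f fun s => ?_
    obtain ⟨C', gC, c', -, -, T, gT, t, ht, hcen⟩ := hHC s
    let j := Red.geomPt s
    haveI : Smooth (Red.geomFibre s G).hom := MorphismProperty.pullback_snd G.hom j ‹_›
    haveI : Smooth (Red.geomFibre s H).hom := MorphismProperty.pullback_snd H.hom j ‹_›
    haveI : LocallyOfFinitePresentation (Red.geomFibre s N).hom := MorphismProperty.pullback_snd N.hom j ‹_›
    haveI : IsMonHom ((Over.pullback j).map i) := Groth.L25.MonoClosed.isMonHom_pullbackMap _ _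
    haveI : Mono ((Over.pullback j).map i) := Functor.map_mono _ _
    haveI := ht.1
    exact flat_to_normalizer ((Over.pullback j).map i) ((Over.pullback j).map n) ((Over.pullback j).map f)
      (by rw [← Functor.map_comp, hf]) (isNormalizerOf_bc j hn) c' t ht.2.2.1 hcen
  exact ⟨N, gN, n, f, hn, hnc, inferInstance, inferInstance, hf, IsOpenImmersion.of_flat_of_mono f.left⟩

/-- a central subgroup lies in every smooth subgroup containing Cartans fibrewise -/
theorem exists_fac_central {G H Z : Over S} [GrpObj G] [GrpObj H] [Smooth G.hom] [QuasiCompact G.hom]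
    [Smooth H.hom] (i : H ⟶ G) [IsMonHom i] [Mono i]
    (hHconn : ∀ s : S, ConnectedSpace ↥(Red.geomFibre s H).left)
    (hHC : ∀ s : S, ∃ (C' : Over (Spec (CommRingCat.of (AlgebraicClosure (S.residueField s))))) (_ : GrpObj C')
      (c' : C' ⟶ Red.geomFibre s H), SGA3x.IsCartanOver _ (c' ≫ (Over.pullback (Red.geomPt s)).map i))
    (z : Z ⟶ G) (hc : ∀ (X : Over S) (x : X ⟶ Z) (g : X ⟶ G), (x ≫ z) * g = g * (x ≫ z)) :
    ∃ f : Z ⟶ H, f ≫ i = z := by
  obtain ⟨N, gN, n, f, hn, hnc, -, -, hf, hfo⟩ := exists_open_normalizer i hHconn hHC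
  haveI := hn.1; haveI := hn.2.1; haveI := hfo
  obtain ⟨z', hz'⟩ := (hn.2.2 Z z).2 fun X x h =>
    ⟨⟨h, by rw [hc X x, mul_inv_cancel_right]⟩, h, by
      rw [_root_.mul_assoc, ← hc X x, inv_mul_cancel_left]⟩
  have hr : Set.range z'.left ⊆ Set.range f.left := by
    rintro _ ⟨y, rfl⟩
    let s := Z.hom y
    let j := Red.geomPt s
    obtain ⟨y', hy'⟩ : y ∈ Set.range (pullback.fst Z.hom j) := by
      rw [Scheme.Pullback.range_fst]
      refine ⟨IsLocalRing.closedPoint _, ?_⟩
      rw [show j = Spec.map _ ≫ S.fromSpecResidueField s from rfl, Scheme.Hom.comp_apply]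
      exact (S.fromSpecResidueField_apply s _)
    obtain ⟨C', gC, c', -, -, T, gT, t, ht, hcen⟩ := hHC s
    haveI : Mono ((Over.pullback j).map n) := Functor.map_mono _ _
    obtain ⟨w, hw⟩ := (hcen.2.2 _ ((Over.pullback j).map z)).2 fun X x h => toBase_injective j _ _ (by
      rw [toBase_mul, toBase_mul, toBase_map']
      exact hc _ _ _)
    have e : (w ≫ c') ≫ (Over.pullback j).map f = (Over.pullback j).map z' := by
      rw [← cancel_mono ((Over.pullback j).map n), Category.assoc, ← Functor.map_comp, ← Functor.map_comp, hf, hz',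
        Category.assoc, hw]
    refine ⟨pullback.fst H.hom j ((w ≫ c').left y'), ?_⟩
    rw [← hy', ← Scheme.Hom.comp_apply, ← Scheme.Hom.comp_apply, ← Scheme.Hom.comp_apply,
      (Groth.L25.SchImage.isPullback_fst_map j f).w, ← Category.assoc, ← Over.comp_left, e,
      (Groth.L25.SchImage.isPullback_fst_map j z').w]
  refine ⟨Over.homMk (IsOpenImmersion.lift f.left z'.left hr) ?_, ?_⟩
  · rw [← Over.w f, IsOpenImmersion.lift_fac_assoc, Over.w z']
  · rw [← hf, ← Category.assoc, show Over.homMk (IsOpenImmersion.lift f.left z'.left hr) _ ≫ f = z' from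
      Over.OverMorphism.ext (IsOpenImmersion.lift_fac _ _ _), hz']

end Groth.L08.Borel
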