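import Groth.Agent.L08.Borel.GenCartan
import Groth.Agent.L08.Borel.DynNorm
import Groth.Agent.L08.Borel.NormCartan
import Groth.Agent.L08.Borel.CartanTorus
import Groth.Agent.L08.Borel.CartanNhd

/-!
# Borel subgroups are their own normalizers, over any base
-/

set_option autoImplicit false
set_option backward.isDefEq.respectTransparency.types false
set_option linter.style.haveILetI false
set_option linter.unusedSectionVars false

universe u

open CategoryTheory CategoryTheory.Limits MonoidalCategory CartesianMonoidalCategory MonObj GrpObj AlgebraicGeometry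

noncomputable section

namespace Groth.L08.Borel

section Field

variable {k : Type u} [Field k] [IsAlgClosed k]

local notation "U1" => 𝟙_ (Over (Spec (CommRingCat.of k)))

/-- a morphism from a reduced scheme of finite type lands in a closed subscheme if its rational points do -/
theorem exists_fac_closed_of_pts {X Y P : Over (Spec (CommRingCat.of k))} [LocallyOfFiniteType X.hom]
    [IsReduced X.left] (i : P ⟶ Y) [IsClosedImmersion i.left] (ψ : X ⟶ Y)
    (h : ∀ x : U1 ⟶ X, ∃ p, p ≫ i = x ≫ ψ) : ∃ p, p ≫ i = ψ := by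
  have hmem : ∀ z : X.left, ψ.left z ∈ Set.range i.left := by
    by_contra hne
    rw [not_forall] at hne
    obtain ⟨z, hz⟩ := hne
    obtain ⟨x, hx⟩ := exists_pt_mem (X := X) (O := ψ.left ⁻¹' (Set.range i.left)ᶜ)
      ((i.left.isClosedEmbedding.isClosed_range.isOpen_compl.preimage ψ.left.continuous).isLocallyClosed) ⟨z, hz⟩
    obtain ⟨p, hp⟩ := h x
    refine hx ⟨p.left (IsLocalRing.closedPoint k), ?_⟩
    show i.left _ = ψ.left (x.left _)
    rw [← Scheme.Hom.comp_apply, ← Scheme.Hom.comp_apply]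
    exact congrArg (fun m : U1 ⟶ Y => m.left _) hp
  haveI : Surjective (pullback.fst ψ.left i.left) := ⟨fun z => by
    have : z ∈ Set.range (pullback.fst ψ.left i.left) := by
      rw [Scheme.Pullback.range_fst]; exact hmem z
    exact this⟩
  haveI : IsIso (pullback.fst ψ.left i.left) := isIso_of_isClosedImmersion_of_surjective _
  have hw : (inv (pullback.fst ψ.left i.left) ≫ pullback.snd _ _) ≫ i.left = ψ.left := by
    rw [Category.assoc, ← pullback.condition, IsIso.inv_hom_id_assoc]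
  exact ⟨Over.homMk (inv (pullback.fst ψ.left i.left) ≫ pullback.snd _ _) (by rw [← Over.w i, ← Category.assoc, hw, Over.w]),
    Over.OverMorphism.ext hw⟩

/-- a rational point normalizing a Borel subgroup lies in it -/
theorem mem_of_normalizes_borel {G B : Over (Spec (CommRingCat.of k))} [GrpObj G] [GrpObj B] [Smooth G.hom]
    [QuasiCompact G.hom] [ConnectedSpace G.left] {b : B ⟶ G} (hB : Red.IsBorelOver k b) (g : U1 ⟶ G)
    (hg : ∀ z : U1 ⟶ B, ∃ z' : U1 ⟶ B, g⁻¹ * (z ≫ b) * g = z' ≫ b) : ∃ z : U1 ⟶ B, z ≫ b = g := by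
  obtain ⟨𝒟⟩ := exists_genData G
  letI := 𝒟.grpH
  haveI := 𝒟.affH; haveI := 𝒟.smH; haveI := 𝒟.connH; haveI := 𝒟.homρ; haveI := 𝒟.surjρ
  haveI : LocallyOfFiniteType G.hom := inferInstance
  obtain ⟨B', gB', i', f, hB', hf, hfac⟩ := exists_borel_below 𝒟 hB
  haveI := hB'.1; haveI := hB'.2.1; haveI := hB'.2.2.1
  haveI : Mono i' := Groth.L08.mono_of_closedImmersion i'
  haveI : IsReduced (U1).left := inferInstanceAs (IsReduced (Spec (CommRingCat.of k)))
  have key : ∀ y : U1 ⟶ B', ∃ y' : U1 ⟶ B', y' ≫ i' = (g ≫ 𝒟.ρ)⁻¹ * (y ≫ i') * (g ≫ 𝒟.ρ) := fun y => by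
    obtain ⟨g₁, hg₁⟩ := exists_pt_lift 𝒟.ρ (y ≫ i') (𝒟.ρ.left.surjective _)
    obtain ⟨z, hz⟩ := hfac U1 g₁ ‹_› ⟨y, hg₁.symm⟩
    obtain ⟨z', hz'⟩ := hg z
    refine ⟨z' ≫ f, ?_⟩
    rw [Category.assoc, hf, ← Category.assoc, ← hz', MonObj.mul_comp, MonObj.mul_comp, GrpObj.inv_comp, hz, hg₁]
  haveI : IsReduced B'.left := Groth.Agent.AV.isReduced_of_smooth_field B'.hom
  let gH := g ≫ 𝒟.ρ
  obtain ⟨φ, hφ⟩ := exists_fac_closed_of_pts i' ((toUnit B' ≫ gH)⁻¹ * i' * (toUnit B' ≫ gH)) fun y => by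
    obtain ⟨y', hy'⟩ := key y
    refine ⟨y', ?_⟩
    rw [hy', MonObj.comp_mul, MonObj.comp_mul, GrpObj.comp_inv, ← Category.assoc, toUnit_unique (y ≫ toUnit B') (𝟙 _),
      Category.id_comp]
  obtain ⟨y, hy⟩ := mem_of_conj_borel i' hB' (𝟙 B') (Category.id_comp i') U1 gH fun X' x h => ⟨h ≫ φ, by
    rw [Category.assoc, hφ, MonObj.comp_mul, MonObj.comp_mul, GrpObj.comp_inv, ← Category.assoc h (toUnit B'),
      toUnit_unique (h ≫ toUnit B') (toUnit X'), show x = toUnit X' from toUnit_unique _ _]⟩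
  exact hfac U1 g ‹_› ⟨y, hy⟩

end Field

variable {S : Scheme.{u}}

set_option maxHeartbeats 800000 in
/-- **Borel subgroups are their own normalizers and closed** -/
theorem borel_isNormalizerOf_self_rel {G B : Over S} [GrpObj G] [GrpObj B] [Smooth G.hom] [QuasiCompact G.hom]
    (hconn : ∀ s : S, _root_.IsConnected (G.hom.base ⁻¹' {s})) (b : B ⟶ G) [IsMonHom b] [Mono b] [Smooth B.hom]
    (hB : ∀ s : S, Red.IsBorelOver (AlgebraicClosure (S.residueField s)) ((Over.pullback (Red.geomPt s)).map b)) :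
    Red.IsNormalizerOf b b ∧ IsClosedImmersion b.left := by
  have hfib : ∀ s : S, Smooth (Red.geomFibre s G).hom ∧ QuasiCompact (Red.geomFibre s G).hom ∧
      ConnectedSpace ↥(Red.geomFibre s G).left := fun s =>
    ⟨MorphismProperty.pullback_snd G.hom _ ‹_›, MorphismProperty.pullback_snd G.hom _ ‹_›,
      connectedSpace_bc_point G hconn _⟩
  obtain ⟨N, gN, n, f, hn, hnc, hNqc, hNl, hf, hfo⟩ := exists_open_normalizer b (fun s => (hB s).2.2.2.1) fun s => by
    obtain ⟨h1, h2, h3⟩ := hfib s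
    haveI := (hB s).2.2.1; haveI := (hB s).2.2.2.1; haveI := (hB s).2.1
    haveI : QuasiCompact (Red.geomFibre s B).hom := by
      rw [← Over.w ((Over.pullback (Red.geomPt s)).map b)]; infer_instance
    obtain ⟨T, gT, t, ht⟩ := exists_maxTorus_gen (Red.geomFibre s B)
    haveI := ht.1
    obtain ⟨C, gC, c, hc, -, -, -⟩ := exists_centralizer_gen t ht.2.2.1
    exact ⟨C, gC, c, isCartanOver_comp_borel (hB s)
      ⟨hc.1, hc.2.1, T, gT, t, isMaximalTorus_of_isMaxTorus ht, hc⟩⟩
  haveI := hn.1; haveI := hn.2.1; haveI := hnc; haveI := hfo; haveI := hNl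
  haveI : Mono (f ≫ n) := hf.symm ▸ ‹Mono b›
  haveI : Mono f := mono_of_mono f n
  haveI : Surjective f.left := surjective_of_geomFibres f fun s => by
    obtain ⟨h1, h2, h3⟩ := hfib s
    let F := Over.pullback (Red.geomPt s)
    haveI : IsOpenImmersion (F.map f).left :=
      MorphismProperty.of_isPullback (P := @IsOpenImmersion) (Groth.L25.SchImage.isPullback_fst_map _ f) hfo
    haveI : LocallyOfFiniteType (F.obj N).hom := MorphismProperty.pullback_snd N.hom _ inferInstance
    refine ⟨fun z => by_contra fun hz => ?_⟩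
    have hcl : IsClosed (Set.range (F.map f).left)ᶜ := (F.map f).left.isOpenEmbedding.isOpen_range.isClosed_compl
    obtain ⟨x, hx⟩ := exists_pt_mem (X := F.obj N) hcl.isLocallyClosed ⟨z, fun ⟨a, ha⟩ => hz ⟨a, ha⟩⟩
    have hb := (isNormalizerOf_bc (Red.geomPt s) hn).2.2 _ (x ≫ F.map n)
    obtain ⟨y, hy⟩ := mem_of_normalizes_borel (hB s) (x ≫ F.map n) fun w => by
      obtain ⟨z', hz'⟩ := ((hb.1 ⟨x, rfl⟩) _ (𝟙 _) w).2
      exact ⟨z', by rw [← hz', Category.id_comp]⟩
    haveI : Mono (F.map n) := Functor.map_mono _ _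
    have hyx : y ≫ F.map f = x := by rw [← cancel_mono (F.map n), Category.assoc, ← Functor.map_comp, hf, hy]
    exact hx ⟨y.left (IsLocalRing.closedPoint _), by rw [← hyx, ← Scheme.Hom.comp_apply]; rfl⟩
  haveI : Mono f.left := inferInstanceAs (Mono ((Over.forget S).map f))
  haveI : IsIso f := isIso_of_flat_mono f
  refine ⟨⟨inferInstance, inferInstance, fun X g => ⟨fun ⟨z, hz⟩ => (hn.2.2 X g).1 ⟨z ≫ f, by rw [Category.assoc, hf, hz]⟩,
    fun h => ?_⟩⟩, ?_⟩
  · obtain ⟨z, hz⟩ := (hn.2.2 X g).2 h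
    exact ⟨z ≫ inv f, by rw [← hz, ← hf, Category.assoc, IsIso.inv_hom_id_assoc]⟩
  · rw [← hf]
    haveI : IsIso f.left := inferInstanceAs (IsIso ((Over.forget S).map f))
    exact inferInstanceAs (IsClosedImmersion (f.left ≫ n.left))

end Groth.L08.Borel
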