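import Groth.Agent.L08.Borel.NormField
import Groth.Agent.L08.Borel.CentBorel
import Groth.Agent.L08.Borel.Cover
import Groth.Agent.L08.Chev.Comp

/-!
# Borel subgroups containing a given torus
-/

set_option autoImplicit false
set_option backward.isDefEq.respectTransparency.types false
set_option linter.style.haveILetI false
set_option linter.unusedSectionVars false

universe u

open CategoryTheory CategoryTheory.Limits MonoidalCategory CartesianMonoidalCategory MonObj GrpObj AlgebraicGeometry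

noncomputable section

namespace Groth.L08.Borel

variable {k : Type u} [Field k]

local notation "U1" => 𝟙_ (Over (Spec (CommRingCat.of k)))

/-- conjugation as an automorphism -/
theorem exists_conjIso {G : Over (Spec (CommRingCat.of k))} [GrpObj G] (g : U1 ⟶ G) :
    ∃ σ : G ≅ G, ∀ {X : Over (Spec (CommRingCat.of k))} (i : X ⟶ G), i ≫ σ.hom = AGF.conjBy g i := by
  have h : ∀ a b : U1 ⟶ G, AGF.conjBy a (𝟙 G) ≫ AGF.conjBy b (𝟙 G) = AGF.conjBy (b * a) (𝟙 G) := fun a b => by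
    rw [comp_conjBy, Category.comp_id, conjBy_conjBy]
  refine ⟨⟨AGF.conjBy g (𝟙 G), AGF.conjBy g⁻¹ (𝟙 G), ?_, ?_⟩, fun i => ?_⟩
  · rw [h, inv_mul_cancel, conjBy_one]
  · rw [h, mul_inv_cancel, conjBy_one]
  · show i ≫ AGF.conjBy g (𝟙 G) = _
    rw [comp_conjBy, Category.comp_id]

/-- a subgroup of a solvable group is solvable -/
theorem isSolvableGrp_of_mono {G H : Over (Spec (CommRingCat.of k))} [GrpObj G] [GrpObj H] (i : H ⟶ G) [IsMonHom i]
    [Mono i] (hG : Red.IsSolvableGrp G) : Red.IsSolvableGrp H := by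
  obtain ⟨n, hn⟩ := hG
  refine ⟨n, fun X => ?_⟩
  let Φ : (X ⟶ H) →* (X ⟶ G) := MonoidHom.mk' (fun a => a ≫ i) fun a b => MonObj.mul_comp a b i
  refine (Subgroup.map_eq_bot_iff_of_injective _ (f := Φ) fun a b e => (cancel_mono i).1 e).1 (le_bot_iff.1 ?_)
  exact (map_derivedSeries_le_derivedSeries Φ n).trans (hn X).le

variable [IsAlgClosed k]

/-- a point normalizing a maximal torus and a Borel subgroup containing it centralizes the torus -/
theorem centralizes_of_normalizes {G T B : Over (Spec (CommRingCat.of k))} [GrpObj G] [GrpObj T] [GrpObj B]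
    [IsAffine G.left] [Smooth G.hom] [ConnectedSpace G.left] {iT : T ⟶ G} {iB : B ⟶ G} (hT : AGF.IsMaxTorus iT)
    (hB : Red.IsBorelOver k iB) (t : T ⟶ B) (ht : t ≫ iB = iT) (n : U1 ⟶ G) (τ : T ≅ T)
    (hτ : τ.hom ≫ iT = AGF.conjBy n iT) (σ : B ≅ B) (hσ : σ.hom ≫ iB = AGF.conjBy n iB) :
    AGF.conjBy n iT = iT := by
  haveI := hT.1; haveI := hT.2.1
  haveI := hB.1; haveI := hB.2.1; haveI := hB.2.2.1; haveI := hB.2.2.2.1
  haveI : Mono iB := Groth.L08.mono_of_closedImmersion iB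
  haveI : IsAffine B.left := isAffine_of_isAffineHom iB.left
  obtain ⟨m, hm⟩ := mem_of_conj_borel iB hB (𝟙 B) (Category.id_comp iB) U1 n fun X x h => by
    have e := congrArg (AGF.conjBy n⁻¹) hσ
    rw [conjBy_conjBy, inv_mul_cancel, conjBy_one, ← comp_conjBy] at e
    refine ⟨h ≫ σ.inv, ?_⟩
    rw [toUnit_unique x (toUnit X), Category.assoc]
    have e2 : σ.inv ≫ iB = AGF.conjBy n⁻¹ iB := by
      rw [Iso.inv_comp_eq]; exact e.symm
    rw [e2, comp_conjBy]
    simp [AGF.conjBy, GrpObj.comp_inv]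
  obtain ⟨T₀, _, i₀, p, h0m, h0mono, h0T, hpm, hp, -, h0abs⟩ := exists_torus_absorbing (G := B) hB.2.2.2.2.1
  haveI := hpm
  obtain ⟨-, -, -, -, hcomm⟩ := torus_props h0T
  have hconjp : ∀ (b : U1 ⟶ B) {X : Over (Spec (CommRingCat.of k))} (x : X ⟶ B), AGF.conjBy b x ≫ p = x ≫ p := by
    intro b X x
    rw [conjBy_comp]
    simp only [AGF.conjBy]
    rw [hcomm _ _ (x ≫ p), mul_inv_cancel_right]
  have hτ' : τ.hom ≫ t = AGF.conjBy m t := by
    rw [← cancel_mono iB, Category.assoc, ht, conjBy_comp, hm, ht, hτ]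
  -- the retraction is injective on the torus
  haveI : IsMonHom t := isMonHom_of_comp_mono t iB iT ht
  haveI : Mono t := by haveI : Mono (t ≫ iB) := ht ▸ inferInstance; exact mono_of_mono t iB
  have hmaxT : AGF.IsMaxTorus t := isMaxTorus_factor (iB := iB) (ht.symm ▸ hT)
  haveI := h0m; haveI := h0mono
  obtain ⟨b, e, he⟩ := exists_maxTorus_conj hmaxT (isMaxTorus_of_absorbing i₀ h0T h0abs)
  have htp : t ≫ p = e.hom := by
    have := congrArg (· ≫ p) he
    simp only [Category.assoc, hp, Category.comp_id, hconjp] at this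
    exact this.symm
  have hτid : τ.hom = 𝟙 T := by
    haveI : Mono (t ≫ p) := htp ▸ inferInstance
    rw [← cancel_mono (t ≫ p), Category.id_comp, ← Category.assoc, hτ', hconjp]
  rw [← hτ, hτid, Category.id_comp]

/-- Borel subgroups containing a maximal torus are conjugate under its normalizer -/
theorem exists_normalizing {G T B B' : Over (Spec (CommRingCat.of k))} [GrpObj G] [GrpObj T] [GrpObj B] [GrpObj B']
    [IsAffine G.left] [Smooth G.hom] [ConnectedSpace G.left] {iT : T ⟶ G} {iB : B ⟶ G} {iB' : B' ⟶ G}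
    (hT : AGF.IsMaxTorus iT) (hB : Red.IsBorelOver k iB) (hB' : Red.IsBorelOver k iB') (t : T ⟶ B) (ht : t ≫ iB = iT)
    (t' : T ⟶ B') (ht' : t' ≫ iB' = iT) :
    ∃ (n : U1 ⟶ G) (τ : T ≅ T) (σ : B ≅ B'), τ.hom ≫ iT = AGF.conjBy n iT ∧ σ.hom ≫ iB' = AGF.conjBy n iB := by
  haveI := hT.1; haveI := hT.2.1
  haveI := hB'.1; haveI := hB'.2.1; haveI := hB'.2.2.1; haveI := hB'.2.2.2.1
  haveI : IsAffine B'.left := isAffine_of_isAffineHom iB'.left
  haveI : Mono iB' := Groth.L08.mono_of_closedImmersion iB'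
  obtain ⟨x, e, he⟩ := Groth.Agent.S3900.result k G B B' iB iB' hB hB'
  have h1 : (t ≫ e.hom) ≫ iB' = AGF.conjBy x iT := by rw [Category.assoc, he, comp_conjBy, ht]
  obtain ⟨b, f, hf⟩ := exists_maxTorus_conj (G := B')
    (isMaxTorus_factor (iB := iB') (h1.symm ▸ isMaxTorus_conjBy hT x))
    (isMaxTorus_factor (iB := iB') (ht'.symm ▸ hT))
  obtain ⟨σ, hσ⟩ := exists_conjIso b
  refine ⟨(b ≫ iB') * x, f, e ≪≫ σ, ?_, ?_⟩
  · rw [← ht', reassoc_of% hf, conjBy_comp, h1, conjBy_conjBy, ht']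
  · rw [Iso.trans_hom, hσ e.hom, conjBy_comp, he, conjBy_conjBy]

/-- finitely many Borel subgroups contain a maximal torus -/
theorem finite_borels {G T : Over (Spec (CommRingCat.of k))} [GrpObj G] [GrpObj T]
    [IsAffine G.left] [Smooth G.hom] [ConnectedSpace G.left] {iT : T ⟶ G} (hT : AGF.IsMaxTorus iT) :
    Set.Finite {P : Subobject G | ∃ (B : Over (Spec (CommRingCat.of k))) (_ : GrpObj B) (iB : B ⟶ G) (_ : Mono iB),
      Red.IsBorelOver k iB ∧ (∃ t : T ⟶ B, t ≫ iB = iT) ∧ P = Subobject.mk iB} := by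
  classical
  set S := {P : Subobject G | ∃ (B : Over (Spec (CommRingCat.of k))) (_ : GrpObj B) (iB : B ⟶ G) (_ : Mono iB),
      Red.IsBorelOver k iB ∧ (∃ t : T ⟶ B, t ≫ iB = iT) ∧ P = Subobject.mk iB}
  rcases S.eq_empty_or_nonempty with h | ⟨_, B₀, g₀, i₀, m₀, h₀, ⟨t₀, ht₀⟩, -⟩
  · exact h ▸ Set.finite_empty
  haveI := hT.1; haveI := hT.2.1
  obtain ⟨C, gC, c, hc⟩ := exists_centralizer_torus iT hT.2.2.1
  obtain ⟨R, hR, hreps⟩ := exists_finite_reps hT.2.2.1 hc
  obtain ⟨u, hu⟩ := centralizer_le_borel hT hc h₀ t₀ ht₀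
  haveI := m₀
  let F : (U1 ⟶ G) → Subobject G := fun r =>
    haveI := mono_conjBy r i₀
    Subobject.mk (AGF.conjBy r i₀)
  refine (hR.image F).subset ?_
  rintro _ ⟨B, gB, iB, mB, hB, ⟨t, ht⟩, rfl⟩
  obtain ⟨n, τ, σ, hτ, hσ⟩ := exists_normalizing hT h₀ hB t₀ ht₀ t ht
  obtain ⟨r, hr, z, hz⟩ := hreps n fun X h => by
    refine ⟨⟨h ≫ τ.hom, ?_⟩, ⟨h ≫ τ.inv, ?_⟩⟩
    · rw [Category.assoc, hτ, comp_conjBy]
    · have e : τ.inv ≫ iT = AGF.conjBy n⁻¹ iT := by
        rw [Iso.inv_comp_eq, comp_conjBy, hτ, conjBy_conjBy, inv_mul_cancel, conjBy_one]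
      rw [Category.assoc, e, comp_conjBy]
      simp [AGF.conjBy, GrpObj.comp_inv]
  refine ⟨r, hr, ?_⟩
  obtain ⟨κ, hκ⟩ := exists_conjIso (z ≫ u)
  haveI := h₀.1
  haveI := mono_conjBy r i₀
  refine Subobject.mk_eq_mk_of_comm _ _ (κ.symm ≪≫ σ) ?_
  rw [Iso.trans_hom, Category.assoc, hσ, Iso.symm_hom, Iso.inv_comp_eq]
  have e : κ.hom = AGF.conjBy (z ≫ u) (𝟙 B₀) := (Category.id_comp _).symm.trans (hκ _)
  rw [e, comp_conjBy, conjBy_comp, Category.id_comp, Category.assoc, hu, conjBy_conjBy, hz]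

/-- every Borel subgroup of the centralizer of a torus is the trace of one of the group -/
theorem exists_borel_trace {G T C D : Over (Spec (CommRingCat.of k))} [GrpObj G] [GrpObj T] [GrpObj C] [GrpObj D]
    [IsAffine G.left] [Smooth G.hom] [ConnectedSpace G.left] (iT : T ⟶ G) [IsMonHom iT] [Mono iT]
    (hT : Red.IsTorus T) {c : C ⟶ G} (hc : Red.IsCentralizerOf iT c) {dC : D ⟶ C} (hD : Red.IsBorelOver k dC) :
    ∃ (B : Over (Spec (CommRingCat.of k))) (_ : GrpObj B) (iB : B ⟶ G) (t : T ⟶ B) (dB : D ⟶ B),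
      Red.IsBorelOver k iB ∧ t ≫ iB = iT ∧ IsPullback dC dB c iB := by
  haveI := hc.1; haveI := hc.2.1
  obtain ⟨h1, h2, h3, h4, ⟨tC, htC⟩, hcen⟩ := centralizer_props hT hc
  haveI := h1; haveI := h2; haveI := h3; haveI := h4
  haveI := hD.1; haveI := hD.2.1; haveI := hD.2.2.1; haveI := hD.2.2.2.1
  haveI : IsAffine D.left := isAffine_of_isAffineHom dC.left
  haveI : IsMonHom tC := isMonHom_of_comp_mono tC c iT htC
  haveI : LocallyOfFiniteType C.hom := inferInstance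
  obtain ⟨hTa, hTs, hTc, hTsol, -⟩ := torus_props hT
  haveI := hTa; haveI := hTs; haveI := hTc
  obtain ⟨X, a, o, hX⟩ := exists_isQuotient dC
  haveI := isProper_quotient_of_borel hD hX
  obtain ⟨g, φ, hφ⟩ := exists_conj_factor tC hTsol hX
  have hφ' : φ ≫ dC = tC := by
    rw [hφ, ← cancel_mono c, conjBy_comp, htC]
    simp only [AGF.conjBy]
    have := hcen T (toUnit T ≫ g) (𝟙 T)
    rw [Category.id_comp, Category.assoc] at this
    rw [this, mul_inv_cancel_right]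
  haveI : IsClosedImmersion (dC ≫ c).left := inferInstanceAs (IsClosedImmersion (dC.left ≫ c.left))
  haveI : QuasiCompact G.hom := quasiCompact_of_compactSpace _
  obtain ⟨B, gB, iB, hB, f, hf⟩ := exists_borel_ge (dC ≫ c) hD.2.2.2.2.1
  haveI := hB.1; haveI := hB.2.1; haveI := hB.2.2.1; haveI := hB.2.2.2.1
  haveI : Mono iB := Groth.L08.mono_of_closedImmersion iB
  haveI : Mono dC := Groth.L08.mono_of_closedImmersion dC
  haveI : IsAffine B.left := isAffine_of_isAffineHom iB.left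
  have htB : (φ ≫ f) ≫ iB = iT := by rw [Category.assoc, hf, reassoc_of% hφ', htC]
  haveI : IsMonHom (φ ≫ f) := isMonHom_of_comp_mono (φ ≫ f) iB iT htB
  haveI : Mono (φ ≫ f) := by haveI : Mono ((φ ≫ f) ≫ iB) := htB ▸ inferInstance; exact mono_of_mono (φ ≫ f) iB
  obtain ⟨Z, gZ, z, hz⟩ := exists_centralizer_torus (φ ≫ f) hT
  obtain ⟨z1, z2, z3, z4, -, -⟩ := centralizer_props hT hz
  haveI := hz.1; haveI := hz.2.1; haveI := z1; haveI := z3; haveI := z4
  obtain ⟨ζ, hζ⟩ := (hc.2.2 Z (z ≫ iB)).2 fun X' x h => by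
    have e := congrArg (· ≫ iB) ((hz.2.2 Z z).1 ⟨𝟙 Z, Category.id_comp z⟩ X' x h)
    simp only [MonObj.mul_comp, Category.assoc] at e
    rw [← htB]; simpa only [Category.assoc] using e
  haveI : IsMonHom ζ := isMonHom_of_comp_mono ζ c (z ≫ iB) hζ
  haveI : IsClosedImmersion (z ≫ iB).left := inferInstanceAs (IsClosedImmersion (z.left ≫ iB.left))
  haveI : IsClosedImmersion (ζ ≫ c).left := hζ.symm ▸ inferInstance
  haveI : IsClosedImmersion (ζ.left ≫ c.left) := ‹IsClosedImmersion (ζ ≫ c).left›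
  haveI : IsClosedImmersion ζ.left := IsClosedImmersion.of_comp ζ.left c.left
  have hfac : ∀ {W : Over (Spec (CommRingCat.of k))} (x : W ⟶ C) (y : W ⟶ B), x ≫ c = y ≫ iB →
      ∃ w : W ⟶ Z, w ≫ z = y ∧ w ≫ ζ = x := fun {W} x y e => by
    obtain ⟨w, hw⟩ := (hz.2.2 W y).2 fun X' q h => (cancel_mono iB).1 (by
      have e' := (hc.2.2 W (x ≫ c)).1 ⟨x, rfl⟩ X' q h
      rw [e, ← htB] at e'
      simpa only [MonObj.mul_comp, Category.assoc] using e')
    exact ⟨w, hw, (cancel_mono c).1 (by rw [Category.assoc, hζ, reassoc_of% hw, e])⟩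
  obtain ⟨d, hd1, hd2⟩ := hfac dC f hf.symm
  haveI : IsIso d := hD.2.2.2.2.2 Z ζ d inferInstance z3 z4 (isSolvableGrp_of_mono z hB.2.2.2.2.1) hd2
  refine ⟨B, gB, iB, φ ≫ f, f, hB, htB, IsPullback.mk' hf.symm (fun W a b ea eb => ?_) fun W x y e => ?_⟩
  · exact (cancel_mono dC).1 ea
  · obtain ⟨w, hw1, hw2⟩ := hfac x y e
    exact ⟨w ≫ inv d, by rw [← hd2, Category.assoc, IsIso.inv_hom_id_assoc, hw2],
      by rw [← hd1, Category.assoc, IsIso.inv_hom_id_assoc, hw1]⟩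

/-- Borel subgroups with images in one Borel subgroup coincide when the kernel lies in a Borel subgroup -/
theorem eq_of_image {G G' B₀ B₁ B₂ B' : Over (Spec (CommRingCat.of k))} [GrpObj G] [GrpObj G'] [GrpObj B₀]
    [GrpObj B₁] [GrpObj B₂] [GrpObj B'] [IsAffine G.left] [Smooth G.hom] (φ : G ⟶ G') [IsMonHom φ]
    {i₀ : B₀ ⟶ G} (h₀ : Red.IsBorelOver k i₀)
    (hker : ∀ (X : Over (Spec (CommRingCat.of k))) (g : X ⟶ G), g ≫ φ = 1 → ∃ b : X ⟶ B₀, b ≫ i₀ = g)
    {i₁ : B₁ ⟶ G} {i₂ : B₂ ⟶ G} {i' : B' ⟶ G'} (h₁ : Red.IsBorelOver k i₁) (h₂ : Red.IsBorelOver k i₂)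
    (h' : Red.IsBorelOver k i') (f₁ : B₁ ⟶ B') (f₂ : B₂ ⟶ B') (hf₁ : f₁ ≫ i' = i₁ ≫ φ) (hf₂ : f₂ ≫ i' = i₂ ≫ φ) :
    ∃ e : B₁ ≅ B₂, e.hom ≫ i₂ = i₁ := by
  haveI := h'.1; haveI := h'.2.1; haveI := h₀.1; haveI := h₀.2.1
  haveI := h₁.1; haveI := h₁.2.1; haveI := h₁.2.2.1; haveI := h₁.2.2.2.1
  haveI := h₂.1; haveI := h₂.2.1; haveI := h₂.2.2.1; haveI := h₂.2.2.2.1
  haveI : Mono i' := Groth.L08.mono_of_closedImmersion i'
  haveI : LocallyOfFiniteType G.hom := inferInstance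
  let P := Limits.pullback φ i'
  let i : P ⟶ G := pullback.fst _ _
  haveI : IsClosedImmersion i.left :=
    MorphismProperty.of_isPullback (P := @IsClosedImmersion)
      ((IsPullback.of_hasPullback φ i').map (Over.forget _)).flip ‹IsClosedImmersion i'.left›
  haveI : Mono i := Groth.L08.mono_of_closedImmersion i
  have crit : ∀ {W : Over (Spec (CommRingCat.of k))} (g : W ⟶ G) (y : W ⟶ B'), y ≫ i' = g ≫ φ →
      ∃ z : W ⟶ P, z ≫ i = g := fun g y e => ⟨pullback.lift g y e.symm, pullback.lift_fst _ _ _⟩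
  obtain ⟨gP, hmon⟩ := Groth.L08.exists_grpObj_of_mono i
    (crit η[G] 1 (by rw [MonObj.one_comp, MonObj.one_eq_one, MonObj.one_comp]))
    (crit ((fst P P ≫ i) * (snd P P ≫ i)) ((fst P P ≫ pullback.snd φ i') * (snd P P ≫ pullback.snd φ i')) (by
      simp only [MonObj.mul_comp, Category.assoc, ← pullback.condition, i]))
    (crit i⁻¹ (pullback.snd φ i')⁻¹ (by rw [GrpObj.inv_comp, GrpObj.inv_comp, ← pullback.condition]))
  haveI := hmon
  haveI : LocallyOfFiniteType P.hom := by rw [← Over.w i]; infer_instance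
  haveI : IsAffine P.left := isAffine_of_isAffineHom i.left
  obtain ⟨N, gN, j, hj⟩ := Groth.L08.Chev.exists_idComp P
  haveI := hj.hom; haveI := hj.closedImm; haveI := hj.connectedSpace; haveI := hj.lft
  obtain ⟨R, gR, m, hm, hmc, hRs, hms, hred⟩ := exists_red_subgroup N
  haveI := hm; haveI := hmc; haveI := hRs; haveI := hms
  haveI : ConnectedSpace R.left := (IsHomeomorph.homeomorph m.left
    (isHomeomorph_iff_isEmbedding_surjective.2
      ⟨m.left.isClosedEmbedding.isEmbedding, m.left.surjective⟩)).symm.surjective.connectedSpace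
    (Homeomorph.continuous _)
  let K : R ⟶ G := m ≫ j ≫ i
  haveI : IsMonHom K := inferInstanceAs (IsMonHom (m ≫ j ≫ i))
  haveI : IsClosedImmersion K.left := inferInstanceAs (IsClosedImmersion (m.left ≫ j.left ≫ i.left))
  haveI : Mono K := Groth.L08.mono_of_closedImmersion K
  haveI : IsAffine R.left := isAffine_of_isAffineHom K.left
  haveI : QuasiCompact R.hom := quasiCompact_of_compactSpace _
  have hsol : Red.IsSolvableGrp R := by
    refine isSolvableGrp_of_pts ?_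
    haveI := isSolvable_pts h'.2.2.2.2.1
    haveI := isSolvable_pts h₀.2.2.2.2.1
    haveI : Mono i₀ := Groth.L08.mono_of_closedImmersion i₀
    let ψ : (U1 ⟶ R) →* (U1 ⟶ B') := MonoidHom.mk' (fun x => x ≫ m ≫ j ≫ pullback.snd φ i') fun x y => by
      have e : ∀ z : U1 ⟶ R, (z ≫ m ≫ j ≫ pullback.snd φ i') ≫ i' = (z ≫ K) ≫ φ := fun z => by
        simp only [K, i, Category.assoc, pullback.condition]
      refine (cancel_mono i').1 ?_
      rw [e, MonObj.mul_comp x y K, MonObj.mul_comp (x ≫ K) (y ≫ K) φ, ← e x, ← e y]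
      exact (MonObj.mul_comp _ _ i').symm
    have hψ : ∀ x : ψ.ker, ∃ b : U1 ⟶ B₀, b ≫ i₀ = x.1 ≫ K := fun x => hker _ _ (by
      have := congrArg (· ≫ i') (MonoidHom.mem_ker.1 x.2)
      simp only [ψ, MonoidHom.mk'_apply, Category.assoc, ← pullback.condition, MonObj.one_comp] at this
      simpa [K, i] using this)
    choose b hb using hψ
    let β : ψ.ker →* (U1 ⟶ B₀) := MonoidHom.mk' b fun x y => (cancel_mono i₀).1 (by
      rw [MonObj.mul_comp, hb, hb, hb, Subgroup.coe_mul, MonObj.mul_comp])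
    haveI : Group.IsSolvable ψ.ker := Group.isSolvable_of_isSolvable_injective (f := β) fun x y e =>
      Subtype.ext ((cancel_mono K).1 (by rw [← hb, ← hb]; exact congrArg (· ≫ i₀) e))
    exact Group.isSolvable_of_ker_le_range ψ.ker.subtype ψ (by rw [Subgroup.range_subtype])
  have hle : ∀ {B : Over (Spec (CommRingCat.of k))} [GrpObj B] (iB : B ⟶ G), Red.IsBorelOver k iB →
      ∀ f : B ⟶ B', f ≫ i' = iB ≫ φ → ∃ e : B ≅ R, e.hom ≫ K = iB := by
    intro B _ iB hB f hf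
    haveI := hB.1; haveI := hB.2.1; haveI := hB.2.2.1; haveI := hB.2.2.2.1
    obtain ⟨w, hw⟩ := crit iB f hf
    haveI : IsMonHom w := isMonHom_of_comp_mono w i iB hw
    obtain ⟨w', hw'⟩ := hj.exists_lift w (hom_one w (IsMonHom.one_hom w))
    obtain ⟨e, he⟩ := hred B w' (Groth.Agent.AV.isReduced_of_smooth_field B.hom)
    have hK : e ≫ K = iB := by simp only [K, reassoc_of% he, reassoc_of% hw', hw]
    haveI : IsIso e := hB.2.2.2.2.2 R K e inferInstance hRs inferInstance hsol hK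
    exact ⟨asIso e, hK⟩
  obtain ⟨e₁, he₁⟩ := hle i₁ h₁ f₁ hf₁
  obtain ⟨e₂, he₂⟩ := hle i₂ h₂ f₂ hf₂
  exact ⟨e₁ ≪≫ e₂.symm, by rw [Iso.trans_hom, Category.assoc, Iso.symm_hom, ← he₂, Iso.inv_hom_id_assoc, he₁]⟩

end Groth.L08.Borel
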