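import Groth.Agent.L08.Borel.DimTorus
import Groth.Agent.L08.Borel.GenNilp
import Groth.Agent.L08.Borel.ImageTorus
import Groth.Agent.L08.Borel.IsoBase
import Groth.Agent.L08.Borel.MaxTorusDesc
import Groth.Agent.L08.Borel.TorusLift
import Groth.Prelude.Def_SGA3x
import Mathlib.AlgebraicGeometry.AlgClosed.Basic

/-!
# The reductive rank
-/

set_option autoImplicit false
set_option backward.isDefEq.respectTransparency.types false
set_option linter.style.haveILetI false
universe u

open CategoryTheory CategoryTheory.Limits MonoidalCategory CartesianMonoidalCategory MonObj AlgebraicGeometry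

noncomputable section

namespace Groth.L08.Borel

section Field

variable {k : Type u} [Field k] [IsAlgClosed k] {G : Over (Spec (CommRingCat.of k))} [GrpObj G] [Smooth G.hom]
  [QuasiCompact G.hom]

/-- a subtorus has at most the rank of some maximal torus -/
theorem exists_maxTorus_rank_ge {m : ℕ} (v : Red.DS (Spec (CommRingCat.of k)) (Fin m → ℤ) ⟶ G) [IsMonHom v]
    [Mono v] : ∃ (T : Over (Spec (CommRingCat.of k))) (_ : GrpObj T) (iT : T ⟶ G),
      AGF.IsMaxTorus iT ∧ ∃ r : ℕ, Red.IsSplitTorusWith (Fin r → ℤ) T ∧ m ≤ r := by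
  haveI : LocallyOfFiniteType G.hom := inferInstance
  obtain ⟨G₀, g₀, j, hj⟩ := Groth.L08.Chev.exists_idComp G
  haveI := hj.hom; haveI := hj.closedImm; haveI := hj.smooth; haveI := hj.connectedSpace; haveI := hj.quasiCompact
  haveI : Mono j := Groth.L08.mono_of_closedImmersion j
  have hD := isTorus_ds (Spec (CommRingCat.of k)) m
  obtain ⟨-, -, a3, -, -⟩ := torus_props hD
  haveI := a3
  obtain ⟨w, hw⟩ := hj.exists_lift_hom v
  haveI : IsMonHom w := isMonHom_of_comp_mono w j v hw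
  haveI : Mono w := by haveI : Mono (w ≫ j) := hw.symm ▸ inferInstance; exact mono_of_mono w j
  obtain ⟨T, gT, t, ht⟩ := exists_maxTorus_gen G₀
  obtain ⟨g, f, hf⟩ := maxTorus_absorbing_gen ht _ w hD
  haveI := ht.1; haveI := ht.2.1
  haveI := isMonHom_conjBy g w
  haveI := mono_conjBy g w
  haveI : IsMonHom f := isMonHom_of_comp_mono f t _ hf
  haveI : Mono f := by haveI : Mono (f ≫ t) := hf ▸ inferInstance; exact mono_of_mono f t
  obtain ⟨r, hr⟩ := exists_split_rank ht.2.2.1
  exact ⟨T, gT, t ≫ j, isMaxTorus_comp_idComp hj ht, r, hr,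
    rank_le f (Groth.L25.SplitSub.isSplitTorusWith_DS _ _) hr⟩

/-- all maximal tori have the same rank -/
theorem maxTorus_rank_eq {T T' : Over (Spec (CommRingCat.of k))} [GrpObj T] [GrpObj T'] {i : T ⟶ G} {i' : T' ⟶ G}
    (h : AGF.IsMaxTorus i) (h' : AGF.IsMaxTorus i') {r r' : ℕ} (hr : Red.IsSplitTorusWith (Fin r → ℤ) T)
    (hr' : Red.IsSplitTorusWith (Fin r' → ℤ) T') : r = r' := by
  haveI := h.1; haveI := h.2.1; haveI := h'.1; haveI := h'.2.1
  obtain ⟨g, f, hf⟩ := exists_maxTorus_conj_any h h'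
  haveI := isMonHom_conjBy g i
  haveI : IsMonHom f.hom := isMonHom_of_comp_mono f.hom i' _ hf
  haveI : IsMonHom f.inv := inferInstance
  exact le_antisymm (rank_le f.hom hr hr') (rank_le f.inv hr' hr)

end Field

variable {S : Scheme.{u}} {G : Over S} [GrpObj G] [Smooth G.hom] [QuasiCompact G.hom]

omit [Smooth G.hom] [QuasiCompact G.hom] in
/-- the reductive rank as a natural number -/
theorem hasRedRank_iff {s : S} {r : WithBot ℕ∞} :
    SGA3x.HasRedRank G s r ↔ ∃ (T : Over (Spec (CommRingCat.of (AlgebraicClosure (S.residueField s))))) (_ : GrpObj T)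
      (i : T ⟶ Red.geomFibre s G), AGF.IsMaxTorus i ∧ ∃ m : ℕ, Red.IsSplitTorusWith (Fin m → ℤ) T ∧ r = m := by
  constructor
  · rintro ⟨T, gT, i, hi, hr⟩
    have h := isMaxTorus_of_isMaximalTorus hi
    obtain ⟨m, hm⟩ := exists_split_rank h.2.2.1
    exact ⟨T, gT, i, h, m, hm, hr ▸ dim_of_split hm⟩
  · rintro ⟨T, gT, i, hi, m, hm, rfl⟩
    exact ⟨T, gT, i, isMaximalTorus_of_isMaxTorus hi, dim_of_split hm⟩

/-- the reductive rank is unique -/
theorem hasRedRank_unique {s : S} {r r' : WithBot ℕ∞} (h : SGA3x.HasRedRank G s r) (h' : SGA3x.HasRedRank G s r') :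
    r = r' := by
  obtain ⟨T, gT, i, hi, m, hm, rfl⟩ := hasRedRank_iff.1 h
  obtain ⟨T', gT', i', hi', m', hm', rfl⟩ := hasRedRank_iff.1 h'
  haveI : Smooth (Red.geomFibre s G).hom := inferInstanceAs (Smooth (pullback.snd G.hom (Red.geomPt s)))
  haveI : QuasiCompact (Red.geomFibre s G).hom := inferInstanceAs (QuasiCompact (pullback.snd G.hom (Red.geomPt s)))
  rw [maxTorus_rank_eq hi hi' hm hm']

omit [GrpObj G] [Smooth G.hom] [QuasiCompact G.hom] in
/-- field points lift along etale maps -/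
theorem exists_pt_lift_etale {K : Type u} [Field K] [IsAlgClosed K] {S' : Scheme.{u}} (e : S' ⟶ S) [Etale e]
    (b : Spec (CommRingCat.of K) ⟶ S) (x : S') (hx : e x = b (IsLocalRing.closedPoint K)) :
    ∃ σ : Spec (CommRingCat.of K) ⟶ S', σ ≫ e = b := by
  obtain ⟨z, -, -⟩ := Scheme.Pullback.exists_preimage_pullback (f := e) (g := b) x _ hx
  let q := pullback.snd e b
  haveI : LocallyOfFiniteType q := inferInstance
  have : JacobsonSpace ↥(pullback e b) := LocallyOfFiniteType.jacobsonSpace q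
  obtain ⟨p, -, hp⟩ := nonempty_inter_closedPoints (X := ↥(pullback e b)) (Z := Set.univ) ⟨z, trivial⟩
    isOpen_univ.isLocallyClosed
  refine ⟨pointOfClosedPoint q p hp ≫ pullback.fst e b, ?_⟩
  rw [Category.assoc, pullback.condition, ← Category.assoc, pointOfClosedPoint_comp]
  exact Category.id_comp _

omit [GrpObj G] [Smooth G.hom] [QuasiCompact G.hom] in
/-- the image of a geometric point -/
theorem geomPt_apply (t : S) (z : ↥(Spec (CommRingCat.of (AlgebraicClosure (S.residueField t))))) :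
    Red.geomPt t z = t := by
  show (Spec.map _ ≫ S.fromSpecResidueField t) z = t
  rw [Scheme.Hom.comp_apply]
  exact Scheme.fromSpecResidueField_apply _ _

omit [GrpObj G] [Smooth G.hom] [QuasiCompact G.hom] in
/-- geometric points lift along etale maps -/
theorem exists_geomPt_lift {S' : Scheme.{u}} (e : S' ⟶ S) [Etale e] {t : S} (ht : t ∈ Set.range e.base) :
    ∃ σ : Spec (CommRingCat.of (AlgebraicClosure (S.residueField t))) ⟶ S', σ ≫ e = Red.geomPt t := by
  obtain ⟨x, hx⟩ := ht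
  exact exists_pt_lift_etale e (Red.geomPt t) x (hx.trans (geomPt_apply t _).symm)

/-- a split subtorus over a base gives a maximal torus of at least its rank at field points -/
theorem exists_maxTorus_at_pt {K : Type u} [Field K] [IsAlgClosed K] {S' : Scheme.{u}} (e : S' ⟶ S) {m : ℕ}
    (w : Red.DS S' (Fin m → ℤ) ⟶ Red.bc e G) [IsMonHom w] [Mono w] (b : Spec (CommRingCat.of K) ⟶ S)
    (σ : Spec (CommRingCat.of K) ⟶ S') (hσ : σ ≫ e = b) :
    ∃ (T : Over (Spec (CommRingCat.of K))) (_ : GrpObj T) (iT : T ⟶ Red.bc b G),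
      AGF.IsMaxTorus iT ∧ ∃ r : ℕ, Red.IsSplitTorusWith (Fin r → ℤ) T ∧ m ≤ r := by
  haveI : Smooth (Red.bc b G).hom := inferInstanceAs (Smooth (pullback.snd G.hom b))
  haveI : QuasiCompact (Red.bc b G).hom := inferInstanceAs (QuasiCompact (pullback.snd G.hom b))
  haveI : Mono ((Over.pullback σ).map w) := Functor.map_mono _ _
  let v := Groth.L25.SplitSub.bcHom σ w ≫ (ActBC.bcCompIso σ e G hσ).hom
  haveI : IsMonHom (Groth.L25.SplitSub.bcHom σ w) := Groth.L25.SplitSub.isMonHom_bcHom σ w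
  haveI : Mono (Groth.L25.SplitSub.bcHom σ w) := mono_comp _ _
  haveI : IsMonHom v := inferInstanceAs (IsMonHom (_ ≫ _))
  haveI : Mono v := mono_comp _ _
  exact exists_maxTorus_rank_ge v

/-- over the image of an etale chart with a split subtorus the rank is at least its rank -/
theorem exists_rank_ge_of_chart {S' : Scheme.{u}} (e : S' ⟶ S) [Etale e] {m : ℕ}
    (w : Red.DS S' (Fin m → ℤ) ⟶ Red.bc e G) [IsMonHom w] [Mono w] {t : S} (ht : t ∈ Set.range e.base) :
    ∃ n : ℕ, m ≤ n ∧ SGA3x.HasRedRank G t n := by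
  obtain ⟨σ, hσ⟩ := exists_geomPt_lift e ht
  obtain ⟨T, gT, iT, hT, r, hr, hle⟩ := exists_maxTorus_at_pt e w (Red.geomPt t) σ hσ
  exact ⟨r, hle, hasRedRank_iff.2 ⟨T, gT, iT, hT, r, hr, rfl⟩⟩

omit [QuasiCompact G.hom] in
/-- a point of given rank has an etale neighbourhood with a split subtorus of that rank -/
theorem exists_chart_of_rank [IsAffineHom G.hom] {s : S} {r : WithBot ℕ∞} (h : SGA3x.HasRedRank G s r) :
    ∃ (m : ℕ) (S' : Scheme.{u}) (e : S' ⟶ S) (w : Red.DS S' (Fin m → ℤ) ⟶ Red.bc e G),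
      r = m ∧ Etale e ∧ s ∈ Set.range e.base ∧ IsMonHom w ∧ Mono w := by
  obtain ⟨T, gT, i, hi, m, hm, rfl⟩ := hasRedRank_iff.1 h
  haveI := hi.1; haveI := hi.2.1
  obtain ⟨p, p', hp, -, -, -, hpi⟩ := Groth.L25.SplitSub.exists_std hm
  haveI := hp; haveI := hpi
  haveI : IsMonHom (p ≫ i) := inferInstance
  obtain ⟨S', e, w, he, hes, hwh, hwm⟩ := exists_torus_nhd s (p ≫ i)
  exact ⟨m, S', e, w, rfl, he, hes, hwh, hwm⟩

end Groth.L08.Borel
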