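import Groth.Agent.L08.GrpDim
import Groth.Agent.L16.SmoothSection.Dim
import Groth.Agent.L08.Borel.RedRank
import Mathlib.AlgebraicGeometry.Morphisms.Smooth

/-!
# Fibre dimensions of smooth groups are locally constant
-/

set_option autoImplicit false
set_option backward.isDefEq.respectTransparency.types false
set_option linter.style.haveILetI false
universe u

open CategoryTheory CategoryTheory.Limits MonoidalCategory CartesianMonoidalCategory MonObj AlgebraicGeometry

noncomputable section

namespace Groth.L08.Borel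

/-- localisations of standard smooth algebras at maximal ideals have the relative dimension -/
theorem dim_localization_of_relDim (k A : Type u) [Field k] [CommRing A] [Algebra k A] (n : ℕ)
    [Algebra.IsStandardSmoothOfRelativeDimension n k A] (q : Ideal A) [q.IsMaximal] :
    ringKrullDim (Localization.AtPrime q) = n := by
  haveI : Algebra.IsStandardSmooth k A := Algebra.IsStandardSmoothOfRelativeDimension.isStandardSmooth n
  obtain ⟨g, hg⟩ := Algebra.IsStandardSmoothOfRelativeDimension.exists_etale_mvPolynomial n k A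
  letI := g.toRingHom.toAlgebra
  haveI : Algebra.Etale (MvPolynomial (Fin n) k) A := hg
  haveI : (q.under (MvPolynomial (Fin n) k)).IsMaximal := by
    letI : Field (A ⧸ q) := Ideal.Quotient.field q
    haveI : Algebra.FiniteType (MvPolynomial (Fin n) k) (A ⧸ q) :=
      Algebra.FiniteType.of_surjective (Ideal.Quotient.mkₐ (MvPolynomial (Fin n) k) q) Ideal.Quotient.mk_surjective
    haveI : Module.Finite (MvPolynomial (Fin n) k) (A ⧸ q) := finite_of_finite_type_of_isJacobsonRing _ _
    have hm := Ideal.isMaximal_comap_of_isIntegral_of_isMaximal (R := MvPolynomial (Fin n) k) (⊥ : Ideal (A ⧸ q))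
    rw [IsScalarTower.algebraMap_eq (MvPolynomial (Fin n) k) A (A ⧸ q), ← Ideal.comap_comap,
      ← RingHom.ker_eq_comap_bot, Ideal.Quotient.algebraMap_eq, Ideal.mk_ker] at hm
    exact hm
  rw [(Groth.L21.Smooth.regular_localization_of_etale (MvPolynomial (Fin n) k) A q).2,
    IsLocalization.AtPrime.ringKrullDim_eq_height (q.under (MvPolynomial (Fin n) k)),
    Groth.L22.AffineDim.height_of_isMaximal k (MvPolynomial (Fin n) k),
    MvPolynomial.ringKrullDim_of_isNoetherianRing, ringKrullDim_eq_zero_of_field, zero_add, Nat.card_fin]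

/-- stalks at closed points of schemes smooth of relative dimension n over a field -/
theorem dim_stalk_of_relDim {k : Type u} [Field k] {X : Scheme.{u}} (p : X ⟶ Spec (CommRingCat.of k)) (n : ℕ)
    [hp : SmoothOfRelativeDimension n p] (x : X) (hx : IsClosed ({x} : Set X)) :
    ringKrullDim (X.presheaf.stalk x) = n := by
  obtain ⟨V, hV, W, hW, hxW, e, hsm⟩ :=
    SmoothOfRelativeDimension.exists_isStandardSmoothOfRelativeDimension (n := n) (f := p) x
  obtain rfl : V = ⊤ := by
    ext y
    simp only [TopologicalSpace.Opens.coe_top, Set.mem_univ, iff_true]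
    obtain rfl : y = p x := Subsingleton.elim (α := PrimeSpectrum k) _ _
    exact e hxW
  let α := (p.appLE ⊤ W e).hom.comp (Scheme.ΓSpecIso (CommRingCat.of k)).inv.hom
  have hα : α.IsStandardSmoothOfRelativeDimension n := RingHom.isStandardSmoothOfRelativeDimension_respectsIso.2 _
    (Scheme.ΓSpecIso (CommRingCat.of k)).symm.commRingCatIsoToRingEquiv hsm
  letI : Algebra k Γ(X, W) := α.toAlgebra
  haveI : Algebra.IsStandardSmoothOfRelativeDimension n k Γ(X, W) := hα
  let P := hW.primeIdealOf ⟨x, hxW⟩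
  haveI : P.asIdeal.IsMaximal := hW.primeIdealOf_isMaximal_of_isClosed ⟨x, hxW⟩ hx
  letI : Algebra Γ(X, W) (X.presheaf.stalk x) := X.presheaf.algebra_section_stalk ⟨x, hxW⟩
  haveI : IsLocalization.AtPrime (X.presheaf.stalk x) P.asIdeal := hW.isLocalization_stalk ⟨x, hxW⟩
  rw [← dim_localization_of_relDim k Γ(X, W) n P.asIdeal]
  exact ringKrullDim_eq_of_ringEquiv (IsLocalization.algEquiv P.asIdeal.primeCompl _ _).toRingEquiv

/-- an open subscheme smooth of relative dimension n determines the dimension of a group -/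
theorem dim_eq_of_open {k : Type u} [Field k] {H : Over (Spec (CommRingCat.of k))} [GrpObj H]
    [LocallyOfFiniteType H.hom] {P : Scheme.{u}} (o : P ⟶ H.left) [IsOpenImmersion o] [Nonempty P] (n : ℕ)
    [SmoothOfRelativeDimension n (o ≫ H.hom)] : topologicalKrullDim ↥H.left = n := by
  haveI : Smooth (o ≫ H.hom) := SmoothOfRelativeDimension.smooth n _
  haveI : JacobsonSpace ↥P := LocallyOfFiniteType.jacobsonSpace (o ≫ H.hom)
  haveI : JacobsonSpace ↥H.left := LocallyOfFiniteType.jacobsonSpace H.hom
  obtain ⟨x, -, hx⟩ := nonempty_inter_closedPoints (X := ↥P) (Z := Set.univ) ⟨Classical.arbitrary _, trivial⟩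
    isOpen_univ.isLocallyClosed
  have hxo : IsClosed ({o x} : Set H.left) := by
    have hlc : IsLocallyClosed ({o x} : Set H.left) := by
      rw [← Set.image_singleton]
      exact hx.isLocallyClosed.image o.isOpenEmbedding.isInducing o.isOpenEmbedding.isOpen_range.isLocallyClosed
    obtain ⟨z, hz, hz'⟩ := nonempty_inter_closedPoints (X := ↥H.left) (Z := {o x}) ⟨o x, Set.mem_singleton _⟩ hlc
    obtain rfl : z = o x := hz
    exact hz'
  rw [← Groth.L08.GrpDim.ringKrullDim_stalk H (o x) hxo, ← dim_stalk_of_relDim (o ≫ H.hom) n x hx]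
  exact ringKrullDim_eq_of_ringEquiv (asIso (o.stalkMap x)).commRingCatIsoToRingEquiv

/-- **fibre dimensions of a smooth group are locally constant** -/
theorem exists_open_fibre_dim {S : Scheme.{u}} (G : Over S) [GrpObj G] [Smooth G.hom] (s : S) :
    ∃ (U : S.Opens) (n : ℕ), s ∈ U ∧ ∀ (K : Type u) [Field K] (b : Spec (CommRingCat.of K) ⟶ S),
      b (IsLocalRing.closedPoint K) ∈ U → topologicalKrullDim ↥(Red.bc b G).left = n := by
  let e : S ⟶ G.left := η[G].left
  have he : e ≫ G.hom = 𝟙 S := Over.w η[G]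
  obtain ⟨U₁, hU₁, V, hV, hxV, hle, hstd⟩ := Smooth.exists_isStandardSmooth G.hom (e s)
  letI := (G.hom.appLE U₁ V hle).hom.toAlgebra
  haveI : Algebra.IsStandardSmooth Γ(S, U₁) Γ(G.left, V) := hstd
  obtain ⟨_, _, _, _, ⟨P⟩⟩ := Algebra.IsStandardSmooth.out (R := Γ(S, U₁)) (S := Γ(G.left, V))
  have hn : (G.hom.appLE U₁ V hle).hom.IsStandardSmoothOfRelativeDimension P.dimension :=
    ⟨_, _, _, inferInstance, P, rfl⟩
  haveI hsV : SmoothOfRelativeDimension P.dimension (V.ι ≫ G.hom) := by
    haveI : IsAffine V.toScheme := hV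
    refine ⟨fun y => ⟨U₁, hU₁, ⊤, isAffineOpen_top _, trivial, fun z _ => hle z.2, ?_⟩⟩
    have : (V.ι ≫ G.hom).appLE U₁ ⊤ (fun z _ => hle z.2) = G.hom.appLE U₁ V hle ≫ V.topIso.inv := by
      simp [Scheme.Hom.appLE, Scheme.Opens.topIso]
      congr 1
      erw [← Functor.map_comp, ← Functor.map_comp]
      rfl
    rw [this, CommRingCat.hom_comp]
    exact RingHom.isStandardSmoothOfRelativeDimension_respectsIso.1 _ V.topIso.symm.commRingCatIsoToRingEquiv hn
  refine ⟨e ⁻¹ᵁ V, P.dimension, hxV, fun K _ b hb => ?_⟩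
  let o : pullback (V.ι ≫ G.hom) b ⟶ pullback G.hom b :=
    pullback.map (V.ι ≫ G.hom) b G.hom b V.ι (𝟙 _) (𝟙 _) (Category.comp_id _) (by simp)
  have hr : Set.range (b ≫ e) ⊆ Set.range V.ι := by
    rintro _ ⟨z, rfl⟩
    rw [Scheme.Opens.range_ι, Scheme.Hom.comp_apply, Subsingleton.elim (α := PrimeSpectrum K) z (IsLocalRing.closedPoint K)]
    exact hb
  haveI : Nonempty ↥(pullback (V.ι ≫ G.hom) b) := ⟨(pullback.lift (IsOpenImmersion.lift V.ι (b ≫ e) hr) (𝟙 _)
    (by rw [IsOpenImmersion.lift_fac_assoc, Category.assoc, he, Category.comp_id, Category.id_comp]))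
    (IsLocalRing.closedPoint K)⟩
  haveI : SmoothOfRelativeDimension P.dimension (o ≫ (Red.bc b G).hom) := by
    show SmoothOfRelativeDimension P.dimension (o ≫ pullback.snd G.hom b)
    rw [show o ≫ pullback.snd G.hom b = pullback.snd (V.ι ≫ G.hom) b from (pullback.lift_snd _ _ _).trans (Category.comp_id _)]
    haveI := smoothOfRelativeDimension_isStableUnderBaseChange (n := P.dimension)
    exact MorphismProperty.pullback_snd _ _ hsV
  haveI : LocallyOfFiniteType (Red.bc b G).hom := inferInstanceAs (LocallyOfFiniteType (pullback.snd G.hom b))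
  haveI : IsOpenImmersion (o : pullback (V.ι ≫ G.hom) b ⟶ (Red.bc b G).left) := inferInstanceAs (IsOpenImmersion o)
  exact dim_eq_of_open (H := Red.bc b G) o P.dimension

end Groth.L08.Borel
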