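import Groth.Agent.L08.Borel.RedRankTorus
import Groth.Agent.L08.Borel.SmoothDim
import Groth.Agent.L08.Borel.CartanTorus
import Groth.Agent.L08.Borel.CentBorel
import Groth.Agent.L08.MonoClosed

/-!
# Dimensions of centralisers of tori and the nilpotent rank
-/

set_option autoImplicit false
set_option backward.isDefEq.respectTransparency.types false
set_option linter.style.haveILetI false
universe u

open CategoryTheory CategoryTheory.Limits MonoidalCategory CartesianMonoidalCategory MonObj AlgebraicGeometry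

noncomputable section

namespace Groth.L08.Borel

section Field

variable {k : Type u} [Field k] [IsAlgClosed k]

local notation "U1" => 𝟙_ (Over (Spec (CommRingCat.of k)))

/-- a centraliser is a closed subscheme -/
theorem isClosedImmersion_centralizer {k : Type u} [Field k] {G T C : Over (Spec (CommRingCat.of k))} [GrpObj G] [GrpObj T] [GrpObj C]
    [Smooth G.hom] [IsSeparated G.hom] {i : T ⟶ G} [IsMonHom i] (hT : Red.IsTorus T) {c : C ⟶ G}
    (hc : Red.IsCentralizerOf i c) : IsClosedImmersion c.left := by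
  obtain ⟨Z, gZ, z, hz, hzc, -⟩ := Groth.L25.Locus.exists_smooth_centralizer
    (Groth.L25.Locus.locally_of_multTypeFT (Groth.L25.Locus.isMultTypeFT_of_isTorus hT)) i
  haveI := hz.2.1; haveI := hc.2.1; haveI := hzc
  obtain ⟨a, ha⟩ := (hz.2.2 C c).2 ((hc.2.2 C c).1 ⟨𝟙 _, Category.id_comp _⟩)
  obtain ⟨b, hb⟩ := (hc.2.2 Z z).2 ((hz.2.2 Z z).1 ⟨𝟙 _, Category.id_comp _⟩)
  let φ : C ≅ Z := ⟨a, b, by rw [← cancel_mono c, Category.assoc, hb, ha, Category.id_comp],
    by rw [← cancel_mono z, Category.assoc, ha, hb, Category.id_comp]⟩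
  rw [← show φ.hom ≫ z = c from ha, Over.comp_left]
  haveI : IsIso φ.hom.left := ((Over.forget _).mapIso φ).isIso_hom
  infer_instance

/-- subgroups have at most the dimension -/
theorem dim_le_of_mono {k : Type u} [Field k] {H G : Over (Spec (CommRingCat.of k))} [GrpObj H] [GrpObj G] [LocallyOfFiniteType H.hom]
    [LocallyOfFiniteType G.hom] [QuasiCompact H.hom] [IsSeparated G.hom] (f : H ⟶ G) [IsMonHom f] [Mono f] :
    topologicalKrullDim ↥H.left ≤ topologicalKrullDim ↥G.left := by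
  haveI : QuasiCompact f.left := by
    haveI : QuasiCompact (f.left ≫ G.hom) := by rw [Over.w f]; infer_instance
    exact QuasiCompact.of_comp f.left G.hom
  haveI := Groth.L08.MonoClosed.isClosedImmersion_of_field f
  exact f.left.isClosedEmbedding.isInducing.topologicalKrullDim_le

/-- centralisers of bigger tori are smaller -/
theorem dim_centralizer_le {k : Type u} [Field k] {G T T' C C' : Over (Spec (CommRingCat.of k))} [GrpObj G] [GrpObj T] [GrpObj T']
    [GrpObj C] [GrpObj C'] [Smooth G.hom] [IsSeparated G.hom] [QuasiCompact G.hom] {i : T ⟶ G} [IsMonHom i]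
    (hT : Red.IsTorus T) {i' : T' ⟶ G} [IsMonHom i'] (hT' : Red.IsTorus T') {c : C ⟶ G} (hc : Red.IsCentralizerOf i c)
    {c' : C' ⟶ G} (hc' : Red.IsCentralizerOf i' c') (g : 𝟙_ (Over (Spec (CommRingCat.of k))) ⟶ G) (f : T ⟶ T') (hf : f ≫ i' = AGF.conjBy g i) :
    topologicalKrullDim ↥C'.left ≤ topologicalKrullDim ↥C.left := by
  haveI := hc.1; haveI := hc.2.1; haveI := hc'.1; haveI := hc'.2.1
  haveI := isClosedImmersion_centralizer hT hc
  haveI := isClosedImmersion_centralizer hT' hc'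
  haveI : QuasiCompact C'.hom := by rw [← Over.w c']; infer_instance
  haveI : LocallyOfFiniteType C'.hom := by rw [← Over.w c']; infer_instance
  haveI : LocallyOfFiniteType C.hom := by rw [← Over.w c]; infer_instance
  haveI : IsSeparated C.hom := by rw [← Over.w c]; infer_instance
  haveI := isMonHom_conjBy g⁻¹ c'
  haveI := mono_conjBy g⁻¹ c'
  have hi : i = AGF.conjBy g⁻¹ (f ≫ i') := by rw [hf, conjBy_conjBy, inv_mul_cancel, conjBy_one]
  obtain ⟨v, hv⟩ := (hc.2.2 C' (AGF.conjBy g⁻¹ c')).2 fun X x t => by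
    have h := (hc'.2.2 C' c').1 ⟨𝟙 _, Category.id_comp _⟩ X x (t ≫ f)
    rw [hi]
    simp only [AGF.conjBy, MonObj.comp_mul, GrpObj.comp_inv, ← Category.assoc, toUnit_unique (x ≫ toUnit C') (toUnit X),
      toUnit_unique (t ≫ toUnit T) (toUnit X)]
    set γ : X ⟶ G := toUnit X ≫ g⁻¹
    set a := x ≫ c'
    set b := (t ≫ f) ≫ i'
    calc γ * a * γ⁻¹ * (γ * b * γ⁻¹) = γ * (a * b) * γ⁻¹ := by group
      _ = γ * (b * a) * γ⁻¹ := by rw [h]
      _ = γ * b * γ⁻¹ * (γ * a * γ⁻¹) := by group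
  haveI : IsMonHom v := isMonHom_of_comp_mono v c _ hv
  haveI : Mono v := by haveI : Mono (v ≫ c) := hv ▸ inferInstance; exact mono_of_mono v c
  exact dim_le_of_mono v

/-- a subtorus is conjugate into a maximal torus -/
theorem exists_maxTorus_absorb {G R : Over (Spec (CommRingCat.of k))} [GrpObj G] [GrpObj R] [Smooth G.hom]
    [QuasiCompact G.hom] (v : R ⟶ G) [IsMonHom v] [Mono v] (hR : Red.IsTorus R) :
    ∃ (T : Over (Spec (CommRingCat.of k))) (_ : GrpObj T) (iT : T ⟶ G), AGF.IsMaxTorus iT ∧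
      ∃ (g : U1 ⟶ G) (f : R ⟶ T), f ≫ iT = AGF.conjBy g v := by
  haveI : LocallyOfFiniteType G.hom := inferInstance
  obtain ⟨G₀, g₀, j, hj⟩ := Groth.L08.Chev.exists_idComp G
  haveI := hj.hom; haveI := hj.closedImm; haveI := hj.smooth; haveI := hj.connectedSpace; haveI := hj.quasiCompact
  haveI : Mono j := Groth.L08.mono_of_closedImmersion j
  obtain ⟨-, -, a3, -, -⟩ := torus_props hR
  haveI := a3
  obtain ⟨w, hw⟩ := hj.exists_lift_hom v
  haveI : IsMonHom w := isMonHom_of_comp_mono w j v hw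
  haveI : Mono w := by haveI : Mono (w ≫ j) := hw.symm ▸ inferInstance; exact mono_of_mono w j
  obtain ⟨T, gT, t, ht⟩ := exists_maxTorus_gen G₀
  obtain ⟨g, f, hf⟩ := maxTorus_absorbing_gen ht _ w hR
  exact ⟨T, gT, t ≫ j, isMaxTorus_comp_idComp hj ht, g ≫ j, f, by rw [reassoc_of% hf, conjBy_comp, hw]⟩

/-- all Cartan subgroups have the same dimension -/
theorem cartan_dim_eq {G C C' : Over (Spec (CommRingCat.of k))} [GrpObj G] [GrpObj C] [GrpObj C'] [Smooth G.hom]
    [IsSeparated G.hom] [QuasiCompact G.hom] {c : C ⟶ G} {c' : C' ⟶ G} (hc : SGA3x.IsCartanOver k c)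
    (hc' : SGA3x.IsCartanOver k c') : topologicalKrullDim ↥C'.left = topologicalKrullDim ↥C.left := by
  obtain ⟨-, -, T, gT, i, hi, hz⟩ := hc
  obtain ⟨-, -, T', gT', i', hi', hz'⟩ := hc'
  have h := isMaxTorus_of_isMaximalTorus hi
  have h' := isMaxTorus_of_isMaximalTorus hi'
  haveI := h.1; haveI := h'.1
  obtain ⟨g, f, hf⟩ := exists_maxTorus_conj_any h h'
  refine le_antisymm (dim_centralizer_le h.2.2.1 h'.2.2.1 hz hz' g f.hom hf)
    (dim_centralizer_le h'.2.2.1 h.2.2.1 hz' hz g⁻¹ f.inv ?_)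
  have e : i' = AGF.conjBy g (f.inv ≫ i) := by rw [← comp_conjBy, ← hf, f.inv_hom_id_assoc]
  rw [e, conjBy_conjBy, inv_mul_cancel, conjBy_one]

/-- the Cartan dimension seen from a subtorus -/
theorem exists_cartan_dim_le {G R Z : Over (Spec (CommRingCat.of k))} [GrpObj G] [GrpObj R] [GrpObj Z] [Smooth G.hom]
    [IsSeparated G.hom] [QuasiCompact G.hom] (v : R ⟶ G) [IsMonHom v] [Mono v] (hR : Red.IsTorus R) {z : Z ⟶ G}
    (hz : Red.IsCentralizerOf v z) {m : ℕ} (hm : Red.IsSplitTorusWith (Fin m → ℤ) R) :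
    (∃ (C : Over (Spec (CommRingCat.of k))) (_ : GrpObj C) (c : C ⟶ G),
      SGA3x.IsCartanOver k c ∧ topologicalKrullDim ↥C.left ≤ topologicalKrullDim ↥Z.left) ∧
    ((∃ (T : Over (Spec (CommRingCat.of k))) (_ : GrpObj T) (iT : T ⟶ G),
        AGF.IsMaxTorus iT ∧ Red.IsSplitTorusWith (Fin m → ℤ) T) →
      ∀ (C : Over (Spec (CommRingCat.of k))) [GrpObj C] (c : C ⟶ G), SGA3x.IsCartanOver k c →
        topologicalKrullDim ↥C.left = topologicalKrullDim ↥Z.left) := by
  haveI : LocallyOfFiniteType G.hom := inferInstance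
  obtain ⟨T, gT, iT, hT, g, f, hf⟩ := exists_maxTorus_absorb v hR
  haveI := hT.1; haveI := hT.2.1
  obtain ⟨C, gC, c, hc, -, -⟩ := Groth.L25.Locus.exists_smooth_centralizer
    (Groth.L25.Locus.locally_of_multTypeFT (Groth.L25.Locus.isMultTypeFT_of_isTorus hT.2.2.1)) iT
  have hcart : SGA3x.IsCartanOver k c := ⟨hc.1, hc.2.1, T, gT, iT, isMaximalTorus_of_isMaxTorus hT, hc⟩
  have hle := dim_centralizer_le hR hT.2.2.1 hz hc g f hf
  refine ⟨⟨C, gC, c, hcart, hle⟩, fun ⟨T₁, gT₁, i₁, h₁, hm₁⟩ D _ d hd => ?_⟩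
  obtain ⟨r, hr⟩ := exists_split_rank hT.2.2.1
  haveI := isMonHom_conjBy g v
  haveI := mono_conjBy g v
  haveI : IsMonHom f := isMonHom_of_comp_mono f iT _ hf
  haveI : Mono f := by haveI : Mono (f ≫ iT) := hf ▸ inferInstance; exact mono_of_mono f iT
  haveI : IsIso f := isIso_of_rank_le f hm hr (le_of_eq (maxTorus_rank_eq hT h₁ hr hm₁))
  rw [cartan_dim_eq hcart hd]
  refine le_antisymm hle (dim_centralizer_le hT.2.2.1 hR hc hz g⁻¹ (inv f) ?_)
  have e : iT = AGF.conjBy g (inv f ≫ v) := by rw [← comp_conjBy, ← hf, IsIso.inv_hom_id_assoc]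
  rw [e, conjBy_conjBy, inv_mul_cancel, conjBy_one]

end Field

variable {S : Scheme.{u}} {G : Over S} [GrpObj G] [Smooth G.hom] [IsSeparated G.hom] [QuasiCompact G.hom]

/-- the centraliser of a chart torus at a field point -/
theorem exists_cartan_at_pt {K : Type u} [Field K] [IsAlgClosed K] {S' : Scheme.{u}} (e : S' ⟶ S) {m : ℕ}
    {R : Over S'} [GrpObj R] (hR : Red.IsTorus R) (hm : Red.IsSplitTorusWith (Fin m → ℤ) R)
    (w : R ⟶ Red.bc e G) [IsMonHom w] [Mono w] {Z : Over S'} [GrpObj Z] {z : Z ⟶ Red.bc e G}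
    (hz : Red.IsCentralizerOf w z) {U : S'.Opens} {d : ℕ}
    (hd : ∀ (K : Type u) [Field K] (b : Spec (CommRingCat.of K) ⟶ S'),
      b (IsLocalRing.closedPoint K) ∈ U → topologicalKrullDim ↥(Red.bc b Z).left = d)
    (b : Spec (CommRingCat.of K) ⟶ S) (σ : Spec (CommRingCat.of K) ⟶ S') (hσ : σ ≫ e = b)
    (hU : σ (IsLocalRing.closedPoint K) ∈ U) :
    (∃ (C : Over (Spec (CommRingCat.of K))) (_ : GrpObj C) (c : C ⟶ Red.bc b G),
      SGA3x.IsCartanOver K c ∧ topologicalKrullDim ↥C.left ≤ d) ∧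
    ((∃ (T : Over (Spec (CommRingCat.of K))) (_ : GrpObj T) (iT : T ⟶ Red.bc b G),
        AGF.IsMaxTorus iT ∧ Red.IsSplitTorusWith (Fin m → ℤ) T) →
      ∀ (C : Over (Spec (CommRingCat.of K))) [GrpObj C] (c : C ⟶ Red.bc b G), SGA3x.IsCartanOver K c →
        topologicalKrullDim ↥C.left = d) := by
  haveI : Smooth (Red.bc b G).hom := inferInstanceAs (Smooth (pullback.snd G.hom b))
  haveI : QuasiCompact (Red.bc b G).hom := inferInstanceAs (QuasiCompact (pullback.snd G.hom b))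
  haveI : IsSeparated (Red.bc b G).hom := inferInstanceAs (IsSeparated (pullback.snd G.hom b))
  haveI := hz.1; haveI := hz.2.1
  let φ := ActBC.bcCompIso σ e G hσ
  let v : Red.bc σ R ⟶ Red.bc b G := (Over.pullback σ).map w ≫ φ.hom
  haveI : IsMonHom ((Over.pullback σ).map w) := Groth.L25.MonoClosed.isMonHom_pullbackMap _ _
  haveI : Mono ((Over.pullback σ).map w) := Functor.map_mono _ _
  haveI : IsMonHom ((Over.pullback σ).map z) := Groth.L25.MonoClosed.isMonHom_pullbackMap _ _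
  haveI : Mono ((Over.pullback σ).map z) := Functor.map_mono _ _
  haveI : IsMonHom v := inferInstanceAs (IsMonHom (_ ≫ _))
  haveI : Mono v := mono_comp _ _
  have hz' : Red.IsCentralizerOf v ((Over.pullback σ).map z ≫ φ.hom) :=
    isCentralizerOf_transport φ (Iso.refl _) (by simp only [v, Iso.refl_hom, Category.id_comp]) (Iso.refl _)
      (by simp only [Iso.refl_hom, Category.id_comp]) (isCentralizerOf_bc σ hz)
  have := exists_cartan_dim_le v (Groth.L25.Locus.isTorus_bc hR σ) hz'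
    (isSplit_bc σ hm)
  rwa [hd K σ hU] at this

/-- **near a point the nilpotent rank is bounded by, and with constant reductive rank equal to, a constant** -/
theorem exists_nhd_nilRank [IsAffineHom G.hom] (s : S) {m : ℕ} (h : SGA3x.HasRedRank G s m) :
    ∃ (U : S.Opens) (d : ℕ), s ∈ U ∧ ∀ t : S, t ∈ U →
      (∃ (C : Over (Spec (CommRingCat.of (AlgebraicClosure (S.residueField t))))) (_ : GrpObj C) (c : C ⟶ Red.geomFibre t G),
        SGA3x.IsCartanOver (AlgebraicClosure (S.residueField t)) c ∧ topologicalKrullDim ↥C.left ≤ d) ∧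
      (SGA3x.HasRedRank G t m → ∀ (C : Over (Spec (CommRingCat.of (AlgebraicClosure (S.residueField t))))) [GrpObj C]
        (c : C ⟶ Red.geomFibre t G), SGA3x.IsCartanOver (AlgebraicClosure (S.residueField t)) c →
          topologicalKrullDim ↥C.left = d) := by
  obtain ⟨m', S', e, w, hmm, he, ⟨s', hs'⟩, hwh, hwm⟩ := exists_chart_of_rank h
  obtain rfl : m = m' := by exact_mod_cast hmm
  haveI := he; haveI := hwh; haveI := hwm
  haveI : Smooth (Red.bc e G).hom := inferInstanceAs (Smooth (pullback.snd G.hom e))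
  haveI : IsSeparated (Red.bc e G).hom := inferInstanceAs (IsSeparated (pullback.snd G.hom e))
  haveI : LocallyOfFiniteType (Red.bc e G).hom := inferInstance
  obtain ⟨Z, gZ, z, hz, -, hZs⟩ := Groth.L25.Locus.exists_smooth_centralizer
    (Groth.L25.Locus.locally_of_multTypeFT (Groth.L25.Locus.isMultTypeFT_of_isTorus (isTorus_ds S' m))) w
  haveI := hZs
  obtain ⟨U, d, hsU, hd⟩ := exists_open_fibre_dim Z s'
  refine ⟨⟨Set.range (U.ι ≫ e).base, (U.ι ≫ e).isOpenMap.isOpen_range⟩, d, ⟨⟨s', hsU⟩, hs'⟩, fun t ht => ?_⟩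
  obtain ⟨σ, hσ⟩ := exists_geomPt_lift (U.ι ≫ e) ht
  have key := exists_cartan_at_pt e (isTorus_ds S' m) (Groth.L25.SplitSub.isSplitTorusWith_DS _ _) w hz hd (Red.geomPt t) (σ ≫ U.ι) ((Category.assoc _ _ _).trans hσ) (σ _).2
  refine ⟨key.1, fun hr => key.2 ?_⟩
  obtain ⟨T, gT, i, hi, n, hn, hmn⟩ := hasRedRank_iff.1 hr
  obtain rfl : m = n := by exact_mod_cast hmn
  exact ⟨T, gT, i, hi, hn⟩

end Groth.L08.Borel
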