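import Groth.Agent.L08.Borel.SolvTori
import Groth.Agent.L08.Borel.Borels
import Groth.Agent.L08.Borel.OverField
import Groth.Agent.L25.Central
import Groth.Prelude.Def_AGF

/-!
# Maximal tori of a connected affine group are conjugate
-/

set_option autoImplicit false
set_option backward.isDefEq.respectTransparency.types false
set_option linter.style.haveILetI false
set_option linter.unusedSectionVars false

universe u

open CategoryTheory CategoryTheory.Limits MonoidalCategory CartesianMonoidalCategory MonObj GrpObj AlgebraicGeometry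

noncomputable section

namespace Groth.L08.Borel

variable {k : Type u} [Field k] [IsAlgClosed k]

local notation "U1" => 𝟙_ (Over (Spec (CommRingCat.of k)))

theorem torus_props {T : Over (Spec (CommRingCat.of k))} [GrpObj T] (hT : Red.IsTorus T) :
    IsAffine T.left ∧ Smooth T.hom ∧ ConnectedSpace T.left ∧ Red.IsSolvableGrp T ∧
      ∀ (X : Over (Spec (CommRingCat.of k))) (a b : X ⟶ T), a * b = b * a := by
  obtain ⟨hs, hc⟩ := Groth.L25.Locus.smooth_connected_torus hT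
  have hm := Groth.L25.Locus.isMultTypeFT_of_isTorus hT
  haveI := Groth.L25.Central.isAffineHom_of_multTypeFT hm
  have hcomm := fun (X : Over (Spec (CommRingCat.of k))) (a b : X ⟶ T) =>
    Groth.L25.Central.mul_comm_of_multTypeFT hm a b
  refine ⟨isAffine_of_isAffineHom T.hom, hs, hc, ⟨1, fun X => ?_⟩, hcomm⟩
  rw [derivedSeries_one, commutator_eq_bot_iff_center_eq_top, eq_top_iff]
  exact fun g _ => Subgroup.mem_center_iff.2 fun h => hcomm X h g

/-- the absorbing torus of a Borel subgroup absorbs all tori of the group -/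
theorem exists_absorbing_of_borel {G B : Over (Spec (CommRingCat.of k))} [GrpObj G] [GrpObj B] [IsAffine G.left]
    [Smooth G.hom] [ConnectedSpace G.left] {iB : B ⟶ G} (hB : Red.IsBorelOver k iB) :
    ∃ (T : Over (Spec (CommRingCat.of k))) (_ : GrpObj T) (iT : T ⟶ B) (p : B ⟶ T), IsMonHom iT ∧ Mono iT ∧
      Red.IsTorus T ∧ IsMonHom p ∧ iT ≫ p = 𝟙 T ∧
      (∀ (S : Over (Spec (CommRingCat.of k))) [GrpObj S] (h : B ⟶ S) [IsMonHom h], Red.IsTorus S →
        h = p ≫ iT ≫ h) ∧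
      (∀ (S : Over (Spec (CommRingCat.of k))) [GrpObj S] (j : S ⟶ B) [IsMonHom j] [Mono j], Red.IsTorus S →
        ∃ (g : U1 ⟶ B) (f : S ⟶ T), f ≫ iT = AGF.conjBy g j) ∧
      ∀ (S : Over (Spec (CommRingCat.of k))) [GrpObj S] (j : S ⟶ G) [IsMonHom j] [Mono j], Red.IsTorus S →
        ∃ (g : U1 ⟶ G) (f : S ⟶ T), f ≫ iT ≫ iB = AGF.conjBy g j := by
  obtain ⟨hm, hc, hs, hcon, hsol, hmax⟩ := hB
  haveI := hm; haveI := hc; haveI := hs; haveI := hcon
  haveI : IsAffine B.left := isAffine_of_isAffineHom iB.left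
  obtain ⟨T, gT, iT, p, h1, h2, h3, h4, h5, h6, habs⟩ := exists_torus_absorbing hsol
  refine ⟨T, gT, iT, p, h1, h2, h3, h4, h5, h6, habs, fun S gS j _ _ hS => ?_⟩
  haveI : LocallyOfFiniteType G.hom := inferInstance
  obtain ⟨X, a, o, hX⟩ := exists_isQuotient iB
  haveI := isProper_quotient_of_borel ⟨hm, hc, hs, hcon, hsol, hmax⟩ hX
  obtain ⟨hSa, hSs, hSc, hSsol, -⟩ := torus_props hS
  haveI := hSa; haveI := hSs; haveI := hSc
  obtain ⟨g, φ, hφ⟩ := exists_conj_factor j hSsol hX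
  haveI : Mono iB := Groth.L08.mono_of_closedImmersion iB
  haveI := isMonHom_conjBy g j
  haveI := mono_conjBy g j
  haveI : IsMonHom (φ ≫ iB) := hφ ▸ inferInstance
  haveI : IsMonHom φ := isMonHom_of_comp_mono φ iB (φ ≫ iB) rfl
  haveI : Mono φ := by
    haveI : Mono (φ ≫ iB) := hφ ▸ inferInstance
    exact mono_of_mono φ iB
  obtain ⟨h, f, hf⟩ := habs S φ hS
  exact ⟨(h ≫ iB) * g, f, by rw [reassoc_of% hf, conjBy_comp, hφ, conjBy_conjBy]⟩

/-- a torus absorbing all tori is maximal -/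
theorem isMaxTorus_of_absorbing {G T : Over (Spec (CommRingCat.of k))} [GrpObj G] [GrpObj T]
    (iT : T ⟶ G) [IsMonHom iT] [Mono iT] (hT : Red.IsTorus T)
    (h : ∀ (S : Over (Spec (CommRingCat.of k))) [GrpObj S] (j : S ⟶ G) [IsMonHom j] [Mono j], Red.IsTorus S →
        ∃ (g : U1 ⟶ G) (f : S ⟶ T), f ≫ iT = AGF.conjBy g j) : AGF.IsMaxTorus iT := by
  refine ⟨inferInstance, inferInstance, hT, fun T' _ j _ _ f hT' hf => ?_⟩
  obtain ⟨hSa, hSs, -⟩ := torus_props hT'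
  haveI := hSa; haveI := hSs
  haveI : IsAffineHom T'.hom := isAffineHom_of_isAffine _
  obtain ⟨g, φ, hφ⟩ := h T' j hT'
  exact isIso_of_conj_factor f hf g φ hφ

/-- a maximal torus is the conjugate of an absorbing torus -/
theorem exists_iso_absorbing {G T T₀ : Over (Spec (CommRingCat.of k))} [GrpObj G] [GrpObj T] [GrpObj T₀]
    {iT : T ⟶ G} (hT : AGF.IsMaxTorus iT) (i₀ : T₀ ⟶ G) [IsMonHom i₀] [Mono i₀] (h₀ : Red.IsTorus T₀)
    (h : ∀ (S : Over (Spec (CommRingCat.of k))) [GrpObj S] (j : S ⟶ G) [IsMonHom j] [Mono j], Red.IsTorus S →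
        ∃ (g : U1 ⟶ G) (f : S ⟶ T₀), f ≫ i₀ = AGF.conjBy g j) :
    ∃ (g : U1 ⟶ G) (f : T ≅ T₀), f.hom ≫ i₀ = AGF.conjBy g iT := by
  obtain ⟨h1, h2, h3, hmax⟩ := hT
  haveI := h1; haveI := h2
  obtain ⟨g, f, hf⟩ := h T iT h3
  haveI := isMonHom_conjBy g⁻¹ i₀
  haveI := mono_conjBy g⁻¹ i₀
  haveI : IsIso f := hmax T₀ (AGF.conjBy g⁻¹ i₀) f h₀
    (by rw [comp_conjBy, hf, conjBy_conjBy, inv_mul_cancel, conjBy_one])
  exact ⟨g, asIso f, hf⟩

/-- maximal tori are conjugate -/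
theorem exists_maxTorus_conj {G T T' : Over (Spec (CommRingCat.of k))} [GrpObj G] [GrpObj T] [GrpObj T']
    [IsAffine G.left] [Smooth G.hom] [ConnectedSpace G.left] {iT : T ⟶ G} {iT' : T' ⟶ G}
    (hT : AGF.IsMaxTorus iT) (hT' : AGF.IsMaxTorus iT') :
    ∃ (g : U1 ⟶ G) (f : T ≅ T'), f.hom ≫ iT' = AGF.conjBy g iT := by
  obtain ⟨B, gB, iB, hB⟩ := exists_borel G
  obtain ⟨T₀, g₀, i₀, p, hm, hmono, h₀, -, -, -, -, habs⟩ := exists_absorbing_of_borel hB
  haveI := hm; haveI := hmono; haveI := hB.1; haveI := hB.2.1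
  haveI : Mono iB := Groth.L08.mono_of_closedImmersion iB
  obtain ⟨a, f, hf⟩ := exists_iso_absorbing hT (i₀ ≫ iB) h₀ habs
  obtain ⟨b, f', hf'⟩ := exists_iso_absorbing hT' (i₀ ≫ iB) h₀ habs
  refine ⟨b⁻¹ * a, f ≪≫ f'.symm, ?_⟩
  have e : iT' = AGF.conjBy b⁻¹ (f'.hom ≫ i₀ ≫ iB) := by
    rw [hf', conjBy_conjBy, inv_mul_cancel, conjBy_one]
  rw [Iso.trans_hom, Iso.symm_hom, e, comp_conjBy, Category.assoc, Iso.inv_hom_id_assoc, hf, conjBy_conjBy]

/-- a maximal torus absorbs all tori -/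
theorem maxTorus_absorbing {G T : Over (Spec (CommRingCat.of k))} [GrpObj G] [GrpObj T]
    [IsAffine G.left] [Smooth G.hom] [ConnectedSpace G.left] {iT : T ⟶ G} (hT : AGF.IsMaxTorus iT)
    (S : Over (Spec (CommRingCat.of k))) [GrpObj S] (j : S ⟶ G) [IsMonHom j] [Mono j] (hS : Red.IsTorus S) :
    ∃ (g : U1 ⟶ G) (f : S ⟶ T), f ≫ iT = AGF.conjBy g j := by
  obtain ⟨B, gB, iB, hB⟩ := exists_borel G
  obtain ⟨T₀, g₀, i₀, p, hm, hmono, h₀, -, -, -, -, habs⟩ := exists_absorbing_of_borel hB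
  haveI := hm; haveI := hmono; haveI := hB.1; haveI := hB.2.1
  haveI : Mono iB := Groth.L08.mono_of_closedImmersion iB
  obtain ⟨a, f, hf⟩ := exists_iso_absorbing hT (i₀ ≫ iB) h₀ habs
  obtain ⟨b, f', hf'⟩ := habs S j hS
  refine ⟨a⁻¹ * b, f' ≫ f.inv, ?_⟩
  have e : iT = AGF.conjBy a⁻¹ (f.hom ≫ i₀ ≫ iB) := by
    rw [hf, conjBy_conjBy, inv_mul_cancel, conjBy_one]
  rw [e, comp_conjBy, Category.assoc, Iso.inv_hom_id_assoc, hf', conjBy_conjBy]

theorem isMaxTorus_conjBy {G T : Over (Spec (CommRingCat.of k))} [GrpObj G] [GrpObj T] {iT : T ⟶ G}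
    (hT : AGF.IsMaxTorus iT) (g : U1 ⟶ G) : AGF.IsMaxTorus (AGF.conjBy g iT) := by
  obtain ⟨h1, h2, h3, hmax⟩ := hT
  haveI := h1; haveI := h2
  refine ⟨isMonHom_conjBy g iT, mono_conjBy g iT, h3, fun T' _ j _ _ f hT' hf => ?_⟩
  haveI := isMonHom_conjBy g⁻¹ j
  haveI := mono_conjBy g⁻¹ j
  exact hmax T' (AGF.conjBy g⁻¹ j) f hT' (by rw [comp_conjBy, hf, conjBy_conjBy, inv_mul_cancel, conjBy_one])

theorem isMaxTorus_factor {G B T : Over (Spec (CommRingCat.of k))} [GrpObj G] [GrpObj B] [GrpObj T]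
    {iB : B ⟶ G} [IsMonHom iB] [Mono iB] {t : T ⟶ B} (hT : AGF.IsMaxTorus (t ≫ iB)) : AGF.IsMaxTorus t := by
  obtain ⟨h1, h2, h3, hmax⟩ := hT
  haveI := h1; haveI := h2
  refine ⟨isMonHom_of_comp_mono t iB (t ≫ iB) rfl, mono_of_mono t iB, h3, fun T' _ j _ _ f hT' hf => ?_⟩
  exact hmax T' (j ≫ iB) f hT' (by rw [reassoc_of% hf])

end Groth.L08.Borel
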