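import Groth.Agent.L08.Borel.CartanTorus
import Groth.Agent.L08.Borel.ImageTorus
import Groth.Agent.L25.Extension.ConnBC
import Groth.Agent.S4118

/-!
# Cartan subgroups under homomorphisms with central kernel
-/

set_option autoImplicit false
set_option backward.isDefEq.respectTransparency.types false
set_option linter.style.haveILetI false
set_option linter.unusedSectionVars false

universe u

open CategoryTheory CategoryTheory.Limits MonoidalCategory CartesianMonoidalCategory MonObj GrpObj AlgebraicGeometry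

noncomputable section

namespace Groth.L08.Borel

section field

variable {k : Type u} [Field k] [IsAlgClosed k]

local notation "U1" => 𝟙_ (Over (Spec (CommRingCat.of k)))

/-- the centralizer of a maximal torus surjects onto the centralizer of its image, connected target -/
theorem surjective_centralizers {G G' T T' C C' : Over (Spec (CommRingCat.of k))} [GrpObj G] [GrpObj G'] [GrpObj T]
    [GrpObj T'] [GrpObj C] [GrpObj C'] [Smooth G.hom] [QuasiCompact G.hom] [Smooth G'.hom] [QuasiCompact G'.hom]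
    [ConnectedSpace G'.left] (u : G ⟶ G') [IsMonHom u] [Surjective u.left] {iT : T ⟶ G} (hT : AGF.IsMaxTorus iT)
    {iT' : T' ⟶ G'} (hT' : AGF.IsMaxTorus iT') (p : T ⟶ T') [Surjective p.left] (hp : p ≫ iT' = iT ≫ u)
    {c : C ⟶ G} (hc : Red.IsCentralizerOf iT c) [IsClosedImmersion c.left] [Smooth C.hom]
    {c' : C' ⟶ G'} (hc' : Red.IsCentralizerOf iT' c') [Smooth C'.hom]
    (w : C ⟶ C') [IsMonHom w] (hw : w ≫ c' = c ≫ u) : Surjective w.left := by
  haveI := hT.1; haveI := hT.2.1; haveI := hT'.1; haveI := hT'.2.1; haveI := hc.1; haveI := hc.2.1; haveI := hc'.1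
  haveI := hc'.2.1
  haveI : LocallyOfFiniteType G.hom := inferInstance
  haveI : LocallyOfFiniteType G'.hom := inferInstance
  haveI : IsSeparated G'.hom := Groth.L08.AbelianGrp.isSeparated G'
  haveI : IsSeparated G.hom := Groth.L08.AbelianGrp.isSeparated G
  obtain ⟨G₀, g₀, j, hj⟩ := Groth.L08.Chev.exists_idComp G
  haveI := hj.hom; haveI := hj.closedImm; haveI := hj.smooth; haveI := hj.connectedSpace; haveI := hj.quasiCompact
  haveI : Mono j := Groth.L08.mono_of_closedImmersion j
  have hj' : Groth.L08.Chev.IdCompData (𝟙 G') := by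
    refine ⟨inferInstance, ?_, ?_, ?_⟩
    · show IsClosedImmersion (𝟙 G'.left); infer_instance
    · show IsOpenImmersion (𝟙 G'.left); infer_instance
    · rw [PreconnectedSpace.connectedComponent_eq_univ]; exact Set.range_eq_univ.2 fun x => ⟨x, rfl⟩
  obtain ⟨u₀, hu₀, hu₀s, hu₀e⟩ := exists_surjective_idComp hj hj' u
  rw [Category.comp_id] at hu₀e
  haveI := hu₀; haveI := hu₀s
  obtain ⟨a1, a2, a3, -, -⟩ := torus_props hT.2.2.1
  obtain ⟨b1, b2, b3, -, -⟩ := torus_props hT'.2.2.1
  haveI := a3; haveI := b2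
  obtain ⟨t, ht⟩ := hj.exists_lift_hom iT
  have hTG : AGF.IsMaxTorus t := isMaxTorus_factor (iB := j) (ht.symm ▸ hT)
  haveI : IsClosedImmersion iT'.left :=
    Groth.L25.MonoClosed.isClosedImmersion_of_mono (Groth.L25.Locus.isMultTypeFT_of_isTorus hT'.2.2.1) iT'
  haveI : QuasiCompact C.hom := by rw [← Over.w c]; infer_instance
  haveI : LocallyOfFiniteType C.hom := inferInstance
  haveI : LocallyOfFiniteType C'.hom := inferInstance
  obtain ⟨D, gD, q, d, hq, hd, hqd, hqf, hqs, hql, hdc⟩ := Groth.L08.AbelianGrp.exists_image w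
  haveI := hqs; haveI := hdc
  haveI : IsReduced C'.left := Groth.Agent.AV.isReduced_of_smooth_field C'.hom
  obtain ⟨r, hr⟩ := factor_of_pts (𝟙 C') d fun x => by
    obtain ⟨g, hg, hgc⟩ := exists_lift_centralizing_gen u₀ hTG iT' p
      (by rw [hp, hu₀e, reassoc_of% ht]) (x ≫ c') fun y => by
      simpa only [Category.id_comp] using (hc'.2.2 U1 (x ≫ c')).1 ⟨x, rfl⟩ U1 (𝟙 _) y
    haveI : IsReduced T.left := by haveI := a2; exact Groth.Agent.AV.isReduced_of_smooth_field T.hom
    haveI : LocallyOfFiniteType T.hom := by haveI := a2; infer_instance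
    obtain ⟨z, hz⟩ := (hc.2.2 U1 (g ≫ j)).2 fun X' xq s => by
      have hall : (toUnit T ≫ g ≫ j) * iT = iT * (toUnit T ≫ g ≫ j) := hom_ext_pts _ _ fun y => by
        rw [MonObj.comp_mul, MonObj.comp_mul, ← Category.assoc y (toUnit T), toUnit_unique (y ≫ toUnit T) (𝟙 _),
          Category.id_comp]
        have h2 := congrArg (· ≫ j) (hgc y)
        simp only [MonObj.mul_comp, Category.assoc, ht] at h2
        exact h2
      have h3 := congrArg (s ≫ ·) hall
      simp only [MonObj.comp_mul, ← Category.assoc, toUnit_unique (s ≫ toUnit T) xq] at h3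
      simpa only [Category.assoc] using h3
    refine ⟨z ≫ q, ?_⟩
    rw [Category.assoc, hqd, Category.comp_id, ← cancel_mono c', Category.assoc, hw, reassoc_of% hz]
    rw [← hg, hu₀e]
  haveI : Surjective d.left := surjective_of_section d r hr
  rw [← hqd, Over.comp_left]
  infer_instance

end field

variable {S : Scheme.{u}} {G G' : Over S} [GrpObj G] [GrpObj G']

/-- **the image of a Cartan subgroup** -/
theorem exists_cartan_square [Smooth G.hom] [IsSeparated G.hom] [QuasiCompact G.hom] [Smooth G'.hom]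
    [IsSeparated G'.hom] [QuasiCompact G'.hom] (u : G ⟶ G') [IsMonHom u]
    (hu : ∀ s : S, Surjective ((Over.pullback (Red.geomPt s)).map u).left)
    (hconn' : ∀ s : S, _root_.IsConnected (G'.hom.base ⁻¹' {s}))
    (hker : ∀ (X : Over S) (z : X ⟶ G), z ≫ u = 1 → ∀ (X' : Over S) (x : X' ⟶ X) (g : X' ⟶ G),
      (x ≫ z) * g = g * (x ≫ z))
    {T T' C C' : Over S} [GrpObj T] [GrpObj T'] [GrpObj C] [GrpObj C'] {i : T ⟶ G} (hT : Red.IsMaximalTorus i)
    {i' : T' ⟶ G'} (hT' : Red.IsMaximalTorus i') (v : T ⟶ T') [Surjective v.left] [Flat v.left]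
    (hv : v ≫ i' = i ≫ u) {c : C ⟶ G} (hc : Red.IsCentralizerOf i c) {c' : C' ⟶ G'}
    (hc' : Red.IsCentralizerOf i' c') :
    ∃ w : C ⟶ C', IsMonHom w ∧ Surjective w.left ∧ Flat w.left ∧ IsPullback c w u c' := by
  haveI := hT.1; haveI := hT.2.1; haveI := hT'.1; haveI := hT'.2.1; haveI := hc.1; haveI := hc.2.1
  haveI := hc'.1; haveI := hc'.2.1
  have m := Groth.L25.Locus.isMultTypeFT_of_isTorus hT.2.2.1
  have m' := Groth.L25.Locus.isMultTypeFT_of_isTorus hT'.2.2.1
  -- good models
  obtain ⟨Z, gZ, z, hz, hzi, hzs⟩ := Groth.L25.Locus.exists_smooth_centralizer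
    (Groth.L25.Locus.locally_of_multTypeFT m) i
  obtain ⟨Z', gZ', z', hz', hzi', hzs'⟩ := Groth.L25.Locus.exists_smooth_centralizer
    (Groth.L25.Locus.locally_of_multTypeFT m') i'
  haveI := hz.1; haveI := hz.2.1; haveI := hzi; haveI := hzs
  haveI := hz'.1; haveI := hz'.2.1; haveI := hzi'; haveI := hzs'
  obtain ⟨eC, heC⟩ := Groth.L25.Locus.exists_iso_of_points c z fun X g => (hc.2.2 X g).trans (hz.2.2 X g).symm
  obtain ⟨eC', heC'⟩ := Groth.L25.Locus.exists_iso_of_points c' z' fun X g => (hc'.2.2 X g).trans (hz'.2.2 X g).symm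
  have hsC : Smooth C.hom := by
    haveI : IsIso eC.hom.left := inferInstanceAs (IsIso ((Over.forget S).map eC.hom))
    rw [← Over.w eC.hom]; infer_instance
  have hsC' : Smooth C'.hom := by
    haveI : IsIso eC'.hom.left := inferInstanceAs (IsIso ((Over.forget S).map eC'.hom))
    rw [← Over.w eC'.hom]; infer_instance
  have hcC : IsClosedImmersion c.left := by
    haveI : IsIso eC.hom.left := inferInstanceAs (IsIso ((Over.forget S).map eC.hom))
    rw [← heC, Over.comp_left]; infer_instance
  haveI := hsC; haveI := hsC'; haveI := hcC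
  -- the map
  obtain ⟨w, hw⟩ := (hc'.2.2 C (c ≫ u)).2 fun X' x h => by
    let q := pullback.fst h.left v.left
    haveI : Flat q := MorphismProperty.pullback_fst _ _ ‹Flat v.left›
    haveI : Surjective q := MorphismProperty.pullback_fst _ _ ‹Surjective v.left›
    haveI : Epi q := Flat.epi_of_flat_of_surjective q
    let X'' : Over S := Over.mk (q ≫ X'.hom)
    let Q : X'' ⟶ X' := Over.homMk q rfl
    haveI : Epi Q.left := ‹Epi q›
    haveI : Epi Q := Over.epi_of_epi_left Q
    let a : X'' ⟶ T := Over.homMk (pullback.snd _ _) (by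
      show pullback.snd _ _ ≫ T.hom = q ≫ X'.hom
      rw [← Over.w v, ← pullback.condition_assoc, Over.w h])
    have ha : a ≫ v = Q ≫ h := Over.OverMorphism.ext pullback.condition.symm
    have h1 := congrArg (· ≫ u) ((hc.2.2 C c).1 ⟨𝟙 _, Category.id_comp c⟩ X'' (Q ≫ x) a)
    simp only [MonObj.mul_comp, Category.assoc, ← hv, reassoc_of% ha] at h1
    rw [← cancel_epi Q, MonObj.comp_mul, MonObj.comp_mul]
    exact h1
  haveI : IsMonHom w := Groth.L25.Bridge.isMonHom_of_mul w fun X a b => by
    rw [← cancel_mono c', Category.assoc, hw, MonObj.mul_comp (a ≫ w) (b ≫ w) c', Category.assoc, Category.assoc, hw]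
    exact MonObj.mul_comp a b (c ≫ u)
  haveI hws : Surjective w.left := surjective_of_geomFibres w fun s => by
    haveI : IsMonHom ((Over.pullback (Red.geomPt s)).map i) := Groth.L25.MonoClosed.isMonHom_pullbackMap _ _
    haveI : IsMonHom ((Over.pullback (Red.geomPt s)).map i') := Groth.L25.MonoClosed.isMonHom_pullbackMap _ _
    haveI : IsMonHom ((Over.pullback (Red.geomPt s)).map u) := Groth.L25.MonoClosed.isMonHom_pullbackMap _ _
    haveI : IsMonHom ((Over.pullback (Red.geomPt s)).map w) := Groth.L25.MonoClosed.isMonHom_pullbackMap _ _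
    haveI : Mono ((Over.pullback (Red.geomPt s)).map i) := Functor.map_mono _ _
    haveI : Mono ((Over.pullback (Red.geomPt s)).map i') := Functor.map_mono _ _
    haveI : Smooth (Red.geomFibre s G).hom := inferInstanceAs (Smooth (pullback.snd G.hom (Red.geomPt s)))
    haveI : QuasiCompact (Red.geomFibre s G).hom := inferInstanceAs (QuasiCompact (pullback.snd G.hom (Red.geomPt s)))
    haveI : Smooth (Red.geomFibre s G').hom := inferInstanceAs (Smooth (pullback.snd G'.hom (Red.geomPt s)))
    haveI : QuasiCompact (Red.geomFibre s G').hom := inferInstanceAs (QuasiCompact (pullback.snd G'.hom (Red.geomPt s)))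
    haveI : Smooth (Red.geomFibre s C).hom := inferInstanceAs (Smooth (pullback.snd C.hom (Red.geomPt s)))
    haveI : Smooth (Red.geomFibre s C').hom := inferInstanceAs (Smooth (pullback.snd C'.hom (Red.geomPt s)))
    haveI : ConnectedSpace ↥(Red.geomFibre s G').left := by
      have h := Groth.L25.Extension.isConnected_fibre_bc (Red.geomPt s) G' hconn' (IsLocalRing.closedPoint _)
      rw [connectedSpace_iff_univ]
      refine (congrArg _root_.IsConnected ?_).mp h
      exact Set.eq_univ_of_forall fun x => Subsingleton.elim (α := PrimeSpectrum (AlgebraicClosure (S.residueField s))) _ _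
    haveI := hu s
    haveI : Surjective ((Over.pullback (Red.geomPt s)).map v).left := surjective_bcMap _ v
    haveI : IsClosedImmersion ((Over.pullback (Red.geomPt s)).map c).left :=
      MorphismProperty.of_isPullback (Groth.L25.SchImage.isPullback_fst_map (Red.geomPt s) c) hcC
    exact surjective_centralizers ((Over.pullback (Red.geomPt s)).map u)
      (⟨inferInstance, inferInstance, Groth.L25.Locus.isTorus_bc hT.2.2.1 _,
        fun T₁ _ a _ _ f₁ h₁ hf₁ => hT.2.2.2 s T₁ a f₁ h₁ hf₁⟩ :
        AGF.IsMaxTorus ((Over.pullback (Red.geomPt s)).map i))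
      (⟨inferInstance, inferInstance, Groth.L25.Locus.isTorus_bc hT'.2.2.1 _,
        fun T₁ _ a _ _ f₁ h₁ hf₁ => hT'.2.2.2 s T₁ a f₁ h₁ hf₁⟩ :
        AGF.IsMaxTorus ((Over.pullback (Red.geomPt s)).map i'))
      ((Over.pullback (Red.geomPt s)).map v) (by rw [← Functor.map_comp, hv, Functor.map_comp])
      (isCentralizerOf_bc (Red.geomPt s) hc) (isCentralizerOf_bc (Red.geomPt s) hc') _
      (by rw [← Functor.map_comp, hw, Functor.map_comp])
  haveI : GeometricallyReduced C'.hom := Groth.Agent.AV.geometricallyReduced_of_smooth C'.hom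
  haveI : LocallyOfFiniteType C'.hom := inferInstance
  haveI hwf : Flat w.left := (Groth.L08.FlatHom.flat_of_surjective_fibres C C' w).1
  refine ⟨w, inferInstance, hws, hwf, IsPullback.of_isLimit' ⟨hw.symm⟩ (PullbackCone.IsLimit.mk _ ?_ ?_ ?_ ?_)⟩
  · intro K
    refine ((hc.2.2 K.pt K.fst).2 fun X' x h => ?_).choose
    let q := pullback.fst (x ≫ K.snd).left w.left
    haveI : Flat q := MorphismProperty.pullback_fst _ _ hwf
    haveI : Surjective q := MorphismProperty.pullback_fst _ _ hws
    haveI : Epi q := Flat.epi_of_flat_of_surjective q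
    let X'' : Over S := Over.mk (q ≫ X'.hom)
    let Q : X'' ⟶ X' := Over.homMk q rfl
    haveI : Epi Q.left := ‹Epi q›
    haveI : Epi Q := Over.epi_of_epi_left Q
    let a : X'' ⟶ C := Over.homMk (pullback.snd _ _) (by
      show pullback.snd _ _ ≫ C.hom = q ≫ X'.hom
      rw [← Over.w w, ← pullback.condition_assoc, Over.w (x ≫ K.snd)])
    have ha : a ≫ w = Q ≫ x ≫ K.snd := Over.OverMorphism.ext pullback.condition.symm
    let y : X'' ⟶ G := (Q ≫ x ≫ K.fst) * (a ≫ c)⁻¹
    have hy : y ≫ u = 1 := by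
      simp only [y, MonObj.mul_comp, GrpObj.inv_comp, Category.assoc, K.condition, ← hw, reassoc_of% ha, mul_inv_cancel]
    have hyc := hker X'' y hy X'' (𝟙 _) (Q ≫ h ≫ i)
    rw [Category.id_comp] at hyc
    have hac := (hc.2.2 C c).1 ⟨𝟙 _, Category.id_comp c⟩ X'' a (Q ≫ h)
    rw [Category.assoc] at hac
    rw [← cancel_epi Q, MonObj.comp_mul, MonObj.comp_mul]
    have e : Q ≫ x ≫ K.fst = y * (a ≫ c) := by simp only [y, inv_mul_cancel_right]
    rw [e, _root_.mul_assoc, hac, ← _root_.mul_assoc, hyc, _root_.mul_assoc]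
  · intro K
    exact Exists.choose_spec (p := fun z => z ≫ c = K.fst) _
  · intro K
    rw [← cancel_mono c', Category.assoc]
    refine (congrArg (_ ≫ ·) hw).trans ((Category.assoc _ _ _).symm.trans ?_)
    exact (congrArg (· ≫ u) (Exists.choose_spec (p := fun z => z ≫ c = K.fst) _)).trans K.condition
  · intro K m h1 _
    rw [← cancel_mono c, h1]
    exact (Exists.choose_spec (p := fun z => z ≫ c = K.fst) _).symm

end Groth.L08.Borel
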