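import Groth.Agent.L08.Borel.BaseChange
import Groth.Agent.L08.FibreTranslate
import Groth.Agent.L19.GammaField
import Groth.Agent.L19.HomAffine
import Groth.Agent.L25.Covers

/-!
# Properties of base changes; maps to affine schemes from products with proper varieties
-/

set_option autoImplicit false
set_option backward.isDefEq.respectTransparency.types false
set_option linter.style.haveILetI false

universe u

open CategoryTheory CategoryTheory.Limits MonoidalCategory CartesianMonoidalCategory MonObj AlgebraicGeometry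

noncomputable section

namespace Groth.L08.Borel

variable {k Ω : Type u} [Field k] [Field Ω] (θ : Spec (CommRingCat.of Ω) ⟶ Spec (CommRingCat.of k))

theorem isAffine_bc (X : Over (Spec (CommRingCat.of k))) [IsAffine X.left] : IsAffine (Red.bc θ X).left :=
  inferInstanceAs (IsAffine (pullback X.hom θ))

theorem smooth_bc (X : Over (Spec (CommRingCat.of k))) [Smooth X.hom] : Smooth (Red.bc θ X).hom :=
  inferInstanceAs (Smooth (pullback.snd X.hom θ))

theorem connectedSpace_bc' (G : Over (Spec (CommRingCat.of k))) [GrpObj G] [Smooth G.hom] [ConnectedSpace G.left] :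
    ConnectedSpace (Red.bc θ G).left := by
  haveI := Groth.L08.Albanese.geometricallyIntegral_of_smooth G
  haveI : GeometricallyIntegral (Red.bc θ G).hom := inferInstanceAs (GeometricallyIntegral (pullback.snd G.hom θ))
  exact GeometricallyConnected.connectedSpace_of_subsingleton (Red.bc θ G).hom

theorem isClosedImmersion_map {X Y : Over (Spec (CommRingCat.of k))} (f : X ⟶ Y) [IsClosedImmersion f.left] :
    IsClosedImmersion ((Over.pullback θ).map f).left :=
  MorphismProperty.of_isPullback (P := @IsClosedImmersion) (isPullback_bc_map' θ f).flip ‹_›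

theorem surjective_map {X Y : Over (Spec (CommRingCat.of k))} (f : X ⟶ Y) [Surjective f.left] :
    Surjective ((Over.pullback θ).map f).left :=
  MorphismProperty.of_isPullback (P := @Surjective) (isPullback_bc_map' θ f).flip ‹_›

theorem surjective_fst_bc (X : Over (Spec (CommRingCat.of k))) : Surjective (pullback.fst X.hom θ) := by
  haveI := (bc_props_field θ).1
  infer_instance

/-- transfer of the Borel property along an isomorphism -/
theorem isBorelOver_of_iso {K : Type u} [Field K] [IsAlgClosed K] {G B C : Over (Spec (CommRingCat.of K))} [GrpObj G]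
    [GrpObj B] [GrpObj C] {i : C ⟶ G} (hC : Red.IsBorelOver K i) (b : B ⟶ G) [IsMonHom b] (e : B ≅ C)
    (he : e.hom ≫ i = b) : Red.IsBorelOver K b := by
  haveI := hC.1; haveI := hC.2.1; haveI := hC.2.2.1; haveI := hC.2.2.2.1
  haveI : Mono i := Over.mono_of_mono_left i
  haveI : IsIso e.hom.left := inferInstanceAs (IsIso ((Over.forget _).map e.hom))
  haveI : IsClosedImmersion b.left := by rw [← he, Over.comp_left]; infer_instance
  haveI : Smooth B.hom := by rw [← Over.w e.hom]; infer_instance
  haveI : IsMonHom e.hom :=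
    { one_hom := by rw [← cancel_mono i, Category.assoc, he, IsMonHom.one_hom, IsMonHom.one_hom]
      mul_hom := by
        rw [← cancel_mono i, Category.assoc, he, IsMonHom.mul_hom, Category.assoc, IsMonHom.mul_hom (f := i),
          ← he, tensorHom_comp_tensorHom_assoc] }
  refine ⟨inferInstance, inferInstance, inferInstance,
    e.inv.left.surjective.connectedSpace e.inv.left.continuous, ?_, fun B' _ i' _ f hc hs hcon hsol hf => ?_⟩
  · obtain ⟨n, hn⟩ := hC.2.2.2.2.1
    refine ⟨n, fun X => ?_⟩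
    let Φ : (X ⟶ B) →* (X ⟶ C) := MonoidHom.mk' (fun t => t ≫ e.hom) fun s t => MonObj.mul_comp s t e.hom
    refine (Subgroup.map_eq_bot_iff_of_injective _ (f := Φ) (fun s t h => (cancel_mono e.hom).1 h)).1 (le_bot_iff.1 ?_)
    exact (map_derivedSeries_le_derivedSeries Φ n).trans (hn X).le
  · haveI : IsIso (e.inv ≫ f) := hC.2.2.2.2.2 B' i' (e.inv ≫ f) hc hs hcon hsol
      (by rw [Category.assoc, hf, ← he, Iso.inv_hom_id_assoc])
    exact IsIso.of_isIso_comp_left e.inv f

open Groth.L19.GammaField Groth.L19.HomAffine TensorProduct in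
/-- functions on a product with a scheme with only constant functions -/
theorem appTop_snd_surjective {Y T : Over (Spec (CommRingCat.of k))} [CompactSpace Y.left] [IsAffine T.left]
    (hY : Function.Bijective Y.hom.appTop.hom) : Function.Surjective (snd Y T).left.appTop.hom := by
  intro w
  have hS : IsField Γ(Spec (CommRingCat.of k), ⊤) := MulEquiv.isField (Field.toIsField k)
    (Scheme.ΓSpecIso (CommRingCat.of k)).commRingCatIsoToRingEquiv.toMulEquiv
  obtain ⟨z, rfl⟩ := (gam_bijective Y T hS).2 w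
  induction z using TensorProduct.induction_on with
  | zero => exact ⟨0, by rw [map_zero, map_zero]; rfl⟩
  | add p q hp hq =>
    obtain ⟨a, ha⟩ := hp
    obtain ⟨b, hb⟩ := hq
    exact ⟨a + b, by rw [map_add, map_add, ha, hb]; rfl⟩
  | tmul b c =>
    obtain ⟨r, rfl⟩ := hY.2 b
    refine ⟨(algebraMap Γ(Spec (CommRingCat.of k), ⊤) Γ(T.left, ⊤) r) * c, ?_⟩
    have e : (Y.hom.appTop.hom r) = algebraMap Γ(Spec (CommRingCat.of k), ⊤) Γ(Y.left, ⊤) r :=
      (congrArg (fun q => CommRingCat.Hom.hom q r)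
        ((Scheme.Hom.app_eq_appLE Y.hom).trans (algebraMap_eq Y ⊤).symm))
    have e2 : (algebraMap Γ(Spec (CommRingCat.of k), ⊤) Γ(Y.left, ⊤) r) ⊗ₜ[Γ(Spec (CommRingCat.of k), ⊤)] c =
        (1 : Γ(Y.left, ⊤)) ⊗ₜ[Γ(Spec (CommRingCat.of k), ⊤)]
          (algebraMap Γ(Spec (CommRingCat.of k), ⊤) Γ(T.left, ⊤) r * c) := by
      rw [Algebra.algebraMap_eq_smul_one, smul_tmul, Algebra.smul_def]
    rw [e, e2, gam_tmul, map_one, _root_.one_mul]
    exact congrArg (fun q => CommRingCat.Hom.hom q _) (Scheme.Hom.app_eq_appLE (snd Y T).left)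

/-- **Rigidity**: maps from a product with a scheme with constant functions to an affine scheme -/
theorem eq_snd_comp_of_bijective {Y T Z : Over (Spec (CommRingCat.of k))} [CompactSpace Y.left] [IsAffine Z.left]
    (hY : Function.Bijective Y.hom.appTop.hom) (y₀ : 𝟙_ (Over (Spec (CommRingCat.of k))) ⟶ Y) (f : Y ⊗ T ⟶ Z) :
    f = snd Y T ≫ lift (toUnit T ≫ y₀) (𝟙 T) ≫ f := by
  refine Groth.L08.HomSpace.hom_ext_affine _ _ fun R _ _ t => ?_
  let T' := Groth.L08.HomSpace.specOf k R
  haveI : IsAffine T'.left := inferInstanceAs (IsAffine (Spec _))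
  let tT : T' ⟶ T := t ≫ snd Y T
  let f' : Y ⊗ T' ⟶ Z := (Y ◁ tT) ≫ f
  have key : f' = snd Y T' ≫ lift (toUnit T' ≫ y₀) (𝟙 T') ≫ f' := by
    refine Over.OverMorphism.ext (ext_of_isAffine (CommRingCat.hom_ext (RingHom.ext fun z => ?_)))
    obtain ⟨c, hc⟩ := appTop_snd_surjective (T := T') hY (f'.left.appTop.hom z)
    let g' : T' ⟶ Y ⊗ T' := lift (toUnit T' ≫ y₀) (𝟙 T')
    show f'.left.appTop.hom z = ((snd Y T').left ≫ g'.left ≫ f'.left).appTop.hom z
    rw [Scheme.Hom.comp_appTop, Scheme.Hom.comp_appTop]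
    show f'.left.appTop.hom z = (snd Y T').left.appTop.hom (g'.left.appTop.hom (f'.left.appTop.hom z))
    rw [← hc]
    congr 1
    have h1 : g' ≫ snd Y T' = 𝟙 T' := lift_snd _ _
    have h2 := congrArg (fun q : T' ⟶ T' => q.left.appTop.hom c) h1
    rw [Over.comp_left, Scheme.Hom.comp_appTop, Over.id_left, Scheme.Hom.id_appTop] at h2
    exact h2.symm
  have h3 := lift (t ≫ fst Y T) (𝟙 T') ≫= key
  simp only [f', tT, lift_snd_assoc, Category.id_comp, lift_whiskerLeft_assoc] at h3
  have h4 : lift (t ≫ fst Y T) (t ≫ snd Y T) ≫ f = lift (toUnit T' ≫ y₀) (t ≫ snd Y T) ≫ f := by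
    refine Eq.trans ?_ (h3.trans ?_)
    · exact congrArg (fun q => lift (t ≫ fst Y T) q ≫ f) (Category.id_comp (t ≫ snd Y T)).symm
    · exact Category.id_comp _
  rw [← lift_comp_fst_snd t, lift_snd_assoc, h4, ← Category.assoc (t ≫ snd Y T), comp_lift, Category.comp_id, ← Category.assoc (t ≫ snd Y T),
    toUnit_unique ((t ≫ snd Y T) ≫ toUnit T) (toUnit T')]

/-- rigidity for quotients of a group with constant functions -/
theorem orbit_invariant_const {G H Q T Z : Over (Spec (CommRingCat.of k))} [GrpObj G] [GrpObj H] [Smooth G.hom]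
    [QuasiCompact G.hom] {i : H ⟶ G} {a : AlgGrp.Action G Q} {o : 𝟙_ (Over (Spec (CommRingCat.of k))) ⟶ Q}
    (hQ : AGF.IsQuotient i Q a o) [IsAffine Z.left] [CompactSpace Q.left]
    (hQc : Function.Bijective Q.hom.appTop.hom) (f : T ⊗ G ⟶ Z)
    (hf : ∀ (W : Over (Spec (CommRingCat.of k))) (t : W ⟶ T) (x y : W ⟶ G), (∃ z : W ⟶ H, z ≫ i = x⁻¹ * y) →
      lift t x ≫ f = lift t y ≫ f) :
    f = fst T G ≫ lift (𝟙 T) (1 : T ⟶ G) ≫ f := by
  haveI := hQ.2.1; haveI := hQ.2.2.1; haveI := hQ.1
  haveI : LocallyOfFiniteType G.hom := inferInstance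
  haveI : CompactSpace G.left := QuasiCompact.compactSpace_of_compactSpace G.hom
  haveI : IsLocallyNoetherian Q.left := LocallyOfFiniteType.isLocallyNoetherian Q.hom
  haveI : QuasiCompact (a.orbitMap o).left := quasiCompact_of_compactSpace _
  obtain ⟨d, hd⟩ := Groth.L27.Torsor.descend
    (Groth.L27.Torsor.Cov.whiskerLeft T (Groth.L25.DescHom.cov_of_flat (a.orbitMap o))) f fun W u v e => by
    have e1 : u ≫ fst T G = v ≫ fst T G := by
      have := congrArg (· ≫ fst T Q) e
      simpa only [Category.assoc, whiskerLeft_fst] using this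
    have e2 : (u ≫ snd T G) ≫ a.orbitMap o = (v ≫ snd T G) ≫ a.orbitMap o := by
      have := congrArg (· ≫ snd T Q) e
      simpa only [Category.assoc, whiskerLeft_snd] using this
    rw [← lift_comp_fst_snd u, ← lift_comp_fst_snd v, ← e1]
    exact hf W _ _ _ ((orbitMap_eq_iff hQ _ _).1 e2)
  have hd2 := eq_snd_comp_of_bijective hQc o (lift (snd Q T) (fst Q T) ≫ d)
  have h1 : ∀ (W : Over (Spec (CommRingCat.of k))) (t : W ⟶ T) (q : W ⟶ Q),
      lift t q ≫ d = lift t (toUnit W ≫ o) ≫ d := by
    intro W t q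
    have h := lift q t ≫= hd2
    rw [← Category.assoc, comp_lift, lift_fst, lift_snd, lift_snd_assoc, ← Category.assoc, comp_lift,
      ← Category.assoc t, toUnit_unique (t ≫ toUnit T) (toUnit W), Category.comp_id, ← Category.assoc,
      comp_lift, lift_fst, lift_snd] at h
    exact h
  have h2 : ∀ (W : Over (Spec (CommRingCat.of k))) (t : W ⟶ T) (x : W ⟶ G),
      lift t x ≫ f = lift t (1 : W ⟶ G) ≫ f := by
    intro W t x
    rw [← hd, ← Category.assoc, lift_whiskerLeft, ← Category.assoc (lift t (1 : W ⟶ G)), lift_whiskerLeft,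
      h1 W t (x ≫ a.orbitMap o), h1 W t ((1 : W ⟶ G) ≫ a.orbitMap o)]
  have h3 := h2 (T ⊗ G) (fst T G) (snd T G)
  rw [lift_fst_snd, Category.id_comp] at h3
  refine h3.trans ?_
  rw [← Category.assoc, comp_lift, Category.comp_id, MonObj.comp_one]

end Groth.L08.Borel
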