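import Groth.Agent.L08.Borel.Factor
import Groth.Agent.L08.Flag
import Groth.Agent.L08.FlagGroup
import Groth.Agent.S3268
import Groth.Agent.L08.CartierRed
import Groth.Agent.S3266

/-!
# A quotient of a connected solvable group maps monomorphically to affine space
-/

set_option autoImplicit false
set_option backward.isDefEq.respectTransparency.types false
set_option linter.style.haveILetI false

universe u

open CategoryTheory CategoryTheory.Limits MonoidalCategory CartesianMonoidalCategory MonObj AlgebraicGeometry
open TensorProduct WithConv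

noncomputable section

namespace Groth.L08.Borel

open Groth.L08.HomSpace

variable {k : Type u} [Field k] {A : Type u} [CommRing A] [HopfAlgebra k A]
  {V : Type u} [AddCommGroup V] [Module k V] [HopfRep.Comod k A V]

variable (A) in
/-- the coefficient of the orbit of `v` along the linear form `φ` -/
def cfun (φ : V →ₗ[k] k) (v : V) : A :=
  TensorProduct.lid k A (φ.rTensor A (HopfRep.Comod.coact (k := k) (A := A) v))

theorem apply_cfun (φ : V →ₗ[k] k) (v : V) (g : A →ₐ[k] k) :
    g (cfun A φ v) = φ (HopfRep.Comod.act k A V g v) := by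
  unfold cfun
  change g _ = φ ((TensorProduct.rid k V) (g.toLinearMap.lTensor V (HopfRep.Comod.coact (k := k) (A := A) v)))
  induction HopfRep.Comod.coact (k := k) (A := A) v using TensorProduct.induction_on with
  | zero => simp
  | add p q hp hq => simp only [map_add, hp, hq]
  | tmul p q => simp [mul_comm]

theorem cfun_eq_sum {σ : Type} [Fintype σ] (b : Module.Basis σ k V) (φ : V →ₗ[k] k) (v : V) :
    cfun A φ v = ∑ i, algebraMap k A (φ (b i)) * coords A b v i := by
  unfold cfun coords
  simp only [ptVec, LinearMap.comp_apply, LinearEquiv.coe_coe]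
  induction HopfRep.Comod.coact (k := k) (A := A) v using TensorProduct.induction_on with
  | zero => simp
  | add p q hp hq =>
    simp only [map_add, hp, hq, Finsupp.add_apply, mul_add, Finset.sum_add_distrib]
  | tmul p q =>
    have e : φ p = ∑ i, b.repr p i * φ (b i) := by
      refine (congrArg φ (b.sum_repr p)).symm.trans ?_
      rw [map_sum]
      exact Finset.sum_congr rfl fun i _ => by rw [map_smul, smul_eq_mul]
    simp only [LinearMap.rTensor_tmul, TensorProduct.lid_tmul, LinearMap.lTensor_tmul, TensorProduct.comm_tmul,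
      AlgHom.toLinearMap_apply, AlgHom.coe_id, id_eq, Module.Basis.baseChange_repr_tmul]
    rw [e, Finset.sum_smul]
    refine Finset.sum_congr rfl fun i _ => ?_
    rw [Algebra.smul_def, Algebra.smul_def, map_mul]
    ring

theorem act_mem {W : Submodule k V} (hW : HopfRep.IsSubcomod (k := k) (A := A) W) (g : A →ₐ[k] k) {v : V}
    (hv : v ∈ W) : HopfRep.Comod.act k A V g v ∈ W :=
  fAct_mem_of_isSubcomod hW g.toLinearMap hv

theorem mem_of_act_mem {W : Submodule k V} (hW : HopfRep.IsSubcomod (k := k) (A := A) W) (g : A →ₐ[k] k) {v : V}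
    (hv : HopfRep.Comod.act k A V g v ∈ W) : v ∈ W := by
  have e : (toConv g)⁻¹ * toConv g = (1 : WithConv (A →ₐ[k] k)) := inv_mul_cancel _
  have h := LinearMap.congr_fun ((map_mul (ptAct (k := k) (A := A) V) _ _).symm.trans
    ((congrArg (ptAct (k := k) (A := A) V) e).trans (map_one _))) v
  rw [Module.End.mul_apply, Module.End.one_apply, ptAct_apply, ptAct_apply] at h
  rw [← h]
  exact fAct_mem_of_isSubcomod hW _ hv

/-- an element nonzero at all rational points is a unit -/
theorem isUnit_of_forall_point [IsAlgClosed k] [Algebra.FiniteType k A] (u : A) (h : ∀ g : A →ₐ[k] k, g u ≠ 0) : IsUnit u := by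
  by_contra hu
  obtain ⟨P, hP, hup⟩ := exists_max_ideal_of_mem_nonunits hu
  obtain ⟨χ, hχ⟩ := CartierRed.exists_point_of_isMaximal (k := k) P
  refine h χ ?_
  by_contra h0
  have h2 := P.sub_mem hup (hχ u)
  rw [sub_sub_cancel] at h2
  exact hP.ne_top (P.eq_top_of_isUnit_mem h2 ((isUnit_iff_ne_zero.2 h0).map (algebraMap k A)))

/-- In a trigonalisable group some coordinate combination of the orbit of a vector never vanishes. -/
theorem exists_isUnit_comb [IsAlgClosed k] [Algebra.FiniteType k A] (hT : HopfRep.IsTrigonalizable k A) [Module.Finite k V]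
    {σ : Type} [Fintype σ] (b : Module.Basis σ k V) {v : V} (hv : v ≠ 0) :
    ∃ t : σ → k, IsUnit (∑ i, algebraMap k A (t i) * coords A b v i) := by
  classical
  obtain ⟨F, hmono, hsub, hdim⟩ := Groth.Agent.S3268.result k A hT V
  set n := Module.finrank k V
  have htop : F n = ⊤ := Submodule.eq_top_of_finrank_eq (hdim n le_rfl)
  have hex : ∃ m, v ∈ F m := ⟨n, by rw [htop]; trivial⟩
  have hle : Nat.find hex ≤ n := Nat.find_le (by rw [htop]; trivial)
  rcases Nat.eq_zero_or_pos (Nat.find hex) with h0 | hpos
  · have h1 := Nat.find_spec hex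
    rw [h0] at h1
    have h2 : Module.finrank k (F 0) = 0 := hdim 0 (Nat.zero_le n)
    rw [Submodule.finrank_eq_zero] at h2
    exact absurd (by simpa [h2] using h1) hv
  obtain ⟨m, hm⟩ := Nat.exists_eq_succ_of_ne_zero hpos.ne'
  have hvin : v ∈ F (m + 1) := by
    have h1 := Nat.find_spec hex
    rwa [hm] at h1
  have hvout : v ∉ F m := Nat.find_min hex (by omega)
  have hd1 : Module.finrank k (F m) = m := hdim m (by omega)
  have hd2 : Module.finrank k (F (m + 1)) = m + 1 := hdim (m + 1) (by omega)
  have hsup : F (m + 1) = F m ⊔ Submodule.span k {v} := by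
    symm
    have hle' : F m ⊔ Submodule.span k {v} ≤ F (m + 1) :=
      sup_le (hmono (Nat.le_succ m)) (by simpa [Submodule.span_le] using hvin)
    refine Submodule.eq_of_le_of_finrank_le hle' ?_
    have hlt : F m < F m ⊔ Submodule.span k {v} :=
      lt_of_le_of_ne le_sup_left fun e => hvout (e ▸ Submodule.mem_sup_right (Submodule.mem_span_singleton_self v))
    have := Submodule.finrank_lt_finrank_of_lt hlt
    omega
  obtain ⟨φ, hφv, hφF⟩ := Submodule.exists_dual_map_eq_bot_of_notMem hvout inferInstance
  have hFker : F m ≤ LinearMap.ker φ := fun z hz => by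
    have : φ z ∈ (F m).map φ := ⟨z, hz, rfl⟩
    rw [hφF] at this
    exact (Submodule.mem_bot k).1 this
  refine ⟨fun i => φ (b i), ?_⟩
  rw [← cfun_eq_sum]
  refine isUnit_of_forall_point (k := k) _ fun g hg => ?_
  rw [apply_cfun] at hg
  -- the translate of `v` lies in the next step, off the hyperplane
  have hw : HopfRep.Comod.act k A V g v ∈ F m := by
    have h1 := act_mem (hsub (m + 1)) g hvin
    rw [hsup, Submodule.mem_sup] at h1
    obtain ⟨y, hy, z, hz, e⟩ := h1
    obtain ⟨c, rfl⟩ := Submodule.mem_span_singleton.1 hz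
    rw [← e, map_add, show φ y = 0 from hFker hy, zero_add, map_smul, smul_eq_mul] at hg
    rcases mul_eq_zero.1 hg with hc | hc
    · rw [← e, hc, zero_smul, add_zero]; exact hy
    · exact absurd hc hφv
  exact hvout (mem_of_act_mem (hsub m) g hw)

end Groth.L08.Borel
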