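import Groth.Agent.L08.Borel.MatAct
import Groth.Agent.L08.Borel.Quasi
import Groth.Agent.L19.AlgGrpBasic.GeomRedClosure

/-!
# The action of an affine group on the projective space of a comodule
-/

set_option autoImplicit false
set_option backward.isDefEq.respectTransparency.types false
set_option linter.style.haveILetI false

universe u

open CategoryTheory CategoryTheory.Limits MonoidalCategory CartesianMonoidalCategory MonObj AlgebraicGeometry
open TensorProduct WithConv CohB1

noncomputable section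

namespace Groth.L08.Borel

open Groth.L08.HomSpace

variable {k : Type u} [Field k]

local notation "U1" => 𝟙_ (Over (Spec (CommRingCat.of k)))

theorem coact_eq_sum {A : Type u} [CommRing A] [HopfAlgebra k A] {V : Type u} [AddCommGroup V] [Module k V]
    [HopfRep.Comod k A V] {σ : Type} [Fintype σ] (b : Module.Basis σ k V) (w : V) :
    HopfRep.Comod.coact (k := k) (A := A) w = ∑ i, b i ⊗ₜ[k] cfun A (b.coord i) w := by
  unfold cfun
  induction HopfRep.Comod.coact (k := k) (A := A) w using TensorProduct.induction_on with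
  | zero => simp
  | add p q hp hq => simp only [map_add, tmul_add, Finset.sum_add_distrib, ← hp, ← hq]
  | tmul p q =>
    simp only [LinearMap.rTensor_tmul, TensorProduct.lid_tmul, Module.Basis.coord_apply, ← smul_tmul,
      ← TensorProduct.sum_tmul, b.sum_repr]

theorem gPt_eq {A : Type u} [CommRing A] [HopfAlgebra k A] (g : A →ₐ[k] k) :
    gPt g = unitToSpec ≫ Spec.mapMulEquiv (toConv g) := by
  refine Over.OverMorphism.ext ?_
  show _ = 𝟙 _ ≫ Spec.map (CommRingCat.ofHom g.toRingHom)
  rw [Category.id_comp]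
  rfl

theorem gPt_mul {A : Type u} [CommRing A] [HopfAlgebra k A] (g h : WithConv (A →ₐ[k] k)) :
    gPt (g * h).ofConv = gPt g.ofConv * gPt h.ofConv := by
  simp only [gPt_eq]
  exact (congrArg (unitToSpec ≫ ·) (map_mul (Spec.mapMulEquiv (R := k) (S := A) (T := k)) g h)).trans
    (MonObj.comp_mul _ _ _)

theorem gPt_one {A : Type u} [CommRing A] [HopfAlgebra k A] :
    gPt (1 : WithConv (A →ₐ[k] k)).ofConv = (1 : U1 ⟶ specOf k A) := by
  rw [gPt_eq]
  exact (congrArg (unitToSpec ≫ ·) (map_one (Spec.mapMulEquiv (R := k) (S := A) (T := k)))).trans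
    (MonObj.comp_one _)

variable [IsAlgClosed k]

variable {A : Type u} [CommRing A] [HopfAlgebra k A] [Algebra.FiniteType k A]
  {V : Type u} [AddCommGroup V] [Module k V] [HopfRep.Comod k A V] {n : ℕ}

omit [IsAlgClosed k] [Algebra.FiniteType k A] in
theorem sum_cfun (b : Module.Basis (Fin (n + 1)) k V) (g : A →ₐ[k] k) (x : Fin (n + 1) → k) (i : Fin (n + 1)) :
    ∑ l, g (cfun A (b.coord i) (b l)) * x l = b.repr (HopfRep.Comod.act k A V g (b.equivFun.symm x)) i := by
  rw [Module.Basis.equivFun_symm_apply, map_sum, map_sum, Finsupp.coe_finsetSum, Finset.sum_apply]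
  refine Finset.sum_congr rfl fun l _ => ?_
  rw [apply_cfun, map_smul, map_smul, Finsupp.coe_smul, Pi.smul_apply, smul_eq_mul, mul_comm]
  rfl

omit [IsAlgClosed k] [Algebra.FiniteType k A] in
theorem act_injective (g : A →ₐ[k] k) : Function.Injective (HopfRep.Comod.act k A V g) := by
  rw [← LinearMap.ker_eq_bot, Submodule.eq_bot_iff]
  intro v hv
  have e : (toConv g)⁻¹ * toConv g = (1 : WithConv (A →ₐ[k] k)) := inv_mul_cancel _
  have h := LinearMap.congr_fun ((map_mul (ptAct (k := k) (A := A) V) _ _).symm.trans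
    ((congrArg (ptAct (k := k) (A := A) V) e).trans (map_one _))) v
  rw [Module.End.mul_apply, Module.End.one_apply] at h
  rw [← h, show ptAct (k := k) (A := A) V (toConv g) v = 0 from LinearMap.mem_ker.1 hv, map_zero]

omit [IsAlgClosed k] [Algebra.FiniteType k A] in
theorem exists_ne_zero_of_ne_zero (b : Module.Basis (Fin (n + 1)) k V) (g : A →ₐ[k] k) (x : Fin (n + 1) → k)
    (hx : x ≠ 0) : ∃ i, ∑ l, g (cfun A (b.coord i) (b l)) * x l ≠ 0 := by
  by_contra h
  push Not at h
  refine hx (b.equivFun.symm.injective (act_injective (A := A) g ?_))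
  rw [map_zero, map_zero]
  refine b.repr.injective (Finsupp.ext fun i => ?_)
  rw [← sum_cfun, h i, map_zero]
  rfl

omit [IsAlgClosed k] in
theorem exists_ne_zero_of_isUnit (x : Fin (n + 1) → k) (j : Fin (n + 1)) (hj : IsUnit (x j)) : x ≠ 0 :=
  fun e => hj.ne_zero (congrFun e j)

omit [Algebra.FiniteType k A] in
theorem isReduced_products [IsReduced (specOf k A).left] [LocallyOfFiniteType (specOf k A).hom] :
    IsReduced (specOf k A ⊗ specOf k A ⊗ PnOver k n).left ∧ IsReduced ((specOf k A ⊗ specOf k A) ⊗ PnOver k n).left ∧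
      IsReduced (U1 ⊗ PnOver k n).left := by
  haveI : IsProper (PnOver k n).hom := Groth.L18.PS.isProper_toSpec n k
  haveI : IsReduced (PnOver k n).left := by
    haveI : AlgebraicGeometry.IsIntegral (PnOver k n).left := Groth.L16.ProjSpace.isIntegral n k
    infer_instance
  haveI := Groth.L08.Chev.geometricallyReduced_of_reduced (specOf k A)
  haveI := Groth.L08.Chev.geometricallyReduced_of_reduced (PnOver k n)
  haveI := Groth.L19.AlgGrpBasic.geometricallyReduced_tensor (specOf k A) (specOf k A)
  haveI := Groth.L19.AlgGrpBasic.geometricallyReduced_tensor (specOf k A) (PnOver k n)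
  haveI : LocallyOfFiniteType (specOf k A ⊗ specOf k A).hom :=
    inferInstanceAs (LocallyOfFiniteType (pullback.fst (specOf k A).hom (specOf k A).hom ≫ (specOf k A).hom))
  haveI : IsReduced (U1).left := inferInstanceAs (IsReduced (Spec (CommRingCat.of k)))
  haveI : LocallyOfFiniteType (U1).hom := inferInstanceAs (LocallyOfFiniteType (𝟙 (Spec (CommRingCat.of k))))
  haveI := Groth.L08.Chev.geometricallyReduced_of_reduced U1
  haveI := Groth.L19.AlgGrpBasic.geometricallyReduced_tensor U1 (PnOver k n)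
  haveI := Groth.L19.AlgGrpBasic.geometricallyReduced_tensor (specOf k A ⊗ specOf k A) (PnOver k n)
  haveI := Groth.L19.AlgGrpBasic.geometricallyReduced_tensor (specOf k A) (specOf k A ⊗ PnOver k n)
  exact ⟨Groth.L19.AlgGrpBasic.isReduced_left _, Groth.L19.AlgGrpBasic.isReduced_left _,
    Groth.L19.AlgGrpBasic.isReduced_left _⟩

/-- the action of the group on the projective space of a comodule -/
theorem exists_lineAction [IsReduced (specOf k A).left] [LocallyOfFiniteType (specOf k A).hom]
    (b : Module.Basis (Fin (n + 1)) k V) :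
    ∃ a : AlgGrp.Action (specOf k A) (PnOver k n), ∀ (g : A →ₐ[k] k) (x : Fin (n + 1) → k) (j : Fin (n + 1))
      (hj : IsUnit (x j)) (i : Fin (n + 1)) (hi : IsUnit (b.repr (HopfRep.Comod.act k A V g (b.equivFun.symm x)) i)),
      lift (gPt g) (vPt x j hj) ≫ a.act = vPt (fun m => b.repr (HopfRep.Comod.act k A V g (b.equivFun.symm x)) m) i hi := by
  classical
  obtain ⟨act, hact⟩ := exists_matMap (fun m l => cfun A (b.coord m) (b l)) (exists_ne_zero_of_ne_zero b)
  have hM : ∀ (g : A →ₐ[k] k) (x : Fin (n + 1) → k) (j : Fin (n + 1)) (hj : IsUnit (x j)) (i : Fin (n + 1))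
      (hi : IsUnit (b.repr (HopfRep.Comod.act k A V g (b.equivFun.symm x)) i)),
      lift (gPt g) (vPt x j hj) ≫ act = vPt (fun m => b.repr (HopfRep.Comod.act k A V g (b.equivFun.symm x)) m) i hi := by
    intro g x j hj i hi
    have hi' : IsUnit (∑ l, g (cfun A (b.coord i) (b l)) * x l) := by rw [sum_cfun]; exact hi
    rw [hact g x j hj i hi']
    exact vPt_congr 1 (fun m => by rw [_root_.one_mul, sum_cfun]) i i hi hi'
  have hex : ∀ (g : A →ₐ[k] k) (x : Fin (n + 1) → k) (j : Fin (n + 1)), IsUnit (x j) →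
      ∃ i, IsUnit (b.repr (HopfRep.Comod.act k A V g (b.equivFun.symm x)) i) := by
    intro g x j hj
    obtain ⟨i, hi⟩ := exists_ne_zero_of_ne_zero (A := A) b g x (exists_ne_zero_of_isUnit x j hj)
    exact ⟨i, isUnit_iff_ne_zero.2 (by rwa [sum_cfun] at hi)⟩
  haveI : IsProper (PnOver k n).hom := Groth.L18.PS.isProper_toSpec n k
  obtain ⟨r3, r3', r2⟩ := isReduced_products (k := k) (A := A) (n := n)
  haveI := r2; haveI := r3'
  haveI : LocallyOfFiniteType (specOf k A ⊗ specOf k A).hom :=
    inferInstanceAs (LocallyOfFiniteType (pullback.fst (specOf k A).hom (specOf k A).hom ≫ (specOf k A).hom))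
  haveI : LocallyOfFiniteType ((specOf k A ⊗ specOf k A) ⊗ PnOver k n).hom :=
    inferInstanceAs (LocallyOfFiniteType (pullback.fst (specOf k A ⊗ specOf k A).hom (PnOver k n).hom ≫ _))
  haveI : LocallyOfFiniteType (U1).hom := inferInstanceAs (LocallyOfFiniteType (𝟙 (Spec (CommRingCat.of k))))
  haveI : LocallyOfFiniteType (U1 ⊗ PnOver k n).hom :=
    inferInstanceAs (LocallyOfFiniteType (pullback.fst (U1).hom (PnOver k n).hom ≫ _))
  have hone : (η[specOf k A] ▷ PnOver k n) ≫ act = (λ_ (PnOver k n)).hom := by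
    refine hom_ext_pts _ _ fun t => ?_
    obtain ⟨x, j, hj, hx⟩ := exists_vPt (t ≫ snd U1 (PnOver k n))
    have hv : b.equivFun.symm x = HopfRep.Comod.act k A V (1 : WithConv (A →ₐ[k] k)).ofConv (b.equivFun.symm x) :=
      (LinearMap.congr_fun (map_one (ptAct (k := k) (A := A) V)) _).symm
    have e : t ≫ (η[specOf k A] ▷ PnOver k n) = lift (gPt (1 : WithConv (A →ₐ[k] k)).ofConv) (vPt x j hj) := by
      refine CartesianMonoidalCategory.hom_ext _ _ ?_ ?_
      · rw [Category.assoc, whiskerRight_fst, lift_fst, gPt_one, MonObj.one_eq_one, MonObj.comp_one,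
          MonObj.comp_one]
      · rw [Category.assoc, whiskerRight_snd, lift_snd, hx]
    obtain ⟨i, hi⟩ := hex (1 : WithConv (A →ₐ[k] k)).ofConv x j hj
    rw [← Category.assoc, e, hM _ x j hj i hi, leftUnitor_hom, ← hx]
    refine vPt_congr 1 (fun m => ?_) j i hj hi
    rw [_root_.one_mul, ← hv, ← Module.Basis.equivFun_apply, LinearEquiv.apply_symm_apply]
  have hmul : (μ[specOf k A] ▷ PnOver k n) ≫ act =
      (α_ (specOf k A) (specOf k A) (PnOver k n)).hom ≫ (specOf k A ◁ act) ≫ act := by
    refine hom_ext_pts _ _ fun t => ?_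
    obtain ⟨g, hg⟩ := exists_gPt (t ≫ fst _ _ ≫ fst (specOf k A) (specOf k A))
    obtain ⟨h, hh⟩ := exists_gPt (t ≫ fst _ _ ≫ snd (specOf k A) (specOf k A))
    obtain ⟨x, j, hj, hx⟩ := exists_vPt (t ≫ snd (specOf k A ⊗ specOf k A) (PnOver k n))
    have hgh : gPt (toConv g * toConv h).ofConv = gPt g * gPt h := gPt_mul _ _
    have e1 : t ≫ (μ[specOf k A] ▷ PnOver k n) = lift (gPt (toConv g * toConv h).ofConv) (vPt x j hj) := by
      refine CartesianMonoidalCategory.hom_ext _ _ ?_ ?_
      · rw [Category.assoc, whiskerRight_fst, lift_fst, hgh, hg, hh, Hom.mul_def, ← comp_lift, ← comp_lift,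
          lift_fst_snd, Category.comp_id, Category.assoc]
      · rw [Category.assoc, whiskerRight_snd, lift_snd, hx]
    obtain ⟨i, hi⟩ := hex h x j hj
    have e2 : t ≫ (α_ (specOf k A) (specOf k A) (PnOver k n)).hom ≫ (specOf k A ◁ act) =
        lift (gPt g) (vPt (fun m => b.repr (HopfRep.Comod.act k A V h (b.equivFun.symm x)) m) i hi) := by
      refine CartesianMonoidalCategory.hom_ext _ _ ?_ ?_
      · simp only [Category.assoc, whiskerLeft_fst, associator_hom_fst, lift_fst, hg]
      · simp only [Category.assoc, whiskerLeft_snd, lift_snd]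
        rw [← hM h x j hj i hi, hh, hx, ← Category.assoc, ← Category.assoc]
        congr 1
        refine CartesianMonoidalCategory.hom_ext _ _ ?_ ?_ <;> simp
    obtain ⟨l, hl⟩ := hex (toConv g * toConv h).ofConv x j hj
    obtain ⟨m', hm'⟩ := hex g (fun m => b.repr (HopfRep.Comod.act k A V h (b.equivFun.symm x)) m) i hi
    rw [← Category.assoc, e1, hM _ x j hj l hl, ← Category.assoc (α_ _ _ _).hom, ← Category.assoc t, e2,
      hM g _ i hi m' hm']
    refine vPt_congr 1 (fun m => ?_) m' l hm' hl
    rw [_root_.one_mul]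
    have e3 : b.equivFun.symm (fun m => b.repr (HopfRep.Comod.act k A V h (b.equivFun.symm x)) m) =
        HopfRep.Comod.act k A V h (b.equivFun.symm x) := b.equivFun.symm_apply_apply _
    rw [e3]
    exact congrArg (fun v => b.repr v m) (LinearMap.congr_fun (map_mul (ptAct (k := k) (A := A) V) (toConv g) (toConv h)) _)
  exact ⟨{ act := act, one_act := hone, mul_act := hmul }, hM⟩

/-- a fixed point gives a stable line -/
theorem isSubcomod_of_forall_smul [_root_.IsReduced A] (b : Module.Basis (Fin (n + 1)) k V) (w : V) (j : Fin (n + 1))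
    (hj : b.repr w j ≠ 0) (h : ∀ g : A →ₐ[k] k, ∃ c : k, HopfRep.Comod.act k A V g w = c • w) :
    HopfRep.IsSubcomod (k := k) (A := A) (Submodule.span k {w}) := by
  let u : A := (b.repr w j)⁻¹ • cfun A (b.coord j) w
  haveI : IsJacobsonRing A := isJacobsonRing_of_finiteType (A := k)
  have key : ∀ i, cfun A (b.coord i) w = (b.repr w i) • u := by
    intro i
    rw [← sub_eq_zero]
    have hJ : (⊥ : Ideal A).jacobson = ⊥ := IsJacobsonRing.out ‹IsJacobsonRing A›
      (fun r hr => by obtain ⟨m, hm⟩ := hr; exact (Submodule.mem_bot A).2 (IsReduced.eq_zero r ⟨m, (Submodule.mem_bot A).1 hm⟩))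
    have hmem : cfun A (b.coord i) w - b.repr w i • u ∈ (⊥ : Ideal A).jacobson := by
      rw [Ideal.jacobson, Submodule.mem_sInf]
      rintro P ⟨-, hP⟩
      haveI := hP
      obtain ⟨χ, hχ⟩ := exists_algHom_of_isMaximal (k := k) P
      have h0 : χ (cfun A (b.coord i) w - b.repr w i • u) = 0 := by
        obtain ⟨c, hc⟩ := h χ
        simp only [u, map_sub, map_smul, apply_cfun, hc, Module.Basis.coord_apply,
          smul_eq_mul]
        field_simp
        ring
      have := hχ (cfun A (b.coord i) w - b.repr w i • u)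
      rwa [h0, map_zero, sub_zero] at this
    rw [hJ] at hmem
    exact (Submodule.mem_bot A).1 hmem
  intro z hz
  obtain ⟨c, rfl⟩ := Submodule.mem_span_singleton.1 hz
  rw [map_smul]
  refine Submodule.smul_mem _ c ?_
  rw [coact_eq_sum b]
  simp only [key, ← smul_tmul, ← TensorProduct.sum_tmul, b.sum_repr]
  exact ⟨(⟨w, Submodule.mem_span_singleton_self w⟩ : Submodule.span k {w}) ⊗ₜ u, rfl⟩

end Groth.L08.Borel
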