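import Groth.Agent.L08.Borel.MaxTori
import Groth.Agent.L08.Borel.LineAct
import Groth.Agent.L08.Borel.Quasi
import Groth.Agent.L08.Borel.Geom
import Groth.Agent.L08.Rosen.RedSub
import Groth.Agent.L01.MultConj.Descent

/-!
# A connected group whose tori are central is solvable
-/

set_option autoImplicit false
set_option backward.isDefEq.respectTransparency.types false
set_option linter.style.haveILetI false
set_option linter.unusedSectionVars false

universe u

open CategoryTheory CategoryTheory.Limits MonoidalCategory CartesianMonoidalCategory MonObj GrpObj AlgebraicGeometry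
open TensorProduct WithConv
open Groth.L25.Bridge (P)
open Groth.L08.TorusQuot (sp sp_left sp_comp exists_sp toPt toPt_pre SP Pt pre spA)

noncomputable section

namespace Groth.L08.Borel

open Groth.L08.HomSpace

variable {k : Type u} [Field k] [IsAlgClosed k]

local notation "U1" => 𝟙_ (Over (Spec (CommRingCat.of k)))

/-- a character of a Borel subgroup trivial on its tori is trivial -/
theorem groupLike_trivial {A B : Type u} [CommRing A] [HopfAlgebra k A] [CommRing B] [HopfAlgebra k B]
    [Algebra.FiniteType k A] [_root_.IsReduced A]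
    (ψ : B →ₐc[k] A) (J : Ideal A) [J.IsHopfIdeal k]
    (hJ : J = Ideal.map (ψ : B →+* A) (RingHom.ker (Bialgebra.counitAlgHom k B)))
    (hU : HopfRep.IsUnipotent k (A ⧸ J)) (r : A →ₐc[k] B) (hr : r.comp ψ = BialgHom.id k B)
    (f : A) (hf1 : (1 : WithConv (A →ₐ[k] k)).ofConv f = 1)
    (hf : ∀ x y : WithConv (A →ₐ[k] k), (x * y).ofConv f = x.ofConv f * y.ofConv f)
    (htor : ∀ x : WithConv (A →ₐ[k] k), (pre r (pre ψ x)).ofConv f = 1) (x : WithConv (A →ₐ[k] k)) :
    x.ofConv f = 1 := by
  have hg : IsGroupLikeElem k f := by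
    refine ⟨?_, ?_⟩
    · rw [AlgHom.convOne_def] at hf1
      simpa using hf1
    · rw [← sub_eq_zero]
      refine Groth.L01.MultConj.eq_zero_of_points₂ (k := k) (K := k) fun v w => ?_
      rw [map_sub, sub_eq_zero, Algebra.TensorProduct.lift_tmul]
      have := hf (toConv v) (toConv w)
      rw [AlgHom.convMul_apply] at this
      exact this
  rw [← groupLike_mem_range ψ J hJ hU r hr hg]
  exact htor x

section Line

variable {A : Type u} [CommRing A] [HopfAlgebra k A] [Algebra.FiniteType k A] [_root_.IsReduced A]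
  {V : Type u} [AddCommGroup V] [Module k V] [HopfRep.Comod k A V] [Module.Finite k V]

theorem ptAct_eq (g : WithConv (A →ₐ[k] k)) (v : V) :
    ptAct (k := k) (A := A) V g v = HopfRep.Comod.act k A V g.ofConv v := rfl

theorem stabilizesLine_iff_act (v : V) (g : A →ₐ[k] k) :
    SGA3.StabilizesLine k A v k g ↔ ∃ c : k, HopfRep.Comod.act k A V g v = c • v := by
  have e : HopfRep.Comod.act k A V g v =
      TensorProduct.rid k V (g.toLinearMap.lTensor V (HopfRep.Comod.coact (k := k) (A := A) v)) := rfl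
  refine exists_congr fun c => ⟨fun h => ?_, fun h => ?_⟩
  · rw [e, h, TensorProduct.rid_tmul]
  · refine (TensorProduct.rid k V).injective ?_
    rw [TensorProduct.rid_tmul, ← e, h]

/-- the functions cutting out the line, twisted so as to be invariant: the pointwise algebra -/
theorem exists_invariant (v : V) (hv : v ≠ 0) :
    ∃ (d : ℕ) (F : (V →ₗ[k] k) → A) (δ : WithConv (A →ₐ[k] k) →* kˣ),
      0 < d ∧ (∀ φ g, g.ofConv (F φ) * (δ g : k) = φ (ptAct (k := k) (A := A) V g v) ^ d) ∧
      ∀ (t : WithConv (A →ₐ[k] k)) (χ : k), (∀ g, t * g = g * t) → ptAct (k := k) (A := A) V t v = χ • v →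
        (δ t : k) = χ ^ d := by
  classical
  let act := ptAct (k := k) (A := A) V
  let W : Submodule k V := Submodule.span k (Set.range fun g => act g v)
  have hW : ∀ g, ∀ w ∈ W, act g w ∈ W := by
    intro g w hw
    have : (W.map (act g)) ≤ W := by
      rw [Submodule.map_span, Submodule.span_le]
      rintro _ ⟨_, ⟨h, rfl⟩, rfl⟩
      refine Submodule.subset_span ⟨g * h, ?_⟩
      show act (g * h) v = act g (act h v)
      rw [map_mul]; rfl
    exact this ⟨w, hw, rfl⟩
  let n := Module.finrank k W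
  let b : Module.Basis (Fin n) k W := Module.finBasis k W
  obtain ⟨p, hp⟩ := W.subtype.exists_leftInverse_of_injective (Submodule.ker_subtype W)
  let M : Matrix (Fin n) (Fin n) A := fun i j => cfun A ((b.coord i).comp p) (b j : V)
  let res : WithConv (A →ₐ[k] k) → (W →ₗ[k] W) := fun g => (act g).restrict (hW g)
  have hM : ∀ g : WithConv (A →ₐ[k] k), g.ofConv M.det = LinearMap.det (res g) := by
    intro g
    rw [AlgHom.map_det, ← LinearMap.det_toMatrix b]
    congr 1
    ext i j
    rw [AlgHom.mapMatrix_apply, Matrix.map_apply, LinearMap.toMatrix_apply, show g.ofConv (M i j) = _ from apply_cfun _ _ _]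
    show b.coord i (p (act g (b j : V))) = b.repr (res g (b j)) i
    have e : p (act g (b j : V)) = res g (b j) := LinearMap.congr_fun hp (res g (b j))
    rw [e]; rfl
  have hmul : ∀ g h, res (g * h) = res g * res h := fun g h => by
    refine LinearMap.ext fun w => Subtype.ext ?_
    show act (g * h) w.1 = act g (act h w.1)
    rw [map_mul]; rfl
  have hone : res 1 = 1 := by
    refine LinearMap.ext fun w => Subtype.ext ?_
    show act 1 w.1 = w.1
    rw [map_one]; rfl
  let δ₀ : WithConv (A →ₐ[k] k) →* k :=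
    { toFun := fun g => LinearMap.det (res g)
      map_one' := by rw [hone, map_one]
      map_mul' := fun g h => by rw [hmul, map_mul] }
  let δ : WithConv (A →ₐ[k] k) →* kˣ := δ₀.toHomUnits
  have hu : IsUnit M.det := isUnit_of_forall_point (k := k) _ fun g => by
    rw [show g M.det = (δ (toConv g) : k) from hM (toConv g)]
    exact (δ (toConv g)).ne_zero
  have hn : 0 < n := by
    refine Module.finrank_pos_iff.2 ?_
    rw [Submodule.nontrivial_iff_ne_bot]
    refine fun h0 => hv ?_
    have h1 : v ∈ W := Submodule.subset_span ⟨1, by show act 1 v = v; rw [map_one]; rfl⟩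
    rw [h0] at h1
    exact (Submodule.mem_bot k).1 h1
  refine ⟨n, fun φ => cfun A φ v ^ n * ((hu.unit⁻¹ : Aˣ) : A), δ, hn, fun φ g => ?_, fun t χ ht hχ => ?_⟩
  · rw [map_mul, map_pow, apply_cfun, show (δ g : k) = g.ofConv M.det from (hM g).symm, _root_.mul_assoc,
      ← map_mul, IsUnit.val_inv_mul, map_one, _root_.mul_one]
    rfl
  · show LinearMap.det (res t) = χ ^ n
    have hscal : res t = χ • LinearMap.id := by
      refine LinearMap.ext fun w => Subtype.ext ?_
      show act t w.1 = χ • w.1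
      refine Submodule.span_induction (fun x hx => ?_) (by rw [map_zero, smul_zero])
        (fun x y _ _ hx hy => by rw [map_add, hx, hy, smul_add])
        (fun a x _ hx => by rw [map_smul, hx, smul_comm]) w.2
      obtain ⟨g, rfl⟩ := hx
      show act t (act g v) = χ • act g v
      rw [← Module.End.mul_apply, ← map_mul, ht g, map_mul, Module.End.mul_apply, hχ, map_smul]
    rw [hscal, LinearMap.det_smul, LinearMap.det_id, _root_.mul_one]

end Line

/-- A connected affine group whose tori are central is equal to its Borel subgroups. -/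
theorem isSolvableGrp_of_central_tori {H : Over (Spec (CommRingCat.of k))} [GrpObj H] [IsAffine H.left]
    [Smooth H.hom] [ConnectedSpace H.left]
    (hcen : ∀ (S : Over (Spec (CommRingCat.of k))) [GrpObj S] (j : S ⟶ H) [IsMonHom j] [Mono j], Red.IsTorus S →
      ∀ (s : U1 ⟶ S) (h : U1 ⟶ H), (s ≫ j) * h = h * (s ≫ j)) : Red.IsSolvableGrp H := by
  haveI : LocallyOfFiniteType H.hom := inferInstance
  haveI : QuasiCompact H.hom := quasiCompact_of_compactSpace _
  haveI : IsReduced H.left := Groth.Agent.AV.isReduced_of_smooth_field H.hom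
  obtain ⟨B, gB, iB, hB⟩ := exists_borel H
  haveI := hB.1; haveI := hB.2.1; haveI := hB.2.2.1; haveI := hB.2.2.2.1
  haveI : Mono iB := Groth.L08.mono_of_closedImmersion iB
  haveI : IsAffine B.left := isAffine_of_isAffineHom iB.left
  haveI : LocallyOfFiniteType B.hom := inferInstance
  haveI : IsReduced B.left := Groth.Agent.AV.isReduced_of_smooth_field B.hom
  -- Hopf algebras
  obtain ⟨A, _, _, ⟨eH⟩⟩ := Groth.L25.Bridge.exists_hopf H
  let ψH : H ⟶ P k A := eH.hom.hom.hom
  let φH : P k A ⟶ H := eH.inv.hom.hom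
  have hψφ : ψH ≫ φH = 𝟙 H := congrArg (fun f => f.hom.hom) eH.hom_inv_id
  have hφψ : φH ≫ ψH = 𝟙 _ := congrArg (fun f => f.hom.hom) eH.inv_hom_id
  haveI : IsMonHom ψH := eH.hom.hom.isMonHom_hom
  haveI : IsMonHom φH := eH.inv.hom.isMonHom_hom
  haveI : IsIso ψH := ⟨φH, hψφ, hφψ⟩
  haveI : IsIso φH := ⟨ψH, hφψ, hψφ⟩
  haveI : IsIso ψH.left := inferInstanceAs (IsIso ((Over.forget _).map ψH))
  haveI : IsIso φH.left := inferInstanceAs (IsIso ((Over.forget _).map φH))
  haveI hft : LocallyOfFiniteType (P k A).hom := by rw [← Over.w φH]; infer_instance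
  haveI : Algebra.FiniteType k A := by
    change LocallyOfFiniteType (Spec.map (CommRingCat.ofHom (algebraMap k A))) at hft
    rwa [HasRingHomProperty.Spec_iff (P := @LocallyOfFiniteType), CommRingCat.hom_ofHom,
      RingHom.finiteType_algebraMap] at hft
  let φl : Spec (CommRingCat.of A) ⟶ H.left := φH.left
  haveI : IsIso φl := ‹IsIso φH.left›
  haveI : IsReduced (Spec (CommRingCat.of A)) := isReduced_of_isOpenImmersion φl
  haveI : _root_.IsReduced A := affine_isReduced_iff (CommRingCat.of A) |>.1 inferInstance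
  obtain ⟨AB, _, _, hftB, hredB, hconnB, hsolvB, ⟨eB⟩⟩ := exists_hopf_data hB.2.2.2.2.1
  obtain ⟨T₀, _, _, ψ, J, _, r, nT, hψ, -, hJ, hU, hr, ⟨eT⟩⟩ := exists_retraction (k := k) hconnB
  have hrs : Function.Surjective r := fun b => ⟨ψ b, congrArg (fun f : T₀ →ₐc[k] T₀ => f b) hr⟩
  let φB : P k AB ⟶ B := eB.inv.hom.hom
  let ψB : B ⟶ P k AB := eB.hom.hom.hom
  have hψφB : ψB ≫ φB = 𝟙 B := congrArg (fun f => f.hom.hom) eB.hom_inv_id
  haveI : IsMonHom φB := eB.inv.hom.isMonHom_hom
  haveI : IsIso φB := ⟨ψB, congrArg (fun f => f.hom.hom) eB.inv_hom_id, hψφB⟩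
  obtain ⟨c, hc⟩ := exists_sp (φB ≫ iB ≫ ψH)
  -- the line
  haveI : IsClosedImmersion (iB ≫ ψH).left := inferInstanceAs (IsClosedImmersion (iB.left ≫ ψH.left))
  obtain ⟨I, hI, hpts⟩ := exists_hopfIdeal (A := A) (iB ≫ ψH : B ⟶ specOf k A)
  haveI := hI
  obtain ⟨V, _, _, _, hfin, v, hv, hrep⟩ := Chevalley.exists_line (k := k) I
  have heig : ∀ x : WithConv (AB →ₐ[k] k), ∃ a : k, ptAct (k := k) (A := A) V (pre c x) v = a • v := fun x => by
    refine (stabilizesLine_iff_act v (pre c x).ofConv).1 ((hrep k _).1 ((hpts k (pre c x)).1 ⟨toPt x ≫ φB, ?_⟩))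
    show (toPt x ≫ φB) ≫ iB ≫ ψH = toPt (pre c x)
    rw [toPt_pre, hc]
    simp only [Category.assoc]
  choose χ hχ using heig
  obtain ⟨d, F, δ, hd, hF, hδ⟩ := exists_invariant (k := k) (A := A) v hv
  obtain ⟨φ₀, hφ₀⟩ : ∃ φ : V →ₗ[k] k, φ v = 1 := by
    obtain ⟨φ, hφ⟩ := LinearMap.exists_leftInverse_of_injective (LinearMap.toSpanSingleton k V v)
      (LinearMap.ker_toSpanSingleton k hv)
    exact ⟨φ, by simpa using LinearMap.congr_fun hφ 1⟩
  have hχmul : ∀ x y, χ (x * y) = χ x * χ y := fun x y => by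
    have h1 := congrArg φ₀ (hχ (x * y))
    rw [map_mul, map_mul, Module.End.mul_apply, hχ, map_smul, hχ, map_smul, map_smul, hφ₀] at h1
    simp only [smul_eq_mul, _root_.mul_one, map_smul, hφ₀] at h1
    rw [← h1, _root_.mul_comm]
  have hFc : ∀ x : WithConv (AB →ₐ[k] k), (pre c x).ofConv (F φ₀) * (δ (pre c x) : k) = χ x ^ d := fun x => by
    rw [hF, hχ, map_smul, hφ₀, smul_eq_mul, _root_.mul_one]
  -- tori of the Borel subgroup are central
  have htor : ∀ x : WithConv (AB →ₐ[k] k), ∀ g : WithConv (A →ₐ[k] k),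
      pre c (pre r (pre ψ x)) * g = g * pre c (pre r (pre ψ x)) := fun x g => by
    haveI : IsClosedImmersion (Spec.map (CommRingCat.ofHom (r : AB →+* T₀))) :=
      IsClosedImmersion.spec_of_surjective _ hrs
    haveI : IsClosedImmersion (sp r).left := ‹IsClosedImmersion (Spec.map (CommRingCat.ofHom (r : AB →+* T₀)))›
    haveI : Mono (sp r) := Groth.L08.mono_of_closedImmersion _
    let j : P k T₀ ⟶ H := sp r ≫ φB ≫ iB
    haveI : Mono j := mono_comp _ _
    haveI : IsMonHom j := inferInstanceAs (IsMonHom (sp r ≫ φB ≫ iB))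
    have hce := hcen (P k T₀) j (isTorus_of_laurent eT) (unitToSpec ≫ toPt (pre ψ x)) (unitToSpec ≫ toPt g ≫ φH)
    have e1 : toPt (pre c (pre r (pre ψ x))) ≫ φH = toPt (pre ψ x) ≫ j := by
      rw [toPt_pre, toPt_pre, hc]
      simp only [j, Category.assoc, hψφ, Category.comp_id]
    haveI : IsIso (unitToSpec (k := k)).left := inferInstanceAs (IsIso (𝟙 (Spec (CommRingCat.of k))))
    haveI : IsIso ((Over.forget _).map (unitToSpec (k := k))) := ‹_›
    haveI : IsIso (unitToSpec (k := k)) := isIso_of_reflects_iso _ (Over.forget _)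
    rw [Category.assoc, ← e1, ← MonObj.comp_mul, ← MonObj.comp_mul, cancel_epi, ← MonObj.mul_comp,
      ← MonObj.mul_comp, cancel_mono] at hce
    refine (Spec.mapMulEquiv (R := k) (S := A) (T := k)).injective ?_
    exact ((map_mul _ _ _).trans hce).trans (map_mul _ _ _).symm
  have hδt : ∀ x : WithConv (AB →ₐ[k] k),
      (δ (pre c (pre r (pre ψ x))) : k) = χ (pre r (pre ψ x)) ^ d := fun x =>
    hδ _ _ (htor x) (hχ _)
  -- the twisted character of the Borel subgroup is trivial
  have hB1 : ∀ x : WithConv (AB →ₐ[k] k), (pre c x).ofConv (F φ₀) = 1 := by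
    intro x
    refine groupLike_trivial (A := AB) ψ J hJ hU r hr (c (F φ₀)) ?_ (fun y z => ?_) (fun y => ?_) x
    · have h1 := hF φ₀ 1
      simp only [map_one, Module.End.one_apply, hφ₀, one_pow, Units.val_one, _root_.mul_one] at h1
      rw [← Groth.L08.TorusQuot.pre_apply, map_one]
      exact h1
    · show (pre c (y * z)).ofConv (F φ₀) = (pre c y).ofConv (F φ₀) * (pre c z).ofConv (F φ₀)
      refine mul_right_cancel₀ (δ (pre c (y * z))).ne_zero ?_
      rw [hFc, hχmul, mul_pow, ← hFc, ← hFc, map_mul, map_mul, Units.val_mul]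
      ring
    · show (pre c (pre r (pre ψ y))).ofConv (F φ₀) = 1
      refine mul_right_cancel₀ (δ (pre c (pre r (pre ψ y)))).ne_zero ?_
      rw [hFc, _root_.one_mul, hδt]
  have hδB : ∀ x : WithConv (AB →ₐ[k] k), (δ (pre c x) : k) = χ x ^ d := fun x => by
    rw [← hFc, hB1, _root_.one_mul]
  -- invariance under the Borel subgroup
  have hinv : ∀ φ (g : WithConv (A →ₐ[k] k)) (x : WithConv (AB →ₐ[k] k)),
      (g * pre c x).ofConv (F φ) = g.ofConv (F φ) := fun φ g x => by
    refine mul_right_cancel₀ (δ (g * pre c x)).ne_zero ?_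
    rw [hF, map_mul, Module.End.mul_apply, hχ, map_smul, map_smul, smul_eq_mul, mul_pow, ← hF, ← hδB, map_mul δ g,
      Units.val_mul]
    ring
  -- the quotient is connected and proper, so invariant functions are constant
  obtain ⟨X, a, o, hX⟩ := exists_isQuotient iB
  haveI := isProper_quotient_of_borel hB hX
  have hcb : Function.Bijective X.hom.appTop.hom := by
    haveI : Smooth X.hom := Groth.Agent.S7993.result k H B X iB a o hX
    haveI : IsReduced X.left := Groth.Agent.AV.isReduced_of_smooth_field X.hom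
    haveI := hX.2.2.1
    haveI : ConnectedSpace X.left := (a.orbitMap o).left.surjective.connectedSpace (a.orbitMap o).left.continuous
    exact Groth.L08.FibreTranslate.bijective_appTop X o
  haveI : CompactSpace X.left := QuasiCompact.compactSpace_of_compactSpace X.hom
  haveI : IsIso (unitToSpec (k := k)).left := inferInstanceAs (IsIso (𝟙 (Spec (CommRingCat.of k))))
  haveI : IsIso ((Over.forget _).map (unitToSpec (k := k))) := ‹_›
  haveI : IsIso (unitToSpec (k := k)) := isIso_of_reflects_iso _ (Over.forget _)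
  have hpt : ∀ u : U1 ⟶ H, ∃ g : WithConv (A →ₐ[k] k), u = unitToSpec ≫ toPt g ≫ φH := fun u => by
    obtain ⟨g, hg⟩ := (Spec.mapMulEquiv (R := k) (S := A) (T := k)).surjective (inv unitToSpec ≫ u ≫ ψH)
    refine ⟨g, ?_⟩
    rw [show toPt g = inv unitToSpec ≫ u ≫ ψH from hg]
    simp only [Category.assoc, IsIso.hom_inv_id_assoc, hψφ, Category.comp_id]
  have hptB : ∀ u : U1 ⟶ B, ∃ x : WithConv (AB →ₐ[k] k), u ≫ iB = unitToSpec ≫ toPt (pre c x) ≫ φH := fun u => by
    obtain ⟨x, hx⟩ := (Spec.mapMulEquiv (R := k) (S := AB) (T := k)).surjective (inv unitToSpec ≫ u ≫ ψB)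
    refine ⟨x, ?_⟩
    rw [toPt_pre, show toPt x = inv unitToSpec ≫ u ≫ ψB from hx, hc]
    simp only [Category.assoc, IsIso.hom_inv_id_assoc, reassoc_of% hψφB, hψφ, Category.comp_id]
  have hconst : ∀ φ (g : WithConv (A →ₐ[k] k)), g.ofConv (F φ) = (1 : WithConv (A →ₐ[k] k)).ofConv (F φ) := by
    intro φ g
    let Z : Over (Spec (CommRingCat.of k)) := SP k (Polynomial k)
    haveI : IsAffine Z.left := inferInstanceAs (IsAffine (Spec _))
    let fH : H ⟶ Z := ψH ≫ spA (Polynomial.aeval (F φ))
    have hev : ∀ y : WithConv (A →ₐ[k] k), (unitToSpec ≫ toPt y ≫ φH) ≫ fH =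
        unitToSpec ≫ spA y.ofConv ≫ spA (Polynomial.aeval (F φ)) := fun y => by
      simp only [fH, Category.assoc, reassoc_of% hφψ]
      rfl
    haveI : IsReduced (H ⊗ B).left := Groth.L08.Rosen.isReduced_tensor H B
    haveI : LocallyOfFiniteType (H ⊗ B).hom := by
      show LocallyOfFiniteType (pullback.fst H.hom B.hom ≫ H.hom)
      infer_instance
    have hmor : (fst H B * (snd H B ≫ iB)) ≫ fH = fst H B ≫ fH := by
      refine hom_ext_pts _ _ fun t => ?_
      obtain ⟨y, hy⟩ := hpt (t ≫ fst H B)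
      obtain ⟨x, hx⟩ := hptB (t ≫ snd H B)
      rw [← Category.assoc t _ fH, MonObj.comp_mul, ← Category.assoc t (snd H B) iB, ← Category.assoc t (fst H B) fH,
        hx, hy, ← MonObj.comp_mul, ← MonObj.mul_comp, ← map_mul (Spec.mapMulEquiv (R := k) (S := A) (T := k))]
      rw [hev, hev]
      refine congrArg (unitToSpec ≫ ·) (Over.OverMorphism.ext ?_)
      show Spec.map _ ≫ Spec.map _ = Spec.map _ ≫ Spec.map _
      rw [← Spec.map_comp, ← Spec.map_comp, ← CommRingCat.ofHom_comp, ← CommRingCat.ofHom_comp]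
      refine congrArg Spec.map (congrArg CommRingCat.ofHom ?_)
      refine congrArg AlgHom.toRingHom (show (y * pre c x).ofConv.comp (Polynomial.aeval (F φ)) =
        y.ofConv.comp (Polynomial.aeval (F φ)) from Polynomial.algHom_ext ?_)
      simp [hinv]
    have h1 := orbit_invariant_const hX (T := U1) (snd U1 H ≫ fH) (by
      intro W t x y hxy
      obtain ⟨z, hz⟩ := hxy
      rw [lift_snd_assoc, lift_snd_assoc]
      have := lift x z ≫= hmor
      rw [lift_fst_assoc, ← Category.assoc, MonObj.comp_mul, lift_fst, lift_snd_assoc, hz, mul_inv_cancel_left] at this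
      exact this.symm)
      (hQc := hcb)
    have h2 := lift (𝟙 U1) (unitToSpec ≫ toPt g ≫ φH) ≫= h1
    rw [lift_snd_assoc, lift_fst_assoc, Category.id_comp, lift_snd_assoc, hev] at h2
    have e1 : (1 : U1 ⟶ H) = unitToSpec ≫ toPt (1 : WithConv (A →ₐ[k] k)) ≫ φH := by
      rw [Groth.L08.TorusQuot.toPt_one, MonObj.one_comp, MonObj.comp_one]
    rw [e1, hev, cancel_epi] at h2
    have h3 := congrArg CommRingCat.Hom.hom (Spec.map_injective
      ((Spec.map_comp _ _).trans ((congrArg CommaMorphism.left h2).trans (Spec.map_comp _ _).symm)))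
    simpa using congr($h3 Polynomial.X)
  -- every point stabilises the line
  have hstab : ∀ g : WithConv (A →ₐ[k] k), ∃ z : U1 ⟶ B, z ≫ iB = unitToSpec ≫ toPt g ≫ φH := fun g => by
    have hline : ∀ φ : V →ₗ[k] k, φ v = 0 → φ (ptAct (k := k) (A := A) V g v) = 0 := fun φ hφ => by
      have h1 := hF φ g
      have h0 := hF φ 1
      simp only [map_one, Module.End.one_apply, hφ, zero_pow hd.ne', Units.val_one, _root_.mul_one] at h0
      rw [hconst, h0, zero_mul] at h1
      exact (pow_eq_zero_iff hd.ne').1 h1.symm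
    have hmem : ptAct (k := k) (A := A) V g v ∈ Submodule.span k {v} := by
      by_contra hno
      obtain ⟨φ, hφg, hφv⟩ := Submodule.exists_dual_map_eq_bot_of_notMem hno inferInstance
      refine hφg (hline φ ?_)
      exact (Submodule.mem_bot k).1 (hφv ▸ ⟨v, Submodule.mem_span_singleton_self v, rfl⟩)
    obtain ⟨a', ha'⟩ := Submodule.mem_span_singleton.1 hmem
    obtain ⟨z, hz⟩ := (hpts k g).2 ((hrep k _).2 ((stabilizesLine_iff_act v g.ofConv).2 ⟨a', ha'.symm⟩))
    refine ⟨unitToSpec ≫ z, ?_⟩
    have hz' : z ≫ iB ≫ ψH = toPt g := hz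
    rw [← hz']
    simp only [Category.assoc, hψφ, Category.comp_id]
  haveI : Surjective iB.left := ⟨fun p => by
    haveI : JacobsonSpace H.left := LocallyOfFiniteType.jacobsonSpace H.hom
    have : Set.range iB.left = Set.univ := by
      refine Set.eq_univ_of_univ_subset ?_
      rw [← closure_closedPoints (X := H.left)]
      refine closure_minimal (fun q hq => ?_) iB.left.isClosedEmbedding.isClosed_range
      let s := (pointEquivClosedPoint H.hom).symm ⟨q, hq⟩
      obtain ⟨g, hg⟩ := hpt (Over.homMk s.1 s.2)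
      obtain ⟨z, hz⟩ := hstab g
      refine ⟨z.left (IsLocalRing.closedPoint k), ?_⟩
      exact (congr(($(hz.trans hg.symm)).left (IsLocalRing.closedPoint k))).trans
        (congrArg Subtype.val ((pointEquivClosedPoint H.hom).apply_symm_apply ⟨q, hq⟩))
    exact this.symm.le (Set.mem_univ p)⟩
  haveI : IsIso iB.left := isIso_of_isClosedImmersion_of_surjective iB.left
  haveI : IsIso ((Over.forget _).map iB) := ‹_›
  haveI : IsIso iB := isIso_of_reflects_iso _ (Over.forget _)
  haveI := isSolvable_pts hB.2.2.2.2.1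
  haveI : Group.IsSolvable (U1 ⟶ H) := Group.isSolvable_of_surjective
    (f := MonoidHom.mk' (fun u : U1 ⟶ B => u ≫ iB) fun x y => MonObj.mul_comp _ _ _)
    fun u => ⟨u ≫ inv iB, by simp⟩
  exact isSolvableGrp_of_pts ‹_›

end Groth.L08.Borel
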