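import Groth.Agent.L08.TorusQuot.LaurentUFD
import Groth.Agent.L25.DiagIso
import Groth.Agent.L25.TorLift.TorusCov
import Groth.Agent.L25.Dyn.CentConn
import Groth.Agent.L25.SplitSub.Rank
import Groth.Agent.L18.GIT.TorusChars
import Mathlib.RingTheory.KrullDimension.Polynomial
import Mathlib.RingTheory.KrullDimension.Field
import Mathlib.RingTheory.Spectrum.Prime.Topology
import Mathlib.Topology.KrullDimension

/-!
# The dimension of a split torus is its rank
-/

set_option autoImplicit false
set_option backward.isDefEq.respectTransparency.types false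
set_option linter.style.haveILetI false
universe u

open CategoryTheory CategoryTheory.Limits MonoidalCategory CartesianMonoidalCategory MonObj AlgebraicGeometry

noncomputable section

namespace Groth.L08.Borel

open Groth.L08.TorusQuot

variable (k : Type u) [Field k] (r : ℕ)

/-- forgetting the first coordinates -/
def projExp (i : ℕ) : (Fin r → ℤ) →+ (Fin r → ℤ) where
  toFun e := fun j => if (j : ℕ) < i then 0 else e j
  map_zero' := by funext j; simp
  map_add' a b := by
    funext j
    by_cases h : (j : ℕ) < i <;> simp [h]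

theorem projExp_comp {i i' : ℕ} (h : i ≤ i') : (projExp r i').comp (projExp r i) = projExp r i' := by
  refine AddMonoidHom.ext fun e => funext fun j => ?_
  simp only [projExp, AddMonoidHom.coe_comp, AddMonoidHom.coe_mk, ZeroHom.coe_mk, Function.comp_apply]
  by_cases h' : (j : ℕ) < i'
  · simp [h']
  · simp [h', show ¬(j : ℕ) < i by omega]

/-- the endomorphism of the Laurent ring setting the first variables to one -/
def projHom (i : ℕ) : Laur k r →+* Laur k r :=
  MonoidAlgebra.mapDomainRingHom k (AddMonoidHom.toMultiplicative (projExp r i))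

theorem projHom_mon (i : ℕ) (e : Fin r → ℤ) : projHom k r i (mon k r e) = mon k r (projExp r i e) := by
  simp [projHom, mon]

theorem projHom_comp {i i' : ℕ} (h : i ≤ i') (z : Laur k r) :
    projHom k r i' (projHom k r i z) = projHom k r i' z := by
  induction z using MonoidAlgebra.induction_linear with
  | zero => simp
  | add x y hx hy => simp only [map_add, hx, hy]
  | single g c =>
    simp only [projHom, MonoidAlgebra.mapDomainRingHom_apply, MonoidAlgebra.mapDomain_single]
    have := DFunLike.congr_fun (projExp_comp r h) (Multiplicative.toAdd g)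
    exact congrArg (fun e => MonoidAlgebra.single (Multiplicative.ofAdd e) c) this

/-- a chain of prime ideals of full length -/
def chainPrime (i : Fin (r + 1)) : PrimeSpectrum (Laur k r) :=
  ⟨RingHom.ker (projHom k r i), RingHom.ker_isPrime _⟩

theorem chainPrime_strictMono : StrictMono (chainPrime k r) := by
  refine Fin.strictMono_iff_lt_succ.2 fun i => ?_
  have hle : RingHom.ker (projHom k r i) ≤ RingHom.ker (projHom k r (i + 1)) := fun z hz => by
    rw [RingHom.mem_ker, ← projHom_comp k r (Nat.le_succ i) z, RingHom.mem_ker.1 hz, map_zero]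
  refine lt_of_le_of_ne (show (chainPrime k r i.castSucc).asIdeal ≤ (chainPrime k r i.succ).asIdeal by
    simpa [chainPrime] using hle) fun h => ?_
  have h' : RingHom.ker (projHom k r i) = RingHom.ker (projHom k r (i + 1)) := by
    simpa [chainPrime] using congrArg PrimeSpectrum.asIdeal h
  have h1 : projExp r i (Pi.single i 1) = (Pi.single i 1 : Fin r → ℤ) := by
    funext j
    by_cases hj : j = i
    · subst hj; simp [projExp]
    · simp [projExp, Pi.single_eq_of_ne hj]
  have h2 : projExp r (i + 1) (Pi.single i 1) = 0 := by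
    funext j
    by_cases hj : j = i
    · subst hj; simp [projExp]
    · simp [projExp, Pi.single_eq_of_ne hj]
  have hmem : mon k r (Pi.single i 1) - 1 ∈ RingHom.ker (projHom k r (i + 1)) := by
    rw [RingHom.mem_ker, map_sub, map_one, projHom_mon, h2, mon_zero, sub_self]
  rw [← h', RingHom.mem_ker, map_sub, map_one, projHom_mon, h1, sub_eq_zero, ← mon_zero k r] at hmem
  have h3 := congrFun (Multiplicative.ofAdd.injective (MonoidAlgebra.single_left_injective one_ne_zero hmem)) i
  simp at h3

theorem ringKrullDim_laur : ringKrullDim (Laur k r) = r := by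
  refine le_antisymm ?_ ?_
  · have hsm : StrictMono (PrimeSpectrum.comap (toLaur k r).toRingHom) := by
      intro p q hpq
      refine lt_of_le_of_ne (fun x hx => hpq.le hx) fun h => hpq.ne ?_
      refine PrimeSpectrum.ext (Ideal.ext fun z => ?_)
      obtain ⟨n, g, hg⟩ := exists_mul_eq k r z
      have hu : IsUnit (toLaur k r (allX k r ^ n)) := by
        rw [toLaur_allX_pow]
        refine IsUnit.of_mul_eq_one (mon k r (fun _ => -(n : ℤ))) ?_
        rw [mon_mul, show ((fun _ => (n : ℤ)) + fun _ => -(n : ℤ)) = (0 : Fin r → ℤ) by funext i; simp,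
          mon_zero]
      rw [← Ideal.mul_unit_mem_iff_mem p.asIdeal hu, ← Ideal.mul_unit_mem_iff_mem q.asIdeal hu, hg]
      exact SetLike.ext_iff.1 (congrArg PrimeSpectrum.asIdeal h) g
    refine (Order.krullDim_le_of_strictMono _ hsm).trans ?_
    exact le_of_eq ((MvPolynomial.ringKrullDim_of_isNoetherianRing (R := k)).trans (by
      rw [ringKrullDim_eq_zero_of_field, Nat.card_fin, zero_add]))
  · have := Order.LTSeries.length_le_krullDim (LTSeries.mk r (chainPrime k r) (chainPrime_strictMono k r))
    simpa [ringKrullDim] using this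

variable {k r}

theorem dim_DS : topologicalKrullDim ↥(Red.DS (Spec (CommRingCat.of k)) (Fin r → ℤ)).left = r := by
  rw [← ringKrullDim_laur k r, ← PrimeSpectrum.topologicalKrullDim_eq_ringKrullDim]
  have e : (Red.diag k (Fin r → ℤ)).left ≅ (Red.DS (Spec (CommRingCat.of k)) (Fin r → ℤ)).left :=
    (Over.forget _).mapIso (Groth.L25.DiagIso.isoOver k (Fin r → ℤ))
  exact (IsHomeomorph.topologicalKrullDim_eq _ (Scheme.homeoOfIso e).isHomeomorph).symm

/-- the dimension of a split torus -/
theorem dim_of_split {T : Over (Spec (CommRingCat.of k))} [GrpObj T] {r : ℕ}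
    (h : Red.IsSplitTorusWith (Fin r → ℤ) T) : topologicalKrullDim ↥T.left = r := by
  obtain ⟨e⟩ := h
  have e' : T.left ≅ (Red.DS (Spec (CommRingCat.of k)) (Fin r → ℤ)).left :=
    (Over.forget _).mapIso ((Grp.forget _).mapIso e)
  exact (IsHomeomorph.topologicalKrullDim_eq _ (Scheme.homeoOfIso e').isHomeomorph).trans dim_DS

/-- tori over algebraically closed fields are split -/
theorem exists_split_rank [IsAlgClosed k] {T : Over (Spec (CommRingCat.of k))} [GrpObj T] (hT : Red.IsTorus T) :
    ∃ r : ℕ, Red.IsSplitTorusWith (Fin r → ℤ) T := by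
  obtain ⟨M, _, ⟨e⟩⟩ := Groth.L18.TorusChars.exists_split T hT
  obtain ⟨K, _, _, r, ⟨e'⟩⟩ := Groth.L25.Dyn.exists_field_split hT
  let θ := Spec.map (CommRingCat.ofHom (algebraMap k K))
  let b : Grp.mk (Red.bc θ T) ≅ Grp.mk (Red.DS (Spec (CommRingCat.of K)) M) :=
    (Over.pullback θ).mapGrp.mapIso e ≪≫
      Grp.mkIso' (ActBC.bcCompIso θ (Limits.IsTerminal.from specULiftZIsTerminal _) (Red.diag (ULift.{u} ℤ) M)
        (specULiftZIsTerminal.hom_ext _ _))
  obtain ⟨g⟩ := Groth.L25.TorLift.addEquiv_of_ds (b.symm ≪≫ e')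
  exact ⟨r, ⟨e ≪≫ Groth.L25.TorLift.dsCongr _ g⟩⟩

/-- the rank of a subtorus -/
theorem rank_le {T T' : Over (Spec (CommRingCat.of k))} [GrpObj T] [GrpObj T'] (f : T ⟶ T') [IsMonHom f] [Mono f]
    {r r' : ℕ} (h : Red.IsSplitTorusWith (Fin r → ℤ) T) (h' : Red.IsSplitTorusWith (Fin r' → ℤ) T') : r ≤ r' := by
  obtain ⟨p, p', hp, -, -, -, hpi⟩ := Groth.L25.SplitSub.exists_std h
  obtain ⟨q, q', -, hq', hqq', hq'q, -⟩ := Groth.L25.SplitSub.exists_std h'
  haveI := hp; haveI := hq'; haveI := hpi
  haveI : IsIso q' := ⟨q, hq'q, hqq'⟩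
  haveI : Mono (p ≫ f ≫ q') := inferInstance
  exact Groth.L25.SplitSub.rank_le_of_mono ⟨IsLocalRing.closedPoint k⟩ (p ≫ f ≫ q')

/-- a monomorphism of tori of the same rank is an isomorphism -/
theorem isIso_of_rank_le {T T' : Over (Spec (CommRingCat.of k))} [GrpObj T] [GrpObj T'] (f : T ⟶ T') [IsMonHom f]
    [Mono f] {r r' : ℕ} (h : Red.IsSplitTorusWith (Fin r → ℤ) T) (h' : Red.IsSplitTorusWith (Fin r' → ℤ) T')
    (hle : r' ≤ r) : IsIso f := by
  obtain rfl : r' = r := le_antisymm hle (rank_le f h h')
  obtain ⟨p, p', hp, -, -, -, hpi⟩ := Groth.L25.SplitSub.exists_std h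
  obtain ⟨q, q', -, hq', hqq', hq'q, -⟩ := Groth.L25.SplitSub.exists_std h'
  haveI := hp; haveI := hq'; haveI := hpi
  haveI : IsIso q' := ⟨q, hq'q, hqq'⟩
  haveI := Groth.L25.SplitSub.isIso_of_mono_split le_rfl (p ≫ f ≫ q')
  haveI : IsIso (f ≫ q') := IsIso.of_isIso_comp_left p _
  exact IsIso.of_isIso_comp_right f q'

end Groth.L08.Borel
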