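import Groth.Agent.L08.Borel.MaxTorusDesc
import Groth.Agent.L08.MonoClosed
import Groth.Agent.L08.Rosen.RedSub
import Groth.Agent.L25.GrpDeriv
import Groth.Agent.L26.AV.SmoothField

/-!
# Maximal tori of groups of finite type, not necessarily smooth, under base change
-/

set_option autoImplicit false
set_option backward.isDefEq.respectTransparency.types false
set_option linter.style.haveILetI false
universe u

open CategoryTheory CategoryTheory.Limits MonoidalCategory CartesianMonoidalCategory MonObj AlgebraicGeometry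

noncomputable section

namespace Groth.L08.Borel

/-- a map into the target of a monomorphism of groups which lifts gives a homomorphism -/
theorem isMonHom_lift_mono {C : Type*} [Category C] [CartesianMonoidalCategory C] {A N G : C} [GrpObj A] [GrpObj N]
    [GrpObj G] (j : N ⟶ G) [IsMonHom j] [Mono j] (a : A ⟶ G) [IsMonHom a] (b : A ⟶ N) (h : b ≫ j = a) : IsMonHom b :=
  Groth.L25.Bridge.isMonHom_of_mul b fun X x y => by
    rw [← cancel_mono j, Category.assoc, h, MonObj.mul_comp (x ≫ b) (y ≫ b) j, Category.assoc, Category.assoc, h]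
    exact MonObj.mul_comp x y a

/-- maximal tori of groups of finite type stay maximal under extensions of algebraically closed fields -/
theorem isMaxTorus_bc_field_fp {k : Type u} [Field k] [IsAlgClosed k] {G T : Over (Spec (CommRingCat.of k))}
    [GrpObj G] [GrpObj T] [LocallyOfFiniteType G.hom] [QuasiCompact G.hom] {iT : T ⟶ G} (hT : AGF.IsMaxTorus iT)
    {K : Type u} [Field K] [IsAlgClosed K] (θ : Spec (CommRingCat.of K) ⟶ Spec (CommRingCat.of k)) :
    AGF.IsMaxTorus ((Over.pullback θ).map iT) := by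
  haveI := hT.1; haveI := hT.2.1
  obtain ⟨N, gN, j, hj, hjr, hjc, hjrange⟩ := Groth.L08.MonoClosed.exists_reduced_subgroup (G := G) Set.univ
    isClosed_univ trivial (fun _ _ _ => trivial) (fun _ _ => trivial)
  haveI := hj
  haveI : Surjective j.left := ⟨Set.range_eq_univ.1 hjrange⟩
  haveI : Mono j := Over.mono_of_mono_left j
  haveI : LocallyOfFiniteType N.hom := by rw [← Over.w j]; infer_instance
  haveI : QuasiCompact N.hom := by rw [← Over.w j]; infer_instance
  haveI : GrpObj (Over.mk N.hom) := gN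
  haveI : Smooth N.hom := Groth.L25.GrpDeriv.smooth_of_perfectField N.hom
  haveI : Smooth T.hom := smooth_of_isTorus hT.2.2.1
  haveI : IsReduced T.left := Groth.Agent.AV.isReduced_of_smooth_field T.hom
  obtain ⟨tN, htN⟩ := Groth.L08.Rosen.exists_factor_red j iT
  haveI : IsMonHom tN := isMonHom_lift_mono j iT tN htN
  haveI : Mono tN := mono_of_mono_fac htN
  have hN : AGF.IsMaxTorus tN := ⟨inferInstance, inferInstance, hT.2.2.1, fun T' _ a _ _ f h₁ hf =>
    hT.2.2.2 T' (a ≫ j) f h₁ (by rw [reassoc_of% hf, htN])⟩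
  have hNK := isMaxTorus_bc_field hN θ
  haveI := hNK.1; haveI := hNK.2.1
  haveI : IsMonHom ((Over.pullback θ).map iT) := Groth.L25.MonoClosed.isMonHom_pullbackMap _ _
  haveI : IsMonHom ((Over.pullback θ).map j) := Groth.L25.MonoClosed.isMonHom_pullbackMap _ _
  haveI : Mono ((Over.pullback θ).map j) := Functor.map_mono _ _
  refine ⟨inferInstance, Functor.map_mono _ _, Groth.L25.Locus.isTorus_bc hT.2.2.1 θ, fun T' _ a _ _ f h₁ hf => ?_⟩
  haveI : IsClosedImmersion ((Over.pullback θ).map j).left :=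
    MorphismProperty.of_isPullback (Groth.L25.SchImage.isPullback_fst_map θ j) ‹_›
  haveI : Surjective ((Over.pullback θ).map j).left :=
    MorphismProperty.of_isPullback (Groth.L25.SchImage.isPullback_fst_map θ j) ‹_›
  haveI : Smooth T'.hom := smooth_of_isTorus h₁
  haveI : IsReduced T'.left := Groth.Agent.AV.isReduced_of_smooth_field T'.hom
  obtain ⟨a', ha'⟩ := Groth.L08.Rosen.exists_factor_red ((Over.pullback θ).map j) a
  haveI : IsMonHom a' := isMonHom_lift_mono ((Over.pullback θ).map j) a a' ha'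
  haveI : Mono a' := mono_of_mono_fac ha'
  refine hNK.2.2.2 T' a' f h₁ ?_
  rw [← cancel_mono ((Over.pullback θ).map j), Category.assoc, ha', hf, ← Functor.map_comp, htN]

variable {S S' : Scheme.{u}} {G T : Over S} [GrpObj G] [GrpObj T]

/-- maximal tori of groups of finite presentation are stable under base change -/
theorem isMaximalTorus_bc_fp [LocallyOfFiniteType G.hom] [QuasiCompact G.hom] {i : T ⟶ G}
    (hT : Red.IsMaximalTorus i) (j : S' ⟶ S) : Red.IsMaximalTorus ((Over.pullback j).map i) := by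
  haveI := hT.1; haveI := hT.2.1
  haveI : IsMonHom ((Over.pullback j).map i) := Groth.L25.MonoClosed.isMonHom_pullbackMap _ _
  refine ⟨inferInstance, Functor.map_mono _ _, Groth.L25.Locus.isTorus_bc hT.2.2.1 j, fun p T' _ a _ _ f hT' hf => ?_⟩
  obtain ⟨θ, hθ⟩ := exists_geomPt_map j p
  haveI : IsMonHom ((Over.pullback (Red.geomPt (j p))).map i) := Groth.L25.MonoClosed.isMonHom_pullbackMap _ _
  haveI : Mono ((Over.pullback (Red.geomPt (j p))).map i) := Functor.map_mono _ _
  haveI : LocallyOfFiniteType (Red.geomFibre (j p) G).hom :=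
    inferInstanceAs (LocallyOfFiniteType (pullback.snd G.hom (Red.geomPt (j p))))
  haveI : QuasiCompact (Red.geomFibre (j p) G).hom :=
    inferInstanceAs (QuasiCompact (pullback.snd G.hom (Red.geomPt (j p))))
  have hs : AGF.IsMaxTorus ((Over.pullback (Red.geomPt (j p))).map i) :=
    ⟨inferInstance, inferInstance, Groth.L25.Locus.isTorus_bc hT.2.2.1 _,
      fun T₁ _ b _ _ g h₁ hg => hT.2.2.2 (j p) T₁ b g h₁ hg⟩
  have hp := isMaxTorus_bc_field_fp hs θ
  haveI := (isMonHom_fibreIso j θ hθ G).1
  let b : T' ⟶ Red.bc θ (Red.geomFibre (j p) G) := a ≫ (fibreIso j θ hθ G).hom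
  haveI : IsMonHom b := inferInstanceAs (IsMonHom (a ≫ (fibreIso j θ hθ G).hom))
  haveI : Mono b := mono_comp _ _
  haveI : IsIso ((fibreIso j θ hθ T).inv ≫ f) := hp.2.2.2 T' b _ hT' (by
    rw [Category.assoc, Iso.inv_comp_eq, ← fibreIso_naturality, ← hf, Category.assoc])
  exact IsIso.of_isIso_comp_left (fibreIso j θ hθ T).inv f

/-- maximality is insensitive to isomorphisms of the ambient group -/
theorem isMaximalTorus_comp_iso {G' : Over S} [GrpObj G'] {i : T ⟶ G} (h : Red.IsMaximalTorus i) (φ : G ≅ G')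
    [IsMonHom φ.hom] : Red.IsMaximalTorus (i ≫ φ.hom) := by
  haveI := h.1; haveI := h.2.1
  refine ⟨inferInstance, mono_comp _ _, h.2.2.1, fun s T' _ a _ _ f hT' hf => ?_⟩
  haveI : IsMonHom φ.inv := inferInstance
  haveI : IsMonHom ((Over.pullback (Red.geomPt s)).map φ.inv) := Groth.L25.MonoClosed.isMonHom_pullbackMap _ _
  haveI : Mono (a ≫ (Over.pullback (Red.geomPt s)).map φ.inv) := mono_comp _ _
  refine h.2.2.2 s T' (a ≫ (Over.pullback (Red.geomPt s)).map φ.inv) f hT' ?_
  rw [reassoc_of% hf, ← Functor.map_comp, Category.assoc, Iso.hom_inv_id, Category.comp_id]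

/-- maximality is insensitive to isomorphisms of the torus -/
theorem isMaximalTorus_iso_comp {T' : Over S} [GrpObj T'] {i : T ⟶ G} (h : Red.IsMaximalTorus i) (φ : T' ≅ T)
    [IsMonHom φ.hom] : Red.IsMaximalTorus (φ.hom ≫ i) := by
  haveI := h.1; haveI := h.2.1
  refine ⟨inferInstance, mono_comp _ _, Groth.L25.TorLift.isTorus_of_iso (Grp.mkIso' φ).symm h.2.2.1,
    fun s T₁ _ a _ _ f h₁ hf => ?_⟩
  haveI : IsIso ((Over.pullback (Red.geomPt s)).map φ.inv ≫ f) := h.2.2.2 s T₁ a _ h₁ (by
    rw [Category.assoc, hf, ← Functor.map_comp, φ.inv_hom_id_assoc])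
  exact IsIso.of_isIso_comp_left ((Over.pullback (Red.geomPt s)).map φ.inv) f

end Groth.L08.Borel
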