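import Groth.Agent.L08.Borel.CommTorus
import Groth.Agent.L25.NhdEq.Subgroup
import Groth.Agent.L25.Central

/-!
# Subtori commuting with a maximal torus lie in it (any base)
-/

set_option autoImplicit false
set_option backward.isDefEq.respectTransparency.types false
set_option linter.style.haveILetI false
universe u

open CategoryTheory CategoryTheory.Limits MonoidalCategory CartesianMonoidalCategory MonObj AlgebraicGeometry

noncomputable section

namespace Groth.L08.Borel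

open Groth.L25

variable {S P : Scheme.{u}}

/-- base change of a product of points -/
theorem bc_map_mul (σ : P ⟶ S) {X G : Over S} [GrpObj G] (a b : X ⟶ G) :
    (Over.pullback σ).map (a * b) = (Over.pullback σ).map a * (Over.pullback σ).map b := by
  rw [← Category.id_comp ((Over.pullback σ).map (a * b))]
  apply CentralLift.toBase_injective
  rw [SplitSub.toBase_map, NilAction.toBase_mul, MonObj.comp_mul, ← SplitSub.toBase_map, ← SplitSub.toBase_map,
    Category.id_comp, Category.id_comp]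

/-- base change of the trivial point -/
theorem bc_map_one (σ : P ⟶ S) {X G : Over S} [GrpObj G] : (Over.pullback σ).map (1 : X ⟶ G) = 1 := by
  rw [← Category.id_comp ((Over.pullback σ).map (1 : X ⟶ G))]
  apply CentralLift.toBase_injective
  rw [SplitSub.toBase_map, MonObj.comp_one, NilAction.toBase_one]

/-- morphisms descend along faithfully flat morphisms locally of finite presentation -/
theorem exists_desc_fppf {A B Z : Over S} (c : A ⟶ B) [Surjective c.left] [Flat c.left]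
    [LocallyOfFinitePresentation c.left] (f : A ⟶ Z)
    (hf : ∀ {T : Over S} (a b : T ⟶ A), a ≫ c = b ≫ c → a ≫ f = b ≫ f) : ∃ g : B ⟶ Z, c ≫ g = f := by
  haveI : EffectiveEpi c.left := inferInstance
  let d := EffectiveEpi.desc c.left f.left fun {T} a b e => by
    let a' : Over.mk (a ≫ A.hom) ⟶ A := Over.homMk a
    let b' : Over.mk (a ≫ A.hom) ⟶ A := Over.homMk b (by
      show b ≫ A.hom = a ≫ A.hom
      rw [← Over.w c, reassoc_of% e])
    exact congrArg CommaMorphism.left (hf a' b' (Over.OverMorphism.ext e))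
  have hd : c.left ≫ d = f.left := EffectiveEpi.fac _ _ _
  haveI : Epi c.left := Flat.epi_of_flat_of_surjective c.left
  have hw : d ≫ Z.hom = B.hom := by
    rw [← cancel_epi c.left, reassoc_of% hd, Over.w, Over.w]
  exact ⟨Over.homMk d hw, Over.OverMorphism.ext hd⟩

/-- the trivial homomorphism -/
theorem isMonHom_one' {X G : Over S} [GrpObj X] [GrpObj G] : IsMonHom (1 : X ⟶ G) :=
  Bridge.isMonHom_of_mul _ fun Y a b => by
    rw [MonObj.comp_one, MonObj.comp_one, MonObj.comp_one, _root_.mul_one]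

/-- a homomorphism from a torus trivial at a field point is trivial nearby -/
theorem eq_one_nhd {H G : Over S} [GrpObj H] [GrpObj G] (hH : SGA3x.IsMultTypeFT H)
    [LocallyOfFinitePresentation G.hom] (δ : H ⟶ G) [IsMonHom δ] {K : Type u} [Field K]
    (σ : Spec (CommRingCat.of K) ⟶ S) (hδ : (Over.pullback σ).map δ = 1) :
    ∃ U : S.Opens, σ (IsLocalRing.closedPoint K) ∈ U ∧ ∀ (X : Over S), Set.range X.hom ⊆ (U : Set S) →
      ∀ h : X ⟶ H, h ≫ δ = 1 := by
  let E := Red.DS S (Fin 0 → ℤ)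
  have hE1 : 𝟙 E = 1 := DSPts.char_injective (MonoidHom.ext fun m => by
    rw [DSPts.char_one, Subsingleton.elim m 1]
    exact map_one _)
  haveI : IsIso (toUnit E) := ⟨1, by rw [MonObj.comp_one, hE1], toUnit_unique _ _⟩
  let i₂ : E ⟶ G := toUnit E ≫ η[G]
  have hi₂ : i₂ = 1 := (Hom.one_def).symm
  haveI : IsMonHom i₂ := hi₂ ▸ isMonHom_one' (X := E) (G := G)
  haveI : IsImmersion i₂.left := by
    haveI : IsImmersion (i₂.left ≫ G.hom) := by
      rw [Over.w i₂]
      haveI : IsIso E.hom := inferInstanceAs (IsIso ((Over.forget S).map (toUnit E)))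
      infer_instance
    exact IsImmersion.of_comp i₂.left G.hom
  have hfib : ∀ (X : Over S) (w : X.left ⟶ Spec (S.residueField (σ (IsLocalRing.closedPoint K)))),
      w ≫ S.fromSpecResidueField _ = X.hom → ∀ h : X ⟶ H, h ≫ δ = 1 := by
    intro X w hw h
    obtain ⟨θ, hθ⟩ : ∃ θ : Spec (CommRingCat.of K) ⟶ Spec (S.residueField (σ (IsLocalRing.closedPoint K))),
        θ ≫ S.fromSpecResidueField _ = σ :=
      ⟨Spec.map _, Scheme.descResidueField_stalkClosedPointTo_fromSpecResidueField K S σ⟩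
    haveI : Surjective θ := ⟨fun p => ⟨IsLocalRing.closedPoint _,
      Subsingleton.elim (α := PrimeSpectrum (S.residueField (σ (IsLocalRing.closedPoint K)))) _ _⟩⟩
    obtain ⟨φ, rfl⟩ := Spec.map_surjective θ
    letI : Algebra (S.residueField (σ (IsLocalRing.closedPoint K))) K := φ.hom.toAlgebra
    haveI : Flat (Spec.map φ) := Flat.SpecMap_iff.2 (RingHom.flat_algebraMap_iff.2 inferInstance :
      (algebraMap (S.residueField (σ (IsLocalRing.closedPoint K))) K).Flat)
    let Q : Over (Spec (CommRingCat.of K)) := Over.mk (pullback.snd w (Spec.map φ))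
    let c : Over.mk (Q.hom ≫ σ) ⟶ X := Over.homMk (pullback.fst w (Spec.map φ)) (by
      show pullback.fst w (Spec.map φ) ≫ X.hom = pullback.snd w (Spec.map φ) ≫ σ
      rw [← hw, pullback.condition_assoc, hθ])
    haveI : Surjective c.left := inferInstanceAs (Surjective (pullback.fst w (Spec.map φ)))
    haveI : Flat c.left := inferInstanceAs (Flat (pullback.fst w (Spec.map φ)))
    haveI : Epi c.left := Flat.epi_of_flat_of_surjective c.left
    haveI : Epi c := Over.epi_of_epi_left c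
    rw [← cancel_epi c, MonObj.comp_one, ← Category.assoc, ← NilAction.toBase_ofBase σ (c ≫ h),
      ← SplitSub.toBase_map, hδ, MonObj.comp_one, NilAction.toBase_one]
  obtain ⟨U, hU, hUfac⟩ := NhdEq.exists_nhd_fac hH
    (Locus.isMultTypeFT_of_isTorus (isTorus_ds S 0)) δ i₂ (Or.inr inferInstance) (σ (IsLocalRing.closedPoint K))
    (fun X w hw h => ⟨1, by rw [hfib X w hw h, hi₂, MonObj.comp_one]⟩)
    (fun X w hw g h => by rw [hfib X w hw h, _root_.mul_one, _root_.one_mul])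
  refine ⟨U, hU, fun X hX h => ?_⟩
  obtain ⟨h', hh⟩ := hUfac X hX h
  rw [← hh, hi₂, MonObj.comp_one]

/-- homomorphisms of split groups at a field point extend -/
theorem exists_DSmap_agree {M N : Type} [AddCommGroup M] [AddCommGroup N]
    [Monoid.FG (Multiplicative N)] {K : Type u} [Field K] (σ : Spec (CommRingCat.of K) ⟶ P)
    (f₀ : Red.bc σ (Red.DS P M) ⟶ Red.bc σ (Red.DS P N)) [IsMonHom f₀] :
    ∃ φ : N →+ M, (Over.pullback σ).map (Red.DSmap P φ) = f₀ := by
  haveI : IsMonHom (SplitSub.bcDS (N := M) σ).hom := SplitSub.isMonHom_bcDS σ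
  haveI : IsMonHom (SplitSub.bcDS (N := M) σ).inv := inferInstance
  haveI : IsMonHom (SplitSub.bcDS (N := N) σ).hom := SplitSub.isMonHom_bcDS σ
  let f₁ : Red.DS (Spec (CommRingCat.of K)) M ⟶ Red.DS (Spec (CommRingCat.of K)) N :=
    (SplitSub.bcDS σ).inv ≫ f₀ ≫ (SplitSub.bcDS σ).hom
  haveI : IsMonHom f₁ := inferInstanceAs (IsMonHom (_ ≫ _ ≫ _))
  obtain ⟨U, hU, φ, hφ⟩ := SplitSub.exists_local_DSmap f₁ (IsLocalRing.closedPoint K)
  have h1 : f₁ = Red.DSmap _ φ := by
    have := hφ _ (fun y => by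
      rw [Subsingleton.elim (α := PrimeSpectrum K) ((Red.DS (Spec (CommRingCat.of K)) M).hom y) (IsLocalRing.closedPoint K)]
      exact hU) (𝟙 _)
    rwa [Category.id_comp, Category.id_comp] at this
  refine ⟨φ, ?_⟩
  rw [← cancel_mono (SplitSub.bcDS σ).hom, bc_DSmap, ← h1]
  simp only [f₁, Iso.hom_inv_id_assoc]

/-- extension transfers along isomorphisms -/
theorem exists_hom_of_iso {R T A B : Over P} [GrpObj R] [GrpObj T] [GrpObj A] [GrpObj B] (a : R ≅ A) (b : T ≅ B)
    [IsMonHom a.hom] [IsMonHom b.hom] {K : Type u} [Field K]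
    (σ : Spec (CommRingCat.of K) ⟶ P)
    (hAB : ∀ f₁ : Red.bc σ A ⟶ Red.bc σ B, IsMonHom f₁ → ∃ g : A ⟶ B, IsMonHom g ∧ (Over.pullback σ).map g = f₁)
    (f₀ : Red.bc σ R ⟶ Red.bc σ T) [IsMonHom f₀] : ∃ f : R ⟶ T, IsMonHom f ∧ (Over.pullback σ).map f = f₀ := by
  haveI : IsMonHom ((Over.pullback σ).map a.inv) := MonoClosed.isMonHom_pullbackMap _ _
  haveI : IsMonHom ((Over.pullback σ).map b.hom) := MonoClosed.isMonHom_pullbackMap _ _
  obtain ⟨g, hg, hg'⟩ := hAB ((Over.pullback σ).map a.inv ≫ f₀ ≫ (Over.pullback σ).map b.hom)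
    (inferInstanceAs (IsMonHom (_ ≫ _ ≫ _)))
  haveI := hg
  refine ⟨a.hom ≫ g ≫ b.inv, inferInstance, ?_⟩
  rw [Functor.map_comp, Functor.map_comp, hg']
  simp only [Category.assoc, ← Functor.map_comp, ← Functor.map_comp_assoc, Iso.hom_inv_id]
  rw [(Over.pullback σ).map_id, (Over.pullback σ).map_id]
  exact (Category.id_comp _).trans (Category.comp_id _)

/-- the homomorphism underlying an isomorphism of group objects -/
theorem isMonHom_forget {A B : Over P} [GrpObj A] [GrpObj B] (e : Grp.mk A ≅ Grp.mk B) :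
    IsMonHom (M := A) (N := B) ((Grp.forget _).mapIso e).hom :=
  e.hom.hom.isMonHom_hom

/-- agreement at a point of the geometric fibre spreads to a neighbourhood -/
theorem exists_fac_nhd {G T R : Over P} [GrpObj G] [GrpObj T] [GrpObj R] [LocallyOfFinitePresentation G.hom]
    {M N : Type} [AddCommGroup M] [AddCommGroup N] [Monoid.FG (Multiplicative N)]
    (eR : Grp.mk R ≅ Grp.mk (Red.DS P M)) (eT : Grp.mk T ≅ Grp.mk (Red.DS P N))
    (hRm : SGA3x.IsMultTypeFT R) (hTm : SGA3x.IsMultTypeFT T)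
    (i : T ⟶ G) [IsMonHom i] (j : R ⟶ G) [IsMonHom j]
    (hcomm : ∀ (X : Over P) (t : X ⟶ T) (r : X ⟶ R), (t ≫ i) * (r ≫ j) = (r ≫ j) * (t ≫ i))
    {K : Type u} [Field K] (σ : Spec (CommRingCat.of K) ⟶ P) (f₀ : Red.bc σ R ⟶ Red.bc σ T) [IsMonHom f₀]
    (hf₀ : f₀ ≫ (Over.pullback σ).map i = (Over.pullback σ).map j) :
    ∃ (U : P.Opens) (f : R ⟶ T), σ (IsLocalRing.closedPoint K) ∈ U ∧
      ∀ (X : Over P), Set.range X.hom ⊆ (U : Set P) → ∀ h : X ⟶ R, (h ≫ f) ≫ i = h ≫ j := by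
  let a : R ≅ Red.DS P M := (Grp.forget _).mapIso eR
  let b : T ≅ Red.DS P N := (Grp.forget _).mapIso eT
  haveI : IsMonHom a.hom := isMonHom_forget eR
  haveI : IsMonHom b.hom := isMonHom_forget eT
  obtain ⟨f, hf, hfσ⟩ := exists_hom_of_iso a b σ (fun f₁ h₁ => by
      haveI := h₁
      obtain ⟨φ, hφ⟩ := exists_DSmap_agree σ f₁
      exact ⟨_, TorusTorsion.isMonHom_DSmap P φ, hφ⟩) f₀
  haveI := hf
  haveI : IsMonHom (f⁻¹) := Bridge.isMonHom_of_mul _ fun Y x y => by
    rw [GrpObj.comp_inv, GrpObj.comp_inv, GrpObj.comp_inv, MonObj.mul_comp, _root_.mul_inv_rev,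
      Central.mul_comm_of_multTypeFT hTm]
  haveI : IsMonHom (f⁻¹ ≫ i) := inferInstance
  let δ : R ⟶ G := j * (f⁻¹ ≫ i)
  haveI : IsMonHom δ := isMonHom_mul_of_commute j (f⁻¹ ≫ i) fun Y x y => by
    show _ = _
    rw [← Category.assoc]
    exact hcomm Y (x ≫ f⁻¹) y
  have hinv : f⁻¹ ≫ i = (f ≫ i)⁻¹ := GrpObj.inv_comp _ _
  have hδ : (Over.pullback σ).map δ = 1 := by
    have e : (Over.pullback σ).map j = (Over.pullback σ).map (f ≫ i) := by rw [Functor.map_comp, hfσ, hf₀]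
    simp only [δ, hinv, bc_map_mul]
    rw [e, ← bc_map_mul, mul_inv_cancel, bc_map_one]
  obtain ⟨U, hU, hUδ⟩ := eq_one_nhd hRm δ σ hδ
  refine ⟨U, f, hU, fun X hX h => ?_⟩
  have h1 := hUδ X hX h
  simp only [δ, hinv, MonObj.comp_mul, GrpObj.comp_inv, mul_inv_eq_one, ← Category.assoc] at h1
  exact h1.symm

/-- near every point a commuting subtorus lies in the maximal torus -/
theorem exists_fac_etale {G T R : Over S} [GrpObj G] [GrpObj T] [GrpObj R] [LocallyOfFinitePresentation G.hom]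
    {i : T ⟶ G} (hT : Red.IsMaximalTorus i) (j : R ⟶ G) [IsMonHom j] (hR : Red.IsTorus R)
    (hcomm : ∀ (X : Over S) (t : X ⟶ T) (r : X ⟶ R), (t ≫ i) * (r ≫ j) = (r ≫ j) * (t ≫ i)) (s : S) :
    ∃ (S₂ : Scheme.{u}) (π : S₂ ⟶ S), Etale π ∧ s ∈ Set.range π.base ∧
      ∀ (X : Over S) (_ : X ⟶ Over.mk π) (h : X ⟶ R), ∃ h' : X ⟶ T, h' ≫ i = h ≫ j := by
  haveI := hT.1; haveI := hT.2.1
  have hRm := Locus.isMultTypeFT_of_isTorus hR
  have hTm := Locus.isMultTypeFT_of_isTorus hT.2.2.1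
  obtain ⟨S₁, g₁, hg₁, ⟨s₁, hs₁⟩, M, _, -, ⟨e₁⟩⟩ := Extend.exists_etale_split hRm s
  obtain ⟨S₂, g₂, hg₂, ⟨s₂, hs₂⟩, N, _, hN, ⟨e₂⟩⟩ :=
    Extend.exists_etale_split (MultTypeBC.isMultTypeFT_bc hTm g₁) s₁
  haveI : Etale g₁ := hg₁
  haveI : Etale g₂ := hg₂
  let π := g₂ ≫ g₁
  haveI : Monoid.FG (Multiplicative N) := AddMonoid.fg_iff_mul_fg.1 (AddGroup.fg_iff_addMonoid_fg.1 hN)
  let eR : Grp.mk (Red.bc π R) ≅ Grp.mk (Red.DS S₂ M) := TrivLocus.restrictIso g₁ g₂ e₁ rfl
  let eT : Grp.mk (Red.bc π T) ≅ Grp.mk (Red.DS S₂ N) := (Grp.mkIso' (ActBC.bcCompIso g₂ g₁ T rfl)).symm ≪≫ e₂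
  obtain ⟨σ, hσ⟩ := exists_geomPt_lift π (t := s) ⟨s₂, (congrArg g₁ hs₂).trans hs₁⟩
  let b := Red.geomPt s
  haveI : IsMonHom ((Over.pullback b).map i) := MonoClosed.isMonHom_pullbackMap _ _
  haveI : Mono ((Over.pullback b).map i) := Functor.map_mono _ _
  haveI : IsMonHom ((Over.pullback b).map j) := MonoClosed.isMonHom_pullbackMap _ _
  haveI : LocallyOfFiniteType (Red.geomFibre s G).hom :=
    inferInstanceAs (LocallyOfFiniteType (pullback.snd G.hom b))
  obtain ⟨F, hF, hFi⟩ := exists_fac_of_commute_field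
    (G := Red.geomFibre s G) (i := (Over.pullback b).map i)
    ⟨inferInstance, inferInstance, Locus.isTorus_bc hT.2.2.1 b,
      fun T₁ _ a _ _ f h₁ hf => hT.2.2.2 s T₁ a f h₁ hf⟩
    ((Over.pullback b).map j) (Locus.isTorus_bc hR b) fun X t r => by
      apply CentralLift.toBase_injective
      rw [NilAction.toBase_mul, NilAction.toBase_mul, SplitSub.toBase_map, SplitSub.toBase_map]
      exact hcomm _ _ _
  haveI := hF
  let i₁ := (Over.pullback π).map i
  let j₁ := (Over.pullback π).map j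
  haveI : IsMonHom i₁ := MonoClosed.isMonHom_pullbackMap _ _
  haveI : IsMonHom j₁ := MonoClosed.isMonHom_pullbackMap _ _
  let f₀ : Red.bc σ (Red.bc π R) ⟶ Red.bc σ (Red.bc π T) :=
    (ActBC.bcCompIso σ π R hσ).hom ≫ F ≫ (ActBC.bcCompIso σ π T hσ).inv
  haveI : IsMonHom f₀ := inferInstanceAs (IsMonHom (_ ≫ _ ≫ _))
  have hf₀ : f₀ ≫ (Over.pullback σ).map i₁ = (Over.pullback σ).map j₁ := by
    rw [← cancel_mono (ActBC.bcCompIso σ π G hσ).hom]
    simp only [i₁, j₁, f₀, Category.assoc]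
    rw [ActBC.bcCompIso_hom_naturality σ π hσ i, Iso.inv_hom_id_assoc, hFi,
      ActBC.bcCompIso_hom_naturality σ π hσ j]
  haveI : LocallyOfFinitePresentation (Red.bc π G).hom :=
    inferInstanceAs (LocallyOfFinitePresentation (pullback.snd G.hom π))
  obtain ⟨U, f, hU, hUf⟩ := exists_fac_nhd eR eT (MultTypeBC.isMultTypeFT_bc hRm π) (MultTypeBC.isMultTypeFT_bc hTm π)
    i₁ j₁ (fun X t r => by
      apply CentralLift.toBase_injective
      rw [NilAction.toBase_mul, NilAction.toBase_mul, SplitSub.toBase_map, SplitSub.toBase_map]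
      exact hcomm _ _ _) σ f₀ hf₀
  refine ⟨U.toScheme, U.ι ≫ π, inferInstance, ⟨⟨σ (IsLocalRing.closedPoint _), hU⟩, ?_⟩, fun X p h => ?_⟩
  · show π (σ (IsLocalRing.closedPoint _)) = s
    rw [← Scheme.Hom.comp_apply, hσ]
    exact geomPt_apply s _
  let Y : Over S₂ := Over.mk (p.left ≫ U.ι)
  let e : Over.mk (Y.hom ≫ π) ⟶ X := Over.homMk (𝟙 _) (by
    show 𝟙 _ ≫ X.hom = (p.left ≫ U.ι) ≫ π
    rw [Category.id_comp, Category.assoc]
    exact (Over.w p).symm)
  haveI : IsIso e := by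
    haveI : IsIso e.left := inferInstanceAs (IsIso (𝟙 _))
    haveI : IsIso ((Over.forget S).map e) := ‹IsIso e.left›
    exact isIso_of_reflects_iso _ (Over.forget S)
  have hY : Set.range Y.hom ⊆ (U : Set S₂) := by
    rintro _ ⟨y, rfl⟩
    exact (p.left y).2
  have key := congrArg (NilAction.toBase π) (hUf Y hY (NilAction.ofBase π (e ≫ h)))
  simp only [i₁, j₁] at key
  rw [SplitSub.toBase_map, SplitSub.toBase_map, NilAction.toBase_ofBase] at key
  exact ⟨inv e ≫ NilAction.toBase π (NilAction.ofBase π (e ≫ h) ≫ f),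
    by rw [Category.assoc, key, Category.assoc, IsIso.inv_hom_id_assoc]⟩

/-- **subtori commuting with a maximal torus lie in it** -/
theorem exists_fac_of_commute {G T R : Over S} [GrpObj G] [GrpObj T] [GrpObj R] [LocallyOfFinitePresentation G.hom]
    {i : T ⟶ G} (hT : Red.IsMaximalTorus i) (j : R ⟶ G) [IsMonHom j] (hR : Red.IsTorus R)
    (hcomm : ∀ (X : Over S) (t : X ⟶ T) (r : X ⟶ R), (t ≫ i) * (r ≫ j) = (r ≫ j) * (t ≫ i)) :
    ∃ f : R ⟶ T, f ≫ i = j := by
  haveI := hT.2.1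
  refine exists_fac_of_local i j fun x => ?_
  obtain ⟨S₂, π, hπ, hs, hfac⟩ := exists_fac_etale hT j hR hcomm (R.hom x)
  haveI := hπ
  let O : R.left.Opens := R.hom ⁻¹ᵁ ⟨Set.range π.base, π.isOpenMap.isOpen_range⟩
  refine ⟨O, hs, ?_⟩
  let A : Over S := Over.mk (pullback.snd π (O.ι ≫ R.hom) ≫ O.ι ≫ R.hom)
  let c : A ⟶ Over.mk (O.ι ≫ R.hom) := Over.homMk (pullback.snd π (O.ι ≫ R.hom))
  haveI : Flat c.left := inferInstanceAs (Flat (pullback.snd π (O.ι ≫ R.hom)))
  haveI : LocallyOfFinitePresentation c.left :=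
    inferInstanceAs (LocallyOfFinitePresentation (pullback.snd π (O.ι ≫ R.hom)))
  haveI : Surjective c.left := ⟨fun y => by
    obtain ⟨z, hz⟩ : ∃ z, π z = (O.ι ≫ R.hom) y := y.2
    obtain ⟨w, -, hw⟩ := Scheme.Pullback.exists_preimage_pullback (f := π) (g := O.ι ≫ R.hom) z y hz
    exact ⟨w, hw⟩⟩
  haveI : Epi c.left := Flat.epi_of_flat_of_surjective c.left
  haveI : Epi c := Over.epi_of_epi_left c
  let o : Over.mk (O.ι ≫ R.hom) ⟶ R := Over.homMk O.ι
  obtain ⟨h', hh'⟩ := hfac A (Over.homMk (pullback.fst π (O.ι ≫ R.hom)) pullback.condition) (c ≫ o)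
  obtain ⟨g, hg⟩ := exists_desc_fppf c h' fun a b e => by
    rw [← cancel_mono i, Category.assoc, Category.assoc, hh', Category.assoc, reassoc_of% e]
  exact ⟨g, by rw [← cancel_epi c, reassoc_of% hg, hh', Category.assoc]⟩

end Groth.L08.Borel
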