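import Groth.Agent.L08.Borel.Borels
import Groth.Agent.L25.NilAction

/-!
# Base change of quotients to a field extension
-/

set_option autoImplicit false
set_option backward.isDefEq.respectTransparency.types false
set_option linter.style.haveILetI false

universe u

open CategoryTheory CategoryTheory.Limits MonoidalCategory CartesianMonoidalCategory MonObj AlgebraicGeometry

noncomputable section

namespace Groth.L08.Borel

open Groth.L25.NilAction

section General

variable {S P : Scheme.{u}} (j : P ⟶ S)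

theorem toBase_injective {X : Over S} {Y : Over P} (a b : Y ⟶ Red.bc j X) (h : toBase j a = toBase j b) : a = b := by
  rw [← ofBase_toBase j a, h, ofBase_toBase]

theorem toBase_comp {X : Over S} {Y Y' : Over P} (f : Y' ⟶ Y) (a : Y ⟶ Red.bc j X) :
    toBase j (f ≫ a) = (Over.map j).map f ≫ toBase j a :=
  Over.OverMorphism.ext (Category.assoc f.left a.left (pullback.fst X.hom j))

theorem toBase_map' {X X' : Over S} {Y : Over P} (a : Y ⟶ Red.bc j X) (f : X ⟶ X') :
    toBase j (a ≫ (Over.pullback j).map f) = toBase j a ≫ f :=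
  Over.OverMorphism.ext (((Category.assoc _ _ _).trans (congrArg (a.left ≫ ·) (pullback.lift_fst _ _ _))).trans
    (Category.assoc _ _ _).symm)

theorem isPullback_bc_map' {D A : Over S} (d : D ⟶ A) :
    IsPullback ((Over.pullback j).map d).left (pullback.fst D.hom j) (pullback.fst A.hom j) d.left := by
  refine IsPullback.of_bot ?_ ((pullback.lift_fst _ _ _).symm) (IsPullback.of_hasPullback A.hom j) |>.flip
  have h2 : ((Over.pullback j).map d).left ≫ pullback.snd A.hom j = pullback.snd D.hom j := pullback.lift_snd _ _ _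
  refine (congrArg₂ (fun x y => IsPullback (pullback.fst D.hom j) x y j) h2 (Over.w d)).mpr ?_
  exact IsPullback.of_hasPullback D.hom j

variable {G X : Over S} [GrpObj G]

/-- the base change of an action morphism -/
def bcActHom (a : AlgGrp.Action G X) : Red.bc j G ⊗ Red.bc j X ⟶ Red.bc j X :=
  ofBase j (lift (toBase j (fst (Red.bc j G) (Red.bc j X))) (toBase j (snd (Red.bc j G) (Red.bc j X))) ≫ a.act)

theorem toBase_actHom (a : AlgGrp.Action G X) {Y : Over P} (g : Y ⟶ Red.bc j G) (x : Y ⟶ Red.bc j X) :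
    toBase j (lift g x ≫ bcActHom j a) = lift (toBase j g) (toBase j x) ≫ a.act := by
  rw [bcActHom, toBase_comp, toBase_ofBase, ← Category.assoc, comp_lift, ← toBase_comp, ← toBase_comp, lift_fst,
    lift_snd]

/-- the base change of an action -/
def bcAct (a : AlgGrp.Action G X) : AlgGrp.Action (Red.bc j G) (Red.bc j X) where
  act := bcActHom j a
  one_act := by
    have e : η[Red.bc j G] ▷ Red.bc j X = lift (1 : 𝟙_ (Over P) ⊗ Red.bc j X ⟶ Red.bc j G) (snd _ _) := by
      refine CartesianMonoidalCategory.hom_ext _ _ ?_ ?_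
      · rw [whiskerRight_fst, lift_fst, MonObj.one_eq_one, MonObj.comp_one]
      · rw [whiskerRight_snd, lift_snd]
    refine toBase_injective j _ _ ?_
    rw [e, toBase_actHom, toBase_one, Groth.L25.Actions.one_act, leftUnitor_hom]
  mul_act := by
    have e1 : μ[Red.bc j G] ▷ Red.bc j X =
        lift ((fst _ _ ≫ fst _ _) * (fst _ _ ≫ snd _ _)) (snd (Red.bc j G ⊗ Red.bc j G) (Red.bc j X)) := by
      refine CartesianMonoidalCategory.hom_ext _ _ ?_ ?_
      · rw [whiskerRight_fst, lift_fst, MonObj.mul_eq_mul, MonObj.comp_mul]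
      · rw [whiskerRight_snd, lift_snd]
    have e2 : (α_ (Red.bc j G) (Red.bc j G) (Red.bc j X)).hom ≫ (Red.bc j G ◁ bcActHom j a) =
        lift (fst _ _ ≫ fst _ _) (lift (fst _ _ ≫ snd _ _) (snd _ _) ≫ bcActHom j a) := by
      refine CartesianMonoidalCategory.hom_ext _ _ ?_ ?_
      · simp
      · simp only [Category.assoc, whiskerLeft_snd, lift_snd]
        rw [← Category.assoc]
        congr 1
        refine CartesianMonoidalCategory.hom_ext _ _ ?_ ?_ <;> simp
    refine toBase_injective j _ _ ?_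
    rw [← Category.assoc, e1, e2, toBase_actHom, toBase_actHom, toBase_actHom, toBase_mul, Groth.L25.Actions.mul_act]

theorem toBase_act (a : AlgGrp.Action G X) {Y : Over P} (g : Y ⟶ Red.bc j G) (x : Y ⟶ Red.bc j X) :
    toBase j (lift g x ≫ (bcAct j a).act) = lift (toBase j g) (toBase j x) ≫ a.act :=
  toBase_actHom j a g x

/-- the base change of a point -/
def bcPt (o : 𝟙_ (Over S) ⟶ X) : 𝟙_ (Over P) ⟶ Red.bc j X :=
  ofBase j (toUnit _ ≫ o)

theorem orbitMap_bc (a : AlgGrp.Action G X) (o : 𝟙_ (Over S) ⟶ X) :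
    (bcAct j a).orbitMap (bcPt j o) = (Over.pullback j).map (a.orbitMap o) := by
  refine toBase_injective j _ _ ?_
  have e : (Over.pullback j).map (a.orbitMap o) = 𝟙 (Red.bc j G) ≫ (Over.pullback j).map (a.orbitMap o) :=
    (Category.id_comp _).symm
  rw [e, toBase_map', AlgGrp.Action.orbitMap, AlgGrp.Action.orbitMap, toBase_act, bcPt, toBase_comp, toBase_ofBase,
    ← Category.assoc, ← Category.assoc (toBase j (𝟙 (Red.bc j G))), comp_lift, Category.comp_id,
    ← Category.assoc (toBase j (𝟙 (Red.bc j G)))]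
  congr 3
  exact toUnit_unique _ _

/-- the cartesian square of a quotient from its kernel relation -/
theorem isPullback_of_rel {H Z : Over S} [GrpObj H] {i : H ⟶ G} [Mono i] (f : G ⟶ Z)
    (key : ∀ (T : Over S) (x y : T ⟶ G), x ≫ f = y ≫ f ↔ ∃ z : T ⟶ H, z ≫ i = x⁻¹ * y) :
    IsPullback (fst G H) ((G ◁ i) ≫ μ[G]) f f := by
  have hmul : ∀ {T : Over S} (g : T ⟶ G) (h : T ⟶ H),
      lift g h ≫ (G ◁ i) ≫ μ[G] = g * (h ≫ i) := fun g h => by rw [lift_whiskerLeft_assoc, Hom.mul_def]
  refine IsPullback.mk' ?_ (fun T φ' ψ' e₁ e₂ => ?_) (fun T x y e => ?_)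
  · refine (key _ _ _).2 ⟨snd G H, ?_⟩
    have e := hmul (fst G H) (snd G H)
    rw [lift_fst_snd, Category.id_comp] at e
    rw [e, inv_mul_cancel_left]
  · have e₁' : ∀ χ : T ⟶ G ⊗ H, χ ≫ (G ◁ i) ≫ μ[G] = (χ ≫ fst _ _) * ((χ ≫ snd _ _) ≫ i) := fun χ => by
      rw [← hmul, lift_comp_fst_snd]
    rw [e₁', e₁', e₁] at e₂
    refine CartesianMonoidalCategory.hom_ext _ _ e₁ ?_
    exact (cancel_mono i).1 (mul_left_cancel e₂)
  · obtain ⟨z, hz⟩ := (key _ x y).1 e
    exact ⟨lift x z, lift_fst _ _, by rw [hmul, hz, mul_inv_cancel_left]⟩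

theorem toBase_inv {Y : Over P} (a : Y ⟶ Red.bc j G) : toBase j a⁻¹ = (toBase j a)⁻¹ :=
  map_inv (MonoidHom.mk' (fun a : Y ⟶ Red.bc j G => toBase j a) (toBase_mul j)) a

/-- points of the base change of a solvable group -/
theorem isSolvableGrp_bc (h : Red.IsSolvableGrp G) : Red.IsSolvableGrp (Red.bc j G) := by
  obtain ⟨n, hn⟩ := h
  refine ⟨n, fun Y => ?_⟩
  let Φ : (Y ⟶ Red.bc j G) →* (Over.mk (Y.hom ≫ j) ⟶ G) := MonoidHom.mk' (fun a => toBase j a) (toBase_mul j)
  refine (Subgroup.map_eq_bot_iff_of_injective _ (f := Φ) (toBase_injective j)).1 (le_bot_iff.1 ?_)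
  exact (map_derivedSeries_le_derivedSeries Φ n).trans (hn _).le

end General

variable {k Ω : Type u} [Field k] [Field Ω] (θ : Spec (CommRingCat.of Ω) ⟶ Spec (CommRingCat.of k))

theorem bc_props_field : Surjective θ ∧ Flat θ ∧ QuasiCompact θ :=
  ⟨⟨fun x => ⟨IsLocalRing.closedPoint Ω, Subsingleton.elim (α := PrimeSpectrum k) _ _⟩⟩, inferInstance,
    quasiCompact_of_compactSpace _⟩

/-- quotients commute with extensions of the base field -/
theorem isQuotient_bc {G H X : Over (Spec (CommRingCat.of k))} [GrpObj G] [GrpObj H] {i : H ⟶ G} [IsMonHom i] [Mono i]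
    {a : AlgGrp.Action G X} {o : 𝟙_ (Over (Spec (CommRingCat.of k))) ⟶ X} (hX : AGF.IsQuotient i X a o) :
    AGF.IsQuotient ((Over.pullback θ).map i) (Red.bc θ X) (bcAct θ a) (bcPt θ o) := by
  obtain ⟨hl, hf, hs, -⟩ := id hX
  haveI := hl
  refine ⟨MorphismProperty.pullback_snd (P := @LocallyOfFiniteType) _ _ hl, ?_, ?_, ?_⟩
  · rw [orbitMap_bc]
    exact MorphismProperty.of_isPullback (P := @Flat) (isPullback_bc_map' θ (a.orbitMap o)).flip hf
  · rw [orbitMap_bc]
    exact MorphismProperty.of_isPullback (P := @Surjective) (isPullback_bc_map' θ (a.orbitMap o)).flip hs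
  · rw [orbitMap_bc]
    haveI : Mono ((Over.pullback θ).map i) := Functor.map_mono _ i
    refine isPullback_of_rel _ fun T x y => ?_
    constructor
    · intro e
      have e0 := congrArg (toBase θ) e
      rw [toBase_map', toBase_map'] at e0
      obtain ⟨z, hz⟩ := (orbitMap_eq_iff hX _ _).1 e0
      refine ⟨ofBase θ z, toBase_injective θ _ _ ?_⟩
      rw [toBase_map', toBase_ofBase, toBase_mul, toBase_inv, hz]
    · rintro ⟨z, hz⟩
      refine toBase_injective θ _ _ ?_
      rw [toBase_map', toBase_map']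
      refine (orbitMap_eq_iff hX _ _).2 ⟨toBase θ z, ?_⟩
      rw [← toBase_map', hz, toBase_mul, toBase_inv]

end Groth.L08.Borel
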