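import Groth.Agent.L08.Borel.DimTorus
import Groth.Agent.L08.Borel.CentTorus
import Groth.Agent.L08.Borel.RedRank
import Groth.Agent.L08.AbelianGrp
import Groth.Agent.L25.SplitSub.KernelField
import Groth.Agent.L25.SplitSub.Image
import Groth.Agent.L25.SplitSub.KernelBC
import Groth.Agent.L25.Extend.EtaleSplit
import Groth.Agent.L25.Bridge.TorsionLift
import Mathlib.LinearAlgebra.FreeModule.PID

/-!
# Subtori commuting with a maximal torus lie in it
-/

set_option autoImplicit false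
set_option backward.isDefEq.respectTransparency.types false
set_option linter.style.haveILetI false
universe u

open CategoryTheory CategoryTheory.Limits MonoidalCategory CartesianMonoidalCategory MonObj AlgebraicGeometry

noncomputable section

namespace Groth.L08.Borel

open Groth.L25

/-- the zero map of characters gives the trivial homomorphism -/
theorem DSmap_zero' {S : Scheme.{u}} {M N : Type} [AddCommGroup M] [AddCommGroup N] :
    Red.DSmap S (0 : M →+ N) = 1 := by
  rw [← Category.id_comp (Red.DSmap S (0 : M →+ N))]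
  refine DSPts.char_injective ?_
  rw [SplitSub.char_DSmap, DSPts.char_one]
  refine MonoidHom.ext fun m => ?_
  show DSPts.char (𝟙 (Red.DS S N)) (Multiplicative.ofAdd 0) = 1
  exact map_one _

/-- base change commutes with maps of characters -/
theorem bc_DSmap {S P : Scheme.{u}} (g : P ⟶ S) {M N : Type} [AddCommGroup M] [AddCommGroup N] (φ : M →+ N) :
    (Over.pullback g).map (Red.DSmap S φ) ≫ (SplitSub.bcDS g).hom = (SplitSub.bcDS g).hom ≫ Red.DSmap P φ := by
  refine DSPts.char_injective ?_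
  rw [SplitSub.char_DSmap, SplitSub.char_bcDS]
  conv_rhs => rw [← Category.id_comp (SplitSub.bcDS (N := N) g).hom, SplitSub.char_bcDS]
  have key : NilAction.toBase g ((Over.pullback g).map (Red.DSmap S φ)) =
      NilAction.toBase g (𝟙 (Red.bc g (Red.DS S N))) ≫ Red.DSmap S φ :=
    Over.OverMorphism.ext (by
      simp [NilAction.toBase, Over.pullback_map_left, pullback.lift_fst])
  rw [key, SplitSub.char_DSmap]

/-- homomorphisms of multiplicative groups: products of commuting homomorphisms -/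
theorem isMonHom_mul_of_commute {S : Scheme.{u}} {X G : Over S} [GrpObj X] [GrpObj G] (a b : X ⟶ G) [IsMonHom a]
    [IsMonHom b] (h : ∀ (Y : Over S) (x y : Y ⟶ X), Commute (x ≫ b) (y ≫ a)) : IsMonHom (a * b) :=
  Bridge.isMonHom_of_mul _ fun Y x y => by
    simp only [MonObj.comp_mul]
    rw [MonObj.mul_comp x y a, MonObj.mul_comp x y b]
    calc (x ≫ a) * (y ≫ a) * ((x ≫ b) * (y ≫ b)) = (x ≫ a) * ((y ≫ a) * (x ≫ b)) * (y ≫ b) := by
          simp only [_root_.mul_assoc]
      _ = (x ≫ a) * ((x ≫ b) * (y ≫ a)) * (y ≫ b) := by rw [(h Y x y).eq]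
      _ = _ := by simp only [_root_.mul_assoc]

/-- over an algebraically closed field a torus commuting with a maximal torus lies in it -/
theorem exists_fac_of_commute_field {k : Type u} [Field k] [IsAlgClosed k]
    {G T R : Over (Spec (CommRingCat.of k))} [GrpObj G] [GrpObj T] [GrpObj R] [LocallyOfFiniteType G.hom]
    {i : T ⟶ G} (hT : AGF.IsMaxTorus i) (j : R ⟶ G) [IsMonHom j] (hR : Red.IsTorus R)
    (hcomm : ∀ (X : Over (Spec (CommRingCat.of k))) (t : X ⟶ T) (r : X ⟶ R), (t ≫ i) * (r ≫ j) = (r ≫ j) * (t ≫ i)) :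
    ∃ f : R ⟶ T, IsMonHom f ∧ f ≫ i = j := by
  obtain ⟨hi, him, hTt, hmax⟩ := hT
  haveI := hi; haveI := him
  haveI : IsSeparated G.hom := Groth.L08.AbelianGrp.isSeparated G
  obtain ⟨a, ha⟩ := exists_split_rank hTt
  obtain ⟨b, hb⟩ := exists_split_rank hR
  obtain ⟨p, p', hp, hp', hpp', hp'p, hpi⟩ := SplitSub.exists_std ha
  obtain ⟨q, q', hq, hq', hqq', hq'q, hqi⟩ := SplitSub.exists_std hb
  haveI := hp; haveI := hp'; haveI := hq; haveI := hq'
  let S := Spec (CommRingCat.of k)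
  let A := Fin a → ℤ
  let B := Fin b → ℤ
  let pA : Red.DS S (A × B) ⟶ Red.DS S A := Red.DSmap S (AddMonoidHom.inl A B)
  let pB : Red.DS S (A × B) ⟶ Red.DS S B := Red.DSmap S (AddMonoidHom.inr A B)
  let sA : Red.DS S A ⟶ Red.DS S (A × B) := Red.DSmap S (AddMonoidHom.fst A B)
  let sB : Red.DS S B ⟶ Red.DS S (A × B) := Red.DSmap S (AddMonoidHom.snd A B)
  haveI : IsMonHom pA := TorusTorsion.isMonHom_DSmap S _
  haveI : IsMonHom pB := TorusTorsion.isMonHom_DSmap S _
  haveI : IsMonHom sA := TorusTorsion.isMonHom_DSmap S _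
  haveI : IsMonHom sB := TorusTorsion.isMonHom_DSmap S _
  have eAA : sA ≫ pA = 𝟙 _ := by
    rw [TorusTorsion.DSmap_comp, AddMonoidHom.fst_comp_inl, TorusTorsion.DSmap_id]
  have eAB : sA ≫ pB = 1 := by
    rw [TorusTorsion.DSmap_comp, AddMonoidHom.fst_comp_inr, DSmap_zero']
  have eBB : sB ≫ pB = 𝟙 _ := by
    rw [TorusTorsion.DSmap_comp, AddMonoidHom.snd_comp_inr, TorusTorsion.DSmap_id]
  have eBA : sB ≫ pA = 1 := by
    rw [TorusTorsion.DSmap_comp, AddMonoidHom.snd_comp_inl, DSmap_zero']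
  let u₁ := pA ≫ p ≫ i
  let u₂ := pB ≫ q ≫ j
  haveI : IsMonHom u₁ := inferInstanceAs (IsMonHom (pA ≫ p ≫ i))
  haveI : IsMonHom u₂ := inferInstanceAs (IsMonHom (pB ≫ q ≫ j))
  haveI : IsMonHom (u₁ * u₂) := isMonHom_mul_of_commute u₁ u₂ fun Y x y => by
    show _ = _
    simp only [u₁, u₂, ← Category.assoc]
    exact (hcomm Y _ _).symm
  obtain ⟨Λ, hgood⟩ := SplitSub.exists_good_field (u₁ * u₂)
  obtain ⟨v, hv, hvm, hvu⟩ := SplitSub.exists_factor _ hgood
  haveI := hv; haveI := hvm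
  haveI : Module.Finite ℤ Λ.toIntSubmodule := inferInstance
  let bas := Module.finBasis ℤ Λ.toIntSubmodule
  let eΛ : Λ ≃+ (Fin (Module.finrank ℤ Λ.toIntSubmodule) → ℤ) := bas.equivFun.toAddEquiv
  have hΛ : Red.IsTorus (Red.DS S Λ) :=
    TorLift.isTorus_of_iso (TorLift.dsCongr S eΛ).symm (isTorus_ds S _)
  haveI : IsMonHom (SplitSub.incl S Λ) := TorusTorsion.isMonHom_DSmap S _
  have hA : sA ≫ (u₁ * u₂) = p ≫ i := by
    simp only [u₁, u₂, MonObj.comp_mul, reassoc_of% eAA, reassoc_of% eAB, MonObj.one_comp, _root_.mul_one]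
  have hB : sB ≫ (u₁ * u₂) = q ≫ j := by
    simp only [u₁, u₂, MonObj.comp_mul, reassoc_of% eBB, reassoc_of% eBA, MonObj.one_comp, _root_.one_mul]
  let f : T ⟶ Red.DS S Λ := p' ≫ sA ≫ SplitSub.incl S Λ
  have hf : f ≫ v = i := by
    simp only [f, Category.assoc]
    exact (congrArg (fun z => p' ≫ sA ≫ z) hvu).trans (by rw [hA, reassoc_of% hp'p])
  haveI : IsIso f := hmax _ v f hΛ hf
  let g : R ⟶ Red.DS S Λ := q' ≫ sB ≫ SplitSub.incl S Λ
  have hg : g ≫ v = j := by
    simp only [g, Category.assoc]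
    exact (congrArg (fun z => q' ≫ sB ≫ z) hvu).trans (by rw [hB, reassoc_of% hq'q])
  haveI : IsMonHom f := inferInstanceAs (IsMonHom (p' ≫ sA ≫ SplitSub.incl S Λ))
  haveI : IsMonHom g := inferInstanceAs (IsMonHom (q' ≫ sB ≫ SplitSub.incl S Λ))
  refine ⟨g ≫ inv f, ?_, ?_⟩
  · haveI : IsMonHom (asIso f).hom := ‹IsMonHom f›
    exact inferInstanceAs (IsMonHom (g ≫ (asIso f).inv))
  · rw [← hf, Category.assoc, IsIso.inv_hom_id_assoc, hg]

end Groth.L08.Borel
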