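import Groth.Agent.L08.Borel.Quasi
import Groth.Agent.L26.AV.SmoothField
import Mathlib.AlgebraicGeometry.Properties
import Mathlib.RingTheory.Spectrum.Prime.Topology

/-!
# `G/H` maps monomorphically to an affine scheme when `G` is connected solvable
-/

set_option autoImplicit false
set_option backward.isDefEq.respectTransparency.types false
set_option linter.style.haveILetI false

universe u

open CategoryTheory CategoryTheory.Limits MonoidalCategory CartesianMonoidalCategory MonObj AlgebraicGeometry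
open TensorProduct WithConv

noncomputable section

namespace Groth.L08.Borel

open Groth.L08.HomSpace

theorem idempotent_trivial {A : Type u} [CommRing A] [PreconnectedSpace (PrimeSpectrum A)] (e : A)
    (he : IsIdempotentElem e) : e = 0 ∨ e = 1 := by
  have hc : (PrimeSpectrum.basicOpen e : Set (PrimeSpectrum A))ᶜ = PrimeSpectrum.basicOpen (1 - e) := by
    ext p
    simp only [Set.mem_compl_iff, SetLike.mem_coe, PrimeSpectrum.mem_basicOpen, not_not]
    refine ⟨fun h h' => p.2.ne_top ((Ideal.eq_top_iff_one _).2 (by simpa using p.asIdeal.add_mem h h')), fun h => ?_⟩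
    have h0 : e * (1 - e) ∈ p.asIdeal := by rw [mul_sub, _root_.mul_one, he.eq, sub_self]; exact p.asIdeal.zero_mem
    exact (p.2.mem_or_mem h0).resolve_right h
  have hcl : IsClopen (PrimeSpectrum.basicOpen e : Set (PrimeSpectrum A)) :=
    ⟨⟨hc ▸ (PrimeSpectrum.basicOpen (1 - e)).isOpen⟩, (PrimeSpectrum.basicOpen e).isOpen⟩
  rcases isClopen_iff.1 hcl with h | h
  · have hn : IsNilpotent e := by
      rw [← PrimeSpectrum.basicOpen_eq_bot_iff]
      exact TopologicalSpace.Opens.ext h
    exact Or.inl (he.eq_zero_of_isNilpotent hn)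
  · have hn : IsNilpotent (1 - e) := by
      rw [← PrimeSpectrum.basicOpen_eq_bot_iff]
      exact TopologicalSpace.Opens.ext (by rw [← hc, h, Set.compl_univ]; rfl)
    exact Or.inr (sub_eq_zero.1 (he.one_sub.eq_zero_of_isNilpotent hn)).symm

variable {k : Type u} [Field k]

/-- the unit object as a spectrum -/
def unitToSpec : 𝟙_ (Over (Spec (CommRingCat.of k))) ⟶ specOf k k :=
  Over.homMk (𝟙 _) (by
    show 𝟙 _ ≫ Spec.map (CommRingCat.ofHom (algebraMap k k)) = 𝟙 _
    rw [Category.id_comp, Algebra.algebraMap_self]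
    exact Spec.map_id _)

variable [IsAlgClosed k]

/-- A quotient of a connected solvable affine group maps monomorphically to an affine scheme. -/
theorem exists_mono_affine {G H X : Over (Spec (CommRingCat.of k))} [GrpObj G] [GrpObj H] [IsAffine G.left]
    [Smooth G.hom] [ConnectedSpace G.left]
    [Group.IsSolvable (𝟙_ (Over (Spec (CommRingCat.of k))) ⟶ G)]
    {i : H ⟶ G} [IsMonHom i] [IsClosedImmersion i.left] {a : AlgGrp.Action G X}
    {o : 𝟙_ (Over (Spec (CommRingCat.of k))) ⟶ X} (hX : AGF.IsQuotient i X a o) :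
    ∃ (Z : Over (Spec (CommRingCat.of k))) (j : X ⟶ Z), IsAffine Z.left ∧ LocallyOfFiniteType Z.hom ∧ Mono j := by
  classical
  obtain ⟨H₀, ⟨eG⟩⟩ := (essImage_hopfSpec (G := Grp.mk G)).mpr ‹IsAffine G.left›
  let A := H₀.unop
  let φ : specOf k A ⟶ G := eG.hom.hom.hom
  let ψ : G ⟶ specOf k A := eG.inv.hom.hom
  have h1 : φ ≫ ψ = 𝟙 _ := congrArg (fun f => f.hom.hom) eG.hom_inv_id
  have h2 : ψ ≫ φ = 𝟙 G := congrArg (fun f => f.hom.hom) eG.inv_hom_id
  haveI : IsMonHom φ := eG.hom.hom.isMonHom_hom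
  haveI : IsMonHom ψ := eG.inv.hom.isMonHom_hom
  haveI : IsIso φ := ⟨ψ, h1, h2⟩
  haveI : IsIso ψ := ⟨φ, h2, h1⟩
  haveI : IsIso ψ.left := inferInstanceAs (IsIso ((Over.forget _).map ψ))
  haveI : IsIso φ.left := inferInstanceAs (IsIso ((Over.forget _).map φ))
  haveI hft : LocallyOfFiniteType (specOf k A).hom := by rw [← Over.w φ]; infer_instance
  haveI : Algebra.FiniteType k A := by
    change LocallyOfFiniteType (Spec.map (CommRingCat.ofHom (algebraMap k A))) at hft
    rwa [HasRingHomProperty.Spec_iff (P := @LocallyOfFiniteType), CommRingCat.hom_ofHom,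
      RingHom.finiteType_algebraMap] at hft
  haveI : IsReduced G.left := Groth.Agent.AV.isReduced_of_smooth_field G.hom
  let φl : Spec (CommRingCat.of A) ⟶ G.left := φ.left
  haveI : IsIso φl := ‹IsIso φ.left›
  haveI : IsReduced (Spec (CommRingCat.of A)) := isReduced_of_isOpenImmersion φl
  haveI : _root_.IsReduced A := affine_isReduced_iff (CommRingCat.of A) |>.1 inferInstance
  haveI : ConnectedSpace (PrimeSpectrum A) := ψ.left.homeomorph.surjective.connectedSpace ψ.left.homeomorph.continuous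
  -- the rational points
  let Φ : WithConv (A →ₐ[k] k) →* (𝟙_ (Over (Spec (CommRingCat.of k))) ⟶ G) :=
    { toFun := fun g => unitToSpec ≫ Spec.mapMulEquiv g ≫ φ
      map_one' := by rw [map_one, MonObj.one_comp, MonObj.comp_one]
      map_mul' := fun g g' => by rw [map_mul, MonObj.mul_comp, MonObj.comp_mul] }
  haveI : IsIso (unitToSpec (k := k)).left := inferInstanceAs (IsIso (𝟙 (Spec (CommRingCat.of k))))
  haveI : IsIso ((Over.forget _).map (unitToSpec (k := k))) := ‹_›
  haveI : IsIso (unitToSpec (k := k)) := isIso_of_reflects_iso _ (Over.forget _)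
  have hΦ : Function.Injective Φ := fun g g' e => by
    have e' : unitToSpec ≫ Spec.mapMulEquiv g ≫ φ = unitToSpec ≫ Spec.mapMulEquiv g' ≫ φ := e
    rw [cancel_epi, cancel_mono] at e'
    exact Spec.mapMulEquiv.injective e'
  haveI : Group.IsSolvable (WithConv (A →ₐ[k] k)) := Group.isSolvable_of_isSolvable_injective hΦ
  have hT : HopfRep.IsTrigonalizable k A := Groth.Agent.S3266.result k A idempotent_trivial
  -- the line
  let i' : H ⟶ specOf k A := i ≫ ψ
  haveI : IsMonHom i' := inferInstanceAs (IsMonHom (i ≫ ψ))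
  haveI : IsClosedImmersion i'.left := inferInstanceAs (IsClosedImmersion (i.left ≫ ψ.left))
  obtain ⟨I, hI, hpts⟩ := exists_hopfIdeal i'
  obtain ⟨V, _, _, _, hfin, v, hv, hrep⟩ := Chevalley.exists_line (k := k) I
  let d := Module.finrank k V
  let b : Module.Basis (Fin d) k V := Module.finBasis k V
  obtain ⟨t, ht⟩ := exists_isUnit_comb hT b hv
  let c : Fin d → A := coords A b v
  let f : Fin d → A := fun i => c i * ((ht.unit⁻¹ : Aˣ) : A)
  let Z := specOf k (MvPolynomial (Fin d) k)
  let o₀ : specOf k A ⟶ Z := specPt (MvPolynomial.aeval f : MvPolynomial (Fin d) k →ₐ[k] A)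
  have hsum : ∀ {R : Type u} [CommRing R] [Algebra k R] (x : A →ₐ[k] R),
      x (∑ i, algebraMap k A (t i) * c i) = ∑ i, algebraMap k R (t i) * x (c i) := by
    intro R _ _ x
    simp [map_sum, map_mul]
  -- the criterion on affine points
  have ho₀ : ∀ (R : Type u) [CommRing R] [Algebra k R] (g h : WithConv (A →ₐ[k] R)),
      Spec.mapMulEquiv g ≫ o₀ = Spec.mapMulEquiv h ≫ o₀ ↔ ∀ x ∈ I, (pinv g * h).ofConv x = 0 := by
    intro R _ _ g h
    refine Iff.trans ?_ ((smul_iff_stab b v g h).trans (hrep R (pinv g * h).ofConv).symm)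
    have key : Spec.mapMulEquiv g ≫ o₀ = Spec.mapMulEquiv h ≫ o₀ ↔ ∀ i, g.ofConv (f i) = h.ofConv (f i) := by
      have e : ∀ x : WithConv (A →ₐ[k] R), (Spec.mapMulEquiv x ≫ o₀).left =
          Spec.map (CommRingCat.ofHom ((x.ofConv.comp (MvPolynomial.aeval f)).toRingHom)) := fun x => by
        refine (Spec.map_comp _ _).symm.trans ?_
        rfl
      constructor
      · intro he i
        have h0 := congrArg CommRingCat.Hom.hom (Spec.map_injective
          ((e g).symm.trans ((congrArg CommaMorphism.left he).trans (e h))))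
        have h2 := congr($h0 (MvPolynomial.X i))
        simpa using h2
      · intro he
        refine Over.OverMorphism.ext ((e g).trans (((congrArg Spec.map ?_)).trans (e h).symm))
        refine congrArg CommRingCat.ofHom (congrArg AlgHom.toRingHom (MvPolynomial.algHom_ext fun i => ?_))
        simpa using he i
    rw [key]
    have hu : ∀ x : WithConv (A →ₐ[k] R), x.ofConv (∑ i, algebraMap k A (t i) * c i) *
        x.ofConv ((ht.unit⁻¹ : Aˣ) : A) = 1 := fun x => by
      rw [← map_mul, IsUnit.mul_val_inv, map_one]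
    constructor
    · intro he
      refine ⟨h.ofConv (∑ i, algebraMap k A (t i) * c i) * g.ofConv ((ht.unit⁻¹ : Aˣ) : A), fun j => ?_⟩
      have := he j
      simp only [f, map_mul] at this
      calc h.ofConv (c j) = h.ofConv (c j) * h.ofConv ((ht.unit⁻¹ : Aˣ) : A) *
            h.ofConv (∑ i, algebraMap k A (t i) * c i) := by
            rw [_root_.mul_assoc, _root_.mul_comm (h.ofConv ((ht.unit⁻¹ : Aˣ) : A)), hu, _root_.mul_one]
        _ = g.ofConv (c j) * g.ofConv ((ht.unit⁻¹ : Aˣ) : A) * h.ofConv (∑ i, algebraMap k A (t i) * c i) := by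
            rw [this]
        _ = _ := by ring
    · rintro ⟨r, hr⟩ j
      have hs : h.ofConv (∑ i, algebraMap k A (t i) * c i) = r * g.ofConv (∑ i, algebraMap k A (t i) * c i) := by
        rw [hsum, hsum, Finset.mul_sum]
        refine Finset.sum_congr rfl fun i _ => ?_
        rw [hr i]; ring
      simp only [f, map_mul]
      have hg := hu g
      have hh := hu h
      rw [hs] at hh
      calc g.ofConv (c j) * g.ofConv ((ht.unit⁻¹ : Aˣ) : A)
          = g.ofConv (c j) * g.ofConv ((ht.unit⁻¹ : Aˣ) : A) *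
              (r * g.ofConv (∑ i, algebraMap k A (t i) * c i) * h.ofConv ((ht.unit⁻¹ : Aˣ) : A)) := by
            rw [hh, _root_.mul_one]
        _ = r * g.ofConv (c j) * h.ofConv ((ht.unit⁻¹ : Aˣ) : A) *
              (g.ofConv (∑ i, algebraMap k A (t i) * c i) * g.ofConv ((ht.unit⁻¹ : Aˣ) : A)) := by ring
        _ = h.ofConv (c j) * h.ofConv ((ht.unit⁻¹ : Aˣ) : A) := by rw [hg, _root_.mul_one, ← hr j]
  haveI : IsAffine Z.left := inferInstanceAs (IsAffine (Spec _))
  haveI hZ : LocallyOfFiniteType Z.hom := by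
    show LocallyOfFiniteType (Spec.map (CommRingCat.ofHom (algebraMap k (MvPolynomial (Fin d) k))))
    rw [HasRingHomProperty.Spec_iff (P := @LocallyOfFiniteType), CommRingCat.hom_ofHom, RingHom.finiteType_algebraMap]
    infer_instance
  haveI : Mono i'.left := inferInstance
  haveI : Mono i' := Over.mono_of_mono_left i'
  haveI : Mono i.left := inferInstance
  haveI : Mono i := Over.mono_of_mono_left i
  -- kernel pair
  have key : ∀ {T : Over (Spec (CommRingCat.of k))} (x y : T ⟶ G),
      x ≫ ψ ≫ o₀ = y ≫ ψ ≫ o₀ ↔ ∃ z : T ⟶ H, z ≫ i = x⁻¹ * y := by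
    intro T x y
    have hR : ∀ (R : Type u) [CommRing R] [Algebra k R] (s : specOf k R ⟶ T),
        (s ≫ x ≫ ψ ≫ o₀ = s ≫ y ≫ ψ ≫ o₀) ↔ ∃ z, z ≫ i = s ≫ (x⁻¹ * y) := by
      intro R _ _ s
      obtain ⟨g, hg⟩ := (Spec.mapMulEquiv (R := k) (S := A) (T := R)).surjective (s ≫ x ≫ ψ)
      obtain ⟨h, hh⟩ := (Spec.mapMulEquiv (R := k) (S := A) (T := R)).surjective (s ≫ y ≫ ψ)
      have hx : s ≫ x ≫ ψ ≫ o₀ = Spec.mapMulEquiv g ≫ o₀ := by rw [hg]; simp only [Category.assoc]
      have hy : s ≫ y ≫ ψ ≫ o₀ = Spec.mapMulEquiv h ≫ o₀ := by rw [hh]; simp only [Category.assoc]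
      have hgi : Spec.mapMulEquiv (pinv g) = (Spec.mapMulEquiv g)⁻¹ :=
        (inv_eq_of_mul_eq_one_left (((map_mul _ _ _).symm.trans (congrArg _ (pinv_mul g))).trans (map_one _))).symm
      have hgh : Spec.mapMulEquiv (pinv g * h) = (s ≫ (x⁻¹ * y)) ≫ ψ := by
        rw [map_mul, hgi, hg, hh, MonObj.comp_mul, GrpObj.comp_inv, mul_comp, GrpObj.inv_comp, Category.assoc,
          Category.assoc]
      rw [hx, hy, ho₀ R g h, ← hpts R (pinv g * h), hgh]
      refine exists_congr fun z => ?_
      rw [show i' = i ≫ ψ from rfl, ← Category.assoc, cancel_mono]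
    constructor
    · intro e
      exact exists_lift_of_cover_mono i _ fun R _ _ s => (hR R s).1 (by rw [e])
    · rintro ⟨z, hz⟩
      exact hom_ext_affine _ _ fun R _ _ s => (hR R s).2 ⟨s ≫ z, by rw [Category.assoc, hz]⟩
  have hmul : ∀ {T : Over (Spec (CommRingCat.of k))} (g : T ⟶ G) (h : T ⟶ H),
      lift g h ≫ (G ◁ i) ≫ μ[G] = g * (h ≫ i) := fun g h => by rw [lift_whiskerLeft_assoc, Hom.mul_def]
  have sq : IsPullback (fst G H) ((G ◁ i) ≫ μ[G]) (ψ ≫ o₀) (ψ ≫ o₀) := by
    refine IsPullback.mk' ?_ (fun T φ' ψ' e₁ e₂ => ?_) (fun T x y e => ?_)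
    · refine (key _ _).2 ⟨snd G H, ?_⟩
      have e := hmul (fst G H) (snd G H)
      rw [lift_fst_snd, Category.id_comp] at e
      rw [e, inv_mul_cancel_left]
    · have e₁' : ∀ χ : T ⟶ G ⊗ H, χ ≫ (G ◁ i) ≫ μ[G] = (χ ≫ fst _ _) * ((χ ≫ snd _ _) ≫ i) := fun χ => by
        rw [← hmul, lift_comp_fst_snd]
      rw [e₁', e₁', e₁] at e₂
      refine CartesianMonoidalCategory.hom_ext _ _ e₁ ?_
      exact (cancel_mono i).1 (mul_left_cancel e₂)
    · obtain ⟨z, hz⟩ := (key x y).1 e
      exact ⟨lift x z, lift_fst _ _, by rw [hmul, hz, mul_inv_cancel_left]⟩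
  obtain ⟨j, -, hj⟩ := exists_mono hX (ψ ≫ o₀) sq
  exact ⟨Z, j, inferInstance, hZ, hj⟩

/-- Proper closed subschemes of `G/H` are finite when `G` is connected solvable. -/
theorem finite_of_proper {G H X : Over (Spec (CommRingCat.of k))} [GrpObj G] [GrpObj H] [IsAffine G.left]
    [Smooth G.hom] [ConnectedSpace G.left]
    [Group.IsSolvable (𝟙_ (Over (Spec (CommRingCat.of k))) ⟶ G)]
    {i : H ⟶ G} [IsMonHom i] [IsClosedImmersion i.left] {a : AlgGrp.Action G X}
    {o : 𝟙_ (Over (Spec (CommRingCat.of k))) ⟶ X} (hX : AGF.IsQuotient i X a o)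
    {W : Scheme.{u}} (w : W ⟶ X.left) [Mono w] [IsProper (w ≫ X.hom)] :
    IsFinite (w ≫ X.hom) := by
  obtain ⟨Z, j, hZ, hlft, hj⟩ := exists_mono_affine hX
  haveI : Mono ((Over.forget _).map j) := inferInstance
  haveI : Mono j.left := ‹Mono ((Over.forget _).map j)›
  haveI : Mono (w ≫ j.left) := mono_comp _ _
  haveI : IsAffineHom Z.hom := isAffineHom_of_isAffine Z.hom
  have e : (w ≫ j.left) ≫ Z.hom = w ≫ X.hom := by rw [Category.assoc, Over.w]
  haveI : IsProper ((w ≫ j.left) ≫ Z.hom) := by rw [e]; infer_instance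
  haveI : IsProper (w ≫ j.left) := IsProper.of_comp (w ≫ j.left) Z.hom
  haveI : IsClosedImmersion (w ≫ j.left) := (IsClosedImmersion.iff_isProper_and_mono _).2 ⟨inferInstance, inferInstance⟩
  rw [IsFinite.iff_isProper_and_isAffineHom]
  refine ⟨inferInstance, ?_⟩
  rw [← e]
  infer_instance

end Groth.L08.Borel
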