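import Groth.Agent.L08.Borel.Conj
import Groth.Agent.L08.Borel.QuasiScheme
import Groth.Agent.S2966
import Groth.Agent.L08.Points
import Groth.Agent.L01.DimOne.Comm
import Groth.Agent.S3266
import Groth.Agent.S7967
import Groth.Agent.S4128
import Groth.Agent.S5429
import Groth.Agent.L01.Unip.SepTrig
import Groth.Agent.L01.Unip.Affine
import Groth.Agent.L08.TorusQuot.Affine
import Groth.Agent.L25.Bridge.Lift
import Groth.Agent.L25.TorLift.Central
import Groth.Agent.L25.Locus.FixedConn
import Groth.Agent.L14.RedLR.Over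

/-!
# Maximal tori of a connected solvable group over an algebraically closed field
-/

set_option autoImplicit false
set_option backward.isDefEq.respectTransparency.types false
set_option linter.style.haveILetI false

universe u

open CategoryTheory CategoryTheory.Limits MonoidalCategory CartesianMonoidalCategory MonObj AlgebraicGeometry
open TensorProduct WithConv
open Groth.L25.Bridge (P)
open Groth.L08.TorusQuot (sp sp_left sp_comp exists_sp toPt toPt_pre SP spA toPt_post)

noncomputable section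

namespace Groth.L08.Borel

variable {k : Type u} [Field k] {A B C : Type u} [CommRing A] [HopfAlgebra k A] [CommRing B] [HopfAlgebra k B]
  [CommRing C] [HopfAlgebra k C]

local notation "U1" => 𝟙_ (Over (Spec (CommRingCat.of k)))

/-- the ideal generated by the image of a Hopf ideal is a Hopf ideal -/
theorem isHopfIdeal_map_ker_comp (ψ : B →ₐc[k] A) (π : B →ₐc[k] C) (hπ : Function.Surjective π) (I : Ideal A)
    (hI : I = (RingHom.ker (π : B →ₐ[k] C)).map (ψ : B →ₐ[k] A)) : I.IsHopfIdeal k := by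
  have hgen : ∀ b : B, π b = 0 → ψ b ∈ I := fun b hb => hI ▸ Ideal.mem_map_of_mem _ hb
  let πA : B →ₐ[k] C := π
  let ψA : B →ₐ[k] A := ψ
  let K : Ideal B := RingHom.ker πA
  let l : B ⧸ K →ₐ[k] A ⧸ I := Ideal.Quotient.liftₐ K ((Ideal.Quotient.mkₐ k I).comp ψA)
    fun b hb => Ideal.Quotient.eq_zero_iff_mem.2 (hgen b hb)
  let eq : (B ⧸ K) ≃ₐ[k] C := Ideal.quotientKerAlgEquivOfSurjective (f := πA) hπ
  let g : C →ₐ[k] (A ⧸ I) := l.comp eq.symm.toAlgHom
  have hg : ∀ b, g (π b) = Ideal.Quotient.mkₐ k I (ψ b) := fun b => by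
    show l (eq.symm (πA b)) = _
    rw [show eq.symm (πA b) = Ideal.Quotient.mk K b from by
        rw [AlgEquiv.symm_apply_eq]; rfl]
    rfl
  refine { toIsCoideal := ⟨fun x hx => ?_, fun x hx => ?_⟩, antipode_mem := fun x hx => ?_ }
  · have hx' : x ∈ I := hx
    rw [hI, Ideal.map] at hx'
    refine Submodule.span_induction (fun y hy => ?_) (map_zero _)
      (fun y z _ _ hy hz => by rw [map_add, hy, hz, add_zero])
      (fun a y _ hy => by rw [smul_eq_mul, Bialgebra.counit_mul, hy, mul_zero]) hx'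
    obtain ⟨b, hb, rfl⟩ := hy
    have h1 : Coalgebra.counit (R := k) (π b) = Coalgebra.counit (R := k) b := CoalgHomClass.counit_comp_apply π b
    rw [show π b = 0 from hb, map_zero] at h1
    exact (CoalgHomClass.counit_comp_apply ψ b).trans h1.symm
  · let f : A →ₐ[k] (A ⧸ I) ⊗[k] (A ⧸ I) :=
      (Algebra.TensorProduct.map (Ideal.Quotient.mkₐ k I) (Ideal.Quotient.mkₐ k I)).comp
        (Bialgebra.comulAlgHom k A)
    have hf : I ≤ RingHom.ker f := by
      refine hI.trans_le (Ideal.map_le_iff_le_comap.2 fun b hb => ?_)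
      rw [Ideal.mem_comap, RingHom.mem_ker]
      have key : ∀ w : B ⊗[k] B, Algebra.TensorProduct.map (Ideal.Quotient.mkₐ k I) (Ideal.Quotient.mkₐ k I)
          (TensorProduct.map (ψ : B →ₐ[k] A).toLinearMap (ψ : B →ₐ[k] A).toLinearMap w) =
          TensorProduct.map g.toLinearMap g.toLinearMap
            (TensorProduct.map (π : B →ₐ[k] C).toLinearMap (π : B →ₐ[k] C).toLinearMap w) := by
        intro w
        induction w using TensorProduct.induction_on with
        | zero => simp
        | add p q hp hq => simp only [map_add, hp, hq]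
        | tmul p q =>
          simp only [TensorProduct.map_tmul, Algebra.TensorProduct.map_tmul, AlgHom.toLinearMap_apply,
            BialgHom.coe_toAlgHom, hg]
      show Algebra.TensorProduct.map (Ideal.Quotient.mkₐ k I) (Ideal.Quotient.mkₐ k I)
        (Coalgebra.comul (R := k) (ψ b)) = 0
      rw [← CoalgHomClass.map_comp_comul_apply ψ b]
      refine (key _).trans ?_
      rw [show TensorProduct.map (π : B →ₐ[k] C).toLinearMap (π : B →ₐ[k] C).toLinearMap
        (Coalgebra.comul (R := k) b) = Coalgebra.comul (R := k) (π b) from CoalgHomClass.map_comp_comul_apply π b,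
        show π b = 0 from hb, map_zero, map_zero]
    have h2 := RingHom.mem_ker.1 (hf hx)
    exact h2
  · have hx' : x ∈ I := hx
    rw [hI] at hx'
    have : Ideal.map (ψ : B →ₐ[k] A) (RingHom.ker (π : B →ₐ[k] C)) ≤
        I.comap (HopfAlgebra.antipodeAlgHom k A) := by
      refine Ideal.map_le_iff_le_comap.2 fun b hb => ?_
      show HopfAlgebra.antipode k (ψ b) ∈ I
      rw [← Groth.L25.Char.bialgHom_antipode ψ b]
      refine hgen _ ?_
      rw [Groth.L25.Char.bialgHom_antipode π b, show π b = 0 from hb, map_zero]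
    exact this hx'

/-- a root of unity in a connected algebra over an algebraically closed field is a scalar -/
theorem exists_algebraMap_eq_of_pow_eq_one [IsAlgClosed k] [_root_.IsReduced A]
    (hconn : ∀ e : A, IsIdempotentElem e → e = 0 ∨ e = 1) (x : A) {m : ℕ} (hm : 0 < m) (hx : x ^ m = 1) :
    ∃ c : k, x = algebraMap k A c := by
  classical
  have hint : _root_.IsIntegral k x := ⟨Polynomial.X ^ m - 1, Polynomial.monic_X_pow_sub_C _ hm.ne', by simp [hx]⟩
  let S := Algebra.adjoin k ({x} : Set A)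
  haveI : Module.Finite k S := ⟨(Submodule.fg_top _).2 hint.fg_adjoin_singleton⟩
  haveI : IsArtinianRing S := IsArtinianRing.of_finite k S
  haveI : _root_.IsReduced S := isReduced_of_injective S.val Subtype.val_injective
  have hS : ∀ e : S, IsIdempotentElem e → e = 0 ∨ e = 1 := fun e he =>
    (hconn e.1 (congrArg Subtype.val he)).imp (fun h => Subtype.ext h) (fun h => Subtype.ext h)
  have hfield : IsField S := by
    haveI : Nontrivial A := (Bialgebra.counitAlgHom k A).toRingHom.domain_nontrivial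
    refine { exists_pair_ne := ⟨0, 1, zero_ne_one⟩, mul_comm := _root_.mul_comm, mul_inv_cancel := fun {y} hy => ?_ }
    obtain ⟨n, c, hc⟩ := IsArtinian.exists_pow_succ_smul_dvd y (1 : S)
    have hc' : y ^ n.succ * c = y ^ n := by simpa using hc
    have h1 : y * (1 - y * c) = 0 := by
      refine IsReduced.eq_zero _ ⟨n + 1, ?_⟩
      have h2 : y ^ n * (1 - y * c) = 0 := by
        rw [mul_sub, _root_.mul_one, ← _root_.mul_assoc, ← pow_succ, hc', sub_self]
      rw [mul_pow, pow_succ y n, pow_succ' (1 - y * c) n]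
      linear_combination (y * (1 - y * c) ^ n) * h2
    have he : IsIdempotentElem (y * c) := by
      show (y * c) * (y * c) = y * c
      linear_combination (-c) * h1
    rcases hS _ he with h | h
    · exact absurd (by linear_combination h1 + y * h) hy
    · exact ⟨c, h⟩
  haveI : IsDomain S := hfield.isDomain
  haveI : Algebra.IsIntegral k S := Algebra.IsIntegral.of_finite k S
  obtain ⟨c, hc⟩ := (IsAlgClosed.algebraMap_bijective_of_isIntegral (k := k) (K := S)).2
    ⟨x, Algebra.subset_adjoin rfl⟩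
  exact ⟨c, (congrArg Subtype.val hc).symm⟩

private theorem mapDomain_bijective.{w, v} {M : Type w} {N : Type v} [CommMonoid M] [CommMonoid N] (e : M ≃* N) :
    Function.Bijective (MonoidAlgebra.mapDomainBialgHom k e.toMonoidHom) := by
  refine Function.bijective_iff_has_inverse.2 ⟨MonoidAlgebra.mapDomainBialgHom k e.symm.toMonoidHom, fun x => ?_,
    fun x => ?_⟩
  · rw [MonoidAlgebra.mapDomainBialgHom_mapDomainBialgHom]
    have : e.symm.toMonoidHom.comp e.toMonoidHom = MonoidHom.id M := by ext; simp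
    rw [this, MonoidAlgebra.mapDomainBialgHom_id]; rfl
  · rw [MonoidAlgebra.mapDomainBialgHom_mapDomainBialgHom]
    have : e.toMonoidHom.comp e.symm.toMonoidHom = MonoidHom.id N := by ext; simp
    rw [this, MonoidAlgebra.mapDomainBialgHom_id]; rfl

/-- the diagonalisable quotient and a lifting of it, for a connected solvable group -/
theorem exists_retraction [IsAlgClosed k] [Algebra.FiniteType k A] [_root_.IsReduced A]
    (hconn : ∀ e : A, IsIdempotentElem e → e = 0 ∨ e = 1) [Group.IsSolvable (WithConv (A →ₐ[k] k))] :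
    ∃ (B : Type u) (_ : CommRing B) (_ : HopfAlgebra k B) (ψ : B →ₐc[k] A) (J : Ideal A) (_ : J.IsHopfIdeal k)
      (r : A →ₐc[k] B) (n : ℕ), Function.Injective ψ ∧ SGA3b.IsDiag k B ∧
      J = Ideal.map (ψ : B →+* A) (RingHom.ker (Bialgebra.counitAlgHom k B)) ∧
      HopfRep.IsUnipotent k (A ⧸ J) ∧ r.comp ψ = BialgHom.id k B ∧
      Nonempty (B ≃ₐc[k] MonoidAlgebra k (Multiplicative (Fin n → ℤ))) := by
  classical
  obtain ⟨B, iB1, iB2, ψ, J, iJ, hψ, hdiag, hJ, hU⟩ :=
    (Groth.Agent.S7967.result k A).1 (Groth.Agent.S3266.result k A hconn)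
  have hB : SGA3b.IsDiag k B := Groth.L01.SepTrig.isDiag_of_isDiagonalizable hdiag
  obtain ⟨r, hr⟩ := Groth.Agent.S4128.result k A B hB ψ hψ J hJ hU
  have hrs : Function.Surjective r := fun b => ⟨ψ b, congrArg (fun f : B →ₐc[k] B => f b) hr⟩
  haveI : Algebra.FiniteType k B := Algebra.FiniteType.of_surjective (r : A →ₐ[k] B) hrs
  haveI : Nontrivial A := (Bialgebra.counitAlgHom k A).toRingHom.domain_nontrivial
  haveI : _root_.IsReduced B := isReduced_of_injective (ψ : B →+* A) hψ
  refine ⟨B, iB1, iB2, ψ, J, iJ, r, ?_⟩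
  obtain ⟨M, iM, ⟨e⟩⟩ := hB
  haveI : Group.FG M :=
    MonoidAlgebra.finiteType_iff_group_fg.1
      (Algebra.FiniteType.equiv (inferInstance : Algebra.FiniteType k B) e.toAlgEquiv)
  -- no torsion
  have htf : ∀ (g : M) (m : ℕ), 0 < m → g ^ m = 1 → g = 1 := by
    intro g m hm hg
    let x : B := e.symm (MonoidAlgebra.single g 1)
    have hx : x ^ m = 1 := by
      show (e.symm (MonoidAlgebra.single g 1)) ^ m = 1
      rw [← map_pow, MonoidAlgebra.single_pow, one_pow, hg, ← MonoidAlgebra.one_def, map_one]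
    by_contra hne
    -- a root of unity in a connected reduced algebra is a scalar
    have hscalar : ∃ c : k, ψ x = algebraMap k A c := by
      exact exists_algebraMap_eq_of_pow_eq_one hconn (ψ x) hm (by rw [← map_pow, hx, map_one])
    obtain ⟨c, hc⟩ := hscalar
    have hxc : x = algebraMap k B c := hψ (by rw [hc, AlgHomClass.commutes])
    have h2 := congrArg e hxc
    rw [AlgHomClass.commutes, show e x = MonoidAlgebra.single g 1 from e.apply_symm_apply _] at h2
    have h3 : MonoidAlgebra.single g (1 : k) = MonoidAlgebra.single 1 c := h2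
    exact hne (MonoidAlgebra.single_left_injective one_ne_zero (h3.trans (by
      rw [show c = (1 : k) by
        have := congrArg (Coalgebra.counit (R := k)) h3
        simpa using this.symm])))
  haveI : Module.Finite ℤ (Additive M) := Module.Finite.iff_addGroup_fg.2 (GroupFG.iff_add_fg.1 ‹Group.FG M›)
  haveI : IsMulTorsionFree M := by
    refine ⟨fun n hn a b hab => ?_⟩
    have : (a / b) ^ n = 1 := by rw [div_pow, show a ^ n = b ^ n from hab, div_self']
    exact div_eq_one.1 (htf _ _ (Nat.pos_of_ne_zero hn) this)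
  haveI : Module.Free ℤ (Additive M) := Module.free_of_finite_type_torsion_free'
  let b := Module.finBasis ℤ (Additive M)
  let eM : M ≃* Multiplicative (Fin (Module.finrank ℤ (Additive M)) → ℤ) :=
    ((b.equivFun.symm.toAddEquiv).toMultiplicative.trans (MulEquiv.multiplicativeAdditive M)).symm
  exact ⟨_, hψ, ⟨M, iM, ⟨e⟩⟩, hJ, hU, hr, ⟨e.trans (BialgEquiv.ofBijective (MonoidAlgebra.mapDomainBialgHom k eM.toMonoidHom) (mapDomain_bijective eM))⟩⟩

/-- descent of a bialgebra map along a surjective one -/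
theorem exists_desc_bialg {D : Type u} [CommRing D] [HopfAlgebra k D] (π : B →ₐc[k] C) (hπ : Function.Surjective π)
    (φ : B →ₐc[k] D) (h : ∀ b, π b = 0 → φ b = 0) : ∃ g : C →ₐc[k] D, ∀ b, g (π b) = φ b := by
  let πA : B →ₐ[k] C := π
  let φA : B →ₐ[k] D := φ
  let K : Ideal B := RingHom.ker πA
  let l : B ⧸ K →ₐ[k] D := Ideal.Quotient.liftₐ K φA fun b hb => h b hb
  let eq : (B ⧸ K) ≃ₐ[k] C := Ideal.quotientKerAlgEquivOfSurjective (f := πA) hπ
  let g : C →ₐ[k] D := l.comp eq.symm.toAlgHom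
  have hg : ∀ b, g (π b) = φ b := fun b => by
    show l (eq.symm (πA b)) = _
    rw [show eq.symm (πA b) = Ideal.Quotient.mk K b from by rw [AlgEquiv.symm_apply_eq]; rfl]
    rfl
  refine ⟨BialgHom.ofAlgHom g (AlgHom.ext fun x => ?_) (AlgHom.ext fun x => ?_), hg⟩
  · obtain ⟨b, rfl⟩ := hπ x
    show Coalgebra.counit (R := k) (g (π b)) = Coalgebra.counit (R := k) (π b)
    rw [hg, CoalgHomClass.counit_comp_apply π b, CoalgHomClass.counit_comp_apply φ b]
  · obtain ⟨b, rfl⟩ := hπ x
    show Algebra.TensorProduct.map g g (Coalgebra.comul (R := k) (π b)) = Coalgebra.comul (R := k) (g (π b))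
    rw [hg, ← CoalgHomClass.map_comp_comul_apply π b, ← CoalgHomClass.map_comp_comul_apply φ b]
    induction Coalgebra.comul (R := k) b with
    | zero => simp
    | add p q hp hq => simp only [map_add, hp, hq]
    | tmul p q => simp [hg]

theorem isDiag_monoidAlgebra (M : Type) [CommGroup M] : SGA3b.IsDiag k (MonoidAlgebra k M) :=
  ⟨ULift.{u} M, inferInstance, ⟨BialgEquiv.ofBijective
    (MonoidAlgebra.mapDomainBialgHom k (MulEquiv.ulift.symm : M ≃* ULift.{u} M).toMonoidHom)
    (mapDomain_bijective _)⟩⟩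

theorem isMultType_monoidAlgebra (M : Type) [CommGroup M] : SGA3b.IsMultType k (MonoidAlgebra k M) :=
  Groth.L25.MultType.isMultType_of_split (R' := k)
    (Groth.L25.MultType.isDiag_of_bialgEquiv (Bialgebra.TensorProduct.lid k (MonoidAlgebra k M)).symm
      (isDiag_monoidAlgebra M))

/-- a bialgebra map to a diagonalisable algebra whose image generates the augmentation ideal is surjective -/
theorem surjective_of_augmentation {M : Type} [CommGroup M] (hB : SGA3b.IsDiag k B)
    (f : B →ₐc[k] MonoidAlgebra k M)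
    (h : ∀ m : M, MonoidAlgebra.single m (1 : k) - 1 ∈
      Ideal.map (f : B →+* MonoidAlgebra k M) (RingHom.ker (Bialgebra.counitAlgHom k B))) :
    Function.Surjective f := by
  classical
  obtain ⟨N, iN, ⟨e⟩⟩ := hB
  let fA : B →ₐ[k] MonoidAlgebra k M := f
  let H : Subgroup M :=
    { carrier := {m | MonoidAlgebra.single m (1 : k) ∈ fA.range}
      one_mem' := ⟨1, by rw [MonoidAlgebra.one_def.symm]; exact map_one fA⟩
      mul_mem' := fun {a b} ha hb => by
        have := Subalgebra.mul_mem fA.range (show _ ∈ fA.range from ha) (show _ ∈ fA.range from hb)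
        rwa [MonoidAlgebra.single_mul_single, _root_.mul_one] at this
      inv_mem' := fun {a} ha => by
        obtain ⟨b, hb⟩ := ha
        refine ⟨HopfAlgebra.antipode k b, ?_⟩
        show f (HopfAlgebra.antipode k b) = _
        rw [Groth.L25.Char.bialgHom_antipode f b, show f b = MonoidAlgebra.single a 1 from hb]
        simp }
  let q : MonoidAlgebra k M →ₐc[k] MonoidAlgebra k (M ⧸ H) :=
    MonoidAlgebra.mapDomainBialgHom k (QuotientGroup.mk' H)
  have key : ∀ z : MonoidAlgebra k N, q (f (e.symm z)) = algebraMap k _ (Coalgebra.counit (R := k) z) := by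
    intro z
    induction z using MonoidAlgebra.induction_on with
    | of n =>
      obtain ⟨m, hm⟩ := MonoidAlgebra.isGroupLikeElem_iff_mem_range_single_one.1
        (((MonoidAlgebra.isGroupLikeElem_single_one (R := k) (A := k) n).map e.symm).map f)
      have hm' : m ∈ H := ⟨e.symm (MonoidAlgebra.single n 1), hm.symm⟩
      have hone : (QuotientGroup.mk' H m : M ⧸ H) = 1 := (QuotientGroup.eq_one_iff m).2 hm'
      simp only at hm
      rw [MonoidAlgebra.of_apply, MonoidAlgebra.counit_single, ← hm,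
        MonoidAlgebra.mapDomainBialgHom_single, hone]
      simp
    | add x y hx hy => simp only [map_add, hx, hy]
    | smul c x hx => rw [map_smul, map_smul, map_smul, hx, map_smul, smul_eq_mul, map_mul, Algebra.smul_def]
  have hker : Ideal.map (f : B →+* MonoidAlgebra k M) (RingHom.ker (Bialgebra.counitAlgHom k B)) ≤
      RingHom.ker (q : MonoidAlgebra k M →+* MonoidAlgebra k (M ⧸ H)) := by
    refine Ideal.map_le_iff_le_comap.2 fun b hb => ?_
    rw [Ideal.mem_comap, RingHom.mem_ker]
    show q (f b) = 0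
    rw [← e.symm_apply_apply b, key, CoalgHomClass.counit_comp_apply e b,
      show Coalgebra.counit (R := k) b = 0 from hb, map_zero]
  intro y
  induction y using MonoidAlgebra.induction_on with
  | of m =>
    have h1 : q (MonoidAlgebra.single m (1 : k) - 1) = 0 := hker (h m)
    rw [map_sub, map_one, MonoidAlgebra.mapDomainBialgHom_single, sub_eq_zero, MonoidAlgebra.one_def] at h1
    obtain ⟨b, hb⟩ := (QuotientGroup.eq_one_iff m).1 (MonoidAlgebra.single_left_injective one_ne_zero h1)
    exact ⟨b, hb⟩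
  | add x y hx hy =>
    obtain ⟨a, rfl⟩ := hx
    obtain ⟨b, rfl⟩ := hy
    exact ⟨a + b, map_add f a b⟩
  | smul c x hx =>
    obtain ⟨a, rfl⟩ := hx
    exact ⟨c • a, map_smul f c a⟩

/-- points are morphisms -/
theorem toPt_toConv (c : A →ₐc[k] C) : toPt (R := C) (toConv (c : A →ₐ[k] C)) = sp c := Over.OverMorphism.ext rfl

/-- any two morphisms to the spectrum of the base field agree -/
theorem hom_ext_base {Z : Over (Spec (CommRingCat.of k))} (a b : Z ⟶ SP k k) : a = b := by
  have h : (SP k k).hom = 𝟙 _ := by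
    show Spec.map (CommRingCat.ofHom (algebraMap k k)) = 𝟙 _
    rw [Algebra.algebraMap_self]
    exact Spec.map_id _
  refine Over.OverMorphism.ext ?_
  have ha : a.left ≫ 𝟙 _ = Z.hom := (congrArg (a.left ≫ ·) h.symm).trans (Over.w a)
  have hb : b.left ≫ 𝟙 _ = Z.hom := (congrArg (b.left ≫ ·) h.symm).trans (Over.w b)
  exact ((Category.comp_id _).symm.trans ha).trans (hb.symm.trans (Category.comp_id _))

/-- a conjugation formula in Hopf form is a conjugation of morphisms -/
theorem sp_eq_conjBy (r' r'' : A →ₐc[k] C) (v : A →ₐ[k] k)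
    (h : (r'' : A →ₐ[k] C) = Dyn.conv3 k A ((Algebra.ofId k C).comp v) (r' : A →ₐ[k] C)
      (((Algebra.ofId k C).comp v).comp (HopfAlgebra.antipodeAlgHom k A))) :
    sp r'' = AGF.conjBy (unitToSpec ≫ toPt (toConv v)) (sp r') := by
  have hconst : toPt (R := C) (toConv ((Algebra.ofId k C).comp v)) =
      toUnit (P k C) ≫ unitToSpec ≫ toPt (toConv v) := by
    rw [show toConv ((Algebra.ofId k C).comp v) = Groth.L08.TorusQuot.post (Algebra.ofId k C) (toConv v) from rfl,
      toPt_post, ← Category.assoc (toUnit (P k C))]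
    exact congrArg (· ≫ toPt (toConv v)) (hom_ext_base _ _)
  have hinv : toConv (((Algebra.ofId k C).comp v).comp (HopfAlgebra.antipodeAlgHom k A)) =
      (toConv ((Algebra.ofId k C).comp v))⁻¹ := rfl
  rw [← toPt_toConv r'', h, Groth.L08.toConv_conv3, hinv]
  show Spec.mapMulEquiv _ = _
  rw [map_mul, map_mul, map_inv]
  show toPt _ * toPt _ * (toPt _)⁻¹ = _
  rw [hconst, toPt_toConv]

theorem conjBy_comp {S : Type u} [Field S] {G H Q : Over (Spec (CommRingCat.of S))} [GrpObj G] [GrpObj Q]
    (g : 𝟙_ (Over (Spec (CommRingCat.of S))) ⟶ G) (i : H ⟶ G) (q : G ⟶ Q) [IsMonHom q] :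
    AGF.conjBy g i ≫ q = AGF.conjBy (g ≫ q) (i ≫ q) := by
  simp [AGF.conjBy, MonObj.mul_comp, GrpObj.inv_comp, Category.assoc]

/-- a diagonalisable subgroup of a connected solvable group is conjugate into a lifting of the torus quotient -/
theorem exists_conj_section [IsAlgClosed k] [Algebra.FiniteType k A] [Algebra.FiniteType k B]
    (hB : SGA3b.IsDiag k B) (ψ : B →ₐc[k] A) (J : Ideal A) [J.IsHopfIdeal k]
    (hJ : J = Ideal.map (ψ : B →+* A) (RingHom.ker (Bialgebra.counitAlgHom k B)))
    (hU : HopfRep.IsUnipotent k (A ⧸ J)) (r : A →ₐc[k] B) (hr : r.comp ψ = BialgHom.id k B)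
    {M : Type} [CommGroup M] [Algebra.FiniteType k (MonoidAlgebra k M)] [_root_.IsReduced (MonoidAlgebra k M)]
    (c : A →ₐc[k] MonoidAlgebra k M) (hc : Function.Surjective c) :
    ∃ g : U1 ⟶ P k A, sp (c.comp ψ) ≫ sp r = AGF.conjBy g (sp c) := by
  classical
  let π : B →ₐc[k] MonoidAlgebra k M := c.comp ψ
  -- the image of the unipotent part is trivial
  have hsurj : Function.Surjective π := by
    refine surjective_of_augmentation hB π fun m => ?_
    let L : Ideal (MonoidAlgebra k M) := Ideal.map (π : B →+* MonoidAlgebra k M) (RingHom.ker (Bialgebra.counitAlgHom k B))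
    haveI : L.IsHopfIdeal k := Groth.Agent.S7967.isHopfIdeal_map_ker π L rfl
    have hJL : J ≤ L.comap (c : A →ₐ[k] MonoidAlgebra k M) := by
      rw [hJ]
      exact Ideal.map_le_iff_le_comap.2 fun b hb => Ideal.mem_map_of_mem (π : B →+* MonoidAlgebra k M) hb
    have hW : HopfRep.IsUnipotent k (MonoidAlgebra k M ⧸ L) :=
      Groth.L01.UnipSplit.isUnipotent_quotient c hc J L hJL hU
    have h1 := Groth.Agent.S2966.groupLike_eq_one hW
      ((MonoidAlgebra.isGroupLikeElem_single_one (R := k) (A := k) m).map (Bialgebra.Quotient.mkBialgHom (R := k) L))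
    exact Ideal.Quotient.eq.1 (h1.trans (map_one (Ideal.Quotient.mk L)).symm)
  let I : Ideal A := (RingHom.ker (π : B →ₐ[k] MonoidAlgebra k M)).map (ψ : B →ₐ[k] A)
  haveI : I.IsHopfIdeal k := isHopfIdeal_map_ker_comp ψ π hsurj I rfl
  let q : A →ₐc[k] A ⧸ I := Bialgebra.Quotient.mkBialgHom (R := k) I
  have hq : Function.Surjective q := Ideal.Quotient.mk_surjective
  haveI : Algebra.FiniteType k (A ⧸ I) :=
    Algebra.FiniteType.of_surjective (Ideal.Quotient.mkₐ k I) Ideal.Quotient.mk_surjective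
  obtain ⟨ψ', hψ'⟩ := exists_desc_bialg π hsurj (q.comp ψ) fun b hb =>
    Ideal.Quotient.eq_zero_iff_mem.2 (Ideal.mem_map_of_mem (ψ : B →ₐ[k] A) hb)
  have hrψ : ∀ b, r (ψ b) = b := fun b => congrArg (fun f : B →ₐc[k] B => f b) hr
  -- two sections on the quotient
  have hI1 : ∀ a, q a = 0 → c a = 0 := fun a ha => by
    have hle : I ≤ RingHom.ker (c : A →ₐ[k] MonoidAlgebra k M) := Ideal.map_le_iff_le_comap.2 fun b hb => hb
    exact hle (Ideal.Quotient.eq_zero_iff_mem.1 ha)
  have hI2 : ∀ a, q a = 0 → π (r a) = 0 := fun a ha => by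
    have hle : I ≤ RingHom.ker ((π : B →ₐ[k] MonoidAlgebra k M).comp (r : A →ₐ[k] B)) :=
      Ideal.map_le_iff_le_comap.2 fun b hb => by
        show π (r (ψ b)) = 0
        rw [hrψ]; exact hb
    exact hle (Ideal.Quotient.eq_zero_iff_mem.1 ha)
  obtain ⟨c', hc'⟩ := exists_desc_bialg q hq c hI1
  obtain ⟨r'', hr''⟩ := exists_desc_bialg q hq (π.comp r) hI2
  have hc'ψ : c'.comp ψ' = BialgHom.id k _ := BialgHom.ext fun x => by
    obtain ⟨b, rfl⟩ := hsurj x
    show c' (ψ' (π b)) = π b
    rw [hψ', show (q.comp ψ) b = q (ψ b) from rfl, hc']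
    rfl
  have hr''ψ : r''.comp ψ' = BialgHom.id k _ := BialgHom.ext fun x => by
    obtain ⟨b, rfl⟩ := hsurj x
    show r'' (ψ' (π b)) = π b
    rw [hψ', show (q.comp ψ) b = q (ψ b) from rfl, hr'']
    show π (r (ψ b)) = π b
    rw [hrψ]
  have hψinj : Function.Injective ψ' := fun x y h => by
    have := congrArg c' h
    rwa [← BialgHom.comp_apply, ← BialgHom.comp_apply, hc'ψ] at this
  let J' : Ideal (A ⧸ I) :=
    Ideal.map (ψ' : MonoidAlgebra k M →+* A ⧸ I) (RingHom.ker (Bialgebra.counitAlgHom k (MonoidAlgebra k M)))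
  haveI : J'.IsHopfIdeal k := Groth.Agent.S7967.isHopfIdeal_map_ker ψ' J' rfl
  have hU' : HopfRep.IsUnipotent k ((A ⧸ I) ⧸ J') := by
    refine Groth.L01.UnipSplit.isUnipotent_quotient q hq J J' ?_ hU
    rw [hJ]
    refine Ideal.map_le_iff_le_comap.2 fun b hb => ?_
    rw [Ideal.mem_comap, Ideal.mem_comap]
    show q (ψ b) ∈ J'
    rw [show q (ψ b) = ψ' (π b) from (hψ' b).symm]
    refine Ideal.mem_map_of_mem _ ?_
    show Coalgebra.counit (R := k) (π b) = 0
    exact (CoalgHomClass.counit_comp_apply π b).trans hb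
  have hdiag : SGA3b.IsDiag k (MonoidAlgebra k M) := isDiag_monoidAlgebra M
  obtain ⟨v, -, hv⟩ := Groth.Agent.S5429.result k (A ⧸ I) (MonoidAlgebra k M) hdiag ψ' hψinj J' rfl hU'
    (Or.inl inferInstance) c' r'' hc'ψ hr''ψ
  refine ⟨(unitToSpec ≫ toPt (toConv v)) ≫ sp q, ?_⟩
  have h3 := congrArg (· ≫ sp q) (sp_eq_conjBy c' r'' v hv)
  simp only [conjBy_comp, sp_comp] at h3
  rw [sp_comp, show (c.comp ψ).comp r = r''.comp q from BialgHom.ext fun a => (hr'' a).symm, h3,
    show c'.comp q = c from BialgHom.ext fun a => hc' a]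

/-- grouplike elements come from the torus quotient -/
theorem groupLike_mem_range [IsAlgClosed k] [Algebra.FiniteType k A] [_root_.IsReduced A]
    (ψ : B →ₐc[k] A) (J : Ideal A) [J.IsHopfIdeal k]
    (hJ : J = Ideal.map (ψ : B →+* A) (RingHom.ker (Bialgebra.counitAlgHom k B)))
    (hU : HopfRep.IsUnipotent k (A ⧸ J)) (r : A →ₐc[k] B) (hr : r.comp ψ = BialgHom.id k B)
    {g : A} (hg : IsGroupLikeElem k g) : ψ (r g) = g := by
  refine (Groth.L01.DimOne.ext_points (k := k) fun x => ?_).symm
  let X : Groth.L08.TorusQuot.Pt k A k := toConv x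
  let Y : Groth.L08.TorusQuot.Pt k A k :=
    Groth.L08.TorusQuot.pre r (Groth.L08.TorusQuot.pre ψ X)
  have hpre : Groth.L08.TorusQuot.pre ψ Y = Groth.L08.TorusQuot.pre ψ X :=
    WithConv.ext (AlgHom.ext fun b => by
      show x (ψ (r (ψ b))) = x (ψ b)
      rw [show r (ψ b) = b from congrArg (fun f : B →ₐc[k] B => f b) hr])
  let u : Groth.L08.TorusQuot.Pt k A k := X * Y⁻¹
  have hu : Groth.L08.TorusQuot.pre ψ u = 1 := by
    have h0 : Groth.L08.TorusQuot.pre ψ u * Groth.L08.TorusQuot.pre ψ Y = Groth.L08.TorusQuot.pre ψ X := by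
      rw [← map_mul]; exact congrArg _ (inv_mul_cancel_right X Y)
    rw [hpre] at h0
    exact mul_eq_right.1 h0
  have hker : J ≤ RingHom.ker u.ofConv := by
    rw [hJ]
    refine Ideal.map_le_iff_le_comap.2 fun b hb => ?_
    rw [Ideal.mem_comap, RingHom.mem_ker]
    show u.ofConv (ψ b) = 0
    rw [← Groth.L08.TorusQuot.pre_apply, hu, AlgHom.convOne_def]
    show algebraMap k k (Coalgebra.counit (R := k) b) = 0
    rw [show Coalgebra.counit (R := k) b = 0 from hb, map_zero]
  have h1 : u.ofConv g = 1 := by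
    have hmk := Groth.Agent.S2966.groupLike_eq_one hU (hg.map (Bialgebra.Quotient.mkBialgHom (R := k) J))
    have h2 : g - 1 ∈ J := Ideal.Quotient.eq.1 (hmk.trans (map_one (Ideal.Quotient.mk J)).symm)
    have h3 : u.ofConv (g - 1) = 0 := hker h2
    rwa [map_sub, map_one, sub_eq_zero] at h3
  have hmul : ∀ a b : Groth.L08.TorusQuot.Pt k A k, (a * b).ofConv g = a.ofConv g * b.ofConv g := fun a b => by
    rw [AlgHom.convMul_apply, hg.comul_eq_tmul_self, Algebra.TensorProduct.lift_tmul]
  show x g = Y.ofConv g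
  calc x g = (u * Y).ofConv g := (congrArg (fun z : Groth.L08.TorusQuot.Pt k A k => z.ofConv g)
        (inv_mul_cancel_right X Y)).symm
    _ = Y.ofConv g := by rw [hmul, h1, _root_.one_mul]

/-- the Hopf algebra of a connected solvable group -/
theorem exists_hopf_data [IsAlgClosed k] {G : Over (Spec (CommRingCat.of k))} [GrpObj G] [IsAffine G.left]
    [Smooth G.hom] [ConnectedSpace G.left] (hsol : Red.IsSolvableGrp G) :
    ∃ (A : Type u) (_ : CommRing A) (_ : HopfAlgebra k A), Algebra.FiniteType k A ∧ _root_.IsReduced A ∧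
      (∀ e : A, IsIdempotentElem e → e = 0 ∨ e = 1) ∧ Group.IsSolvable (WithConv (A →ₐ[k] k)) ∧
      Nonempty (Grp.mk G ≅ Grp.mk (P k A)) := by
  obtain ⟨A, _, _, ⟨eG⟩⟩ := Groth.L25.Bridge.exists_hopf G
  let φ : P k A ⟶ G := eG.inv.hom.hom
  let ψ : G ⟶ P k A := eG.hom.hom.hom
  have h1 : φ ≫ ψ = 𝟙 _ := congrArg (fun f => f.hom.hom) eG.inv_hom_id
  have h2 : ψ ≫ φ = 𝟙 G := congrArg (fun f => f.hom.hom) eG.hom_inv_id
  haveI : IsMonHom φ := eG.inv.hom.isMonHom_hom
  haveI : IsIso φ := ⟨ψ, h1, h2⟩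
  haveI : IsIso ψ := ⟨φ, h2, h1⟩
  haveI : IsIso ψ.left := inferInstanceAs (IsIso ((Over.forget _).map ψ))
  haveI : IsIso φ.left := inferInstanceAs (IsIso ((Over.forget _).map φ))
  haveI hft : LocallyOfFiniteType (P k A).hom := by rw [← Over.w φ]; infer_instance
  haveI : Algebra.FiniteType k A := by
    change LocallyOfFiniteType (Spec.map (CommRingCat.ofHom (algebraMap k A))) at hft
    rwa [HasRingHomProperty.Spec_iff (P := @LocallyOfFiniteType), CommRingCat.hom_ofHom,
      RingHom.finiteType_algebraMap] at hft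
  haveI : IsReduced G.left := Groth.Agent.AV.isReduced_of_smooth_field G.hom
  let φl : Spec (CommRingCat.of A) ⟶ G.left := φ.left
  haveI : IsIso φl := ‹IsIso φ.left›
  haveI : IsReduced (Spec (CommRingCat.of A)) := isReduced_of_isOpenImmersion φl
  haveI : ConnectedSpace (PrimeSpectrum A) := ψ.left.homeomorph.surjective.connectedSpace ψ.left.homeomorph.continuous
  obtain ⟨n, hn⟩ := hsol
  haveI : Group.IsSolvable (SP k k ⟶ G) := ⟨⟨n, hn _⟩⟩
  let Φ : WithConv (A →ₐ[k] k) →* (SP k k ⟶ G) :=
    { toFun := fun g => Spec.mapMulEquiv g ≫ φ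
      map_one' := by rw [map_one, MonObj.one_comp]
      map_mul' := fun g g' => by rw [map_mul, MonObj.mul_comp] }
  have hΦ : Function.Injective Φ := fun g g' e => Spec.mapMulEquiv.injective ((cancel_mono φ).1 e)
  exact ⟨A, inferInstance, inferInstance, ‹_›, affine_isReduced_iff (CommRingCat.of A) |>.1 inferInstance,
    idempotent_trivial, Group.isSolvable_of_isSolvable_injective hΦ, ⟨eG⟩⟩

/-- the spectrum of a Laurent algebra is a torus -/
theorem isTorus_of_laurent {n : ℕ} (e : B ≃ₐc[k] MonoidAlgebra k (Multiplicative (Fin n → ℤ))) :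
    Red.IsTorus (P k B) :=
  Groth.L25.TorLift.isTorus_of_iso (Groth.L25.Bridge.mapIso e) (Groth.L01.Unip.isTorus_P_fin k n)

/-- In a connected solvable group, one torus contains a conjugate of every torus. -/
theorem exists_torus_absorbing [IsAlgClosed k] {G : Over (Spec (CommRingCat.of k))} [GrpObj G] [IsAffine G.left]
    [Smooth G.hom] [ConnectedSpace G.left] (hsol : Red.IsSolvableGrp G) :
    ∃ (T : Over (Spec (CommRingCat.of k))) (_ : GrpObj T) (iT : T ⟶ G) (p : G ⟶ T), IsMonHom iT ∧ Mono iT ∧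
      Red.IsTorus T ∧ IsMonHom p ∧ iT ≫ p = 𝟙 T ∧
      (∀ (S : Over (Spec (CommRingCat.of k))) [GrpObj S] (h : G ⟶ S) [IsMonHom h], Red.IsTorus S →
        h = p ≫ iT ≫ h) ∧
      ∀ (S : Over (Spec (CommRingCat.of k))) [GrpObj S] (j : S ⟶ G) [IsMonHom j] [Mono j], Red.IsTorus S →
        ∃ (g : U1 ⟶ G) (f : S ⟶ T), f ≫ iT = AGF.conjBy g j := by
  obtain ⟨A, _, _, hft, hred, hconn, hsolv, ⟨eG⟩⟩ := exists_hopf_data hsol
  obtain ⟨B, _, _, ψ, J, _, r, n, hψ, hB, hJ, hU, hr, ⟨eB⟩⟩ := exists_retraction (k := k) hconn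
  have hrs : Function.Surjective r := fun b => ⟨ψ b, congrArg (fun f : B →ₐc[k] B => f b) hr⟩
  haveI : Algebra.FiniteType k B := Algebra.FiniteType.of_surjective (r : A →ₐ[k] B) hrs
  let φ : P k A ⟶ G := eG.inv.hom.hom
  let ψG : G ⟶ P k A := eG.hom.hom.hom
  have h1 : φ ≫ ψG = 𝟙 _ := congrArg (fun f => f.hom.hom) eG.inv_hom_id
  have h2 : ψG ≫ φ = 𝟙 G := congrArg (fun f => f.hom.hom) eG.hom_inv_id
  haveI : IsMonHom φ := eG.inv.hom.isMonHom_hom
  haveI : IsMonHom ψG := eG.hom.hom.isMonHom_hom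
  haveI : IsIso φ := ⟨ψG, h1, h2⟩
  haveI : IsIso ψG := ⟨φ, h2, h1⟩
  haveI : IsClosedImmersion (Spec.map (CommRingCat.ofHom (r : A →+* B))) :=
    IsClosedImmersion.spec_of_surjective _ hrs
  haveI : IsClosedImmersion (sp r).left := ‹IsClosedImmersion (Spec.map (CommRingCat.ofHom (r : A →+* B)))›
  haveI : Mono (sp r) := Over.mono_of_mono_left _
  refine ⟨P k B, inferInstance, sp r ≫ φ, ψG ≫ sp ψ, inferInstance, mono_comp _ _, isTorus_of_laurent eB,
    inferInstance, ?_, ?_, ?_⟩
  · rw [Category.assoc, reassoc_of% h1, sp_comp, hr]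
    exact Over.OverMorphism.ext (by rw [sp_left]; exact Spec.map_id _)
  · intro S _ h _ hS
    obtain ⟨M, _, hfg, ⟨eS⟩⟩ := Groth.L14.RedLR.exists_split_fg S hS
    let e2 : Grp.mk S ≅ Grp.mk (P k (MonoidAlgebra k (Multiplicative M))) := eS ≪≫ Groth.L25.Bridge.dsIso k M
    let b : S ⟶ P k (MonoidAlgebra k (Multiplicative M)) := e2.hom.hom.hom
    haveI : IsMonHom b := e2.hom.hom.isMonHom_hom
    haveI : IsIso b := ⟨e2.inv.hom.hom, congrArg (fun f => f.hom.hom) e2.hom_inv_id,
      congrArg (fun f => f.hom.hom) e2.inv_hom_id⟩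
    obtain ⟨c, hc⟩ := exists_sp (φ ≫ h ≫ b)
    have hcc : (ψ.comp r).comp c = c := by
      refine BialgHom.ext fun z => ?_
      induction z using MonoidAlgebra.induction_on with
      | of m =>
        exact groupLike_mem_range ψ J hJ hU r hr
          ((MonoidAlgebra.isGroupLikeElem_single_one (R := k) (A := k) m).map c)
      | add x y hx hy => simp only [map_add, hx, hy]
      | smul a x hx => simp only [map_smul, hx]
    rw [← cancel_mono b, ← cancel_epi φ]
    simp only [Category.assoc]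
    rw [reassoc_of% h1, ← hc]
    simp only [sp_comp]
    exact congrArg sp hcc.symm
  intro S _ j _ _ hS
  obtain ⟨M, _, hfg, ⟨eS⟩⟩ := Groth.L14.RedLR.exists_split_fg S hS
  let C : Type u := MonoidAlgebra k (Multiplicative M)
  let e2 : Grp.mk S ≅ Grp.mk (P k C) := eS ≪≫ Groth.L25.Bridge.dsIso k M
  let a : P k C ⟶ S := e2.inv.hom.hom
  let b : S ⟶ P k C := e2.hom.hom.hom
  haveI : IsMonHom a := e2.inv.hom.isMonHom_hom
  have hba : b ≫ a = 𝟙 S := congrArg (fun f => f.hom.hom) e2.hom_inv_id
  have hab : a ≫ b = 𝟙 _ := congrArg (fun f => f.hom.hom) e2.inv_hom_id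
  haveI : IsIso a := ⟨b, hab, hba⟩
  haveI : Mono (a ≫ j ≫ ψG) := mono_comp _ _
  obtain ⟨c, hc⟩ := exists_sp (a ≫ j ≫ ψG)
  haveI : Monoid.FG (Multiplicative M) := Group.fg_iff_monoid_fg.1 (AddGroup.fg_iff_mul_fg.1 hfg)
  haveI : Algebra.FiniteType k C := MonoidAlgebra.finiteType_iff_fg.2 inferInstance
  haveI : _root_.IsReduced C := by
    obtain ⟨hsm, -⟩ := Groth.L25.Locus.smooth_connected_torus hS
    haveI := hsm
    haveI : IsReduced S.left := Groth.Agent.AV.isReduced_of_smooth_field S.hom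
    let al : Spec (CommRingCat.of C) ⟶ S.left := a.left
    haveI : IsIso al := inferInstanceAs (IsIso ((Over.forget _).map a))
    haveI : IsReduced (Spec (CommRingCat.of C)) := isReduced_of_isOpenImmersion al
    exact affine_isReduced_iff (CommRingCat.of C) |>.1 inferInstance
  have hcs : Function.Surjective c := by
    refine Groth.L25.MultType.surjective_of_mono ?_ c fun T _ _ x y e => ?_
    · exact isMultType_monoidAlgebra (Multiplicative M)
    · haveI : Mono (sp c) := hc ▸ inferInstance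
      have e' : toPt (toConv x) ≫ sp c = toPt (toConv y) ≫ sp c := by
        rw [← toPt_pre, ← toPt_pre]
        exact congrArg (fun z => toPt (toConv z)) e
      exact congrArg WithConv.ofConv (Spec.mapMulEquiv.injective ((cancel_mono (sp c)).1 e'))
  obtain ⟨g, hg⟩ := exists_conj_section hB ψ J hJ hU r hr c hcs
  refine ⟨g ≫ φ, b ≫ sp (c.comp ψ), ?_⟩
  have h4 := congrArg (fun z => b ≫ z ≫ φ) hg
  simp only [conjBy_comp, comp_conjBy, hc, Category.assoc] at h4 ⊢
  rw [h4, h2, Category.comp_id, reassoc_of% hba]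

end Groth.L08.Borel
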