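import Groth.Agent.L08.Borel.NilRank
import Groth.Agent.L08.Borel.CartanNhd
import Groth.Agent.L19.AlgGrpBasic.LargestNormal
import Groth.Agent.L25.Dyn.CentConn

/-!
# Self-centralising maximal tori persist in etale neighbourhoods
-/

set_option autoImplicit false
set_option backward.isDefEq.respectTransparency.types false
set_option linter.style.haveILetI false
universe u

open CategoryTheory CategoryTheory.Limits MonoidalCategory CartesianMonoidalCategory MonObj AlgebraicGeometry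

noncomputable section

namespace Groth.L08.Borel

section Field

variable {k : Type u} [Field k] [IsAlgClosed k] {G R Z : Over (Spec (CommRingCat.of k))} [GrpObj G] [GrpObj R]
  [GrpObj Z] [Smooth G.hom] [QuasiCompact G.hom] [IsSeparated G.hom]

omit [IsSeparated G.hom] in
/-- a torus of the rank of the group is maximal -/
theorem isMaxTorus_of_rank (v : R ⟶ G) [IsMonHom v] [Mono v] (hR : Red.IsTorus R) {m : ℕ}
    (hm : Red.IsSplitTorusWith (Fin m → ℤ) R) {T : Over (Spec (CommRingCat.of k))} [GrpObj T] {iT : T ⟶ G}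
    (hT : AGF.IsMaxTorus iT) (hTm : Red.IsSplitTorusWith (Fin m → ℤ) T) : AGF.IsMaxTorus v := by
  refine ⟨inferInstance, inferInstance, hR, fun T' _ j _ _ f hT' hf => ?_⟩
  obtain ⟨m', hm'⟩ := exists_split_rank hT'
  obtain ⟨q, q', hq, -, -, -, hqi⟩ := Groth.L25.SplitSub.exists_std hm'
  haveI := hq; haveI := hqi
  obtain ⟨U, gU, iU, hU, r, hr, hle⟩ := exists_maxTorus_rank_ge (q ≫ j)
  haveI : IsMonHom f := isMonHom_of_comp_mono f j _ hf
  haveI : Mono f := by haveI : Mono (f ≫ j) := hf.symm ▸ inferInstance; exact mono_of_mono f j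
  exact isIso_of_rank_le f hm hm' (hle.trans (maxTorus_rank_eq hU hT hr hTm).le)

/-- a torus whose connected centraliser has its dimension is maximal -/
theorem isMaxTorus_of_cent_dim [IsAffine G.left] [ConnectedSpace G.left] (v : R ⟶ G) [IsMonHom v] [Mono v]
    (hR : Red.IsTorus R) {z : Z ⟶ G} (hz : Red.IsCentralizerOf v z) [Smooth Z.hom]
    (hd : topologicalKrullDim ↥R.left = topologicalKrullDim ↥Z.left) : AGF.IsMaxTorus v := by
  haveI := hz.1; haveI := hz.2.1
  haveI := isClosedImmersion_centralizer hR hz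
  haveI : ConnectedSpace Z.left := Groth.L25.Dyn.connectedSpace_centralizer G R v hR Z z hz
  obtain ⟨hRa, hRs, -, -, hRc⟩ := torus_props hR
  haveI := hRa; haveI := hRs
  obtain ⟨t, ht⟩ := (hz.2.2 R v).2 fun X x r => by
    rw [← MonObj.mul_comp, ← MonObj.mul_comp, hRc X x r]
  haveI : IsMonHom t := isMonHom_of_comp_mono t z v ht
  haveI : Mono t := by haveI : Mono (t ≫ z) := ht.symm ▸ inferInstance; exact mono_of_mono t z
  haveI : IsClosedImmersion (t.left ≫ z.left) := by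
    rw [← Over.comp_left, ht]
    exact Groth.L25.MonoClosed.isClosedImmersion_of_mono (Groth.L25.Locus.isMultTypeFT_of_isTorus hR) v
  haveI : IsClosedImmersion t.left := IsClosedImmersion.of_comp t.left z.left
  haveI : IsIso t := Groth.L19.AlgGrpBasic.isIso_of_dim_eq t hd
  refine ⟨inferInstance, inferInstance, hR, fun T' _ j _ _ f hT' hf => ?_⟩
  obtain ⟨-, -, -, -, hc'⟩ := torus_props hT'
  obtain ⟨h, hh⟩ := (hz.2.2 T' j).2 fun X x r => by
    rw [← hf, ← Category.assoc, ← MonObj.mul_comp, ← MonObj.mul_comp, hc' X x (r ≫ f)]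
  have e : f ≫ h = t := by rw [← cancel_mono z, Category.assoc, hh, hf, ht]
  haveI : Mono h := by haveI : Mono (h ≫ z) := hh.symm ▸ inferInstance; exact mono_of_mono h z
  haveI : IsSplitEpi h := IsSplitEpi.mk' ⟨inv t ≫ f, by rw [Category.assoc, e, IsIso.inv_hom_id]⟩
  haveI : IsIso h := isIso_of_mono_of_isSplitEpi h
  haveI : IsIso (f ≫ h) := by rw [e]; infer_instance
  exact IsIso.of_isIso_comp_right f h

omit [IsSeparated G.hom] [QuasiCompact G.hom] [Smooth G.hom] in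
/-- a self-centralising torus has the dimension of its centraliser -/
theorem dim_eq_of_selfCentral (v : R ⟶ G) [IsMonHom v] (hR : Red.IsTorus R) {z : Z ⟶ G}
    (hz : Red.IsCentralizerOf v z)
    (hc : ∀ (X : Over (Spec (CommRingCat.of k))) (g : X ⟶ G),
      (∀ (X' : Over (Spec (CommRingCat.of k))) (x : X' ⟶ X) (t : X' ⟶ R),
        (x ≫ g) * (t ≫ v) = (t ≫ v) * (x ≫ g)) → ∃ t : X ⟶ R, g = t ≫ v) [Mono v] :
    topologicalKrullDim ↥R.left = topologicalKrullDim ↥Z.left := by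
  haveI := hz.2.1
  obtain ⟨-, -, -, -, hRc⟩ := torus_props hR
  obtain ⟨b, hb⟩ := hc Z z ((hz.2.2 Z z).1 ⟨𝟙 _, Category.id_comp _⟩)
  obtain ⟨a, ha⟩ := (hz.2.2 R v).2 fun X x r => by
    rw [← MonObj.mul_comp, ← MonObj.mul_comp, hRc X x r]
  let φ : R ≅ Z := ⟨a, b, by rw [← cancel_mono v, Category.assoc, ← hb, ha, Category.id_comp],
    by rw [← cancel_mono z, Category.assoc, ha, ← hb, Category.id_comp]⟩
  exact IsHomeomorph.topologicalKrullDim_eq _ (Scheme.homeoOfIso ((Over.forget _).mapIso φ)).isHomeomorph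

end Field

variable {S : Scheme.{u}} {G : Over S} [GrpObj G] [IsAffineHom G.hom] [Smooth G.hom]

omit [IsAffineHom G.hom] [Smooth G.hom] in
/-- the chart torus seen at a field point -/
theorem exists_torus_at_pt {K : Type u} [Field K] [IsAlgClosed K] {S' : Scheme.{u}} (e : S' ⟶ S) {m : ℕ}
    {R : Over S'} [GrpObj R] (hR : Red.IsTorus R) (hm : Red.IsSplitTorusWith (Fin m → ℤ) R)
    (w : R ⟶ Red.bc e G) [IsMonHom w] [Mono w] {Z : Over S'} [GrpObj Z] [Smooth Z.hom] {z : Z ⟶ Red.bc e G}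
    (hz : Red.IsCentralizerOf w z) (b : Spec (CommRingCat.of K) ⟶ S) (σ : Spec (CommRingCat.of K) ⟶ S')
    (hσ : σ ≫ e = b) :
    ∃ (v : Red.bc σ R ⟶ Red.bc b G) (_ : IsMonHom v) (_ : Mono v) (y : Red.bc σ Z ⟶ Red.bc b G),
      Red.IsCentralizerOf v y ∧ Red.IsTorus (Red.bc σ R) ∧ Red.IsSplitTorusWith (Fin m → ℤ) (Red.bc σ R) ∧
      Smooth (Red.bc σ Z).hom := by
  haveI := hz.1; haveI := hz.2.1
  let φ := ActBC.bcCompIso σ e G hσ
  haveI : IsMonHom ((Over.pullback σ).map w) := Groth.L25.MonoClosed.isMonHom_pullbackMap _ _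
  haveI : Mono ((Over.pullback σ).map w) := Functor.map_mono _ _
  haveI : IsMonHom ((Over.pullback σ).map z) := Groth.L25.MonoClosed.isMonHom_pullbackMap _ _
  haveI : Mono ((Over.pullback σ).map z) := Functor.map_mono _ _
  exact ⟨(Over.pullback σ).map w ≫ φ.hom, inferInstanceAs (IsMonHom (_ ≫ _)), mono_comp _ _,
    (Over.pullback σ).map z ≫ φ.hom,
    isCentralizerOf_transport φ (Iso.refl _) (by simp only [Iso.refl_hom, Category.id_comp]) (Iso.refl _)
      (by simp only [Iso.refl_hom, Category.id_comp]) (isCentralizerOf_bc σ hz),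
    Groth.L25.Locus.isTorus_bc hR σ, isSplit_bc σ hm, inferInstanceAs (Smooth (pullback.snd Z.hom σ))⟩

/-- properties of the fibre at a field point -/
theorem fibre_props (hconn : ∀ s : S, _root_.IsConnected (G.hom.base ⁻¹' {s})) {K : Type u} [Field K]
    (b : Spec (CommRingCat.of K) ⟶ S) :
    IsAffine (Red.bc b G).left ∧ Smooth (Red.bc b G).hom ∧ QuasiCompact (Red.bc b G).hom ∧
      IsSeparated (Red.bc b G).hom ∧ ConnectedSpace ↥(Red.bc b G).left := by
  haveI : IsAffineHom (Red.bc b G).hom := inferInstanceAs (IsAffineHom (pullback.snd G.hom b))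
  exact ⟨isAffine_of_isAffineHom (Red.bc b G).hom, inferInstanceAs (Smooth (pullback.snd G.hom b)),
    inferInstance, inferInstance, connectedSpace_bc_point G hconn b⟩

/-- the dimension of the centraliser at a self-centralising point -/
theorem dim_at_selfCentral {K : Type u} [Field K] [IsAlgClosed K] {S' : Scheme.{u}} (e : S' ⟶ S) {m d : ℕ}
    {R : Over S'} [GrpObj R] (hR : Red.IsTorus R) (hm : Red.IsSplitTorusWith (Fin m → ℤ) R)
    (w : R ⟶ Red.bc e G) [IsMonHom w] [Mono w] {Z : Over S'} [GrpObj Z] [Smooth Z.hom] {z : Z ⟶ Red.bc e G}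
    (hz : Red.IsCentralizerOf w z) (b : Spec (CommRingCat.of K) ⟶ S) (σ : Spec (CommRingCat.of K) ⟶ S')
    (hσ : σ ≫ e = b) (hd : topologicalKrullDim ↥(Red.bc σ Z).left = d)
    {T₀ : Over (Spec (CommRingCat.of K))} [GrpObj T₀] {i₀ : T₀ ⟶ Red.bc b G} (h₀ : AGF.IsMaxTorus i₀)
    (hm₀ : Red.IsSplitTorusWith (Fin m → ℤ) T₀)
    (hc : ∀ (T : Over (Spec (CommRingCat.of K))) [GrpObj T] (i : T ⟶ Red.bc b G), Red.IsMaximalTorus i →
      ∀ (X : Over _) (g : X ⟶ Red.bc b G), (∀ (X' : Over _) (x : X' ⟶ X) (t : X' ⟶ T),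
        (x ≫ g) * (t ≫ i) = (t ≫ i) * (x ≫ g)) → ∃ t : X ⟶ T, g = t ≫ i) : m = d := by
  haveI : Smooth (Red.bc b G).hom := inferInstanceAs (Smooth (pullback.snd G.hom b))
  haveI : QuasiCompact (Red.bc b G).hom := inferInstanceAs (QuasiCompact (pullback.snd G.hom b))
  haveI : IsSeparated (Red.bc b G).hom := inferInstanceAs (IsSeparated (pullback.snd G.hom b))
  obtain ⟨v, hv, hvm, y, hy, hT, hsp, -⟩ := exists_torus_at_pt e hR hm w hz b σ hσ
  haveI := hv; haveI := hvm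
  have := dim_eq_of_selfCentral v hT hy
    (hc _ v (isMaximalTorus_of_isMaxTorus (isMaxTorus_of_rank v hT hsp h₀ hm₀)))
  rw [hd, dim_of_split hsp] at this
  exact_mod_cast this

/-- at points where the centraliser has the dimension of the torus the rank is that of the torus -/
theorem hasRank_at_pt (hconn : ∀ s : S, _root_.IsConnected (G.hom.base ⁻¹' {s})) {K : Type u} [Field K]
    [IsAlgClosed K] {S' : Scheme.{u}} (e : S' ⟶ S) {m : ℕ}
    {R : Over S'} [GrpObj R] (hR : Red.IsTorus R) (hm : Red.IsSplitTorusWith (Fin m → ℤ) R)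
    (w : R ⟶ Red.bc e G) [IsMonHom w] [Mono w] {Z : Over S'} [GrpObj Z] [Smooth Z.hom] {z : Z ⟶ Red.bc e G}
    (hz : Red.IsCentralizerOf w z) (b : Spec (CommRingCat.of K) ⟶ S) (σ : Spec (CommRingCat.of K) ⟶ S')
    (hσ : σ ≫ e = b) (hd : topologicalKrullDim ↥(Red.bc σ Z).left = m) :
    ∃ (T : Over (Spec (CommRingCat.of K))) (_ : GrpObj T) (i : T ⟶ Red.bc b G),
      AGF.IsMaxTorus i ∧ Red.IsSplitTorusWith (Fin m → ℤ) T := by
  obtain ⟨ha, hs, hq, hsep, hcs⟩ := fibre_props hconn b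
  haveI := ha; haveI := hs; haveI := hq; haveI := hsep; haveI := hcs
  obtain ⟨v, hv, hvm, y, hy, hT, hsp, hZs⟩ := exists_torus_at_pt e hR hm w hz b σ hσ
  haveI := hv; haveI := hvm; haveI := hZs
  exact ⟨_, inferInstance, v, isMaxTorus_of_cent_dim v hT hy ((dim_of_split hsp).trans hd.symm), hsp⟩

/-- **self-centralising maximal tori give split maximal tori etale nearby** -/
theorem exists_split_maxTorus_nhd (hconn : ∀ s : S, _root_.IsConnected (G.hom.base ⁻¹' {s})) (s₀ : S)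
    (hc : ∀ (T : Over (Spec (CommRingCat.of (AlgebraicClosure (S.residueField s₀))))) [GrpObj T]
      (i : T ⟶ Red.geomFibre s₀ G), Red.IsMaximalTorus i → ∀ (X : Over _) (g : X ⟶ Red.geomFibre s₀ G),
        (∀ (X' : Over _) (x : X' ⟶ X) (t : X' ⟶ T), (x ≫ g) * (t ≫ i) = (t ≫ i) * (x ≫ g)) →
          ∃ t : X ⟶ T, g = t ≫ i) :
    ∃ (B : Type u) (_ : CommRing B) (v : Spec (CommRingCat.of B) ⟶ S), Etale v ∧ s₀ ∈ Set.range v.base ∧
      ∃ (T : Over (Spec (CommRingCat.of B))) (_ : GrpObj T) (i : T ⟶ Red.bc v G), Red.IsMaximalTorus i ∧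
        ∃ r : ℕ, Red.IsSplitTorusWith (Fin r → ℤ) T ∧
          ∀ p, SGA3x.HasRedRank G (v p) r := by
  obtain ⟨m, hm⟩ := exists_redRank (G := G) s₀
  obtain ⟨m', S', e, w, hmm, he, ⟨s', hs'⟩, hwh, hwm⟩ := exists_chart_of_rank hm
  obtain rfl : m = m' := by exact_mod_cast hmm
  haveI := he; haveI := hwh; haveI := hwm
  haveI : Smooth (Red.bc e G).hom := inferInstanceAs (Smooth (pullback.snd G.hom e))
  haveI : IsSeparated (Red.bc e G).hom := inferInstanceAs (IsSeparated (pullback.snd G.hom e))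
  haveI : LocallyOfFiniteType (Red.bc e G).hom := inferInstance
  obtain ⟨Z, gZ, z, hz, -, hZs⟩ := Groth.L25.Locus.exists_smooth_centralizer
    (Groth.L25.Locus.locally_of_multTypeFT (Groth.L25.Locus.isMultTypeFT_of_isTorus (isTorus_ds S' m))) w
  haveI := hZs
  obtain ⟨U, d, hsU, hd⟩ := exists_open_fibre_dim Z s'
  obtain ⟨_, ⟨W, hW, rfl⟩, hsW, hWU⟩ := S'.isBasis_affineOpens.exists_subset_of_mem_open hsU U.2
  let k : Spec (CommRingCat.of Γ(S', W)) ⟶ S' := hW.fromSpec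
  have hr : ∀ p, k p ∈ U := fun p => hWU (hW.range_fromSpec.le ⟨p, rfl⟩)
  have hs₀ : s₀ ∈ Set.range (k ≫ e).base := by
    obtain ⟨p, hp⟩ : s' ∈ Set.range k.base := hW.range_fromSpec.ge hsW
    exact ⟨p, (congrArg e hp).trans hs'⟩
  have hsplit := Groth.L25.SplitSub.isSplitTorusWith_DS S' (Fin m → ℤ)
  obtain ⟨σ, hσ⟩ := exists_geomPt_lift (k ≫ e) hs₀
  obtain ⟨T₀, gT₀, i₀, h₀, n, hn, hmn⟩ := hasRedRank_iff.1 hm
  obtain rfl : m = n := by exact_mod_cast hmn
  obtain rfl : m = d := dim_at_selfCentral e (isTorus_ds S' m) hsplit w hz (Red.geomPt s₀) (σ ≫ k)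
    ((Category.assoc _ _ _).trans hσ) (hd _ (σ ≫ k) (hr _)) h₀ hn hc
  have hrank : ∀ p, SGA3x.HasRedRank G ((k ≫ e) p) m := fun p => by
    obtain ⟨τ, hτ⟩ := exists_geomPt_lift (k ≫ e) ⟨p, rfl⟩
    obtain ⟨T, gT, i, hi, hTm⟩ := hasRank_at_pt hconn e (isTorus_ds S' m) hsplit w hz _ (τ ≫ k)
      ((Category.assoc _ _ _).trans hτ) (hd _ (τ ≫ k) (hr _))
    exact hasRedRank_iff.2 ⟨T, gT, i, hi, m, hTm, rfl⟩
  haveI : IsOpenImmersion k := hW.isOpenImmersion_fromSpec
  haveI : Etale (k ≫ e) := inferInstance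
  haveI : IsMonHom (Groth.L25.SplitSub.bcHom k w) := Groth.L25.SplitSub.isMonHom_bcHom k w
  haveI : Mono ((Over.pullback k).map w) := Functor.map_mono _ _
  haveI : Mono (Groth.L25.SplitSub.bcHom k w) := mono_comp _ _
  let i := Groth.L25.SplitSub.bcHom k w ≫ (ActBC.bcCompIso k e G rfl).hom
  haveI : IsMonHom i := inferInstanceAs (IsMonHom (_ ≫ _))
  haveI : Mono i := mono_comp _ _
  exact ⟨Γ(S', W), inferInstance, k ≫ e, inferInstance, hs₀, _, inferInstance, i,
    isMaximalTorus_of_ranks (k ≫ e) i (isTorus_ds _ m)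
      (fun p => ⟨m, isSplit_bc _ (Groth.L25.SplitSub.isSplitTorusWith_DS _ _), hrank p⟩),
    m, Groth.L25.SplitSub.isSplitTorusWith_DS _ _, hrank⟩

end Groth.L08.Borel
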