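import Groth.Agent.L19.Approx.Zmt
import Groth.Agent.L20.QuasiAffine

/-!
# Monomorphisms of finite type are quasi-affine
-/

set_option autoImplicit false
set_option linter.style.haveILetI false
universe u

open CategoryTheory CategoryTheory.Limits AlgebraicGeometry

namespace Groth.L08.Borel

/-- quasi-compact monomorphisms locally of finite type are ind-quasi-affine -/
theorem isIndQuasiAffineHom_of_mono {X Y : Scheme.{u}} (f : X ⟶ Y) [Mono f] [LocallyOfFiniteType f]
    [QuasiCompact f] : MoreMor.IsIndQuasiAffineHom f := by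
  refine Groth.L20.isIndQuasiAffineHom_of_isQuasiAffineHom f ⟨inferInstance, fun V hV => ?_⟩
  haveI : IsAffine V := hV
  haveI : Mono (f ∣_ V) := by
    have : Mono ((f ∣_ V) ≫ V.ι) := by
      rw [morphismRestrict_ι]; exact mono_comp _ _
    exact mono_of_mono (f ∣_ V) V.ι
  haveI : LocallyQuasiFinite (f ∣_ V) := LocallyQuasiFinite.of_injective (f ∣_ V).injective
  haveI : QuasiCompact (f ∣_ V) := MorphismProperty.of_isPullback (isPullback_morphismRestrict f V).flip ‹_›
  haveI : LocallyOfFiniteType (f ∣_ V) := MorphismProperty.of_isPullback (isPullback_morphismRestrict f V).flip ‹_›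
  obtain ⟨T, j, π, hj, hjc, hπ, -⟩ := Groth.L19.Approx.exists_openImmersion_finite (f ∣_ V)
  haveI : IsAffine T := isAffine_of_isAffineHom π
  haveI : CompactSpace (f ⁻¹ᵁ V).toScheme := QuasiCompact.compactSpace_of_compactSpace (f ∣_ V)
  exact Scheme.IsQuasiAffine.of_isImmersion j

end Groth.L08.Borel
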