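import Groth.Agent.L08.Borel.PreimageField
import Groth.Agent.L08.Borel.MonoQAff
import Groth.Agent.L25.Descent.Subgroup
import Groth.Agent.L25.Solv.Locus
import Groth.Agent.L07.SmoothFibre
import Groth.Agent.L23.FppfSmooth
import Groth.Agent.L23.SchemeFacts
import Groth.Agent.L08.NormalQuot.Affine

/-!
# Borel subgroups under homomorphisms whose kernel lies in all Borel subgroups
-/

set_option autoImplicit false
set_option backward.isDefEq.respectTransparency.types false
set_option linter.style.haveILetI false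
set_option linter.unusedSectionVars false
universe u

open CategoryTheory CategoryTheory.Limits MonoidalCategory CartesianMonoidalCategory MonObj AlgebraicGeometry

noncomputable section

namespace Groth.L08.Borel

open Groth.L25

section Field
variable {k : Type u} [Field k] [IsAlgClosed k]

/-- Borel subgroups transfer along isomorphisms -/
theorem isBorelOver_iso_comp {B B₁ G : Over (Spec (CommRingCat.of k))} [GrpObj B] [GrpObj B₁] [GrpObj G]
    {b₁ : B₁ ⟶ G} (h : Red.IsBorelOver k b₁) (φ : B ≅ B₁) (b : B ⟶ G) [IsMonHom b] (e : φ.hom ≫ b₁ = b) :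
    Red.IsBorelOver k b := by
  haveI := h.1; haveI := h.2.1; haveI := h.2.2.1; haveI := h.2.2.2.1
  haveI : Mono b₁ := Groth.L08.mono_of_closedImmersion b₁
  haveI : IsMonHom φ.hom := isMonHom_of_comp_mono φ.hom b₁ b e
  haveI : IsIso φ.hom.left := inferInstanceAs (IsIso ((Over.forget _).map φ.hom))
  haveI : IsIso φ.inv.left := inferInstanceAs (IsIso ((Over.forget _).map φ.inv))
  refine ⟨inferInstance, ?_, ?_, φ.inv.left.surjective.connectedSpace φ.inv.left.continuous,
    isSolvableGrp_of_mono φ.hom h.2.2.2.2.1, fun B' _ i' _ f a1 a2 a3 a4 hf => ?_⟩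
  · rw [← e, Over.comp_left]; infer_instance
  · rw [← Over.w φ.hom]; infer_instance
  · haveI : IsIso (φ.inv ≫ f) := h.2.2.2.2.2 B' i' (φ.inv ≫ f) a1 a2 a3 a4 (by
      rw [Category.assoc, hf, ← e, Iso.inv_hom_id_assoc])
    exact IsIso.of_isIso_comp_left φ.inv f

end Field

variable {S : Scheme.{u}} {G G' : Over S} [GrpObj G] [GrpObj G']

/-- smoothness of fibres descends from geometric fibres -/
theorem smooth_fibre_of_geomFibre (X : Over S) (s : S) (h : Smooth (Red.geomFibre s X).hom) :
    Smooth (X.hom.fiberToSpecResidueField s) := by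
  let ψ := CommRingCat.ofHom (algebraMap (S.residueField s) (AlgebraicClosure (S.residueField s)))
  let p : (Red.geomFibre s X).left ⟶ pullback X.hom (S.fromSpecResidueField s) :=
    pullback.lift (pullback.fst X.hom (Red.geomPt s)) (pullback.snd X.hom (Red.geomPt s) ≫ Spec.map ψ)
      (by rw [Category.assoc]; exact pullback.condition)
  have hpb : IsPullback p (pullback.snd X.hom (Red.geomPt s)) (X.hom.fiberToSpecResidueField s) (Spec.map ψ) := by
    refine IsPullback.of_right ?_ (pullback.lift_snd _ _ _) (IsPullback.of_hasPullback X.hom _)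
    rw [pullback.lift_fst]
    exact IsPullback.of_hasPullback X.hom (Red.geomPt s)
  exact MorphismProperty.of_isPullback_of_descendsAlong (P := @Smooth) (Q := @Surjective ⊓ @Flat ⊓ @QuasiCompact)
    hpb.flip
    (⟨⟨(bc_props_field (Spec.map ψ)).1, (bc_props_field (Spec.map ψ)).2.1⟩, (bc_props_field (Spec.map ψ)).2.2⟩ :
      (@Surjective ⊓ @Flat ⊓ @QuasiCompact : MorphismProperty Scheme.{u}) (Spec.map ψ)) h

/-- kernel containment passes to fibres -/
theorem kerLe_bc {u : G ⟶ G'} {H : Over S} {h : H ⟶ G} (hK : KerLe u h) {P : Scheme.{u}} (σ : P ⟶ S) :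
    KerLe ((Over.pullback σ).map u) ((Over.pullback σ).map h) := fun X g hg => by
  obtain ⟨y, hy⟩ := hK _ (NilAction.toBase σ g) (by
    rw [← SplitSub.toBase_map, hg, NilAction.toBase_one])
  exact ⟨NilAction.ofBase σ y, CentralLift.toBase_injective σ (by
    rw [SplitSub.toBase_map, NilAction.toBase_ofBase, hy])⟩

/-- centrality of the kernel passes to fibres -/
theorem central_bc {u : G ⟶ G'} (hker : ∀ (X : Over S) (z : X ⟶ G), z ≫ u = 1 → ∀ (X' : Over S) (x : X' ⟶ X) (g : X' ⟶ G),
      (x ≫ z) * g = g * (x ≫ z)) {P : Scheme.{u}} (σ : P ⟶ S) (X : Over P) (z : X ⟶ Red.bc σ G)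
    (hz : z ≫ (Over.pullback σ).map u = 1) (X' : Over P) (x : X' ⟶ X) (g : X' ⟶ Red.bc σ G) :
    (x ≫ z) * g = g * (x ≫ z) := by
  apply CentralLift.toBase_injective σ
  rw [NilAction.toBase_mul, NilAction.toBase_mul]
  let x₀ : Over.mk (X'.hom ≫ σ) ⟶ Over.mk (X.hom ≫ σ) := Over.homMk x.left (by
    show x.left ≫ X.hom ≫ σ = X'.hom ≫ σ
    rw [← Category.assoc, Over.w x])
  have e : NilAction.toBase σ (x ≫ z) = x₀ ≫ NilAction.toBase σ z :=
    Over.OverMorphism.ext (Category.assoc _ _ _)
  rw [e]
  exact hker _ _ (by rw [← SplitSub.toBase_map, hz, NilAction.toBase_one]) _ x₀ _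

/-- the geometric fibres needed for the field statements -/
theorem kerLe_geomFibre_of_central [Smooth G.hom] [QuasiCompact G.hom]
    (hconn : ∀ s : S, _root_.IsConnected (G.hom.base ⁻¹' {s})) {u : G ⟶ G'}
    (hker : ∀ (X : Over S) (z : X ⟶ G), z ≫ u = 1 → ∀ (X' : Over S) (x : X' ⟶ X) (g : X' ⟶ G),
      (x ≫ z) * g = g * (x ≫ z)) [Smooth G'.hom] [QuasiCompact G'.hom]
    (hconn' : ∀ s : S, _root_.IsConnected (G'.hom.base ⁻¹' {s})) (s : S)
    (B : Over (Spec (CommRingCat.of (AlgebraicClosure (S.residueField s))))) [GrpObj B]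
    (b : B ⟶ Red.geomFibre s G) (h : Red.IsBorelOver _ b) :
    KerLe ((Over.pullback (Red.geomPt s)).map u) b := by
  haveI : Smooth (Red.geomFibre s G).hom := inferInstanceAs (Smooth (pullback.snd G.hom (Red.geomPt s)))
  haveI : QuasiCompact (Red.geomFibre s G).hom := inferInstanceAs (QuasiCompact (pullback.snd G.hom (Red.geomPt s)))
  haveI : ConnectedSpace (Red.geomFibre s G).left := connectedSpace_bc_point G hconn (Red.geomPt s)
  haveI : Smooth (Red.geomFibre s G').hom := inferInstanceAs (Smooth (pullback.snd G'.hom (Red.geomPt s)))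
  haveI : QuasiCompact (Red.geomFibre s G').hom := inferInstanceAs (QuasiCompact (pullback.snd G'.hom (Red.geomPt s)))
  haveI : ConnectedSpace (Red.geomFibre s G').left := connectedSpace_bc_point G' hconn' (Red.geomPt s)
  exact kerLe_of_central _ (central_bc hker (Red.geomPt s)) B b h

/-- geometric fibres of Borel families contain Cartan subgroups of the group -/
theorem exists_cartan_in_borel {k : Type u} [Field k] [IsAlgClosed k] {G B : Over (Spec (CommRingCat.of k))}
    [GrpObj G] [GrpObj B] [Smooth G.hom] [QuasiCompact G.hom] [ConnectedSpace G.left] {b : B ⟶ G}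
    (hB : Red.IsBorelOver k b) :
    ∃ (C : Over (Spec (CommRingCat.of k))) (_ : GrpObj C) (c : C ⟶ B), SGA3x.IsCartanOver k (c ≫ b) := by
  haveI := hB.2.2.1; haveI := hB.2.2.2.1; haveI := hB.2.1
  haveI : QuasiCompact B.hom := by rw [← Over.w b]; infer_instance
  obtain ⟨T, gT, t, ht⟩ := exists_maxTorus_gen B
  haveI := ht.1
  obtain ⟨C, gC, c, hc, -, -, -⟩ := exists_centralizer_gen t ht.2.2.1
  exact ⟨C, gC, c, isCartanOver_comp_borel hB ⟨hc.1, hc.2.1, T, gT, t, isMaximalTorus_of_isMaxTorus ht, hc⟩⟩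

/-- a central kernel lies in every family of Borel subgroups -/
theorem kerLe_family_of_central [Smooth G.hom] [QuasiCompact G.hom]
    (hconn : ∀ s : S, _root_.IsConnected (G.hom.base ⁻¹' {s})) (u : G ⟶ G')
    (hker : ∀ (X : Over S) (z : X ⟶ G), z ≫ u = 1 → ∀ (X' : Over S) (x : X' ⟶ X) (g : X' ⟶ G),
      (x ≫ z) * g = g * (x ≫ z))
    {B : Over S} [GrpObj B] (b : B ⟶ G) [IsMonHom b] [Mono b] [Smooth B.hom]
    (hB : ∀ s : S, Red.IsBorelOver (AlgebraicClosure (S.residueField s)) ((Over.pullback (Red.geomPt s)).map b)) :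
    KerLe u b := fun X g hg => exists_fac_central b (fun s => (hB s).2.2.2.1) (fun s => by
      haveI : Smooth (Red.geomFibre s G).hom := inferInstanceAs (Smooth (pullback.snd G.hom (Red.geomPt s)))
      haveI : QuasiCompact (Red.geomFibre s G).hom :=
        inferInstanceAs (QuasiCompact (pullback.snd G.hom (Red.geomPt s)))
      haveI : ConnectedSpace (Red.geomFibre s G).left := connectedSpace_bc_point G hconn (Red.geomPt s)
      exact exists_cartan_in_borel (hB s)) g fun Y x h => hker X g hg Y x h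

/-- a point of `G` locally in a subgroup lies in it -/
theorem fac_of_cover {T Q B : Over S} (b : B ⟶ G) [Mono b] (q : Q ⟶ T) [Flat q.left] [Surjective q.left]
    [LocallyOfFinitePresentation q.left] (g : T ⟶ G) (h : Q ⟶ B) (e : h ≫ b = q ≫ g) : ∃ h', h' ≫ b = g := by
  obtain ⟨z, hz⟩ := exists_desc_fppf q h fun a₁ a₂ eq => by
    rw [← cancel_mono b, Category.assoc, Category.assoc, e, reassoc_of% eq]
  haveI : Epi q.left := Flat.epi_of_flat_of_surjective q.left
  haveI : Epi q := Over.epi_of_epi_left q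
  exact ⟨z, by rw [← cancel_epi q, reassoc_of% hz, e]⟩

/-- lifting a point along a covering homomorphism -/
theorem exists_cover {T G₁ G₂ : Over S} (u : G₁ ⟶ G₂) [Flat u.left] [Surjective u.left]
    [LocallyOfFinitePresentation u.left] (y : T ⟶ G₂) :
    ∃ (Q : Over S) (q : Q ⟶ T) (g : Q ⟶ G₁), Flat q.left ∧ Surjective q.left ∧
      LocallyOfFinitePresentation q.left ∧ g ≫ u = q ≫ y :=
  by
  refine ⟨Over.mk (pullback.fst y.left u.left ≫ T.hom), Over.homMk (pullback.fst y.left u.left),
    Over.homMk (pullback.snd y.left u.left) (by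
      show pullback.snd y.left u.left ≫ G₁.hom = pullback.fst y.left u.left ≫ T.hom
      rw [← Over.w u, ← Category.assoc, ← pullback.condition, Category.assoc, Over.w y]), ?_, ?_, ?_,
    Over.OverMorphism.ext pullback.condition.symm⟩
  · exact inferInstanceAs (Flat (pullback.fst y.left u.left))
  · exact inferInstanceAs (Surjective (pullback.fst y.left u.left))
  · exact inferInstanceAs (LocallyOfFinitePresentation (pullback.fst y.left u.left))

/-- **quotient of a subgroup containing the kernel** -/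
theorem exists_quotient_subgroup (u : G ⟶ G') [IsMonHom u] [Flat u.left] [Surjective u.left] [QuasiCompact u.left]
    [LocallyOfFinitePresentation u.left] {B : Over S} [GrpObj B] (b : B ⟶ G) [IsMonHom b] [Mono b]
    [LocallyOfFiniteType b.left] [QuasiCompact b.left] (hK : KerLe u b) :
    ∃ (B' : Over S) (_ : GrpObj B') (b' : B' ⟶ G') (v : B ⟶ B'), IsMonHom b' ∧ Mono b' ∧ IsMonHom v ∧
      IsPullback b v u b' := by
  haveI : Groth.L20.SchDesc.Cov u.left := Descent.cov_of_cover u.left fun V hV =>
    ⟨u.left ⁻¹ᵁ V, u.left.isCompact_preimage hV.isCompact, Set.image_preimage_eq _ u.left.surjective⟩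
  let f : B.left ⟶ G.left := b.left
  have hex : ∀ {T : Scheme.{u}} (v : T ⟶ B.left) (x : T ⟶ G.left), v ≫ f ≫ u.left = x ≫ u.left →
      ∃ w : T ⟶ B.left, w ≫ f = x := by
    intro T v x h
    let T₀ : Over S := Over.mk (x ≫ G.hom)
    let x₀ : T₀ ⟶ G := Over.homMk x
    let v₀ : T₀ ⟶ B := Over.homMk v (by
      show v ≫ B.hom = x ≫ G.hom
      rw [← Over.w b, ← Over.w u, reassoc_of% h])
    have e : (v₀ ≫ b) ≫ u = x₀ ≫ u := Over.OverMorphism.ext ((Category.assoc _ _ _).trans h)
    obtain ⟨y, hy⟩ := hK T₀ (x₀ * (v₀ ≫ b)⁻¹) (by rw [MonObj.mul_comp, GrpObj.inv_comp, e, mul_inv_cancel])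
    refine ⟨(y * v₀).left, congrArg (fun m => m.left) (show (y * v₀) ≫ b = x₀ from ?_)⟩
    rw [MonObj.mul_comp, hy, inv_mul_cancel_right]
  choose act hact using @hex
  haveI : Mono f := inferInstanceAs (Mono ((Over.forget S).map b))
  let P : Groth.L20.SchDesc.Pre u.left f :=
    { act := act
      hom := hact
      natural := fun g v x e e' => (cancel_mono f).1 (by rw [hact, Category.assoc, hact])
      self := fun v e => (cancel_mono f).1 (hact _ _ _)
      comp := fun v x y e e' e'' => (cancel_mono f).1 (by rw [hact, hact]) }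
  obtain ⟨d⟩ := Groth.L20.SchDesc.effective_of_isIndQuasiAffineHom (isIndQuasiAffineHom_of_mono f) P
  have sql : IsPullback b.left d.q u.left d.a := d.isPullback
  let B' : Over S := Over.mk (d.a ≫ G'.hom)
  let b' : B' ⟶ G' := Over.homMk d.a rfl
  let v : B ⟶ B' := Over.homMk d.q (by
    show d.q ≫ d.a ≫ G'.hom = B.hom
    rw [← Category.assoc, ← sql.w, Category.assoc, Over.w u, Over.w b])
  have sq : IsPullback b v u b' := IsPullback.of_map (Over.forget S) (Over.OverMorphism.ext sql.w) sql
  haveI : Flat v.left := MorphismProperty.of_isPullback (P := @Flat) sql ‹_›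
  haveI : Surjective v.left := MorphismProperty.of_isPullback (P := @Surjective) sql ‹_›
  haveI : LocallyOfFinitePresentation v.left :=
    MorphismProperty.of_isPullback (P := @LocallyOfFinitePresentation) sql ‹_›
  haveI : Mono b' := ⟨fun {T} x y hxy => by
    obtain ⟨Q, q, h, hq₁, hq₂, hq₃, hh⟩ := exists_cover v x
    haveI : Epi q.left := Flat.epi_of_flat_of_surjective q.left
    haveI : Epi q := Over.epi_of_epi_left q
    have hw : (h ≫ b) ≫ u = (q ≫ y) ≫ b' := by
      rw [Category.assoc, sq.w, ← Category.assoc, hh, Category.assoc, Category.assoc, hxy]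
    have h2 : sq.lift (h ≫ b) (q ≫ y) hw = h := by rw [← cancel_mono b, sq.lift_fst]
    rw [← cancel_epi q, ← hh, ← h2, sq.lift_snd]⟩
  let F : ∀ T : Over S, (T ⟶ G') → Prop := fun T y =>
    ∀ (Y : Over S) (a : Y ⟶ T) (g : Y ⟶ G), g ≫ u = a ≫ y → ∃ h, h ≫ b = g
  obtain ⟨hg, hm⟩ : ∃ _ : GrpObj B', IsMonHom b' := by
    refine Locus.exists_subgroup b' F (fun T y => ⟨?_, fun h => ?_⟩) ?_ ?_ ?_
    · rintro ⟨w, rfl⟩ Y a g e
      exact ⟨sq.lift g (a ≫ w) (by rw [e, Category.assoc]), sq.lift_fst _ _ _⟩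
    · obtain ⟨Q, q, g, hq₁, hq₂, hq₃, hgu⟩ := exists_cover u y
      obtain ⟨h₀, hh₀⟩ := h Q q g hgu
      have hb : (h₀ ≫ v) ≫ b' = q ≫ y := by rw [Category.assoc, ← sq.w, ← Category.assoc, hh₀, hgu]
      exact fac_of_cover b' q y (h₀ ≫ v) hb
    · intro Y a g e
      exact hK Y g (by rw [e, MonObj.comp_one])
    · intro T x y hx hy Y a g e
      obtain ⟨Q, q, g₁, hq₁, hq₂, hq₃, h₁⟩ := exists_cover u (a ≫ x)
      obtain ⟨k₁, hk₁⟩ := hx Q (q ≫ a) g₁ (by rw [h₁, Category.assoc])
      obtain ⟨k₂, hk₂⟩ := hy Q (q ≫ a) (g₁⁻¹ * (q ≫ g)) (by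
        rw [MonObj.mul_comp, GrpObj.inv_comp, h₁, Category.assoc, e, MonObj.comp_mul, MonObj.comp_mul,
          inv_mul_cancel_left, Category.assoc])
      exact fac_of_cover b q g (k₁ * k₂) (by rw [MonObj.mul_comp, hk₁, hk₂, mul_inv_cancel_left])
    · intro T x hx Y a g e
      obtain ⟨k₁, hk₁⟩ := hx Y a g⁻¹ (by rw [GrpObj.inv_comp, e, GrpObj.comp_inv, _root_.inv_inv])
      exact ⟨k₁⁻¹, by rw [GrpObj.inv_comp, hk₁, _root_.inv_inv]⟩
  letI := hg
  haveI := hm
  refine ⟨B', hg, b', v, hm, inferInstance, Bridge.isMonHom_of_mul v fun X x y => ?_, sq⟩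
  rw [← cancel_mono b', Category.assoc, ← sq.w, MonObj.mul_comp (x ≫ v) (y ≫ v) b', Category.assoc, Category.assoc,
    ← sq.w, MonObj.mul_comp x y (b ≫ u)]

/-- **Borel subgroups and their preimages** -/
theorem borel_preimage [Smooth G.hom] [QuasiCompact G.hom] [Smooth G'.hom] [QuasiSeparated G'.hom] [QuasiCompact G'.hom]
    (hconn : ∀ s : S, _root_.IsConnected (G.hom.base ⁻¹' {s}))
    (hconn' : ∀ s : S, _root_.IsConnected (G'.hom.base ⁻¹' {s}))
    (u : G ⟶ G') [IsMonHom u] [Flat u.left] [Surjective u.left]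
    (hKs : ∀ (s : S) (B : Over (Spec (CommRingCat.of (AlgebraicClosure (S.residueField s))))) [GrpObj B]
      (b : B ⟶ Red.geomFibre s G), Red.IsBorelOver _ b → KerLe ((Over.pullback (Red.geomPt s)).map u) b)
    {B' : Over S} [GrpObj B'] (b' : B' ⟶ G') [Mono b'] [Smooth B'.hom] [QuasiCompact B'.hom]
    (hB' : ∀ s : S, Red.IsBorelOver (AlgebraicClosure (S.residueField s)) ((Over.pullback (Red.geomPt s)).map b'))
    {B : Over S} [GrpObj B] (b : B ⟶ G) [IsMonHom b] (v : B ⟶ B') (sq : IsPullback b v u b') :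
    IsMonHom b ∧ Mono b ∧ Smooth B.hom ∧ QuasiCompact B.hom ∧
      ∀ s : S, Red.IsBorelOver (AlgebraicClosure (S.residueField s)) ((Over.pullback (Red.geomPt s)).map b) := by
  haveI : QuasiCompact (u.left ≫ G'.hom) := by rw [Over.w u]; infer_instance
  haveI : QuasiCompact u.left := QuasiCompact.of_comp u.left G'.hom
  haveI : LocallyOfFinitePresentation u.left :=
    Groth.L23.lfp_of_comp_lft u.left G'.hom (by rw [Over.w u]; infer_instance)
  have sql := sq.map (Over.forget S)
  haveI : Flat v.left := MorphismProperty.of_isPullback (P := @Flat) sql ‹_›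
  haveI : LocallyOfFinitePresentation v.left :=
    MorphismProperty.of_isPullback (P := @LocallyOfFinitePresentation) sql ‹_›
  haveI : QuasiCompact v.left := MorphismProperty.of_isPullback (P := @QuasiCompact) sql ‹_›
  haveI : Mono b := ⟨fun x y h => sq.hom_ext h (by rw [← cancel_mono b', Category.assoc, Category.assoc, ← sq.w, reassoc_of% h])⟩
  haveI : Flat B.hom := by rw [← Over.w v]; infer_instance
  haveI : LocallyOfFinitePresentation B.hom := by rw [← Over.w v]; infer_instance
  have hfib : ∀ s : S, Red.IsBorelOver (AlgebraicClosure (S.residueField s)) ((Over.pullback (Red.geomPt s)).map b) := by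
    intro s
    let F := Over.pullback (Red.geomPt s)
    haveI : Smooth (Red.geomFibre s G).hom := inferInstanceAs (Smooth (pullback.snd G.hom (Red.geomPt s)))
    haveI : QuasiCompact (Red.geomFibre s G).hom := inferInstanceAs (QuasiCompact (pullback.snd G.hom (Red.geomPt s)))
    haveI : ConnectedSpace (Red.geomFibre s G).left := connectedSpace_bc_point G hconn (Red.geomPt s)
    haveI : Smooth (Red.geomFibre s G').hom := inferInstanceAs (Smooth (pullback.snd G'.hom (Red.geomPt s)))
    haveI : QuasiCompact (Red.geomFibre s G').hom :=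
      inferInstanceAs (QuasiCompact (pullback.snd G'.hom (Red.geomPt s)))
    haveI : ConnectedSpace (Red.geomFibre s G').left := connectedSpace_bc_point G' hconn' (Red.geomPt s)
    haveI : IsMonHom (F.map u) := MonoClosed.isMonHom_pullbackMap _ _
    haveI : IsMonHom (F.map b) := MonoClosed.isMonHom_pullbackMap _ _
    haveI : Surjective (F.map u).left := surjective_bcMap _ u
    obtain ⟨B₁, gB₁, b₁, p, hB₁, -, -, -, sq₁⟩ := exists_preimage_borel_ker (F.map u) (hKs s) (hB' s)
    exact isBorelOver_iso_comp hB₁ ((sq.map F).isoIsPullback _ _ sq₁) (F.map b)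
      (IsPullback.isoIsPullback_hom_fst _ _ (sq.map F) sq₁)
  refine ⟨inferInstance, inferInstance,
    Groth.L07.SmoothFibre.smooth_of_fibres B.hom fun s => smooth_fibre_of_geomFibre B s (hfib s).2.2.1, ?_, hfib⟩
  rw [← Over.w v]
  infer_instance

/-- **Borel subgroups containing the kernel are preimages of Borel subgroups** -/
theorem borel_image [Smooth G.hom] [QuasiCompact G.hom] [QuasiSeparated G.hom] [Smooth G'.hom]
    [QuasiSeparated G'.hom] [QuasiCompact G'.hom]
    (hconn : ∀ s : S, _root_.IsConnected (G.hom.base ⁻¹' {s}))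
    (hconn' : ∀ s : S, _root_.IsConnected (G'.hom.base ⁻¹' {s}))
    (u : G ⟶ G') [IsMonHom u] [Flat u.left] [Surjective u.left]
    {B : Over S} [GrpObj B] (b : B ⟶ G) [IsMonHom b] [Mono b] [Smooth B.hom] [QuasiCompact B.hom] (hK : KerLe u b)
    (hB : ∀ s : S, Red.IsBorelOver (AlgebraicClosure (S.residueField s)) ((Over.pullback (Red.geomPt s)).map b)) :
    ∃ (B' : Over S) (_ : GrpObj B') (b' : B' ⟶ G') (v : B ⟶ B'), (IsMonHom b' ∧ Mono b' ∧ Smooth B'.hom ∧
      QuasiCompact B'.hom ∧
      ∀ s : S, Red.IsBorelOver (AlgebraicClosure (S.residueField s)) ((Over.pullback (Red.geomPt s)).map b')) ∧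
      IsMonHom v ∧ IsPullback b v u b' := by
  haveI : QuasiCompact (u.left ≫ G'.hom) := by rw [Over.w u]; infer_instance
  haveI : QuasiCompact u.left := QuasiCompact.of_comp u.left G'.hom
  haveI : LocallyOfFinitePresentation u.left :=
    Groth.L23.lfp_of_comp_lft u.left G'.hom (by rw [Over.w u]; infer_instance)
  haveI : QuasiCompact (b.left ≫ G.hom) := by rw [Over.w b]; infer_instance
  haveI : QuasiCompact b.left := QuasiCompact.of_comp b.left G.hom
  haveI : LocallyOfFiniteType (b.left ≫ G.hom) := by rw [Over.w b]; infer_instance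
  haveI : LocallyOfFiniteType b.left := locallyOfFiniteType_of_comp b.left G.hom
  obtain ⟨B', gB', b', v, hb', hb'm, hv, sq⟩ := exists_quotient_subgroup u b hK
  haveI := hb'; haveI := hb'm
  have sql := sq.map (Over.forget S)
  haveI : Flat v.left := MorphismProperty.of_isPullback (P := @Flat) sql ‹_›
  haveI : Surjective v.left := MorphismProperty.of_isPullback (P := @Surjective) sql ‹_›
  haveI : LocallyOfFinitePresentation v.left :=
    MorphismProperty.of_isPullback (P := @LocallyOfFinitePresentation) sql ‹_›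
  have hBs : Smooth B'.hom := Groth.L23.FppfSmooth.smooth_of_fppf_comp v.left B'.hom (by rw [Over.w v]; infer_instance)
  have hBq : QuasiCompact B'.hom := by
    haveI : QuasiCompact (v.left ≫ B'.hom) := by rw [Over.w v]; infer_instance
    exact Groth.L08.NormalQuot.quasiCompact_of_surjective v.left B'.hom
  refine ⟨B', gB', b', v, ⟨hb', hb'm, hBs, hBq, fun s => ?_⟩, hv, sq⟩
  let F := Over.pullback (Red.geomPt s)
  haveI : Smooth (Red.geomFibre s G).hom := inferInstanceAs (Smooth (pullback.snd G.hom (Red.geomPt s)))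
  haveI : QuasiCompact (Red.geomFibre s G).hom := inferInstanceAs (QuasiCompact (pullback.snd G.hom (Red.geomPt s)))
  haveI : ConnectedSpace (Red.geomFibre s G).left := connectedSpace_bc_point G hconn (Red.geomPt s)
  haveI : Smooth (Red.geomFibre s G').hom := inferInstanceAs (Smooth (pullback.snd G'.hom (Red.geomPt s)))
  haveI : QuasiCompact (Red.geomFibre s G').hom := inferInstanceAs (QuasiCompact (pullback.snd G'.hom (Red.geomPt s)))
  haveI : ConnectedSpace (Red.geomFibre s G').left := connectedSpace_bc_point G' hconn' (Red.geomPt s)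
  haveI : IsMonHom (F.map u) := MonoClosed.isMonHom_pullbackMap _ _
  haveI : IsMonHom (F.map b') := MonoClosed.isMonHom_pullbackMap _ _
  haveI : Surjective (F.map u).left := surjective_bcMap _ u
  obtain ⟨C, gC, c, p, hC, hp, hps, hpf, sqC⟩ := exists_image_borel_ker (F.map u) (hB s) (kerLe_bc hK _)
  haveI := hC.1; haveI := hC.2.1; haveI := hps; haveI := hpf
  haveI : Mono c := Groth.L08.mono_of_closedImmersion c
  haveI : Mono (F.map b') := Functor.map_mono _ _
  have sqv := sq.map F
  have sqvl := sqv.map (Over.forget _)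
  haveI : LocallyOfFiniteType (F.obj B).hom := inferInstanceAs (LocallyOfFiniteType (pullback.snd B.hom (Red.geomPt s)))
  haveI : LocallyOfFiniteType (F.obj B').hom := by
    haveI := hBs
    exact inferInstanceAs (LocallyOfFiniteType (pullback.snd B'.hom (Red.geomPt s)))
  haveI : LocallyOfFiniteType C.hom := by haveI := hC.2.2.1; infer_instance
  haveI : LocallyOfFinitePresentation p.left := Groth.L08.ChevPerf.lfp_left p
  haveI : Surjective (F.map v).left := surjective_bcMap _ v
  haveI : Flat (F.map v).left :=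
    MorphismProperty.of_isPullback (P := @Flat) (Groth.L25.SchImage.isPullback_fst_map _ v) ‹_›
  haveI : LocallyOfFinitePresentation (F.map v).left := Groth.L08.ChevPerf.lfp_left (F.map v)
  haveI : Epi (F.map v).left := Flat.epi_of_flat_of_surjective _
  haveI : Epi (F.map v) := Over.epi_of_epi_left _
  haveI : Epi p.left := Flat.epi_of_flat_of_surjective _
  haveI : Epi p := Over.epi_of_epi_left _
  obtain ⟨φ, hφ⟩ := exists_desc_fppf (F.map v) p fun a₁ a₂ eq => by
    rw [← cancel_mono c, Category.assoc, Category.assoc, ← sqC.w, sqv.w, reassoc_of% eq]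
  obtain ⟨ψ, hψ⟩ := exists_desc_fppf p (F.map v) fun a₁ a₂ eq => by
    rw [← cancel_mono (F.map b'), Category.assoc, Category.assoc, ← sqv.w, sqC.w, reassoc_of% eq]
  exact isBorelOver_iso_comp hC ⟨φ, ψ, by rw [← cancel_epi (F.map v), reassoc_of% hφ, hψ, Category.comp_id],
    by rw [← cancel_epi p, reassoc_of% hψ, hφ, Category.comp_id]⟩ (F.map b')
    (by rw [← cancel_epi (F.map v), reassoc_of% hφ, ← sqC.w, sqv.w])

end Groth.L08.Borel
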