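import Groth.Agent.L08.Borel.BorelPreimage
import Groth.Agent.L08.Borel.CommTorusGlobal

/-!
# Borel subgroups under homomorphisms with kernel in the radical, over a field
-/

set_option autoImplicit false
set_option backward.isDefEq.respectTransparency.types false
set_option linter.style.haveILetI false
universe u

open CategoryTheory CategoryTheory.Limits MonoidalCategory CartesianMonoidalCategory MonObj AlgebraicGeometry

noncomputable section

namespace Groth.L08.Borel

/-- kernel in the radical gives kernel in every Borel subgroup of the geometric fibre -/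
theorem kerLe_geomFibre_of_radical {S : Scheme.{u}} {G G' : Over S} [GrpObj G] [GrpObj G'] [Smooth G.hom]
    [QuasiCompact G.hom] [Smooth G'.hom] [QuasiCompact G'.hom]
    (hconn : ∀ s : S, _root_.IsConnected (G.hom.base ⁻¹' {s}))
    (hconn' : ∀ s : S, _root_.IsConnected (G'.hom.base ⁻¹' {s})) (u : G ⟶ G') (s : S)
    {R : Over (Spec (CommRingCat.of (AlgebraicClosure (S.residueField s))))} [GrpObj R] (r : R ⟶ Red.geomFibre s G)
    [IsMonHom r] [IsClosedImmersion r.left] [Smooth R.hom] [ConnectedSpace R.left] (hR : Red.IsSolvableGrp R)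
    (hn : ∀ (X : Over (Spec (CommRingCat.of (AlgebraicClosure (S.residueField s))))) (g : X ⟶ Red.geomFibre s G)
      (x : X ⟶ R), ∃ x' : X ⟶ R, g * (x ≫ r) * g⁻¹ = x' ≫ r)
    (hker : KerLe ((Over.pullback (Red.geomPt s)).map u) r)
    (B : Over (Spec (CommRingCat.of (AlgebraicClosure (S.residueField s))))) [GrpObj B]
    (b : B ⟶ Red.geomFibre s G) (h : Red.IsBorelOver _ b) :
    KerLe ((Over.pullback (Red.geomPt s)).map u) b := by
  haveI : Smooth (Red.geomFibre s G).hom := inferInstanceAs (Smooth (pullback.snd G.hom (Red.geomPt s)))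
  haveI : QuasiCompact (Red.geomFibre s G).hom := inferInstanceAs (QuasiCompact (pullback.snd G.hom (Red.geomPt s)))
  haveI : ConnectedSpace (Red.geomFibre s G).left := connectedSpace_bc_point G hconn (Red.geomPt s)
  haveI : Smooth (Red.geomFibre s G').hom := inferInstanceAs (Smooth (pullback.snd G'.hom (Red.geomPt s)))
  haveI : QuasiCompact (Red.geomFibre s G').hom := inferInstanceAs (QuasiCompact (pullback.snd G'.hom (Red.geomPt s)))
  haveI : ConnectedSpace (Red.geomFibre s G').left := connectedSpace_bc_point G' hconn' (Red.geomPt s)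
  exact kerLe_of_radical _ r hR hn hker B b h

/-- kernel containment over a field can be checked on an extension -/
theorem kerLe_of_bc {k K : Type u} [Field k] [Field K] {G G' B : Over (Spec (CommRingCat.of k))} [GrpObj G] [GrpObj G']
    {u : G ⟶ G'} (b : B ⟶ G) [Mono b] (θ : Spec (CommRingCat.of K) ⟶ Spec (CommRingCat.of k))
    (h : KerLe ((Over.pullback θ).map u) ((Over.pullback θ).map b)) : KerLe u b := fun X g hg => by
  obtain ⟨f, hf⟩ := h _ ((Over.pullback θ).map g) (by rw [← Functor.map_comp, hg, bc_map_one])
  exact factor_of_bc g b θ f hf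

/-- the fibre of a connected scheme over a field is connected -/
theorem isConnected_fibre_field {k : Type u} [Field k] (X : Over (Spec (CommRingCat.of k))) [ConnectedSpace X.left]
    (s : Spec (CommRingCat.of k)) : _root_.IsConnected (X.hom.base ⁻¹' {s}) :=
  (congrArg _root_.IsConnected (Set.eq_univ_of_forall fun x => show X.hom x = s from
    Subsingleton.elim (α := PrimeSpectrum k) _ _)).mpr isConnected_univ

end Groth.L08.Borel
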