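import Groth.Agent.L08.Borel.CentralTorus
import Groth.Agent.L25.Locus.CentNorm
import Groth.Agent.S8407

/-!
# Centralizers of maximal tori
-/

set_option autoImplicit false
set_option backward.isDefEq.respectTransparency.types false
set_option linter.style.haveILetI false
set_option linter.unusedSectionVars false

universe u

open CategoryTheory CategoryTheory.Limits MonoidalCategory CartesianMonoidalCategory MonObj GrpObj AlgebraicGeometry

noncomputable section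

namespace Groth.L08.Borel

variable {k : Type u} [Field k] [IsAlgClosed k]

local notation "U1" => 𝟙_ (Over (Spec (CommRingCat.of k)))

theorem exists_centralizer_torus {G T : Over (Spec (CommRingCat.of k))} [GrpObj G] [GrpObj T] [IsAffine G.left]
    (iT : T ⟶ G) [IsMonHom iT] (hT : Red.IsTorus T) :
    ∃ (C : Over (Spec (CommRingCat.of k))) (_ : GrpObj C) (c : C ⟶ G), Red.IsCentralizerOf iT c := by
  haveI : IsAffineHom G.hom := isAffineHom_of_isAffine _
  obtain ⟨C, gC, c, hc, -⟩ := Groth.L25.Locus.exists_centralizer (G := G)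
    (Groth.L25.Locus.locally_of_multTypeFT (Groth.L25.Locus.isMultTypeFT_of_isTorus hT)) iT
  exact ⟨C, gC, c, hc⟩

/-- the centralizer of a subtorus is affine smooth connected -/
theorem centralizer_props {G T C : Over (Spec (CommRingCat.of k))} [GrpObj G] [GrpObj T] [GrpObj C] [IsAffine G.left]
    [Smooth G.hom] [ConnectedSpace G.left] {iT : T ⟶ G} [IsMonHom iT] [Mono iT] (hT : Red.IsTorus T) {c : C ⟶ G}
    (hc : Red.IsCentralizerOf iT c) :
    IsClosedImmersion c.left ∧ IsAffine C.left ∧ Smooth C.hom ∧ ConnectedSpace C.left ∧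
      (∃ t : T ⟶ C, t ≫ c = iT) ∧
      ∀ (X : Over (Spec (CommRingCat.of k))) (z : X ⟶ C) (s : X ⟶ T),
        (z ≫ c) * (s ≫ iT) = (s ≫ iT) * (z ≫ c) := by
  haveI : IsAffineHom G.hom := isAffineHom_of_isAffine _
  haveI : LocallyOfFiniteType G.hom := inferInstance
  haveI : QuasiCompact G.hom := quasiCompact_of_compactSpace _
  haveI h1 := (Groth.L25.Locus.isClosedImmersion_centralizer (Groth.L25.Locus.isMultTypeFT_of_isTorus hT) iT c hc).1
  obtain ⟨hs, hcon⟩ := Groth.Agent.S8407.result k G T iT hT C c hc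
  obtain ⟨-, -, -, -, hcomm⟩ := torus_props hT
  refine ⟨h1, isAffine_of_isAffineHom c.left, hs, hcon, (hc.2.2 T iT).2 fun X' x h => ?_, fun X z s => ?_⟩
  · rw [← MonObj.mul_comp, ← MonObj.mul_comp, hcomm]
  · have := (hc.2.2 X (z ≫ c)).1 ⟨z, rfl⟩ X (𝟙 X) s
    simpa only [Category.id_comp] using this

/-- the centralizer of a maximal torus is solvable -/
theorem isSolvableGrp_centralizer {G T C : Over (Spec (CommRingCat.of k))} [GrpObj G] [GrpObj T] [GrpObj C]
    [IsAffine G.left] [Smooth G.hom] [ConnectedSpace G.left] {iT : T ⟶ G} (hT : AGF.IsMaxTorus iT) {c : C ⟶ G}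
    (hc : Red.IsCentralizerOf iT c) : Red.IsSolvableGrp C := by
  haveI := hT.1; haveI := hT.2.1; haveI := hc.1; haveI := hc.2.1
  obtain ⟨h1, h2, h3, h4, ⟨t, ht⟩, hcen⟩ := centralizer_props hT.2.2.1 hc
  haveI := h1; haveI := h2; haveI := h3; haveI := h4
  refine isSolvableGrp_of_central_tori fun S _ j _ _ hS s h => ?_
  obtain ⟨g, f, hf⟩ := maxTorus_absorbing (isMaxTorus_factor (iB := c) (t := t) (ht.symm ▸ hT)) S j hS
  have hce : ∀ (u : U1 ⟶ T) (z : U1 ⟶ C), (u ≫ t) * z = z * (u ≫ t) := fun u z => by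
    rw [← cancel_mono c, MonObj.mul_comp, MonObj.mul_comp, Category.assoc, ht]
    exact (hcen _ z u).symm
  have e := s ≫= hf
  rw [comp_conjBy] at e
  have e1 : s ≫ f ≫ t = g * (s ≫ j) * g⁻¹ := by
    rw [e, AGF.conjBy, toUnit_unique (toUnit U1) (𝟙 _), Category.id_comp]
  have e2 : s ≫ j = s ≫ f ≫ t := by
    have h' := hce (s ≫ f) g
    rw [Category.assoc] at h'
    rw [e1] at h' ⊢
    exact (mul_left_cancel (a := g) (by rw [← h', inv_mul_cancel_right]))
  rw [e2, ← Category.assoc]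
  exact hce _ h

/-- some Borel subgroup contains the centralizer of a given maximal torus -/
theorem exists_borel_centralizer {G T C : Over (Spec (CommRingCat.of k))} [GrpObj G] [GrpObj T] [GrpObj C]
    [IsAffine G.left] [Smooth G.hom] [ConnectedSpace G.left] {iT : T ⟶ G} (hT : AGF.IsMaxTorus iT) {c : C ⟶ G}
    (hc : Red.IsCentralizerOf iT c) {B : Over (Spec (CommRingCat.of k))} [GrpObj B] {iB : B ⟶ G}
    (hB : Red.IsBorelOver k iB) : ∃ (g : U1 ⟶ G) (φ : C ⟶ B), φ ≫ iB = AGF.conjBy g c := by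
  haveI := hT.1; haveI := hT.2.1; haveI := hc.1; haveI := hc.2.1
  obtain ⟨h1, h2, h3, h4, -, -⟩ := centralizer_props hT.2.2.1 hc
  haveI := h1; haveI := h2; haveI := h3; haveI := h4; haveI := hB.1; haveI := hB.2.1
  haveI : LocallyOfFiniteType G.hom := inferInstance
  obtain ⟨X, a, o, hX⟩ := exists_isQuotient iB
  haveI := isProper_quotient_of_borel hB hX
  exact exists_conj_factor c (isSolvableGrp_centralizer hT hc) hX

/-- centralizers of maximal tori are conjugate -/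
theorem exists_cartan_conj {G T T' C C' : Over (Spec (CommRingCat.of k))} [GrpObj G] [GrpObj T] [GrpObj T'] [GrpObj C]
    [GrpObj C'] [IsAffine G.left] [Smooth G.hom] [ConnectedSpace G.left] {iT : T ⟶ G} {iT' : T' ⟶ G}
    (hT : AGF.IsMaxTorus iT) (hT' : AGF.IsMaxTorus iT') {c : C ⟶ G} {c' : C' ⟶ G}
    (hc : Red.IsCentralizerOf iT c) (hc' : Red.IsCentralizerOf iT' c') :
    ∃ (g : U1 ⟶ G) (f : C ≅ C'), f.hom ≫ c' = AGF.conjBy g c := by
  obtain ⟨g, f, hf⟩ := exists_maxTorus_conj hT hT'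
  haveI := hc.2.1; haveI := hc'.2.1
  haveI := mono_conjBy g c
  refine ⟨g, ?_⟩
  suffices h : ∀ (X : Over (Spec (CommRingCat.of k))) (x : X ⟶ G),
      (∃ z, z ≫ AGF.conjBy g c = x) ↔ ∃ z, z ≫ c' = x by
    obtain ⟨φ, hφ⟩ := Groth.L25.Locus.exists_iso_of_points (AGF.conjBy g c) c' h
    exact ⟨φ, hφ⟩
  intro X x
  rw [hc'.2.2]
  constructor
  · rintro ⟨z, rfl⟩ X' w h
    have e : h ≫ iT' = AGF.conjBy g ((h ≫ f.inv) ≫ iT) := by
      rw [← comp_conjBy, ← hf, Category.assoc, Iso.inv_hom_id_assoc]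
    rw [← Category.assoc, comp_conjBy, e]
    simp only [AGF.conjBy]
    have hz := (hc.2.2 X (z ≫ c)).1 ⟨z, rfl⟩ X' w (h ≫ f.inv)
    calc (toUnit X' ≫ g) * ((w ≫ z) ≫ c) * (toUnit X' ≫ g)⁻¹ *
          ((toUnit X' ≫ g) * ((h ≫ f.inv) ≫ iT) * (toUnit X' ≫ g)⁻¹)
        = (toUnit X' ≫ g) * (((w ≫ z) ≫ c) * ((h ≫ f.inv) ≫ iT)) * (toUnit X' ≫ g)⁻¹ := by group
      _ = (toUnit X' ≫ g) * (((h ≫ f.inv) ≫ iT) * ((w ≫ z) ≫ c)) * (toUnit X' ≫ g)⁻¹ := by
          rw [Category.assoc w z c, hz]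
      _ = _ := by group
  · intro hx
    obtain ⟨z, hz⟩ := (hc.2.2 X (AGF.conjBy g⁻¹ x)).2 fun X' w h => by
      have e : h ≫ iT = AGF.conjBy g⁻¹ ((h ≫ f.hom) ≫ iT') := by
        rw [Category.assoc, hf, comp_conjBy, conjBy_conjBy, inv_mul_cancel, conjBy_one]
      have hh := hx X' w (h ≫ f.hom)
      rw [comp_conjBy, e]
      simp only [AGF.conjBy]
      calc (toUnit X' ≫ g⁻¹) * (w ≫ x) * (toUnit X' ≫ g⁻¹)⁻¹ *
            ((toUnit X' ≫ g⁻¹) * ((h ≫ f.hom) ≫ iT') * (toUnit X' ≫ g⁻¹)⁻¹)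
          = (toUnit X' ≫ g⁻¹) * ((w ≫ x) * ((h ≫ f.hom) ≫ iT')) * (toUnit X' ≫ g⁻¹)⁻¹ := by group
        _ = (toUnit X' ≫ g⁻¹) * (((h ≫ f.hom) ≫ iT') * (w ≫ x)) * (toUnit X' ≫ g⁻¹)⁻¹ := by rw [hh]
        _ = _ := by group
    exact ⟨z, by rw [comp_conjBy, hz, conjBy_conjBy, mul_inv_cancel, conjBy_one]⟩

end Groth.L08.Borel
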