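import Groth.Agent.S4098

/-!
# The neutral component of a smooth group has connected fibres
-/

set_option autoImplicit false
set_option backward.isDefEq.respectTransparency.types false
set_option linter.style.haveILetI false

universe u

open CategoryTheory CategoryTheory.Limits MonoidalCategory CartesianMonoidalCategory MonObj GrpObj AlgebraicGeometry

noncomputable section

namespace Groth.L08.Borel

variable {S : Scheme.{u}}

/-- the neutral component as an open subgroup with connected fibres -/
theorem exists_neutral (G : Over S) [GrpObj G] [Smooth G.hom] :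
    ∃ (G0 : Over S) (_ : GrpObj G0) (i : G0 ⟶ G), IsMonHom i ∧ Mono i ∧ IsOpenImmersion i.left ∧ Smooth G0.hom ∧
      QuasiCompact G0.hom ∧ ∀ s : S, _root_.IsConnected (G0.hom.base ⁻¹' {s}) := by
  obtain ⟨-, G0, g0, i, hi, hio, hr, hs, hqc⟩ := Groth.Agent.S4098.result S G ⟨⊤, inferInstance, fun _ => trivial⟩
  haveI := hio
  refine ⟨G0, g0, i, hi, Over.mono_of_mono_left i, hio, hs, hqc, fun s => ?_⟩
  have hη : G.hom (η[G].left s) = s := congr(($(Over.w η[G])) s)
  have himg : i.left '' (G0.hom.base ⁻¹' {s}) = connectedComponentIn (G.hom.base ⁻¹' {s}) (η[G].left s) := by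
    have h1 : G0.hom.base ⁻¹' {s} = i.left ⁻¹' (G.hom.base ⁻¹' {s}) := by
      ext x
      show G0.hom x = s ↔ G.hom (i.left x) = s
      rw [← Scheme.Hom.comp_apply, Over.w i]
    rw [h1, Set.image_preimage_eq_inter_range, hr]
    ext x
    constructor
    · rintro ⟨hx, hn⟩
      obtain ⟨p, hp⟩ := Set.mem_iUnion.1 hn
      have h2 : (𝟙_ (Over S)).hom p = s := (connectedComponentIn_subset _ _ hp).symm.trans hx
      obtain rfl : p = s := h2
      exact hp
    · intro hx
      exact ⟨connectedComponentIn_subset _ _ hx, Set.mem_iUnion.2 ⟨s, hx⟩⟩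
  have hconn : _root_.IsConnected (i.left '' (G0.hom.base ⁻¹' {s})) := by
    rw [himg, isConnected_connectedComponentIn_iff]
    exact hη
  exact ⟨hconn.nonempty.of_image, (i.left.isOpenEmbedding.isInducing.isPreconnected_image).1 hconn.isPreconnected⟩

end Groth.L08.Borel
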