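import Groth.Agent.L08.Borel.TorsionClosed
import Groth.Agent.L08.FactorLocus
import Groth.Agent.L08.AbelianGrp
import Mathlib.RingTheory.Noetherian.Defs

/-!
# The centralizer of a torus is the centralizer of finitely many torsion points
-/

set_option autoImplicit false
set_option backward.isDefEq.respectTransparency.types false
set_option linter.style.haveILetI false
set_option linter.unusedSectionVars false

universe u

open CategoryTheory CategoryTheory.Limits MonoidalCategory CartesianMonoidalCategory MonObj GrpObj AlgebraicGeometry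

noncomputable section

namespace Groth.L08.Borel

/-- the agreement of two maps to a separated scheme is a closed subscheme -/
theorem exists_agree_closed {S : Scheme.{u}} {Y G : Over S} [IsSeparated G.hom] (a b : Y ⟶ G) :
    ∃ (E : Over S) (e : E ⟶ Y), IsClosedImmersion e.left ∧
      ∀ (T : Over S) (q : T ⟶ Y), (∃ p, p ≫ e = q) ↔ q ≫ a = q ≫ b := by
  let c : Y.left ⟶ pullback G.hom G.hom := pullback.lift a.left b.left ((Over.w a).trans (Over.w b).symm)
  let E : Over S := Over.mk (pullback.fst c (pullback.diagonal G.hom) ≫ Y.hom)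
  refine ⟨E, Over.homMk (pullback.fst c (pullback.diagonal G.hom)) rfl,
    inferInstanceAs (IsClosedImmersion (pullback.fst c (pullback.diagonal G.hom))), fun T q => ⟨?_, fun h => ?_⟩⟩
  · rintro ⟨p, rfl⟩
    rw [Category.assoc, Category.assoc]
    congr 1
    apply Over.OverMorphism.ext
    show pullback.fst c _ ≫ a.left = pullback.fst c _ ≫ b.left
    have hc := pullback.condition (f := c) (g := pullback.diagonal G.hom)
    have h1 := congrArg (· ≫ pullback.fst G.hom G.hom) hc
    have h2 := congrArg (· ≫ pullback.snd G.hom G.hom) hc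
    simp only [c, Category.assoc, pullback.lift_fst, pullback.lift_snd, pullback.diagonal_fst,
      pullback.diagonal_snd, Category.comp_id] at h1 h2
    exact h1.trans h2.symm
  · refine ⟨Over.homMk (pullback.lift q.left (q.left ≫ a.left) ?_) ?_, Over.OverMorphism.ext ?_⟩
    · apply pullback.hom_ext
      · simp only [c, Category.assoc, pullback.lift_fst, pullback.diagonal_fst, Category.comp_id]
      · simp only [c, Category.assoc, pullback.lift_snd, pullback.diagonal_snd, Category.comp_id]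
        exact (congrArg (fun m => m.left) h).symm
    · show pullback.lift _ _ _ ≫ pullback.fst c _ ≫ _ = _
      rw [pullback.lift_fst_assoc, Over.w]
    · exact pullback.lift_fst _ _ _

variable {k : Type u} [Field k] [IsAlgClosed k]

local notation "U1" => 𝟙_ (Over (Spec (CommRingCat.of k)))

theorem exists_torsion_set {G T : Over (Spec (CommRingCat.of k))} [GrpObj G] [GrpObj T] [LocallyOfFiniteType G.hom]
    [QuasiCompact G.hom] (t : T ⟶ G) [IsMonHom t] (hT : Red.IsTorus T) :
    ∃ (n r : ℕ) (x : Fin r → (U1 ⟶ T)), 0 < n ∧ (n : k) ≠ 0 ∧ (∀ i, x i ^ n = 1) ∧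
      ∀ (X : Over (Spec (CommRingCat.of k))) (g : X ⟶ G), (∀ i, Commute g (toUnit X ≫ x i ≫ t)) →
        ∀ (h : X ⟶ T), Commute g (h ≫ t) := by
  classical
  haveI := Groth.L08.AbelianGrp.isSeparated G
  let P := {p : U1 ⟶ T // ∃ q : ℕ, 0 < q ∧ (q : k) ≠ 0 ∧ p ^ q = 1}
  have hcl : ∀ l : List P, ∃ (Z : Over (Spec (CommRingCat.of k))) (z : Z ⟶ G), IsClosedImmersion z.left ∧
      ∀ (X : Over (Spec (CommRingCat.of k))) (g : X ⟶ G), (∃ w, w ≫ z = g) ↔
        ∀ p ∈ l, Commute g (toUnit X ≫ p.1 ≫ t) := by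
    intro l
    induction l with
    | nil => exact ⟨G, 𝟙 G, inferInstanceAs (IsClosedImmersion (𝟙 _)), fun X g => by simp⟩
    | cons p l ih =>
      obtain ⟨Z, z, hz, hZ⟩ := ih
      obtain ⟨E, e, he, hE⟩ := exists_agree_closed (z * (toUnit Z ≫ p.1 ≫ t)) ((toUnit Z ≫ p.1 ≫ t) * z)
      refine ⟨E, e ≫ z, inferInstanceAs (IsClosedImmersion (e.left ≫ z.left)), fun X g => ?_⟩
      rw [List.forall_mem_cons]
      constructor
      · rintro ⟨w, rfl⟩
        refine ⟨?_, (hZ X _).1 ⟨w ≫ e, Category.assoc _ _ _⟩⟩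
        have h := (hE X (w ≫ e)).1 ⟨w, rfl⟩
        simp only [MonObj.comp_mul, ← Category.assoc _ (toUnit Z), toUnit_unique ((w ≫ e) ≫ toUnit Z) (toUnit X)] at h
        simpa only [commute_iff_eq, Category.assoc] using h
      · rintro ⟨hp, hl⟩
        obtain ⟨w, rfl⟩ := (hZ X g).2 hl
        obtain ⟨w', hw'⟩ := (hE X w).2 (by
          simp only [MonObj.comp_mul, ← Category.assoc _ (toUnit Z), toUnit_unique (w ≫ toUnit Z) (toUnit X)]
          simpa only [commute_iff_eq] using hp.eq)
        exact ⟨w', by rw [← Category.assoc, hw']⟩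
  choose Z z hz hZ using hcl
  haveI : CompactSpace G.left := (quasiCompact_iff_compactSpace (f := G.hom)).1 inferInstance
  haveI : IsLocallyNoetherian G.left := LocallyOfFiniteType.isLocallyNoetherian G.hom
  let 𝒰 := G.left.affineCover.finiteSubcover
  let U : 𝒰.I₀ → G.left.affineOpens := fun i => ⟨(𝒰.f i).opensRange, isAffineOpen_opensRange (𝒰.f i)⟩
  haveI : ∀ i, IsNoetherianRing Γ(G.left, (U i).1) := fun i => IsLocallyNoetherian.component_noetherian (U i)
  let F : List P → ∀ i, (Ideal Γ(G.left, (U i).1))ᵒᵈ := fun l i => OrderDual.toDual ((z l).left.ker.ideal (U i))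
  haveI : WellFoundedLT (∀ i, (Ideal Γ(G.left, (U i).1))ᵒᵈ) := inferInstance
  obtain ⟨_, ⟨l, rfl⟩, hmin⟩ := (wellFounded_lt (α := ∀ i, (Ideal Γ(G.left, (U i).1))ᵒᵈ)).has_min (Set.range F)
    ⟨_, [], rfl⟩
  have hall : ∀ p : P, ∀ (X : Over (Spec (CommRingCat.of k))) (g : X ⟶ G),
      (∀ p' ∈ l, Commute g (toUnit X ≫ p'.1 ≫ t)) → Commute g (toUnit X ≫ p.1 ≫ t) := by
    intro p X g hg
    haveI := hz l
    haveI := hz (p :: l)
    obtain ⟨f, hf⟩ := (hZ l (Z (p :: l)) (z (p :: l))).2 fun p' hp' =>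
      (hZ (p :: l) _ _).1 ⟨𝟙 _, Category.id_comp _⟩ p' (List.mem_cons_of_mem _ hp')
    have hle : (z l).left.ker ≤ (z (p :: l)).left.ker := by
      rw [← hf, Over.comp_left]
      exact Scheme.Hom.le_ker_comp _ _
    have heq : (z l).left.ker = (z (p :: l)).left.ker := by
      refine Scheme.IdealSheafData.ext_of_iSup_eq_top U
        𝒰.iSup_opensRange fun i => ?_
      by_contra hne
      refine hmin (F (p :: l)) ⟨_, rfl⟩ (lt_of_le_of_ne (fun i => hle (U i)) fun h => hne ?_)
      exact (congrArg OrderDual.ofDual (congrFun h i)).symm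
    obtain ⟨w, rfl⟩ := (hZ l X g).2 hg
    let f' := IsClosedImmersion.lift (z (p :: l)).left (z l).left heq.ge
    have hf' : f' ≫ (z (p :: l)).left = (z l).left := IsClosedImmersion.lift_fac _ _ _
    let f'' : Z l ⟶ Z (p :: l) := Over.homMk f' (by rw [← Over.w (z (p :: l)), reassoc_of% hf', Over.w])
    have hf'' : f'' ≫ z (p :: l) = z l := Over.OverMorphism.ext hf'
    refine (hZ (p :: l) X _).1 ⟨w ≫ f'', ?_⟩ p (List.mem_cons_self ..)
    rw [Category.assoc, hf'']
  let q : P → ℕ := fun p => p.2.choose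
  have hq : ∀ p : P, 0 < q p ∧ (q p : k) ≠ 0 ∧ p.1 ^ q p = 1 := fun p => p.2.choose_spec
  refine ⟨(l.map q).prod, l.length, fun i => (l.get i).1, ?_, ?_, fun i => ?_, fun X g hg h => ?_⟩
  · exact List.prod_pos (fun a ha => by
      obtain ⟨p, -, rfl⟩ := List.mem_map.1 ha
      exact (hq p).1)
  · rw [Nat.cast_list_prod, List.map_map, Ne, List.prod_eq_zero_iff]
    intro h0
    obtain ⟨p, -, hp⟩ := List.mem_map.1 h0
    exact (hq p).2.1 hp
  · obtain ⟨c, hc⟩ : q (l.get i) ∣ (l.map q).prod := List.dvd_prod (List.mem_map.2 ⟨_, List.get_mem l i, rfl⟩)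
    rw [hc, pow_mul, (hq _).2.2, one_pow]
  · have hg' : ∀ p' ∈ l, Commute g (toUnit X ≫ p'.1 ≫ t) := fun p' hp' => by
      obtain ⟨i, rfl⟩ := List.mem_iff_get.1 hp'
      exact hg i
    let a : X ⊗ T ⟶ G := (fst X T ≫ g) * (snd X T ≫ t)
    let b : X ⊗ T ⟶ G := (snd X T ≫ t) * (fst X T ≫ g)
    obtain ⟨W, c, hc, hW⟩ := Groth.L08.FactorLocus.exists_closedImmersion_agree a b
    haveI := hc
    obtain ⟨s, hs⟩ := exists_section_of_torsion hT c fun m y hm hm0 hy => by
      refine (hW _ y).2 ?_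
      have hpre := hall ⟨y, m, hm, hm0, hy⟩ (X ⊗ U1) (fst X U1 ≫ g) fun p' hp' => by
        have := (hg' p' hp').map ((MonoidHom.mk' (fun m => fst X U1 ≫ m) (fun u v => MonObj.comp_mul _ u v)) :
          (X ⟶ G) →* (X ⊗ U1 ⟶ G))
        simp only [MonoidHom.mk'_apply, ← Category.assoc, toUnit_unique (fst X U1 ≫ toUnit X) (toUnit _)] at this
        simpa only [Category.assoc] using this
      simp only [a, b, MonObj.comp_mul, whiskerLeft_fst_assoc, whiskerLeft_snd_assoc]
      rw [toUnit_unique (toUnit (X ⊗ U1)) (snd X U1)] at hpre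
      exact hpre
    have e := congrArg (fun m => lift (𝟙 X) h ≫ m) ((hW T (𝟙 T)).1 ⟨s, hs⟩)
    simp only [a, b, MonObj.comp_mul, MonoidalCategory.whiskerLeft_id, Category.id_comp, lift_fst_assoc,
      lift_snd_assoc] at e
    exact e

end Groth.L08.Borel
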