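import Groth.Agent.L08.Borel.TorsLift
import Groth.Agent.L08.Borel.TorsSet
import Groth.Agent.L08.Borel.NeutralConn
import Groth.Agent.L08.Borel.CartanNhd

/-!
# Candidates for Cartan subgroups after a smooth base change
-/

set_option autoImplicit false
set_option backward.isDefEq.respectTransparency.types false
set_option linter.style.haveILetI false
set_option linter.unusedSectionVars false

universe u

open CategoryTheory CategoryTheory.Limits MonoidalCategory CartesianMonoidalCategory MonObj GrpObj AlgebraicGeometry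
open Groth.L25 Groth.L25.NilAction

noncomputable section

namespace Groth.L08.Borel

variable {S S' : Scheme.{u}}

/-- transport between iterated and composite base change on points -/
theorem toBase_bcCompIso {K : Type u} [CommRing K] (p' : Spec (CommRingCat.of K) ⟶ S') (g : S' ⟶ S)
    {d : Spec (CommRingCat.of K) ⟶ S} (h : p' ≫ g = d) (G : Over S) {Y : Over (Spec (CommRingCat.of K))}
    (a : Y ⟶ Red.bc p' (Red.bc g G)) :
    toBase d (a ≫ (ActBC.bcCompIso p' g G h).hom) =
      (Over.homMk (𝟙 _) (by show 𝟙 _ ≫ (Y.hom ≫ p') ≫ g = Y.hom ≫ d; rw [Category.id_comp, Category.assoc, h]) :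
        Over.mk (Y.hom ≫ d) ⟶ Over.mk ((Over.mk (Y.hom ≫ p')).hom ≫ g)) ≫ toBase g (toBase p' a) := by
  apply Over.OverMorphism.ext
  subst h
  exact ((Category.assoc _ _ _).trans (congrArg (a.left ≫ ·) (ActBC.bcCompIso_hom_left_fst p' g G rfl))).trans
    (((Category.assoc _ _ _).symm).trans (Category.id_comp _).symm)

/-- Cartan-ness descends along a factorisation of field points -/
theorem isCartanOver_of_comp {G C : Over S} [GrpObj G] [GrpObj C] [Smooth G.hom] [QuasiCompact G.hom] [Smooth C.hom]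
    (hconn : ∀ s : S, _root_.IsConnected (G.hom.base ⁻¹' {s})) (hC : ∀ s : S, _root_.IsConnected (C.hom.base ⁻¹' {s}))
    (c : C ⟶ G) [IsMonHom c] [Mono c] {k K : Type u} [Field k] [IsAlgClosed k] [Field K] [IsAlgClosed K]
    (θ : Spec (CommRingCat.of K) ⟶ Spec (CommRingCat.of k)) (p : Spec (CommRingCat.of k) ⟶ S)
    {q : Spec (CommRingCat.of K) ⟶ S} (hθ : θ ≫ p = q) (h : SGA3x.IsCartanOver K ((Over.pullback q).map c)) :
    SGA3x.IsCartanOver k ((Over.pullback p).map c) := by
  haveI : Smooth (Red.bc p G).hom := MorphismProperty.pullback_snd G.hom p ‹_›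
  haveI : QuasiCompact (Red.bc p G).hom := MorphismProperty.pullback_snd G.hom p ‹_›
  haveI : Smooth (Red.bc p C).hom := MorphismProperty.pullback_snd C.hom p ‹_›
  haveI : ConnectedSpace ↥(Red.bc p G).left := connectedSpace_bc_point G hconn p
  haveI : ConnectedSpace ↥(Red.bc p C).left := connectedSpace_bc_point C hC p
  haveI : IsMonHom ((Over.pullback p).map c) := Groth.L25.MonoClosed.isMonHom_pullbackMap _ _
  haveI : Mono ((Over.pullback p).map c) := Functor.map_mono _ _
  refine (isCartanOver_bc_iff θ _).1 ?_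
  let eC := ActBC.bcCompIso θ p C hθ
  let eG := ActBC.bcCompIso θ p G hθ
  haveI : IsMonHom eC.symm.hom := inferInstanceAs (IsMonHom eC.inv)
  haveI : IsMonHom eG.symm.hom := inferInstanceAs (IsMonHom eG.inv)
  refine isCartanOver_transport eC.symm eG.symm ?_ h
  rw [Iso.symm_hom, Iso.symm_hom, Iso.inv_comp_eq, ← Category.assoc, Iso.eq_comp_inv]
  exact ActBC.bcCompIso_hom_naturality θ p hθ c

/-- a Cartan subgroup at some geometric point over `q(pt)` is one at the canonical geometric point -/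
theorem cartanAt_of_point {G C : Over S} [GrpObj G] [GrpObj C] [Smooth G.hom] [QuasiCompact G.hom] [Smooth C.hom]
    (hconn : ∀ s : S, _root_.IsConnected (G.hom.base ⁻¹' {s})) (hC : ∀ s : S, _root_.IsConnected (C.hom.base ⁻¹' {s}))
    (c : C ⟶ G) [IsMonHom c] [Mono c] {K : Type u} [Field K] [IsAlgClosed K] (q : Spec (CommRingCat.of K) ⟶ S)
    (h : SGA3x.IsCartanOver K ((Over.pullback q).map c)) : CartanAt c (q (IsLocalRing.closedPoint K)) := by
  let s := q (IsLocalRing.closedPoint K)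
  let φ₀ : S.residueField s ⟶ CommRingCat.of K := S.descResidueField (Scheme.stalkClosedPointTo q)
  have hq : Spec.map φ₀ ≫ S.fromSpecResidueField s = q := S.descResidueField_stalkClosedPointTo_fromSpecResidueField _ q
  letI : Algebra (S.residueField s) K := φ₀.hom.toAlgebra
  let φ : AlgebraicClosure (S.residueField s) →ₐ[S.residueField s] K := IsAlgClosed.lift
  let θ : Spec (CommRingCat.of K) ⟶ Spec (CommRingCat.of (AlgebraicClosure (S.residueField s))) :=
    Spec.map (CommRingCat.ofHom φ.toRingHom)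
  have hθ : θ ≫ Red.geomPt s = q := by
    show Spec.map _ ≫ Spec.map _ ≫ S.fromSpecResidueField s = q
    rw [← Category.assoc, ← Spec.map_comp, ← CommRingCat.ofHom_comp,
      show φ.toRingHom.comp (algebraMap (S.residueField s) (AlgebraicClosure (S.residueField s))) = φ₀.hom from
        φ.comp_algebraMap]
    exact hq
  exact isCartanOver_of_comp hconn hC c θ (Red.geomPt s) hθ h

set_option maxHeartbeats 3200000 in
/-- after a smooth base change there is a smooth connected subgroup which is a Cartan subgroup above `s` -/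
theorem exists_cartan_chart {G : Over S} [GrpObj G] [Smooth G.hom] [IsSeparated G.hom] [QuasiCompact G.hom]
    (hconn : ∀ s : S, _root_.IsConnected (G.hom.base ⁻¹' {s})) (s : S) :
    ∃ (W : Scheme.{u}) (g : W ⟶ S) (w : Spec (CommRingCat.of (AlgebraicClosure (S.residueField s))) ⟶ W)
      (C : Over W) (_ : GrpObj C) (c : C ⟶ Red.bc g G), Smooth g ∧ w ≫ g = Red.geomPt s ∧
      (IsMonHom c ∧ Mono c ∧ Smooth C.hom ∧ ∀ v : W, _root_.IsConnected (C.hom.base ⁻¹' {v})) ∧
      CartanAt c (w (IsLocalRing.closedPoint _)) := by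
  let K := AlgebraicClosure (S.residueField s)
  let p₀ : Spec (CommRingCat.of K) ⟶ S := Red.geomPt s
  let Gs := Red.bc p₀ G
  haveI : Smooth Gs.hom := MorphismProperty.pullback_snd G.hom p₀ ‹_›
  haveI : QuasiCompact Gs.hom := MorphismProperty.pullback_snd G.hom p₀ ‹_›
  haveI : IsSeparated Gs.hom := MorphismProperty.pullback_snd G.hom p₀ ‹_›
  haveI : ConnectedSpace ↥Gs.left := connectedSpace_bc_point G hconn p₀
  obtain ⟨T, gT, t, ht⟩ := exists_maxTorus_gen Gs
  haveI := ht.1; haveI := ht.2.1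
  haveI : LocallyOfFiniteType Gs.hom := inferInstance
  obtain ⟨n, r, x, hn0, hnk, hx, hK⟩ := exists_torsion_set t ht.2.2.1
  haveI : NeZero n := ⟨hn0.ne'⟩
  obtain ⟨V₀, q₀, hq₀, p₁, hp₁, z, hz, hnu, hprim⟩ := exists_root_nhd p₀ n hnk
  haveI := hq₀
  let G₀ := Red.bc q₀ G
  haveI : Smooth G₀.hom := MorphismProperty.pullback_snd G.hom q₀ ‹_›
  haveI : IsSeparated G₀.hom := MorphismProperty.pullback_snd G.hom q₀ ‹_›
  obtain ⟨-, -, -, -, hTcomm⟩ := torus_props ht.2.2.1
  let e₁ : Over.mk p₀ ⟶ Over.mk ((𝟙_ (Over (Spec (CommRingCat.of K)))).hom ≫ p₀) := Over.homMk (𝟙 _) (by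
    show 𝟙 _ ≫ 𝟙 _ ≫ p₀ = p₀
    rw [Category.id_comp, Category.id_comp])
  let xb : Fin r → (Over.mk p₀ ⟶ G) := fun i => e₁ ≫ toBase p₀ (x i ≫ t)
  have hxbY : ∀ (Y : Over (Spec (CommRingCat.of K))) i, toBase p₀ (toUnit Y ≫ x i ≫ t) =
      (Over.homMk Y.hom rfl : Over.mk (Y.hom ≫ p₀) ⟶ Over.mk p₀) ≫ xb i := fun Y i => by
    apply Over.OverMorphism.ext
    show ((toUnit Y).left ≫ (x i ≫ t).left) ≫ pullback.fst G.hom p₀ = Y.hom ≫ 𝟙 _ ≫ (x i ≫ t).left ≫ pullback.fst G.hom p₀
    rw [Category.id_comp, Category.assoc,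
      show (toUnit Y).left = Y.hom from (Category.comp_id _).symm.trans (Over.w (toUnit Y))]
  let e₂ : Over.mk (p₁ ≫ q₀) ⟶ Over.mk p₀ := Over.homMk (𝟙 _) (by
    show 𝟙 _ ≫ p₀ = p₁ ≫ q₀
    rw [Category.id_comp, hp₁])
  let x₀ : Fin r → (Over.mk p₁ ⟶ G₀) := fun i => ofBase q₀ (e₂ ≫ xb i)
  have hxt : ∀ i, (x i ≫ t) ^ n = 1 := fun i => by rw [← MonObj.pow_comp, hx, MonObj.one_comp]
  have hxbn : ∀ i, xb i ^ n = 1 := fun i => by
    rw [← MonObj.comp_pow, ← Groth.L25.CentralLift.toBase_pow, hxt, toBase_one, MonObj.comp_one]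
  have hxbc : ∀ i j, Commute (xb i) (xb j) := fun i j => by
    rw [commute_iff_eq, ← MonObj.comp_mul, ← MonObj.comp_mul, ← toBase_mul, ← toBase_mul, ← MonObj.mul_comp,
      ← MonObj.mul_comp, hTcomm _ (x i) (x j)]
  obtain ⟨V', g₂, hg₂, p', hp', y, hyn, hyc, hyx⟩ := exists_tors_smooth n r z hz hprim hnu p₁ x₀
    (fun i => Groth.L25.CentralLift.toBase_injective q₀ (by
      rw [Groth.L25.CentralLift.toBase_pow, toBase_one, toBase_ofBase, ← MonObj.comp_pow, hxbn, MonObj.comp_one]))
    (fun i j => Groth.L25.CentralLift.toBase_injective q₀ (by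
      rw [toBase_mul, toBase_mul, toBase_ofBase, toBase_ofBase]
      exact (MonObj.comp_mul e₂ (xb i) (xb j)).symm.trans ((congrArg (e₂ ≫ ·) (hxbc i j).eq).trans
        (MonObj.comp_mul e₂ (xb j) (xb i)))))
  haveI := hg₂
  let g := g₂ ≫ q₀
  let G' := Red.bc g G
  haveI : Smooth G'.hom := MorphismProperty.pullback_snd G.hom g ‹_›
  haveI : IsSeparated G'.hom := MorphismProperty.pullback_snd G.hom g ‹_›
  haveI : QuasiCompact G'.hom := MorphismProperty.pullback_snd G.hom g ‹_›
  let ys : Fin r → (Over.mk g ⟶ G) := fun i => toBase q₀ (y i)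
  have hpg : p' ≫ g = p₀ := by rw [← Category.assoc, hp', hp₁]
  have hys : ∀ i, (Over.homMk p' hpg : Over.mk p₀ ⟶ Over.mk g) ≫ ys i = xb i := fun i => by
    apply Over.OverMorphism.ext
    have h : p' ≫ (y i).left = (x₀ i).left := congrArg CommaMorphism.left (hyx i)
    show p' ≫ (y i).left ≫ pullback.fst G.hom q₀ = (xb i).left
    rw [← Category.assoc, h]
    exact (pullback.lift_fst _ _ _).trans (Category.id_comp _)
  let sec : Fin r → (𝟙_ (Over V') ⟶ G') := fun i => Locus.sectionOf g (ys i)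
  have hsecT : ∀ (X : Over V') i, toBase g (toUnit X ≫ sec i) =
      (Over.homMk X.hom rfl : Over.mk (X.hom ≫ g) ⟶ Over.mk g) ≫ ys i := fun X i => Locus.toBase_sectionOf g _ X
  have hsec1 : ∀ i, sec i = toUnit (𝟙_ (Over V')) ≫ sec i := fun i => by
    rw [toUnit_unique (toUnit _) (𝟙 _), Category.id_comp]
  have hysn : ∀ i, ys i ^ n = 1 := fun i => by
    show toBase q₀ (y i) ^ n = 1
    rw [← Groth.L25.CentralLift.toBase_pow, hyn, toBase_one]
  have hysc : ∀ i j, Commute (ys i) (ys j) := fun i j => by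
    show toBase q₀ (y i) * toBase q₀ (y j) = toBase q₀ (y j) * toBase q₀ (y i)
    rw [← toBase_mul, ← toBase_mul, (hyc i j).eq]
  obtain ⟨μc, hμm, hμy, hμc⟩ := exists_cst_hom sec
    (fun i => Groth.L25.CentralLift.toBase_injective g (by
      rw [Groth.L25.CentralLift.toBase_pow, toBase_one, hsec1, hsecT, ← MonObj.comp_pow, hysn, MonObj.comp_one]))
    (fun i j => Groth.L25.CentralLift.toBase_injective g (by
      rw [toBase_mul, toBase_mul, hsec1 i, hsec1 j, hsecT, hsecT, ← MonObj.comp_mul, ← MonObj.comp_mul,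
        (hysc i j).eq]))
  haveI := hμm
  let z' : Γ(V', ⊤) := g₂.appTop z
  obtain ⟨Z, gZ, zz, hZc, hzc, hZs⟩ := Locus.exists_smooth_centralizer
    (locally_cst (V := V') r z' (by rw [← map_pow, hz, map_one])
      (fun v => by rw [evalAt_appTop]; exact (hprim _).map_of_injective (RingHom.injective _))
      (by have := hnu.map g₂.appTop.hom; rwa [map_natCast] at this)) μc
  haveI := hZc.1; haveI := hZc.2.1; haveI := hzc; haveI := hZs
  obtain ⟨C, gC, i, hi, him, hio, hCs, -, hCc⟩ := exists_neutral Z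
  haveI := hi; haveI := him; haveI := hio; haveI := hCs
  haveI : IsMonHom (i ≫ zz) := inferInstance
  haveI : Mono (i ≫ zz) := mono_comp _ _
  haveI : Smooth g := inferInstanceAs (Smooth (g₂ ≫ q₀))
  refine ⟨V', g, p', C, gC, i ≫ zz, inferInstance, hpg, ⟨inferInstance, inferInstance, hCs, hCc⟩,
    cartanAt_of_point (fun v => Groth.L25.Extension.isConnected_fibre_bc g G hconn v) hCc _ p' ?_⟩
  let F := Over.pullback p'
  let e := ActBC.bcCompIso p' g G hpg
  haveI : IsMonHom e.hom := inferInstance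
  haveI : IsMonHom e.inv := inferInstance
  obtain ⟨D, gD, d, hd, hdi, hds⟩ := Locus.exists_smooth_centralizer
    (Locus.locally_of_multTypeFT (Locus.isMultTypeFT_of_isTorus ht.2.2.1)) t
  haveI := hd.1; haveI := hd.2.1; haveI := hds
  have hb := isCentralizerOf_bc p' hZc
  haveI := hb.1; haveI := hb.2.1
  haveI : IsMonHom (F.map zz) := MonoClosed.isMonHom_pullbackMap _ _
  haveI : Mono (F.map zz) := Functor.map_mono _ _
  have hpre : ∀ {Y X' : Over (Spec (CommRingCat.of K))} (w : X' ⟶ Y) (a : Y ⟶ Red.bc p' G') j,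
      Commute (a ≫ e.hom) (toUnit Y ≫ x j ≫ t) → Commute ((w ≫ a) ≫ e.hom) (toUnit X' ≫ x j ≫ t) := by
    intro Y X' w a j h
    have h2 := congrArg (fun v => w ≫ v) h.eq
    simp only [MonObj.comp_mul, ← Category.assoc, toUnit_unique (w ≫ toUnit Y) (toUnit X')] at h2
    simp only [commute_iff_eq]
    simpa only [Category.assoc] using h2
  -- commuting with a torsion point, read after the base change to `V'`
  have htr : ∀ (Y : Over (Spec (CommRingCat.of K))) (a : Y ⟶ Red.bc p' G') j,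
      Commute (a ≫ e.hom) (toUnit Y ≫ x j ≫ t) ↔
        Commute (toBase p' a) (toUnit (Over.mk (Y.hom ≫ p') : Over V') ≫ sec j) := fun Y a j => by
    let E₁ : Over.mk (Y.hom ≫ p₀) ⟶ Over.mk ((Over.mk (Y.hom ≫ p')).hom ≫ g) := Over.homMk (𝟙 _) (by
      show 𝟙 _ ≫ (Y.hom ≫ p') ≫ g = Y.hom ≫ p₀
      rw [Category.id_comp, Category.assoc, hpg])
    let E₂ : Over.mk ((Over.mk (Y.hom ≫ p')).hom ≫ g) ⟶ Over.mk (Y.hom ≫ p₀) := Over.homMk (𝟙 _) (by
      show 𝟙 _ ≫ Y.hom ≫ p₀ = (Y.hom ≫ p') ≫ g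
      rw [Category.id_comp, Category.assoc, hpg])
    haveI : IsIso E₁ := ⟨E₂, Over.OverMorphism.ext (Category.id_comp _), Over.OverMorphism.ext (Category.id_comp _)⟩
    have h1 : toBase p₀ (a ≫ e.hom) = E₁ ≫ toBase g (toBase p' a) := toBase_bcCompIso p' g hpg G a
    have h2 : toBase p₀ (toUnit Y ≫ x j ≫ t) = E₁ ≫ toBase g (toUnit (Over.mk (Y.hom ≫ p') : Over V') ≫ sec j) := by
      rw [hxbY, hsecT, ← hys j]
      refine ((Category.assoc _ _ _).symm.trans ?_).trans (Category.assoc _ _ _)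
      congr 1
    constructor
    · intro h
      refine Groth.L25.CentralLift.toBase_injective g ?_
      have h3 := congrArg (toBase p₀) h.eq
      rw [toBase_mul, toBase_mul, h1, h2, ← MonObj.comp_mul, ← MonObj.comp_mul, cancel_epi] at h3
      rw [toBase_mul, toBase_mul]
      exact h3
    · intro h
      refine Groth.L25.CentralLift.toBase_injective p₀ ?_
      rw [toBase_mul, toBase_mul, h1, h2, ← MonObj.comp_mul, ← MonObj.comp_mul, ← toBase_mul, ← toBase_mul, h.eq]
  obtain ⟨f, hf⟩ := (hb.2.2 D (d ≫ e.inv)).2 fun X' w m => by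
    refine Groth.L25.CentralLift.toBase_injective p' ?_
    rw [toBase_mul, toBase_mul, toBase_map']
    refine (hμc _ (toBase p' (w ≫ d ≫ e.inv)) (fun j => (htr X' (w ≫ d ≫ e.inv) j).1 ?_) (toBase p' m)).eq
    refine hpre w (d ≫ e.inv) j ?_
    rw [Category.assoc, Iso.inv_hom_id, Category.comp_id]
    have h := (hd.2.2 D d).1 ⟨𝟙 D, Category.id_comp d⟩ D (𝟙 D) (toUnit D ≫ x j)
    rw [Category.id_comp, Category.assoc] at h
    exact h
  obtain ⟨f', hf'⟩ := (hd.2.2 (F.obj Z) (F.map zz ≫ e.hom)).2 fun X' w h => by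
    refine (hK X' (w ≫ F.map zz ≫ e.hom) (fun j => ?_) h).eq
    rw [← Category.assoc]
    refine (htr X' (w ≫ F.map zz) j).2 ?_
    obtain ⟨a, ha⟩ := hμy j
    have h1 := (hb.2.2 _ (F.map zz)).1 ⟨𝟙 _, Category.id_comp _⟩ X' w
      (ofBase p' (toUnit (Over.mk (X'.hom ≫ p') : Over V') ≫ a))
    have h2 := congrArg (toBase p') h1
    rw [toBase_mul, toBase_mul, toBase_map' p' (ofBase p' _) μc, toBase_ofBase, Category.assoc, ha] at h2
    exact h2
  haveI : IsIso f := ⟨f', by rw [← cancel_mono d, Category.assoc, hf', reassoc_of% hf, Iso.inv_hom_id,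
      Category.comp_id, Category.id_comp],
    by rw [← cancel_mono (F.map zz), Category.assoc, hf, reassoc_of% hf', Iso.hom_inv_id, Category.comp_id,
      Category.id_comp]⟩
  haveI : IsMonHom f := Groth.L25.Bridge.isMonHom_of_mul f fun X a b => by
    rw [← cancel_mono (F.map zz), Category.assoc, hf, MonObj.mul_comp (a ≫ f) (b ≫ f) (F.map zz), Category.assoc,
      Category.assoc, hf]
    exact MonObj.mul_comp a b (d ≫ e.inv)
  haveI : ConnectedSpace ↥D.left := (Locus.centralizer_smooth_connected Gs T t ht.2.2.1 D d hd).2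
  haveI : Smooth (F.obj C).hom := MorphismProperty.pullback_snd C.hom p' hCs
  haveI : Smooth (F.obj Z).hom := MorphismProperty.pullback_snd Z.hom p' ‹_›
  haveI : IsMonHom (F.map i) := MonoClosed.isMonHom_pullbackMap _ _
  haveI : Mono (F.map i) := Functor.map_mono _ _
  haveI : IsOpenImmersion (F.map i).left :=
    MorphismProperty.of_isPullback (P := @IsOpenImmersion) (SchImage.isPullback_fst_map p' i) hio
  haveI : IsIso f.left := inferInstanceAs (IsIso ((Over.forget _).map f))
  haveI : ConnectedSpace ↥(F.obj Z).left :=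
    (asIso f.left).hom.homeomorph.surjective.connectedSpace (asIso f.left).hom.homeomorph.continuous
  haveI : IsIso (F.map i) := isIso_of_open_subgroup (irrFib_of_isConnected (F.obj Z) fun v => by
    convert isConnected_univ (α := ↥(F.obj Z).left) using 1
    exact Set.eq_univ_of_forall fun y => Subsingleton.elim (α := PrimeSpectrum K) _ _) _
  haveI : IsMonHom (asIso (F.map i)).symm.hom := inferInstanceAs (IsMonHom (asIso (F.map i)).inv)
  haveI : IsMonHom (asIso f).hom := ‹IsMonHom f›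
  haveI : IsMonHom (asIso f ≪≫ (asIso (F.map i)).symm).hom := by rw [Iso.trans_hom]; infer_instance
  haveI : IsMonHom e.symm.hom := inferInstanceAs (IsMonHom e.inv)
  refine isCartanOver_transport (asIso f ≪≫ (asIso (F.map i)).symm) e.symm ?_
    ⟨inferInstance, inferInstance, T, gT, t, isMaximalTorus_of_isMaxTorus ht, hd⟩
  rw [Iso.trans_hom, asIso_hom, Iso.symm_hom, asIso_inv, Functor.map_comp, Category.assoc, IsIso.inv_hom_id_assoc,
    hf, Iso.symm_hom]

end Groth.L08.Borel
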