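import Groth.Agent.L08.Borel.CartanEtale

/-!
# Cartan subgroups are conjugate etale locally
-/

set_option autoImplicit false
set_option backward.isDefEq.respectTransparency.types false
set_option linter.style.haveILetI false
set_option linter.unusedSectionVars false

universe u

open CategoryTheory CategoryTheory.Limits MonoidalCategory CartesianMonoidalCategory MonObj GrpObj AlgebraicGeometry
open Groth.L25.NilAction

noncomputable section

namespace Groth.L08.Borel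

set_option maxHeartbeats 1600000 in
/-- **Cartan subgroups are conjugate etale locally** -/
theorem cartan_conj_etale {S : Scheme.{u}} {G C₁ C₂ : Over S} [GrpObj G] [GrpObj C₁] [GrpObj C₂] [Smooth G.hom]
    [IsSeparated G.hom] [QuasiCompact G.hom] (hconn : ∀ s : S, _root_.IsConnected (G.hom.base ⁻¹' {s}))
    {c₁ : C₁ ⟶ G} {c₂ : C₂ ⟶ G} (hc₁ : SGA3x.IsCartan c₁) (hc₂ : SGA3x.IsCartan c₂) :
    ∃ (S' : Scheme.{u}) (f : S' ⟶ S), Etale f ∧ Surjective f ∧
      ∃ g : 𝟙_ (Over S') ⟶ Red.bc f G, SGA3x.ConjBy ((Over.pullback f).map c₁) ((Over.pullback f).map c₂) g := by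
  haveI := hc₁.1; haveI := hc₁.2.1; haveI := hc₁.2.2.1; haveI := hc₂.1; haveI := hc₂.2.1; haveI := hc₂.2.2.1
  haveI : Mono c₂.left := inferInstanceAs (Mono ((Over.forget S).map c₂))
  haveI : LocallyOfFinitePresentation c₂.left := by
    haveI : LocallyOfFinitePresentation (c₂.left ≫ G.hom) := by rw [Over.w c₂]; infer_instance
    exact Groth.L20.locallyOfFinitePresentation_of_comp c₂.left G.hom
  obtain ⟨W, w, hwc, hwl, hW⟩ := Groth.L02.SchDom.exists_conjTransporter (irrFib_of_isCartan hconn hc₁) c₁ c₂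
  haveI := hwc; haveI := hwl
  haveI : Mono w := Over.mono_of_mono_left w
  haveI := smooth_sends_cartan hconn c₁ hc₁ c₂ w hW
  have hpt : ∀ p : S, Nonempty (Over.mk (Red.geomPt p) ⟶ W) := by
    intro p
    obtain ⟨-, -, T', gT', t', ht', hcen'⟩ := hc₂.2.2.2 p
    obtain ⟨-, -, T, gT, t, ht, hcen⟩ := hc₁.2.2.2 p
    haveI : Smooth (Red.geomFibre p G).hom := inferInstanceAs (Smooth (pullback.snd G.hom (Red.geomPt p)))
    haveI : QuasiCompact (Red.geomFibre p G).hom := inferInstanceAs (QuasiCompact (pullback.snd G.hom (Red.geomPt p)))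
    obtain ⟨g, f, hf⟩ := exists_maxTorus_conj_any (isMaxTorus_of_isMaximalTorus ht) (isMaxTorus_of_isMaximalTorus ht')
    let j := Red.geomPt p
    let ds := (Over.pullback j).map c₁
    let y : Red.geomFibre p C₁ ⟶ Red.geomFibre p G := (toUnit _ ≫ g) * ds * (toUnit _ ≫ g)⁻¹
    obtain ⟨φ, hφ⟩ := (hcen'.2.2 _ y).2 fun X' x r => by
      have h1 := (hcen.2.2 _ ds).1 ⟨𝟙 _, Category.id_comp _⟩ X' x (r ≫ f.inv)
      have h2 : r ≫ t' = r ≫ f.inv ≫ AGF.conjBy g t := by rw [← hf, Iso.inv_hom_id_assoc]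
      rw [h2]
      simp only [y, AGF.conjBy, MonObj.comp_mul, GrpObj.comp_inv, ← Category.assoc,
        toUnit_unique ((r ≫ f.inv) ≫ toUnit T) (x ≫ toUnit _)] at h1 ⊢
      generalize (x ≫ toUnit _) ≫ g = a at h1 ⊢
      generalize x ≫ ds = b at h1 ⊢
      generalize (r ≫ f.inv) ≫ t = e at h1 ⊢
      calc a * b * a⁻¹ * (a * e * a⁻¹) = a * (b * e) * a⁻¹ := by group
        _ = a * (e * b) * a⁻¹ := by rw [h1]
        _ = (a * e * a⁻¹) * (a * b * a⁻¹) := by group
    let e : Over.mk j ⟶ Over.mk ((𝟙_ (Over _)).hom ≫ j) := Over.homMk (𝟙 _) (by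
      show 𝟙 _ ≫ 𝟙 _ ≫ j = j
      rw [Category.id_comp, Category.id_comp])
    let x : Over.mk j ⟶ G := e ≫ toBase j g
    have hx : ∀ (Y : Over (Spec (CommRingCat.of (AlgebraicClosure (S.residueField p))))),
        toBase j (toUnit Y ≫ g) = (Over.homMk Y.hom rfl : Over.mk (Y.hom ≫ j) ⟶ Over.mk j) ≫ x := fun Y => by
      apply Over.OverMorphism.ext
      show ((toUnit Y).left ≫ g.left) ≫ _ = Y.hom ≫ 𝟙 _ ≫ g.left ≫ _
      rw [show (toUnit Y).left = Y.hom from (Category.comp_id _).symm.trans (Over.w (toUnit Y)), Category.id_comp,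
        Category.assoc]
    obtain ⟨wp, -⟩ := (hW _ x).2 (exists_sends_of_fibre j (i₁ := c₁) (i₂ := c₂) g φ hφ x hx)
    exact ⟨wp⟩
  obtain ⟨V, e, he, hes, ⟨π⟩⟩ := exists_etale_cover_point W hpt
  haveI := he
  obtain ⟨φ, hφ⟩ := Groth.L25.Locus.exists_half e c₁ c₂ (x := π ≫ w) ((hW _ _).1 ⟨π, rfl⟩)
  let GV := Red.bc e G
  haveI : Smooth GV.hom := MorphismProperty.pullback_snd G.hom e ‹_›
  haveI : QuasiCompact GV.hom := MorphismProperty.pullback_snd G.hom e ‹_›
  have h₁ := isCartan_bc hc₁ e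
  have h₂ := isCartan_bc hc₂ e
  haveI := h₁.1; haveI := h₁.2.1; haveI := h₁.2.2.1; haveI := h₂.1; haveI := h₂.2.1; haveI := h₂.2.2.1
  let gs := Groth.L25.Locus.sectionOf e (π ≫ w)
  let cj : GV ⟶ GV := (toUnit GV ≫ gs) * 𝟙 GV * (toUnit GV ≫ gs)⁻¹
  have hcj : ∀ {Y : Over V} (a : Y ⟶ GV), a ≫ cj = (toUnit Y ≫ gs) * a * (toUnit Y ≫ gs)⁻¹ := fun a => by
    simp only [cj, MonObj.comp_mul, GrpObj.comp_inv, comp_toUnit_assoc, Category.comp_id]
  let cj' : GV ⟶ GV := (toUnit GV ≫ gs)⁻¹ * 𝟙 GV * (toUnit GV ≫ gs)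
  have hcj' : ∀ {Y : Over V} (a : Y ⟶ GV), a ≫ cj' = (toUnit Y ≫ gs)⁻¹ * a * (toUnit Y ≫ gs) := fun a => by
    simp only [cj', MonObj.comp_mul, GrpObj.comp_inv, comp_toUnit_assoc, Category.comp_id]
  haveI : IsIso cj := ⟨cj', by rw [hcj' cj]; simp only [cj]; group, by rw [hcj cj']; simp only [cj']; group⟩
  haveI : IsMonHom cj := Groth.L25.Bridge.isMonHom_of_mul cj fun Y a b => by rw [hcj, hcj, hcj]; group
  have hφ' : φ ≫ (Over.pullback e).map c₂ = (Over.pullback e).map c₁ ≫ cj := by rw [hφ, hcj]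
  haveI : Mono φ := by
    haveI : Mono (φ ≫ (Over.pullback e).map c₂) := hφ'.symm ▸ mono_comp _ _
    exact mono_of_mono φ ((Over.pullback e).map c₂)
  haveI : IsIso φ := by
    refine isIso_of_geomFibres φ fun u => ?_
    haveI : Smooth (Red.geomFibre u GV).hom := MorphismProperty.pullback_snd _ _ ‹_›
    haveI : QuasiCompact (Red.geomFibre u GV).hom := MorphismProperty.pullback_snd _ _ ‹_›
    let F := Over.pullback (Red.geomPt u)
    haveI : IsMonHom (asIso (F.map cj)).hom := Groth.L25.MonoClosed.isMonHom_pullbackMap _ _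
    haveI : IsMonHom (Iso.refl (F.obj (Red.bc e C₁))).hom := inferInstanceAs (IsMonHom (𝟙 _))
    refine isIso_of_isCartanOver
      (isCartanOver_transport (c' := F.map (φ ≫ (Over.pullback e).map c₂)) (Iso.refl (F.obj (Red.bc e C₁)))
        (asIso (F.map cj)) ?_ (h₁.2.2.2 u)) (h₂.2.2.2 u) (F.map φ) (F.map_comp _ _).symm
    rw [Iso.refl_hom, Category.id_comp, asIso_hom, hφ', Functor.map_comp]
  exact ⟨V, e, he, hes, gs, asIso φ, hφ.symm⟩

end Groth.L08.Borel
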