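import Groth.Agent.L08.Borel.CartanNhd
import Groth.Agent.L08.Borel.MaxToriConj

/-!
# In the presence of a Cartan subgroup, being a Cartan subgroup is open
-/

set_option autoImplicit false
set_option backward.isDefEq.respectTransparency.types false
set_option linter.style.haveILetI false
set_option linter.unusedSectionVars false

universe u

open CategoryTheory CategoryTheory.Limits MonoidalCategory CartesianMonoidalCategory MonObj GrpObj AlgebraicGeometry
open Groth.L25.NilAction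

noncomputable section

namespace Groth.L08.Borel

/-- nested Cartan subgroups are equal -/
theorem isIso_of_isCartanOver {k : Type u} [Field k] [IsAlgClosed k] {G C C' : Over (Spec (CommRingCat.of k))}
    [GrpObj G] [GrpObj C] [GrpObj C'] [Smooth G.hom] [QuasiCompact G.hom] {c : C ⟶ G} {c' : C' ⟶ G}
    (hc : SGA3x.IsCartanOver k c) (hc' : SGA3x.IsCartanOver k c') (f : C ⟶ C') (hf : f ≫ c' = c) : IsIso f := by
  obtain ⟨h1, h2, T, gT, i, hi, hcen⟩ := hc
  obtain ⟨h1', h2', T', gT', i', hi', hcen'⟩ := hc'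
  haveI := h1; haveI := h2; haveI := h1'; haveI := h2'
  have hm := isMaxTorus_of_isMaximalTorus hi
  haveI := hm.1
  obtain ⟨-, -, -, -, hcomm⟩ := torus_props hm.2.2.1
  obtain ⟨t, ht⟩ := (hcen.2.2 T i).2 fun X x s => by rw [← MonObj.mul_comp, ← MonObj.mul_comp, hcomm X x s]
  have hz := isCentralizerOf_of_le (isMaxTorus_of_isMaximalTorus hi') hcen' hm (t ≫ f) (by rw [Category.assoc, hf, ht])
  obtain ⟨w, hw⟩ := (hcen.2.2 C' c').2 ((hz.2.2 C' c').1 ⟨𝟙 _, Category.id_comp _⟩)
  refine ⟨w, ?_, ?_⟩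
  · rw [← cancel_mono c, Category.assoc, hw, hf, Category.id_comp]
  · rw [← cancel_mono c', Category.assoc, hf, hw, Category.id_comp]

variable {S : Scheme.{u}} {G C D : Over S} [GrpObj G] [GrpObj C] [GrpObj D]

set_option maxHeartbeats 1600000 in
/-- with a Cartan subgroup on the base, being a Cartan subgroup is open -/
theorem exists_open_cartanAt_of_cartan [Smooth G.hom] [IsSeparated G.hom] [QuasiCompact G.hom] [Smooth C.hom]
    (hconn : ∀ s : S, _root_.IsConnected (G.hom.base ⁻¹' {s})) (hC : ∀ s : S, _root_.IsConnected (C.hom.base ⁻¹' {s}))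
    (c : C ⟶ G) [IsMonHom c] [Mono c] {d : D ⟶ G} (hd : SGA3x.IsCartan d) (p : S) (hp : CartanAt c p) :
    ∃ O : S.Opens, p ∈ O ∧ ∀ u ∈ O, CartanAt c u := by
  haveI := hd.1; haveI := hd.2.1; haveI := hd.2.2.1
  haveI : Mono c.left := inferInstanceAs (Mono ((Over.forget S).map c))
  haveI : LocallyOfFinitePresentation c.left := by
    haveI : LocallyOfFinitePresentation (c.left ≫ G.hom) := by rw [Over.w c]; infer_instance
    exact Groth.L20.locallyOfFinitePresentation_of_comp c.left G.hom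
  obtain ⟨W, w, hwc, hwl, hW⟩ := Groth.L02.SchDom.exists_conjTransporter (irrFib_of_isCartan hconn hd) d c
  haveI := hwc; haveI := hwl
  haveI : Mono w := Over.mono_of_mono_left w
  haveI := smooth_sends_cartan hconn d hd c w hW
  have hpt : Nonempty (Over.mk (Red.geomPt p) ⟶ W) := by
    obtain ⟨-, -, T', gT', t', ht', hcen'⟩ := hp
    obtain ⟨-, -, T, gT, t, ht, hcen⟩ := hd.2.2.2 p
    haveI : Smooth (Red.geomFibre p G).hom := inferInstanceAs (Smooth (pullback.snd G.hom (Red.geomPt p)))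
    haveI : QuasiCompact (Red.geomFibre p G).hom := inferInstanceAs (QuasiCompact (pullback.snd G.hom (Red.geomPt p)))
    obtain ⟨g, f, hf⟩ := exists_maxTorus_conj_any (isMaxTorus_of_isMaximalTorus ht) (isMaxTorus_of_isMaximalTorus ht')
    let j := Red.geomPt p
    let ds := (Over.pullback j).map d
    let y : Red.geomFibre p D ⟶ Red.geomFibre p G := (toUnit _ ≫ g) * ds * (toUnit _ ≫ g)⁻¹
    obtain ⟨φ, hφ⟩ := (hcen'.2.2 _ y).2 fun X' x r => by
      have h1 := (hcen.2.2 _ ds).1 ⟨𝟙 _, Category.id_comp _⟩ X' x (r ≫ f.inv)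
      have h2 : r ≫ t' = r ≫ f.inv ≫ AGF.conjBy g t := by rw [← hf, Iso.inv_hom_id_assoc]
      rw [h2]
      simp only [y, AGF.conjBy, MonObj.comp_mul, GrpObj.comp_inv, ← Category.assoc,
        toUnit_unique ((r ≫ f.inv) ≫ toUnit T) (x ≫ toUnit _)] at h1 ⊢
      generalize (x ≫ toUnit _) ≫ g = a at h1 ⊢
      generalize x ≫ ds = b at h1 ⊢
      generalize (r ≫ f.inv) ≫ t = e at h1 ⊢
      calc a * b * a⁻¹ * (a * e * a⁻¹) = a * (b * e) * a⁻¹ := by group
        _ = a * (e * b) * a⁻¹ := by rw [h1]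
        _ = (a * e * a⁻¹) * (a * b * a⁻¹) := by group
    let e : Over.mk j ⟶ Over.mk ((𝟙_ (Over _)).hom ≫ j) := Over.homMk (𝟙 _) (by
      show 𝟙 _ ≫ 𝟙 _ ≫ j = j
      rw [Category.id_comp, Category.id_comp])
    let x : Over.mk j ⟶ G := e ≫ toBase j g
    have hx : ∀ (Y : Over (Spec (CommRingCat.of (AlgebraicClosure (S.residueField p))))),
        toBase j (toUnit Y ≫ g) = (Over.homMk Y.hom rfl : Over.mk (Y.hom ≫ j) ⟶ Over.mk j) ≫ x := fun Y => by
      apply Over.OverMorphism.ext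
      show ((toUnit Y).left ≫ g.left) ≫ _ = Y.hom ≫ 𝟙 _ ≫ g.left ≫ _
      rw [show (toUnit Y).left = Y.hom from (Category.comp_id _).symm.trans (Over.w (toUnit Y)), Category.id_comp,
        Category.assoc]
    obtain ⟨wp, -⟩ := (hW _ x).2 (exists_sends_of_fibre j (i₁ := d) (i₂ := c) g φ hφ x hx)
    exact ⟨wp⟩
  obtain ⟨V, e, he, hpe, ⟨π⟩⟩ := Groth.L25.Locus.exists_etale_nhd_point (W := W) p hpt.some
  haveI := he
  obtain ⟨φ, hφ⟩ := Groth.L25.Locus.exists_half e d c (x := π ≫ w) ((hW _ _).1 ⟨π, rfl⟩)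
  obtain ⟨v₀, hv₀⟩ := hpe
  let GV := Red.bc e G
  haveI : Smooth GV.hom := MorphismProperty.pullback_snd G.hom e ‹_›
  haveI : QuasiCompact GV.hom := MorphismProperty.pullback_snd G.hom e ‹_›
  haveI : Smooth (Red.bc e C).hom := MorphismProperty.pullback_snd C.hom e ‹_›
  let c₁ := (Over.pullback e).map c
  let d₁ := (Over.pullback e).map d
  haveI : IsMonHom c₁ := Groth.L25.MonoClosed.isMonHom_pullbackMap _ _
  haveI : Mono c₁ := Functor.map_mono _ _
  have hd₁ := isCartan_bc hd e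
  haveI := hd₁.1; haveI := hd₁.2.1; haveI := hd₁.2.2.1
  let gs := Groth.L25.Locus.sectionOf e (π ≫ w)
  let cj : GV ⟶ GV := (toUnit GV ≫ gs) * 𝟙 GV * (toUnit GV ≫ gs)⁻¹
  have hcj : ∀ {Y : Over V} (a : Y ⟶ GV), a ≫ cj = (toUnit Y ≫ gs) * a * (toUnit Y ≫ gs)⁻¹ := fun a => by
    simp only [cj, MonObj.comp_mul, GrpObj.comp_inv, comp_toUnit_assoc, Category.comp_id]
  let cj' : GV ⟶ GV := (toUnit GV ≫ gs)⁻¹ * 𝟙 GV * (toUnit GV ≫ gs)
  have hcj' : ∀ {Y : Over V} (a : Y ⟶ GV), a ≫ cj' = (toUnit Y ≫ gs)⁻¹ * a * (toUnit Y ≫ gs) := fun a => by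
    simp only [cj', MonObj.comp_mul, GrpObj.comp_inv, comp_toUnit_assoc, Category.comp_id]
  haveI : IsIso cj := ⟨cj', by rw [hcj' cj]; simp only [cj]; group, by rw [hcj cj']; simp only [cj']; group⟩
  haveI : IsMonHom cj := Groth.L25.Bridge.isMonHom_of_mul cj fun Y a b => by rw [hcj, hcj, hcj]; group
  have hφ' : φ ≫ c₁ = d₁ ≫ cj := by rw [hφ, hcj]
  haveI : IsMonHom φ := Groth.L25.Bridge.isMonHom_of_mul φ fun X a b => by
    rw [← cancel_mono c₁, Category.assoc, hφ', MonObj.mul_comp (a ≫ φ) (b ≫ φ) c₁, Category.assoc, Category.assoc,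
      hφ']
    exact MonObj.mul_comp a b _
  haveI : Mono φ := by haveI : Mono (φ ≫ c₁) := hφ'.symm ▸ mono_comp _ _; exact mono_of_mono φ c₁
  have hC' := fun s => Groth.L25.Extension.isConnected_fibre_bc e C hC s
  have hconn' := fun s => Groth.L25.Extension.isConnected_fibre_bc e G hconn s
  have hdfib : ∀ u : V, CartanAt (φ ≫ c₁) u := fun u => by
    let F := Over.pullback (Red.geomPt u)
    haveI : IsMonHom (asIso (F.map cj)).hom := Groth.L25.MonoClosed.isMonHom_pullbackMap _ _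
    haveI : IsMonHom (Iso.refl (F.obj (Red.bc e D))).hom := inferInstanceAs (IsMonHom (𝟙 _))
    refine isCartanOver_transport (Iso.refl (F.obj (Red.bc e D))) (asIso (F.map cj)) ?_ (hd₁.2.2.2 u)
    rw [Iso.refl_hom, Category.id_comp, asIso_hom, hφ', Functor.map_comp]
  haveI : IsIso ((Over.pullback (Red.geomPt v₀)).map φ) := by
    haveI : Smooth (Red.geomFibre v₀ GV).hom := MorphismProperty.pullback_snd _ _ ‹_›
    haveI : QuasiCompact (Red.geomFibre v₀ GV).hom := MorphismProperty.pullback_snd _ _ ‹_›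
    exact isIso_of_isCartanOver (hdfib v₀) ((cartanAt_bc hconn hC c e v₀).2 (hv₀.symm ▸ hp))
      ((Over.pullback (Red.geomPt v₀)).map φ) (Functor.map_comp _ _ _).symm
  have hfl : Flat ((Over.pullback (V.fromSpecResidueField v₀)).map φ).left := by
    haveI : IsIso ((Over.pullback (Red.geomPt v₀)).map φ).left :=
      inferInstanceAs (IsIso ((Over.forget _).map ((Over.pullback (Red.geomPt v₀)).map φ)))
    have h := flat_fibre_of_point φ (Red.geomPt v₀) inferInstance
    rwa [show Red.geomPt v₀ (IsLocalRing.closedPoint _) = v₀ by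
      show (Spec.map _ ≫ V.fromSpecResidueField v₀) _ = v₀
      rw [Scheme.Hom.comp_apply]
      exact V.fromSpecResidueField_apply v₀ _] at h
  obtain ⟨U, hvU, hU⟩ := exists_open_isOpenImmersion φ v₀ hfl
  have hcart : ∀ u ∈ U, CartanAt c (e u) := fun u hu => by
    refine (cartanAt_bc hconn hC c e u).1 ?_
    let F := Over.pullback (Red.geomPt u)
    haveI := hU (Red.geomPt u) (by
      rintro _ ⟨x, rfl⟩
      show (Spec.map _ ≫ V.fromSpecResidueField u) _ ∈ _
      rw [Scheme.Hom.comp_apply]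
      exact (V.fromSpecResidueField_apply u _).symm ▸ hu)
    haveI : Smooth (Red.geomFibre u (Red.bc e D)).hom := MorphismProperty.pullback_snd _ _ ‹_›
    haveI : Smooth (Red.geomFibre u (Red.bc e C)).hom := MorphismProperty.pullback_snd _ _ ‹_›
    haveI : IsMonHom (F.map φ) := Groth.L25.MonoClosed.isMonHom_pullbackMap _ _
    haveI : Mono (F.map φ) := Functor.map_mono _ _
    haveI : IsIso (F.map φ) := isIso_of_open_subgroup (irrFib_bc _ (irrFib_of_isConnected (Red.bc e C) hC')) _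
    haveI : IsMonHom (asIso (F.map φ)).hom := ‹IsMonHom (F.map φ)›
    haveI : IsMonHom (Iso.refl (F.obj GV)).hom := inferInstanceAs (IsMonHom (𝟙 _))
    refine isCartanOver_transport (asIso (F.map φ)) (Iso.refl (F.obj GV)) ?_ (hdfib u)
    rw [asIso_hom, Iso.refl_hom, Category.comp_id, Functor.map_comp]
  refine ⟨⟨e '' U, e.isOpenMap _ U.2⟩, ⟨v₀, hvU, hv₀⟩, ?_⟩
  rintro _ ⟨u, hu, rfl⟩
  exact hcart u hu

end Groth.L08.Borel
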