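import Groth.Agent.L20.SchDesc.Sigma
import Groth.Agent.L25.Locus.Smooth
import Groth.Agent.L25.SplitSub.SchImage
import Groth.Prelude.Def_Red

/-!
# Subgroups over a disjoint union of bases
-/

set_option autoImplicit false
set_option backward.isDefEq.respectTransparency.types false
set_option linter.style.haveILetI false
set_option linter.unusedSectionVars false

universe u

open CategoryTheory CategoryTheory.Limits MonoidalCategory CartesianMonoidalCategory MonObj GrpObj AlgebraicGeometry

noncomputable section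

namespace Groth.L08.Borel

variable {κ : Type u} {V : κ → Scheme.{u}}

/-- morphisms over a disjoint union are determined on the summands -/
theorem hom_ext_sigma {T X : Over (∐ V)} (a b : T ⟶ X)
    (h : ∀ i, (Over.pullback (Sigma.ι V i)).map a = (Over.pullback (Sigma.ι V i)).map b) : a = b := by
  refine Over.OverMorphism.ext (Scheme.Cover.hom_ext ((sigmaOpenCover V).pullback₁ T.hom) _ _ fun i => ?_)
  have e := congrArg (fun m => m.left ≫ pullback.fst X.hom (Sigma.ι V i)) (h i)
  simp only [Over.pullback, Over.homMk_left, pullback.lift_fst] at e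
  exact e

set_option maxHeartbeats 800000 in
/-- subgroups given on the summands of a disjoint union form a subgroup -/
theorem exists_subgroup_sigma (G : Over (∐ V)) [GrpObj G] (C : ∀ i, Over (V i)) [∀ i, GrpObj (C i)]
    (c : ∀ i, C i ⟶ Red.bc (Sigma.ι V i) G) (hh : ∀ i, IsMonHom (c i)) (hm : ∀ i, Mono (c i)) :
    ∃ (D : Over (∐ V)) (_ : GrpObj D) (d : D ⟶ G), IsMonHom d ∧ Mono d ∧
      ((∀ i, Smooth (C i).hom) → Smooth D.hom) ∧
      ∀ i, ∃ e : Red.bc (Sigma.ι V i) D ≅ C i, IsMonHom e.hom ∧ e.hom ≫ c i = (Over.pullback (Sigma.ι V i)).map d := by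
  let D : Over (∐ V) := Over.mk (Limits.Sigma.map fun i => (C i).hom)
  let d : D ⟶ G := Over.homMk (Sigma.desc fun i => (c i).left ≫ pullback.fst G.hom (Sigma.ι V i))
    (Sigma.hom_ext _ _ fun i => by
      show Sigma.ι _ i ≫ Sigma.desc _ ≫ G.hom = Sigma.ι _ i ≫ Limits.Sigma.map _
      rw [Sigma.ι_desc_assoc, Category.assoc, pullback.condition, Sigma.ι_map, ← Category.assoc]
      exact congrArg (· ≫ _) (Over.w (c i)))
  have hP := fun i => Groth.L20.SchDesc.isPullback_sigmaMap (fun i => (C i).hom) i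
  let e : ∀ i, Red.bc (Sigma.ι V i) D ≅ C i := fun i =>
    Over.isoMk (hP i).flip.isoPullback.symm (by
      rw [Iso.symm_hom, Iso.inv_comp_eq]
      exact (hP i).flip.isoPullback_hom_snd.symm)
  have he : ∀ i, (e i).hom ≫ c i = (Over.pullback (Sigma.ι V i)).map d := fun i => by
    rw [← cancel_epi (e i).inv, Iso.inv_hom_id_assoc]
    apply Over.OverMorphism.ext
    apply pullback.hom_ext
    · simp only [e, Over.comp_left, Over.isoMk_inv_left, Iso.symm_inv, Category.assoc, Over.pullback,
        Over.homMk_left, pullback.lift_fst]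
      refine Eq.trans ?_ (congrArg (· ≫ d.left) (hP i).flip.isoPullback_hom_fst).symm
      exact (Sigma.ι_desc (fun i => (c i).left ≫ pullback.fst G.hom (Sigma.ι V i)) i).symm
    · exact (Over.w (c i)).trans (Over.w _).symm
  haveI : ∀ i, Mono ((Over.pullback (Sigma.ι V i)).map d) := fun i => by
    haveI := hm i
    rw [← he i]; exact mono_comp _ _
  haveI : Mono d := ⟨fun {T} a b h => hom_ext_sigma a b fun i => by
    rw [← cancel_mono ((Over.pullback (Sigma.ι V i)).map d), ← Functor.map_comp, ← Functor.map_comp, h]⟩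
  let F : ∀ T : Over (∐ V), (T ⟶ G) → Prop := fun T x => ∀ i, ∃ w, w ≫ c i = (Over.pullback (Sigma.ι V i)).map x
  have hF : ∀ (T : Over (∐ V)) (x : T ⟶ G), (∃ w, w ≫ d = x) ↔ F T x := by
    refine fun T x => ⟨fun ⟨w, hw⟩ i => ⟨(Over.pullback (Sigma.ι V i)).map w ≫ (e i).hom, by
      rw [Category.assoc, he, ← Functor.map_comp, hw]⟩, fun hx => ?_⟩
    choose w hw using hx
    let 𝒰 : Scheme.OpenCover.{u} T.left := (sigmaOpenCover V).pullback₁ T.hom
    let f : ∀ i, pullback T.hom (Sigma.ι V i) ⟶ D.left := fun i => (w i).left ≫ Sigma.ι (fun i => (C i).left) i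
    have hf : ∀ i, f i ≫ d.left = pullback.fst T.hom (Sigma.ι V i) ≫ x.left := fun i => by
      have h := congrArg (fun m => m.left ≫ pullback.fst G.hom (Sigma.ι V i)) (hw i)
      simp only [Over.comp_left, Category.assoc, Over.pullback, Over.homMk_left, pullback.lift_fst] at h
      simp only [f, d, Over.homMk_left, Category.assoc, Sigma.ι_desc]
      exact h
    haveI : Mono d.left := inferInstanceAs (Mono ((Over.forget _).map d))
    have hcompat : ∀ i j, pullback.fst (𝒰.f i) (𝒰.f j) ≫ f i = pullback.snd _ _ ≫ f j := fun i j => by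
      refine (cancel_mono d.left).1 ?_
      exact (Category.assoc _ _ _).trans ((congrArg (pullback.fst (𝒰.f i) (𝒰.f j) ≫ ·) (hf i)).trans
        ((pullback.condition_assoc x.left).trans
          ((congrArg (pullback.snd (𝒰.f i) (𝒰.f j) ≫ ·) (hf j)).symm.trans (Category.assoc _ _ _).symm)))
    have hg : Scheme.Cover.glueMorphisms 𝒰 f hcompat ≫ d.left = x.left := Scheme.Cover.hom_ext 𝒰 _ _ fun i => by
      rw [Scheme.Cover.ι_glueMorphisms_assoc]
      exact hf i
    exact ⟨Over.homMk (Scheme.Cover.glueMorphisms 𝒰 f hcompat) (by rw [← Over.w d, ← Category.assoc, hg, Over.w x]),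
      Over.OverMorphism.ext hg⟩
  obtain ⟨gD, hd⟩ := Groth.L25.Locus.exists_subgroup d F hF
    (fun i => ⟨1, by haveI := hh i; rw [MonObj.one_comp, Functor.map_one]⟩)
    (fun T x y hx hy i => by
      obtain ⟨a, ha⟩ := hx i
      obtain ⟨b, hb⟩ := hy i
      haveI := hh i
      exact ⟨a * b, by rw [MonObj.mul_comp, ha, hb, Functor.map_mul]⟩)
    (fun T x hx i => by
      obtain ⟨a, ha⟩ := hx i
      haveI := hh i
      exact ⟨a⁻¹, by rw [GrpObj.inv_comp, ha, Functor.map_inv']⟩)
  letI := gD
  haveI := hd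
  refine ⟨D, gD, d, hd, inferInstance,
    fun h => Groth.L20.SchDesc.sigmaMap_of @Smooth _ h, fun i => ⟨e i, ?_, he i⟩⟩
  haveI := hh i; haveI := hm i
  haveI : IsMonHom ((Over.pullback (Sigma.ι V i)).map d) := Groth.L25.MonoClosed.isMonHom_pullbackMap _ _
  exact Groth.L25.Bridge.isMonHom_of_mul _ fun X a b => by
    rw [← cancel_mono (c i), Category.assoc, he, MonObj.mul_comp (a ≫ (e i).hom) (b ≫ (e i).hom) (c i),
      Category.assoc, Category.assoc, he]
    exact MonObj.mul_comp a b _

end Groth.L08.Borel
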