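import Groth.Agent.L08.Borel.CartanChart
import Groth.Agent.L08.Borel.CartanOpen
import Groth.Agent.L08.Borel.SigmaSub
import Groth.Agent.L25.Descent.CovOfQC
import Groth.Agent.L25.MultTypeBC

/-!
# Cartan subgroups fpqc locally give Cartan subgroups etale locally
-/

set_option autoImplicit false
set_option backward.isDefEq.respectTransparency.types false
set_option linter.style.haveILetI false
set_option linter.unusedSectionVars false

universe u

open CategoryTheory CategoryTheory.Limits MonoidalCategory CartesianMonoidalCategory MonObj GrpObj AlgebraicGeometry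
open Groth.L25.NilAction

noncomputable section

namespace Groth.L08.Borel

variable {S S' : Scheme.{u}}

/-- Cartan fibres are transported by isomorphisms -/
theorem cartanAt_congr {G G' C C' : Over S} [GrpObj G] [GrpObj G'] [GrpObj C] [GrpObj C'] {c : C ⟶ G} {c' : C' ⟶ G'}
    (eC : C ≅ C') [IsMonHom eC.hom] (eG : G ≅ G') [IsMonHom eG.hom] (h : eC.hom ≫ c' = c ≫ eG.hom) {s : S}
    (hs : CartanAt c s) : CartanAt c' s := by
  let F := Over.pullback (Red.geomPt s)
  haveI : IsMonHom (F.mapIso eC).hom := Groth.L25.MonoClosed.isMonHom_pullbackMap _ _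
  haveI : IsMonHom (F.mapIso eG).hom := Groth.L25.MonoClosed.isMonHom_pullbackMap _ _
  exact isCartanOver_transport (F.mapIso eC) (F.mapIso eG)
    ((F.map_comp _ _).symm.trans ((congrArg F.map h).trans (F.map_comp _ _))) hs

/-- connected fibres descend along any base change at points in the image -/
theorem isConnected_fibre_of_bc (j : S' ⟶ S) (D : Over S) (a : S')
    (h : _root_.IsConnected ((Red.bc j D).hom.base ⁻¹' {a})) : _root_.IsConnected (D.hom.base ⁻¹' {j a}) := by
  have himg : pullback.fst D.hom j '' ((Red.bc j D).hom.base ⁻¹' {a}) = D.hom.base ⁻¹' {j a} := by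
    refine Set.Subset.antisymm ?_ fun x hx => ?_
    · rintro _ ⟨z, hz, rfl⟩
      have hz : pullback.snd D.hom j z = a := hz
      show D.hom (pullback.fst D.hom j z) = j a
      rw [← Scheme.Hom.comp_apply, pullback.condition, Scheme.Hom.comp_apply, hz]
    · obtain ⟨z, hz₁, hz₂⟩ := Scheme.Pullback.exists_preimage_pullback x a hx
      exact ⟨z, hz₂, hz₁⟩
  rw [← himg]
  exact h.image _ (pullback.fst D.hom j).continuous.continuousOn

/-- the locus where a smooth connected subgroup is Cartan is open when Cartan subgroups exist fpqc locally -/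
theorem isOpen_cartanAt {G C : Over S} [GrpObj G] [GrpObj C] [Smooth G.hom] [IsSeparated G.hom] [QuasiCompact G.hom]
    [Smooth C.hom] (hconn : ∀ s : S, _root_.IsConnected (G.hom.base ⁻¹' {s}))
    (hC : ∀ s : S, _root_.IsConnected (C.hom.base ⁻¹' {s})) (c : C ⟶ G) [IsMonHom c] [Mono c] (π : S' ⟶ S) [Flat π]
    [Surjective π]
    (hcov : ∀ V : S.Opens, IsAffineOpen V → ∃ W : S'.Opens, IsCompact (W : Set S') ∧ π.base '' (W : Set S') = (V : Set S))
    {D : Over S'} [GrpObj D] {d : D ⟶ Red.bc π G} (hd : SGA3x.IsCartan d) : IsOpen {t : S | CartanAt c t} := by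
  haveI : Smooth (Red.bc π G).hom := MorphismProperty.pullback_snd G.hom π ‹_›
  haveI : IsSeparated (Red.bc π G).hom := MorphismProperty.pullback_snd G.hom π ‹_›
  haveI : QuasiCompact (Red.bc π G).hom := MorphismProperty.pullback_snd G.hom π ‹_›
  haveI : Smooth (Red.bc π C).hom := MorphismProperty.pullback_snd C.hom π ‹_›
  haveI : IsMonHom ((Over.pullback π).map c) := Groth.L25.MonoClosed.isMonHom_pullbackMap _ _
  haveI : Mono ((Over.pullback π).map c) := Functor.map_mono _ _
  have key := cartanAt_bc hconn hC c π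
  haveI := Groth.L25.Descent.cov_of_cover π hcov
  rw [← (Groth.L20.SchDesc.Cov.isQuotientMap (p := π)).isOpen_preimage, isOpen_iff_forall_mem_open]
  intro p hp
  obtain ⟨O, hpO, hO⟩ := exists_open_cartanAt_of_cartan
    (fun t => Groth.L25.Extension.isConnected_fibre_bc π G hconn t)
    (fun t => Groth.L25.Extension.isConnected_fibre_bc π C hC t) ((Over.pullback π).map c) hd p ((key p).2 hp)
  exact ⟨O, fun u hu => (key u).1 (hO u hu), O.2, hpO⟩

set_option maxHeartbeats 1600000 in
/-- **Cartan subgroups fpqc locally give Cartan subgroups etale locally** -/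
theorem exists_cartan_etale_cover {G : Over S} [GrpObj G] [Smooth G.hom] [IsSeparated G.hom] [QuasiCompact G.hom]
    (hconn : ∀ s : S, _root_.IsConnected (G.hom.base ⁻¹' {s})) (π : S' ⟶ S) [Flat π] [Surjective π]
    (hcov : ∀ V : S.Opens, IsAffineOpen V → ∃ W : S'.Opens, IsCompact (W : Set S') ∧ π.base '' (W : Set S') = (V : Set S))
    {D : Over S'} [GrpObj D] {d : D ⟶ Red.bc π G} (hd : SGA3x.IsCartan d) :
    ∃ (V : Scheme.{u}) (f : V ⟶ S), Etale f ∧ Surjective f ∧
      ∃ (C : Over V) (_ : GrpObj C) (c : C ⟶ Red.bc f G), SGA3x.IsCartan c := by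
  have loc : ∀ s : S, ∃ (V : Scheme.{u}) (e : V ⟶ S), Etale e ∧ s ∈ Set.range e.base ∧
      ∃ (C : Over V) (_ : GrpObj C) (c : C ⟶ Red.bc e G), IsMonHom c ∧ Mono c ∧ Smooth C.hom ∧
        (∀ v : V, _root_.IsConnected (C.hom.base ⁻¹' {v})) ∧ ∀ v : V, CartanAt c v := by
    intro s
    obtain ⟨W, g, w, C, gC, c, hg, hw, ⟨hcm, hcmono, hCs, hCc⟩, hcw⟩ := exists_cartan_chart hconn s
    haveI := hg; haveI := hcm; haveI := hcmono; haveI := hCs
    let P := pullback g π
    let ρ := pullback.fst g π
    let σ := pullback.snd g π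
    haveI : Flat ρ := MorphismProperty.pullback_fst _ _ ‹_›
    haveI : Surjective ρ := MorphismProperty.pullback_fst _ _ ‹_›
    haveI : Smooth (Red.bc g G).hom := MorphismProperty.pullback_snd G.hom g ‹_›
    haveI : IsSeparated (Red.bc g G).hom := MorphismProperty.pullback_snd G.hom g ‹_›
    haveI : QuasiCompact (Red.bc g G).hom := MorphismProperty.pullback_snd G.hom g ‹_›
    haveI : Smooth (Red.bc π G).hom := MorphismProperty.pullback_snd G.hom π ‹_›
    haveI : QuasiCompact (Red.bc π G).hom := MorphismProperty.pullback_snd G.hom π ‹_›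
    let a₁ := ActBC.bcCompIso σ π G (rfl : σ ≫ π = σ ≫ π)
    let a₂ := ActBC.bcCompIso ρ g G (pullback.condition : ρ ≫ g = σ ≫ π)
    let eG := a₁ ≪≫ a₂.symm
    haveI : IsMonHom a₁.hom := inferInstance
    haveI : IsMonHom a₂.inv := inferInstance
    haveI : IsMonHom eG.hom := inferInstanceAs (IsMonHom (a₁.hom ≫ a₂.inv))
    have hdσ := isCartan_bc hd σ
    haveI := hdσ.1; haveI := hdσ.2.1
    haveI : IsMonHom (Iso.refl (Red.bc σ D)).hom := inferInstanceAs (IsMonHom (𝟙 _))
    have hd' : SGA3x.IsCartan ((Over.pullback σ).map d ≫ eG.hom) :=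
      ⟨inferInstance, mono_comp _ _, hdσ.2.2.1,
        fun v => cartanAt_congr (Iso.refl _) eG (Category.id_comp _) (hdσ.2.2.2 v)⟩
    let O : W.Opens := ⟨{t | CartanAt c t}, isOpen_cartanAt (fun t => Groth.L25.Extension.isConnected_fibre_bc g G hconn t)
      hCc c ρ (fun V hV => Groth.L25.MultTypeBC.exists_compact_image π hcov g V hV) hd'⟩
    let X : Over S := Over.mk (O.ι ≫ g)
    haveI : Smooth X.hom := inferInstanceAs (Smooth (O.ι ≫ g))
    have hr : Set.range w ⊆ Set.range O.ι := by
      rintro _ ⟨x, rfl⟩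
      rw [Scheme.Opens.range_ι, Subsingleton.elim (α := PrimeSpectrum (AlgebraicClosure (S.residueField s))) x
        (IsLocalRing.closedPoint _)]
      exact hcw
    let px : Over.mk (Red.geomPt s) ⟶ X := Over.homMk (IsOpenImmersion.lift O.ι w hr) (by
      show IsOpenImmersion.lift O.ι w hr ≫ O.ι ≫ g = Red.geomPt s
      rw [IsOpenImmersion.lift_fac_assoc, hw])
    obtain ⟨V, e, he, hse, ⟨q⟩⟩ := Groth.L25.Locus.exists_etale_nhd_point (W := X) s px
    let τ : V ⟶ W := q.left ≫ O.ι
    have hτ : τ ≫ g = e := (Category.assoc _ _ _).trans (Over.w q)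
    let eV := ActBC.bcCompIso τ g G hτ
    haveI : IsMonHom eV.hom := inferInstance
    haveI : IsMonHom ((Over.pullback τ).map c) := Groth.L25.MonoClosed.isMonHom_pullbackMap _ _
    haveI : Mono ((Over.pullback τ).map c) := Functor.map_mono _ _
    haveI : IsMonHom (Iso.refl (Red.bc τ C)).hom := inferInstanceAs (IsMonHom (𝟙 _))
    refine ⟨V, e, he, hse, Red.bc τ C, inferInstance, (Over.pullback τ).map c ≫ eV.hom, inferInstance, mono_comp _ _,
      MorphismProperty.pullback_snd C.hom τ hCs, fun v => Groth.L25.Extension.isConnected_fibre_bc τ C hCc v,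
      fun v => cartanAt_congr (Iso.refl _) eV (Category.id_comp _) ((cartanAt_bc
        (fun t => Groth.L25.Extension.isConnected_fibre_bc g G hconn t) hCc c τ v).2 ?_)⟩
    exact (q.left v).2
  choose V e he hse C gC c hcm hcmono hCs hCc hCart using loc
  let Q : ∐ V ⟶ S := Sigma.desc e
  haveI : Smooth (Red.bc Q G).hom := MorphismProperty.pullback_snd G.hom Q ‹_›
  haveI : QuasiCompact (Red.bc Q G).hom := MorphismProperty.pullback_snd G.hom Q ‹_›
  let eI := fun s => ActBC.bcCompIso (Sigma.ι V s) Q G (Sigma.ι_desc e s)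
  haveI := fun s => hcm s
  haveI := fun s => hcmono s
  obtain ⟨E, gE, em, hι, hιm, hιs, hιi⟩ := exists_subgroup_sigma (Red.bc Q G) C (fun s => c s ≫ (eI s).inv)
    (fun s => inferInstance) (fun s => mono_comp _ _)
  haveI := hι; haveI := hιm
  haveI : Smooth E.hom := hιs hCs
  have hEc : ∀ v : ↥(∐ V), _root_.IsConnected (E.hom.base ⁻¹' {v}) := fun v => by
    obtain ⟨s, a, rfl⟩ := Groth.L20.SchDesc.exists_sigmaι_eq v
    obtain ⟨j, -, -⟩ := hιi s
    refine isConnected_fibre_of_bc (Sigma.ι V s) E a ?_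
    haveI : IsIso j.inv.left := inferInstanceAs (IsIso ((Over.forget _).map j.inv))
    have himg : j.inv.left '' ((C s).hom.base ⁻¹' {a}) = (Red.bc (Sigma.ι V s) E).hom.base ⁻¹' {a} := by
      ext x
      constructor
      · rintro ⟨z, hz, rfl⟩
        show (Red.bc (Sigma.ι V s) E).hom (j.inv.left z) = a
        rw [← Scheme.Hom.comp_apply, Over.w j.inv]
        exact hz
      · intro hx
        refine ⟨j.hom.left x, ?_, ?_⟩
        · show (C s).hom (j.hom.left x) = a
          rw [← Scheme.Hom.comp_apply, Over.w j.hom]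
          exact hx
        · rw [← Scheme.Hom.comp_apply, ← Over.comp_left, j.hom_inv_id]; rfl
    rw [← himg]
    exact (hCc s a).image _ j.inv.left.continuous.continuousOn
  refine ⟨∐ V, Q, IsZariskiLocalAtSource.sigmaDesc (P := @Etale) he, ⟨fun s => ?_⟩, E, gE, em, hι, hιm, inferInstance,
    fun v => ?_⟩
  · obtain ⟨a, ha⟩ := hse s
    exact ⟨Sigma.ι V s a, by rw [← Scheme.Hom.comp_apply, Sigma.ι_desc]; exact ha⟩
  · obtain ⟨s, a, rfl⟩ := Groth.L20.SchDesc.exists_sigmaι_eq v
    obtain ⟨j, hj, hji⟩ := hιi s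
    haveI := hj
    refine (cartanAt_bc (fun t => Groth.L25.Extension.isConnected_fibre_bc Q G hconn t) hEc em (Sigma.ι V s) a).1 ?_
    haveI : IsMonHom j.symm.hom := inferInstanceAs (IsMonHom j.inv)
    haveI : IsMonHom (eI s).symm.hom := inferInstanceAs (IsMonHom (eI s).inv)
    refine cartanAt_congr j.symm (eI s).symm ?_ (hCart s a)
    rw [Iso.symm_hom, Iso.symm_hom, Iso.inv_comp_eq, hji]

end Groth.L08.Borel
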