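import Groth.Agent.L08.Borel.Quot
import Groth.Agent.L08.Borel.CentBorel
import Groth.Agent.L08.Borel.Orbit
import Groth.Agent.L08.Borel.TorusImage
import Groth.Prelude.Def_SGA3x

/-!
# Cartan subgroups of connected algebraic groups
-/

set_option autoImplicit false
set_option backward.isDefEq.respectTransparency.types false
set_option linter.style.haveILetI false
set_option linter.unusedSectionVars false

universe u

open CategoryTheory CategoryTheory.Limits MonoidalCategory CartesianMonoidalCategory MonObj GrpObj AlgebraicGeometry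
open Topology TopologicalSpace

noncomputable section

namespace Groth.L08.Borel

variable {k : Type u} [Field k] [IsAlgClosed k]

local notation "U1" => 𝟙_ (Over (Spec (CommRingCat.of k)))

/-- centralizers of tori in connected algebraic groups -/
theorem exists_centralizer_gen {G T : Over (Spec (CommRingCat.of k))} [GrpObj G] [GrpObj T] [Smooth G.hom]
    [QuasiCompact G.hom] [ConnectedSpace G.left] (iT : T ⟶ G) [IsMonHom iT] (hT : Red.IsTorus T) :
    ∃ (C : Over (Spec (CommRingCat.of k))) (_ : GrpObj C) (c : C ⟶ G), Red.IsCentralizerOf iT c ∧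
      IsClosedImmersion c.left ∧ Smooth C.hom ∧ ConnectedSpace C.left := by
  haveI : IsSeparated G.hom := Groth.L08.AbelianGrp.isSeparated G
  obtain ⟨C, gC, c, hc, hcl, -⟩ := Groth.L25.Locus.exists_centralizer (G := G)
    (Groth.L25.Locus.locally_of_multTypeFT (Groth.L25.Locus.isMultTypeFT_of_isTorus hT)) iT
  obtain ⟨h1, h2⟩ := Groth.L25.Locus.centralizer_smooth_connected G T iT hT C c hc
  exact ⟨C, gC, c, hc, hcl, h1, h2⟩

variable {G : Over (Spec (CommRingCat.of k))} [GrpObj G] [Smooth G.hom] [QuasiCompact G.hom] [ConnectedSpace G.left]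

/-- the centralizer of a maximal torus lies in every Borel subgroup containing it -/
theorem centralizer_le_borel_gen {T C B : Over (Spec (CommRingCat.of k))} [GrpObj T] [GrpObj C] [GrpObj B]
    {iT : T ⟶ G} (hT : AGF.IsMaxTorus iT) {c : C ⟶ G} (hc : Red.IsCentralizerOf iT c) {b : B ⟶ G}
    (hB : Red.IsBorelOver k b) (t : T ⟶ B) (ht : t ≫ b = iT) : ∃ f : C ⟶ B, f ≫ b = c := by
  obtain ⟨𝒟⟩ := exists_genData G
  letI := 𝒟.grpH; letI := 𝒟.grpL
  haveI := 𝒟.affH; haveI := 𝒟.smH; haveI := 𝒟.connH; haveI := 𝒟.homρ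
  haveI := 𝒟.affL; haveI := 𝒟.smL; haveI := 𝒟.connL; haveI := 𝒟.homl; haveI := 𝒟.surjL
  haveI : Mono 𝒟.l := by haveI := 𝒟.cll; exact Groth.L08.mono_of_closedImmersion 𝒟.l
  haveI := hT.1; haveI := hT.2.1; haveI := hc.1; haveI := hc.2.1
  obtain ⟨a1, a2, a3, -, -⟩ := torus_props hT.2.2.1
  haveI := a1; haveI := a2; haveI := a3
  haveI : QuasiCompact T.hom := quasiCompact_of_compactSpace _
  haveI : LocallyOfFiniteType G.hom := inferInstance
  haveI : LocallyOfFiniteType 𝒟.H.hom := inferInstance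
  obtain ⟨C', gC', c', hc', hcl', hs', hcon'⟩ := exists_centralizer_gen iT hT.2.2.1
  obtain ⟨e, he⟩ := (hc'.2.2 C c).2 fun X' x h => (hc.2.2 C c).1 ⟨𝟙 C, Category.id_comp c⟩ X' x h
  haveI := hs'
  haveI : IsReduced C'.left := Groth.Agent.AV.isReduced_of_smooth_field C'.hom
  suffices hsuff : ∃ f : C' ⟶ B, f ≫ b = c' by
    obtain ⟨f, hf⟩ := hsuff
    exact ⟨e ≫ f, by rw [Category.assoc, hf, he]⟩
  -- the affine quotient
  obtain ⟨B', gB', i', fB, hB', hfB, hfac⟩ := exists_borel_below 𝒟 hB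
  haveI := hB'.1; haveI := hB'.2.1
  haveI : Mono i' := Groth.L08.mono_of_closedImmersion i'
  obtain ⟨T', gT', p, iT', hp, hiT', hpi, hps, hicl, hT's, -, -⟩ := exists_image_smooth (iT ≫ 𝒟.ρ)
  haveI := hiT'; haveI := hicl; haveI := hps; haveI := hT's
  haveI : IsReduced T'.left := Groth.Agent.AV.isReduced_of_smooth_field T'.hom
  obtain ⟨tL, htL⟩ := 𝒟.factorL T iT a1 a2 a3
  have hT' : AGF.IsMaxTorus iT' := isMaxTorus_of_image (𝒟.l ≫ 𝒟.ρ)
    (isMaxTorus_factor (iB := 𝒟.l) (htL.symm ▸ hT)) iT' p (by rw [hpi, reassoc_of% htL])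
  obtain ⟨t', ht'⟩ := factor_of_pts iT' i' fun y => by
    obtain ⟨w, hw⟩ := exists_pt_lift p y (p.left.surjective _)
    exact ⟨w ≫ t ≫ fB, by rw [Category.assoc, Category.assoc, hfB, reassoc_of% ht, ← hpi, ← hw, Category.assoc]⟩
  obtain ⟨Z, gZ, zc, hzc⟩ := exists_centralizer_torus iT' hT'.2.2.1
  obtain ⟨φ, hφ⟩ := centralizer_le_borel hT' hzc hB' t' ht'
  obtain ⟨w, hw⟩ := factor_of_pts (c' ≫ 𝒟.ρ) i' fun z => by
    obtain ⟨u, hu⟩ := (hzc.2.2 U1 (z ≫ c' ≫ 𝒟.ρ)).2 fun X' x h => by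
      -- commutation is checked on rational points of the torus
      haveI : IsSeparated 𝒟.H.hom := Groth.L08.AbelianGrp.isSeparated 𝒟.H
      have hall : (toUnit T' ≫ z ≫ c' ≫ 𝒟.ρ) * iT' = iT' * (toUnit T' ≫ z ≫ c' ≫ 𝒟.ρ) := hom_ext_pts _ _ fun y => by
        obtain ⟨w, hw⟩ := exists_pt_lift p y (p.left.surjective _)
        have h0 := (hc'.2.2 U1 (z ≫ c')).1 ⟨z, rfl⟩ U1 (𝟙 _) w
        have h1 := congrArg (· ≫ 𝒟.ρ) h0
        simp only [MonObj.mul_comp, Category.id_comp, Category.assoc] at h1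
        rw [MonObj.comp_mul, MonObj.comp_mul, ← Category.assoc y (toUnit T'), toUnit_unique (y ≫ toUnit T') (𝟙 _),
          Category.id_comp, ← hw, Category.assoc, hpi]
        exact h1
      have h2 := congrArg (h ≫ ·) hall
      simp only [MonObj.comp_mul, ← Category.assoc, toUnit_unique (h ≫ toUnit T') x] at h2
      simpa only [Category.assoc] using h2
    exact ⟨u ≫ φ, by rw [Category.assoc, hφ, hu]⟩
  exact hfac C' c' inferInstance ⟨w, hw⟩

/-- Cartan subgroups of a Borel subgroup are Cartan subgroups -/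
theorem isCartanOver_comp_borel {B C : Over (Spec (CommRingCat.of k))} [GrpObj B] [GrpObj C] {b : B ⟶ G}
    (hB : Red.IsBorelOver k b) {c : C ⟶ B} (hC : SGA3x.IsCartanOver k c) : SGA3x.IsCartanOver k (c ≫ b) := by
  obtain ⟨hcm, hcmono, T, gT, i, hi, hic⟩ := hC
  haveI := hcm; haveI := hcmono; haveI := hB.1; haveI := hB.2.1
  haveI : Mono b := Groth.L08.mono_of_closedImmersion b
  have hiG := isMaxTorus_comp_borel hB (isMaxTorus_of_isMaximalTorus hi)
  haveI := hiG.1
  refine ⟨inferInstance, mono_comp _ _, T, gT, i ≫ b, isMaximalTorus_of_isMaxTorus hiG,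
    inferInstance, mono_comp _ _, fun X g => ⟨?_, fun h => ?_⟩⟩
  · rintro ⟨z, rfl⟩ X' x h
    have := congrArg (· ≫ b) ((hic.2.2 X (z ≫ c)).1 ⟨z, rfl⟩ X' x h)
    simpa only [MonObj.mul_comp, Category.assoc] using this
  obtain ⟨C', gC', c', hc', -, -, -⟩ := exists_centralizer_gen (i ≫ b) hiG.2.2.1
  obtain ⟨f, hf⟩ := centralizer_le_borel_gen hiG hc' hB i rfl
  obtain ⟨z, hz⟩ := (hc'.2.2 X g).2 h
  obtain ⟨w, hw⟩ := (hic.2.2 X (z ≫ f)).2 fun X' x s => by
    rw [← cancel_mono b]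
    simp only [MonObj.mul_comp, Category.assoc, hf, hz]
    exact h X' x s
  exact ⟨w, by rw [reassoc_of% hw, hf, hz]⟩

end Groth.L08.Borel
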