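import Groth.Agent.L08.Borel.GenNilp
import Groth.Agent.L08.Borel.GenCartan
import Groth.Agent.L08.Borel.OverField
import Groth.Agent.L19.AlgGrpBasic.LargestNormal
import Groth.Agent.L08.AffHull.AntiAffine

/-!
# Images of maximal tori and of their centralizers
-/

set_option autoImplicit false
set_option backward.isDefEq.respectTransparency.types false
set_option linter.style.haveILetI false
set_option linter.unusedSectionVars false

universe u

open CategoryTheory CategoryTheory.Limits MonoidalCategory CartesianMonoidalCategory MonObj GrpObj AlgebraicGeometry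
open Topology TopologicalSpace

noncomputable section

namespace Groth.L08.Borel

variable {k : Type u} [Field k] [IsAlgClosed k]

local notation "U1" => 𝟙_ (Over (Spec (CommRingCat.of k)))

/-- the preimage of a connected subgroup in a connected affine group: its reduced identity component -/
theorem exists_preimage_component {B H T' : Over (Spec (CommRingCat.of k))} [GrpObj B] [GrpObj H] [GrpObj T']
    [IsAffine B.left] [Smooth B.hom] (v : B ⟶ H) [IsMonHom v] (i' : T' ⟶ H) [IsMonHom i']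
    [IsClosedImmersion i'.left] :
    ∃ (R : Over (Spec (CommRingCat.of k))) (_ : GrpObj R) (K : R ⟶ B) (f : R ⟶ T'), IsMonHom K ∧
      IsClosedImmersion K.left ∧ IsAffine R.left ∧ Smooth R.hom ∧ ConnectedSpace R.left ∧ f ≫ i' = K ≫ v ∧
      ∀ (X : Over (Spec (CommRingCat.of k))) [GrpObj X] (g : X ⟶ B) [IsMonHom g], IsReduced X.left →
        ConnectedSpace X.left → (∃ y : X ⟶ T', y ≫ i' = g ≫ v) → ∃ z : X ⟶ R, z ≫ K = g := by
  haveI : Mono i' := Groth.L08.mono_of_closedImmersion i'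
  haveI : LocallyOfFiniteType B.hom := inferInstance
  let P := Limits.pullback v i'
  let i : P ⟶ B := pullback.fst _ _
  haveI : IsClosedImmersion i.left :=
    MorphismProperty.of_isPullback (P := @IsClosedImmersion)
      ((IsPullback.of_hasPullback v i').map (Over.forget _)).flip ‹IsClosedImmersion i'.left›
  haveI : Mono i := Groth.L08.mono_of_closedImmersion i
  have crit : ∀ {W : Over (Spec (CommRingCat.of k))} (g : W ⟶ B) (y : W ⟶ T'), y ≫ i' = g ≫ v →
      ∃ z : W ⟶ P, z ≫ i = g := fun g y e => ⟨pullback.lift g y e.symm, pullback.lift_fst _ _ _⟩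
  obtain ⟨gP, hmon⟩ := Groth.L08.exists_grpObj_of_mono i
    (crit η[B] 1 (by rw [MonObj.one_comp, MonObj.one_eq_one, MonObj.one_comp]))
    (crit ((fst P P ≫ i) * (snd P P ≫ i)) ((fst P P ≫ pullback.snd v i') * (snd P P ≫ pullback.snd v i')) (by
      simp only [MonObj.mul_comp, Category.assoc, ← pullback.condition, i]))
    (crit i⁻¹ (pullback.snd v i')⁻¹ (by rw [GrpObj.inv_comp, GrpObj.inv_comp, ← pullback.condition]))
  haveI := hmon
  haveI : LocallyOfFiniteType P.hom := by rw [← Over.w i]; infer_instance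
  haveI : IsAffine P.left := isAffine_of_isAffineHom i.left
  obtain ⟨N, gN, j, hj⟩ := Groth.L08.Chev.exists_idComp P
  haveI := hj.hom; haveI := hj.closedImm; haveI := hj.connectedSpace; haveI := hj.lft
  obtain ⟨R, gR, m, hm, hmc, hRs, hms, hred⟩ := exists_red_subgroup N
  haveI := hm; haveI := hmc; haveI := hRs; haveI := hms
  haveI : ConnectedSpace R.left := (IsHomeomorph.homeomorph m.left
    (isHomeomorph_iff_isEmbedding_surjective.2
      ⟨m.left.isClosedEmbedding.isEmbedding, m.left.surjective⟩)).symm.surjective.connectedSpace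
    (Homeomorph.continuous _)
  let K : R ⟶ B := m ≫ j ≫ i
  haveI : IsMonHom K := inferInstanceAs (IsMonHom (m ≫ j ≫ i))
  haveI : IsClosedImmersion K.left := inferInstanceAs (IsClosedImmersion (m.left ≫ j.left ≫ i.left))
  refine ⟨R, gR, K, m ≫ j ≫ pullback.snd v i', inferInstance, inferInstance, isAffine_of_isAffineHom K.left, hRs,
    inferInstance, by simp only [K, i, Category.assoc, pullback.condition], fun X _ g _ hX hXc ⟨y, hy⟩ => ?_⟩
  haveI := hXc
  obtain ⟨w, hw⟩ := crit g y hy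
  haveI : IsMonHom w := isMonHom_of_comp_mono w i g hw
  obtain ⟨w', hw'⟩ := hj.exists_lift_hom w
  obtain ⟨z, hz⟩ := hred X w' hX
  exact ⟨z, by simp only [K, reassoc_of% hz, reassoc_of% hw', hw]⟩

/-- points centralizing the image of a maximal torus are images of points centralizing it -/
theorem exists_lift_centralizing {G H T T' : Over (Spec (CommRingCat.of k))} [GrpObj G] [GrpObj H] [GrpObj T]
    [GrpObj T'] [IsAffine G.left] [Smooth G.hom] [ConnectedSpace G.left] [IsAffine H.left] [Smooth H.hom]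
    [ConnectedSpace H.left] (v : G ⟶ H) [IsMonHom v] [Surjective v.left] {iT : T ⟶ G} (hT : AGF.IsMaxTorus iT)
    (iT' : T' ⟶ H) [IsMonHom iT'] [IsClosedImmersion iT'.left] [Smooth T'.hom] (p : T ⟶ T') [Surjective p.left]
    (hp : p ≫ iT' = iT ≫ v) (h : U1 ⟶ H) (hh : ∀ y : U1 ⟶ T', h * (y ≫ iT') = (y ≫ iT') * h) :
    ∃ g : U1 ⟶ G, g ≫ v = h ∧ ∀ s : U1 ⟶ T, g * (s ≫ iT) = (s ≫ iT) * g := by
  haveI := hT.1; haveI := hT.2.1
  haveI : LocallyOfFiniteType G.hom := inferInstance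
  haveI : LocallyOfFiniteType H.hom := inferInstance
  haveI : IsReduced T'.left := Groth.Agent.AV.isReduced_of_smooth_field T'.hom
  haveI : Mono iT' := Groth.L08.mono_of_closedImmersion iT'
  obtain ⟨a1, a2, a3, -, hTcomm⟩ := torus_props hT.2.2.1
  haveI := a1; haveI := a2; haveI := a3
  haveI : IsReduced T.left := Groth.Agent.AV.isReduced_of_smooth_field T.hom
  haveI : LocallyOfFiniteType T.hom := inferInstance
  have hT' : AGF.IsMaxTorus iT' := isMaxTorus_of_image v hT iT' p hp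
  -- a Borel subgroup with the torus and its image
  obtain ⟨B, gB, iB, hB, t, -, ht, -⟩ := exists_borel_torus_point iT hT.2.2.1 (1 : U1 ⟶ G) fun X s => by
    rw [MonObj.comp_one, _root_.one_mul, _root_.mul_one]
  haveI := hB.1; haveI := hB.2.1; haveI := hB.2.2.1; haveI := hB.2.2.2.1
  haveI : Mono iB := Groth.L08.mono_of_closedImmersion iB
  haveI : IsAffine B.left := isAffine_of_isAffineHom iB.left
  haveI : IsMonHom t := isMonHom_of_comp_mono t iB iT ht
  obtain ⟨B', gB', pB, iB', -, hpB, hpBs, hB'⟩ := exists_image_borel v hB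
  haveI := hB'.1; haveI := hB'.2.1; haveI := hB'.2.2.1; haveI := hpBs
  haveI : Mono iB' := Groth.L08.mono_of_closedImmersion iB'
  obtain ⟨t', ht'⟩ := factor_of_pts iT' iB' fun y => by
    obtain ⟨w, hw⟩ := exists_pt_lift p y (p.left.surjective _)
    exact ⟨w ≫ t ≫ pB, by rw [Category.assoc, Category.assoc, hpB, reassoc_of% ht, ← hp, ← hw, Category.assoc]⟩
  obtain ⟨Z, gZ, zc, hzc⟩ := exists_centralizer_torus iT' hT'.2.2.1
  obtain ⟨φ, hφ⟩ := centralizer_le_borel hT' hzc hB' t' ht'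
  obtain ⟨u, hu⟩ := (hzc.2.2 U1 h).2 fun X' x s => by
    haveI : IsSeparated H.hom := Groth.L08.AbelianGrp.isSeparated H
    have hall : (toUnit T' ≫ h) * iT' = iT' * (toUnit T' ≫ h) := hom_ext_pts _ _ fun y => by
      rw [MonObj.comp_mul, MonObj.comp_mul, ← Category.assoc y (toUnit T'), toUnit_unique (y ≫ toUnit T') (𝟙 _),
        Category.id_comp]
      exact hh y
    have h2 := congrArg (s ≫ ·) hall
    simp only [MonObj.comp_mul, ← Category.assoc, toUnit_unique (s ≫ toUnit T') x] at h2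
    exact h2
  haveI : LocallyOfFiniteType B.hom := inferInstance
  obtain ⟨b, hb⟩ := exists_pt_lift pB (u ≫ φ) (pB.left.surjective _)
  have hbv : (b ≫ iB) ≫ v = h := by
    rw [Category.assoc, ← hpB, reassoc_of% hb, hφ, hu]
  -- the conjugate torus in the preimage of the image torus
  obtain ⟨R, gR, K, fR, hK, hKc, hRa, hRs, hRc, hfR, hfac⟩ := exists_preimage_component (iB ≫ v) iT'
  haveI := hK; haveI := hKc; haveI := hRa; haveI := hRs; haveI := hRc
  haveI : Mono K := Groth.L08.mono_of_closedImmersion K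
  haveI : Mono t := by haveI : Mono (t ≫ iB) := ht ▸ inferInstance; exact mono_of_mono t iB
  obtain ⟨tR, htR⟩ := hfac T t inferInstance inferInstance ⟨p, by rw [hp, reassoc_of% ht]⟩
  haveI : IsMonHom (AGF.conjBy b t) := isMonHom_conjBy b t
  haveI : Mono (AGF.conjBy b t) := mono_conjBy b t
  obtain ⟨tR', htR'⟩ := hfac T (AGF.conjBy b t) inferInstance inferInstance ⟨p, by
    rw [hp, conjBy_comp, reassoc_of% ht]
    haveI : IsSeparated H.hom := Groth.L08.AbelianGrp.isSeparated H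
    refine hom_ext_pts _ _ fun y => ?_
    rw [comp_conjBy, ← Category.assoc b, hbv]
    simp only [AGF.conjBy, toUnit_unique (toUnit U1) (𝟙 _), Category.id_comp]
    have := hh (y ≫ p)
    rw [Category.assoc, hp] at this
    rw [this, mul_inv_cancel_right]⟩
  haveI : IsMonHom tR := isMonHom_of_comp_mono tR K t htR
  haveI : IsMonHom tR' := isMonHom_of_comp_mono tR' K _ htR'
  haveI : Mono tR' := by haveI : Mono (tR' ≫ K) := htR'.symm ▸ inferInstance; exact mono_of_mono tR' K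
  have htmax : AGF.IsMaxTorus t := isMaxTorus_factor (iB := iB) (ht.symm ▸ hT)
  obtain ⟨n, f, hf⟩ := maxTorus_absorbing (isMaxTorus_factor (iB := K) (htR.symm ▸ htmax)) T tR' hT.2.2.1
  let b' : U1 ⟶ B := (n ≫ K) * b
  have hb' : f ≫ t = AGF.conjBy b' t := by
    conv_lhs => rw [← htR]
    rw [reassoc_of% hf, conjBy_comp, htR', conjBy_conjBy]
  obtain ⟨q, hq, hqconj⟩ := exists_retraction_maxTorus hB.2.2.2.2.1 htmax
  have hfid : f = 𝟙 T := by
    have := congrArg (· ≫ q) hb'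
    simp only [Category.assoc, hq, Category.comp_id, AGF.conjBy, hqconj] at this
    exact this
  obtain ⟨s₀, hs₀⟩ := exists_pt_lift p (n ≫ fR) (p.left.surjective _)
  refine ⟨(s₀ ≫ iT)⁻¹ * (b' ≫ iB), ?_, fun s => ?_⟩
  · rw [MonObj.mul_comp, GrpObj.inv_comp, Category.assoc, ← hp, reassoc_of% hs₀, hfR]
    simp only [b', MonObj.mul_comp, Category.assoc] at hbv ⊢
    rw [hbv, inv_mul_cancel_left]
  · have e := congrArg (fun m => s ≫ m ≫ iB) hb'
    simp only [hfid, Category.id_comp, ht, conjBy_comp, comp_conjBy, AGF.conjBy,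
      toUnit_unique (toUnit U1) (𝟙 _)] at e
    have hc := congrArg (· ≫ iT) (hTcomm U1 s₀ s)
    simp only [MonObj.mul_comp] at hc
    generalize b' ≫ iB = x at e ⊢
    generalize s ≫ iT = w at e hc ⊢
    generalize s₀ ≫ iT = a at hc ⊢
    calc a⁻¹ * x * w = a⁻¹ * (x * w * x⁻¹) * x := by group
      _ = a⁻¹ * w * x := by rw [← e]
      _ = a⁻¹ * (w * a) * a⁻¹ * x := by group
      _ = a⁻¹ * (a * w) * a⁻¹ * x := by rw [hc]
      _ = w * (a⁻¹ * x) := by group

variable {G H : Over (Spec (CommRingCat.of k))} [GrpObj G] [GrpObj H] [Smooth G.hom] [QuasiCompact G.hom]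
  [ConnectedSpace G.left] [Smooth H.hom] [QuasiCompact H.hom] [ConnectedSpace H.left]
  (v : G ⟶ H) [IsMonHom v] [Surjective v.left]

/-- **The affine part maps onto the affine part.** -/
theorem exists_surjective_affPart (𝒟 : GenData G) (ℰ : GenData H) :
    ∃ z : 𝒟.L ⟶ ℰ.L, (letI := 𝒟.grpL; letI := ℰ.grpL; IsMonHom z) ∧ Surjective z.left ∧ z ≫ ℰ.l = 𝒟.l ≫ v := by
  letI := 𝒟.grpL; letI := ℰ.grpL
  haveI := 𝒟.affL; haveI := 𝒟.smL; haveI := 𝒟.connL; haveI := 𝒟.homl; haveI := 𝒟.cll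
  haveI := ℰ.affL; haveI := ℰ.smL; haveI := ℰ.connL; haveI := ℰ.homl; haveI := ℰ.cll
  haveI : Mono ℰ.l := Groth.L08.mono_of_closedImmersion ℰ.l
  haveI : LocallyOfFiniteType G.hom := inferInstance
  haveI : LocallyOfFiniteType H.hom := inferInstance
  obtain ⟨z, hz⟩ := ℰ.factorL 𝒟.L (𝒟.l ≫ v) inferInstance inferInstance inferInstance
  haveI : IsMonHom z := isMonHom_of_comp_mono z ℰ.l _ hz
  refine ⟨z, inferInstance, ?_, hz⟩
  -- the image is normal
  haveI : QuasiCompact 𝒟.L.hom := quasiCompact_of_compactSpace _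
  obtain ⟨C, gC, p, i, hp, hi, hpi, hpf, hps, hplfp, hic⟩ := Groth.L08.AbelianGrp.exists_image (𝒟.l ≫ v)
  haveI := hp; haveI := hi; haveI := hpf; haveI := hps; haveI := hplfp; haveI := hic
  haveI : Mono i := Groth.L08.mono_of_closedImmersion i
  haveI : LocallyOfFiniteType C.hom := by rw [← Over.w i]; infer_instance
  haveI : Smooth C.hom := Groth.L19.AlgGrpBasic.smooth_of_cover p
  haveI : IsReduced C.left := Groth.Agent.AV.isReduced_of_smooth_field C.hom
  haveI : LocallyOfFiniteType 𝒟.L.hom := inferInstance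
  have hN : AlgGrp.IsNormalHom i := by
    intro T g c
    haveI : Smooth (H ⊗ C).hom := Groth.L25.CommWords.smooth_tensor H C
    haveI : IsReduced (H ⊗ C).left := Groth.Agent.AV.isReduced_of_smooth_field (H ⊗ C).hom
    obtain ⟨u, hu⟩ := factor_of_pts (fst H C * (snd H C ≫ i) * (fst H C)⁻¹) i fun x => by
      obtain ⟨g', hg'⟩ := exists_pt_lift v (x ≫ fst H C) (v.left.surjective _)
      obtain ⟨l', hl'⟩ := exists_pt_lift p (x ≫ snd H C) (p.left.surjective _)
      obtain ⟨w, hw⟩ := 𝒟.normL U1 g' l'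
      refine ⟨w ≫ p, ?_⟩
      have := congrArg (· ≫ v) hw
      simp only [MonObj.mul_comp, GrpObj.inv_comp, Category.assoc, ← hpi, hg', reassoc_of% hl'] at this
      rw [Category.assoc, ← this]
      simp only [MonObj.comp_mul, GrpObj.comp_inv]
    refine ⟨lift g c ≫ u, ?_⟩
    rw [Category.assoc, hu]
    simp only [MonObj.comp_mul, GrpObj.comp_inv, lift_fst, lift_snd_assoc]
  -- the quotient is proper
  obtain ⟨Y, p₀, _, _, _, sqp⟩ := GQuot.exists_quotient_field i
  obtain ⟨Q', q', _, _, _, sqq, hlft, -, hqc, hsm, hsep⟩ := GQuot.exists_struct p₀ sqp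
  obtain ⟨gQ', hq', hker⟩ := GQuot.exists_grp hN q' sqq
  haveI := hq'; haveI := hlft inferInstance; haveI := hqc inferInstance; haveI := hsm inferInstance
  haveI := hsep ‹_›
  obtain ⟨L', gL', l', Q, gQ, q, hl'm, hl'c, hl'a, hl's, hl'con, -, hq, hqs, hqf, hqlfp, hqker, hQp, hQs, hQc⟩ :=
    Groth.L08.ChevPerf.exists_chevalley G
  haveI := hl'm; haveI := hl'a; haveI := hl's; haveI := hl'con; haveI := hq; haveI := hqs; haveI := hqf; haveI := hqlfp
  haveI := hQp
  obtain ⟨w, hw⟩ := 𝒟.factorL L' l' inferInstance inferInstance inferInstance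
  have hkill : (l' ≫ v) ≫ q' = 1 := by
    rw [← hw, Category.assoc, Category.assoc, ← reassoc_of% hpi, hker.w, ← Category.assoc p,
      toUnit_unique (p ≫ toUnit C) (toUnit _), ← Hom.one_def, MonObj.comp_one]
  obtain ⟨d, hd⟩ := Groth.L08.AffHull.exists_desc_cover q (v ≫ q') fun {T} a b e => by
    obtain ⟨r, hr, -⟩ := hqker.exists_lift (a⁻¹ * b) (toUnit T) (by
      rw [MonObj.mul_comp, GrpObj.inv_comp, e, inv_mul_cancel, Hom.one_def])
    have h1 := congrArg (· ≫ v ≫ q') hr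
    have hkill' : l' ≫ v ≫ q' = 1 := by rw [← Category.assoc]; exact hkill
    rw [Category.assoc, hkill', MonObj.comp_one] at h1
    simp only [MonObj.mul_comp, GrpObj.inv_comp, ← Category.assoc] at h1
    rw [eq_comm, inv_mul_eq_one] at h1
    simpa only [Category.assoc] using h1
  haveI : Surjective (q.left ≫ d.left) := by rw [← Over.comp_left, hd, Over.comp_left]; infer_instance
  haveI : Surjective d.left := Surjective.of_comp q.left d.left
  haveI : IsProper Q'.hom := by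
    haveI : UniversallyClosed Q'.hom := by
      haveI : UniversallyClosed (d.left ≫ Q'.hom) := by rw [Over.w d]; infer_instance
      exact UniversallyClosed.of_comp_surjective d.left Q'.hom
    exact ⟨⟩
  have htriv : ℰ.l ≫ q' = 1 := Groth.L08.Chev.hom_to_proper_eq_one (ℰ.l ≫ q')
  obtain ⟨e, he, -⟩ := hker.exists_lift ℰ.l (toUnit _) (by rw [htriv, Hom.one_def])
  refine ⟨fun y => ?_⟩
  obtain ⟨x, hx⟩ := p.left.surjective (e.left y)
  refine ⟨x, ℰ.l.left.isClosedEmbedding.injective ?_⟩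
  have h1 : (z ≫ ℰ.l).left x = (e ≫ i).left y := by
    rw [hz, ← hpi, Over.comp_left, Over.comp_left, Scheme.Hom.comp_apply, Scheme.Hom.comp_apply, hx]
  rw [he, Over.comp_left, Scheme.Hom.comp_apply] at h1
  exact h1

/-- descent of morphisms along a quasi-compact faithfully flat morphism -/
theorem exists_desc_fpqc {S : Scheme.{u}} {A B Z : Over S} (c : A ⟶ B) [Surjective c.left] [Flat c.left]
    [QuasiCompact c.left] (f : A ⟶ Z)
    (hf : ∀ {T : Over S} (a b : T ⟶ A), a ≫ c = b ≫ c → a ≫ f = b ≫ f) : ∃ g : B ⟶ Z, c ≫ g = f := by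
  haveI : EffectiveEpi c.left := inferInstance
  let d := EffectiveEpi.desc c.left f.left fun {T} a b e => by
    let a' : Over.mk (a ≫ A.hom) ⟶ A := Over.homMk a
    let b' : Over.mk (a ≫ A.hom) ⟶ A := Over.homMk b (by
      show b ≫ A.hom = a ≫ A.hom
      rw [← Over.w c, reassoc_of% e])
    exact congrArg CommaMorphism.left (hf a' b' (Over.OverMorphism.ext e))
  have hd : c.left ≫ d = f.left := EffectiveEpi.fac _ _ _
  haveI : Epi c.left := Flat.epi_of_flat_of_surjective c.left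
  have hw : d ≫ Z.hom = B.hom := by
    rw [← cancel_epi c.left, reassoc_of% hd, Over.w, Over.w]
  exact ⟨Over.homMk d hw, Over.OverMorphism.ext hd⟩

/-- images of maximal tori are maximal tori -/
theorem isMaxTorus_image_gen {T T' : Over (Spec (CommRingCat.of k))} [GrpObj T] [GrpObj T'] {iT : T ⟶ G}
    (hT : AGF.IsMaxTorus iT) (iT' : T' ⟶ H) [IsMonHom iT'] [Mono iT'] (p : T ⟶ T') [IsMonHom p] [Surjective p.left]
    [Flat p.left] (hp : p ≫ iT' = iT ≫ v) :
    AGF.IsMaxTorus iT' ∧ IsClosedImmersion iT'.left ∧ Smooth T'.hom := by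
  obtain ⟨𝒟⟩ := exists_genData G
  obtain ⟨ℰ⟩ := exists_genData H
  letI := 𝒟.grpL; letI := ℰ.grpL
  haveI := 𝒟.affL; haveI := 𝒟.smL; haveI := 𝒟.connL; haveI := 𝒟.homl; haveI := 𝒟.cll
  haveI := ℰ.affL; haveI := ℰ.smL; haveI := ℰ.connL; haveI := ℰ.homl; haveI := ℰ.cll
  haveI : Mono 𝒟.l := Groth.L08.mono_of_closedImmersion 𝒟.l
  haveI : Mono ℰ.l := Groth.L08.mono_of_closedImmersion ℰ.l
  obtain ⟨z, hz, hzs, hzl⟩ := exists_surjective_affPart v 𝒟 ℰ
  haveI := hz; haveI := hzs
  haveI := hT.1; haveI := hT.2.1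
  obtain ⟨a1, a2, a3, -, -⟩ := torus_props hT.2.2.1
  haveI := a1; haveI := a2; haveI := a3
  obtain ⟨tL, htL⟩ := 𝒟.factorL T iT a1 a2 a3
  haveI : LocallyOfFiniteType H.hom := inferInstance
  haveI : QuasiCompact T.hom := quasiCompact_of_compactSpace _
  -- a closed copy of the image
  obtain ⟨T₁, g₁, p₁, i₁, hp₁, hi₁, hpi₁, hp₁f, hp₁s, hp₁l, hi₁c⟩ := Groth.L08.AbelianGrp.exists_image (iT ≫ v)
  haveI := hp₁; haveI := hi₁; haveI := hp₁f; haveI := hp₁s; haveI := hp₁l; haveI := hi₁c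
  haveI : Mono i₁ := Groth.L08.mono_of_closedImmersion i₁
  haveI : LocallyOfFiniteType T₁.hom := by rw [← Over.w i₁]; infer_instance
  haveI : Smooth T₁.hom := Groth.L19.AlgGrpBasic.smooth_of_cover p₁
  haveI : IsReduced T₁.left := Groth.Agent.AV.isReduced_of_smooth_field T₁.hom
  haveI : IsReduced T.left := Groth.Agent.AV.isReduced_of_smooth_field T.hom
  haveI : LocallyOfFiniteType T.hom := inferInstance
  obtain ⟨s₁, hs₁⟩ := factor_of_pts i₁ ℰ.l fun y => by
    obtain ⟨w, hw⟩ := exists_pt_lift p₁ y (p₁.left.surjective _)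
    exact ⟨w ≫ tL ≫ z, by rw [Category.assoc, Category.assoc, hzl, reassoc_of% htL, ← hpi₁, reassoc_of% hw]⟩
  haveI : IsMonHom s₁ := isMonHom_of_comp_mono s₁ ℰ.l i₁ hs₁
  haveI : IsClosedImmersion (s₁.left ≫ ℰ.l.left) := by rw [← Over.comp_left, hs₁]; infer_instance
  haveI : IsClosedImmersion s₁.left := IsClosedImmersion.of_comp s₁.left ℰ.l.left
  have hmax₁ : AGF.IsMaxTorus s₁ := isMaxTorus_of_image z (isMaxTorus_factor (iB := 𝒟.l) (htL.symm ▸ hT)) s₁ p₁ (by
    rw [← cancel_mono ℰ.l, Category.assoc, hs₁, hpi₁, Category.assoc, hzl, reassoc_of% htL])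
  have hmaxi : AGF.IsMaxTorus i₁ := by
    refine ⟨hi₁, inferInstance, hmax₁.2.2.1, fun S _ j _ _ f hS hf => ?_⟩
    obtain ⟨b1, b2, b3, -, -⟩ := torus_props hS
    obtain ⟨w, hw⟩ := ℰ.factorL S j b1 b2 b3
    haveI : IsMonHom w := isMonHom_of_comp_mono w ℰ.l j hw
    haveI : Mono w := by haveI : Mono (w ≫ ℰ.l) := hw.symm ▸ inferInstance; exact mono_of_mono w ℰ.l
    exact hmax₁.2.2.2 S w f hS (by rw [← cancel_mono ℰ.l, Category.assoc, hw, hf, hs₁])
  -- both images agree
  have hpp : ∀ {W : Over (Spec (CommRingCat.of k))} (a b : W ⟶ T), a ≫ p = b ≫ p ↔ a ≫ p₁ = b ≫ p₁ :=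
    fun {W} a b => by
      rw [← cancel_mono iT', ← cancel_mono i₁, Category.assoc, Category.assoc, Category.assoc, Category.assoc, hp, hpi₁]
  haveI : QuasiCompact p.left := by
    haveI : CompactSpace T.left := inferInstance
    haveI : IsSeparated T'.hom := Groth.L08.AbelianGrp.isSeparated T'
    haveI : QuasiCompact (p.left ≫ T'.hom) := by rw [Over.w p]; infer_instance
    exact QuasiCompact.of_comp p.left T'.hom
  obtain ⟨e, he⟩ := Groth.L08.AffHull.exists_desc_cover p₁ p fun a b h => (hpp a b).2 h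
  obtain ⟨e', he'⟩ := exists_desc_fpqc p p₁ fun a b h => (hpp a b).1 h
  haveI : Epi p.left := Flat.epi_of_flat_of_surjective p.left
  haveI : Epi p := Over.epi_of_epi_left p
  haveI : Epi p₁ := Groth.L08.GQuot.epi_of_cover p₁
  haveI : IsIso e' := ⟨e, by rw [← cancel_epi p, reassoc_of% he', he, Category.comp_id],
    by rw [← cancel_epi p₁, reassoc_of% he, he', Category.comp_id]⟩
  haveI : IsIso e'.left := inferInstanceAs (IsIso ((Over.forget _).map e'))
  have hei : e' ≫ i₁ = iT' := by rw [← cancel_epi p, reassoc_of% he', hpi₁, hp]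
  haveI : IsMonHom e' := isMonHom_of_comp_mono e' i₁ iT' hei
  refine ⟨⟨‹_›, ‹_›, ?_, fun S _ j _ _ f hS hf => ?_⟩, ?_, ?_⟩
  · exact Groth.L25.TorLift.isTorus_of_iso (Grp.mkIso' (asIso e')).symm hmax₁.2.2.1
  · haveI : IsIso (inv e' ≫ f) := hmaxi.2.2.2 S j (inv e' ≫ f) hS (by rw [Category.assoc, hf, ← hei, IsIso.inv_hom_id_assoc])
    exact IsIso.of_isIso_comp_left (inv e') f
  · rw [← hei]; exact inferInstanceAs (IsClosedImmersion (e'.left ≫ i₁.left))
  · rw [← Over.w e']; infer_instance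

/-- a monic faithfully flat image agrees with the closed image -/
theorem exists_iso_image {A B B₁ : Over (Spec (CommRingCat.of k))} [GrpObj B] [CompactSpace A.left]
    (p : A ⟶ B) [Surjective p.left] [Flat p.left] (p₁ : A ⟶ B₁) [Surjective p₁.left] [Flat p₁.left]
    [QuasiCompact p₁.left] (i : B ⟶ H) [Mono i] (i₁ : B₁ ⟶ H) [Mono i₁] (h : p ≫ i = p₁ ≫ i₁) :
    ∃ e : B ≅ B₁, e.hom ≫ i₁ = i ∧ p ≫ e.hom = p₁ := by
  haveI : IsSeparated B.hom := Groth.L08.AbelianGrp.isSeparated B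
  haveI : QuasiCompact p.left := by
    haveI : QuasiCompact (p.left ≫ B.hom) := by rw [Over.w p]; exact quasiCompact_of_compactSpace _
    exact QuasiCompact.of_comp p.left B.hom
  have hpp : ∀ {W : Over (Spec (CommRingCat.of k))} (a b : W ⟶ A), a ≫ p = b ≫ p ↔ a ≫ p₁ = b ≫ p₁ :=
    fun {W} a b => by
      rw [← cancel_mono i, ← cancel_mono i₁, Category.assoc, Category.assoc, Category.assoc, Category.assoc, h]
  obtain ⟨e, he⟩ := exists_desc_fpqc p p₁ fun a b e => (hpp a b).1 e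
  obtain ⟨e', he'⟩ := exists_desc_fpqc p₁ p fun a b e => (hpp a b).2 e
  haveI : Epi p.left := Flat.epi_of_flat_of_surjective p.left
  haveI : Epi p := Over.epi_of_epi_left p
  haveI : Epi p₁.left := Flat.epi_of_flat_of_surjective p₁.left
  haveI : Epi p₁ := Over.epi_of_epi_left p₁
  exact ⟨⟨e, e', by rw [← cancel_epi p, reassoc_of% he, he', Category.comp_id],
    by rw [← cancel_epi p₁, reassoc_of% he', he, Category.comp_id]⟩,
    by show e ≫ i₁ = i; rw [← cancel_epi p, reassoc_of% he, h], he⟩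

/-- points centralizing the image of a maximal torus lift to points centralizing it -/
theorem exists_lift_centralizing_gen {T T' : Over (Spec (CommRingCat.of k))} [GrpObj T] [GrpObj T'] {iT : T ⟶ G}
    (hT : AGF.IsMaxTorus iT) (iT' : T' ⟶ H) [IsMonHom iT'] [IsClosedImmersion iT'.left] [Smooth T'.hom]
    (p : T ⟶ T') [Surjective p.left] (hp : p ≫ iT' = iT ≫ v) (h : U1 ⟶ H)
    (hh : ∀ y : U1 ⟶ T', h * (y ≫ iT') = (y ≫ iT') * h) :
    ∃ g : U1 ⟶ G, g ≫ v = h ∧ ∀ s : U1 ⟶ T, g * (s ≫ iT) = (s ≫ iT) * g := by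
  obtain ⟨𝒟⟩ := exists_genData G
  obtain ⟨ℰ⟩ := exists_genData H
  letI := 𝒟.grpL; letI := ℰ.grpL; letI := 𝒟.grpD
  haveI := 𝒟.affL; haveI := 𝒟.smL; haveI := 𝒟.connL; haveI := 𝒟.homl; haveI := 𝒟.cll
  haveI := ℰ.affL; haveI := ℰ.smL; haveI := ℰ.connL; haveI := ℰ.homl; haveI := ℰ.cll
  haveI : Mono 𝒟.l := Groth.L08.mono_of_closedImmersion 𝒟.l
  haveI : Mono ℰ.l := Groth.L08.mono_of_closedImmersion ℰ.l
  obtain ⟨z, hz, hzs, hzl⟩ := exists_surjective_affPart v 𝒟 ℰ
  haveI := hz; haveI := hzs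
  haveI := hT.1; haveI := hT.2.1
  haveI : LocallyOfFiniteType G.hom := inferInstance
  haveI : LocallyOfFiniteType H.hom := inferInstance
  obtain ⟨a1, a2, a3, -, -⟩ := torus_props hT.2.2.1
  haveI := a1; haveI := a2; haveI := a3
  haveI : LocallyOfFiniteType T.hom := inferInstance
  haveI : LocallyOfFiniteType T'.hom := inferInstance
  haveI : IsReduced T'.left := Groth.Agent.AV.isReduced_of_smooth_field T'.hom
  obtain ⟨tL, htL⟩ := 𝒟.factorL T iT a1 a2 a3
  obtain ⟨t', ht'⟩ := factor_of_pts iT' ℰ.l fun y => by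
    obtain ⟨w, hw⟩ := exists_pt_lift p y (p.left.surjective _)
    exact ⟨w ≫ tL ≫ z, by rw [Category.assoc, Category.assoc, hzl, reassoc_of% htL, ← hp, reassoc_of% hw]⟩
  haveI : IsMonHom t' := isMonHom_of_comp_mono t' ℰ.l iT' ht'
  haveI : IsClosedImmersion (t'.left ≫ ℰ.l.left) := by rw [← Over.comp_left, ht']; infer_instance
  haveI : IsClosedImmersion t'.left := IsClosedImmersion.of_comp t'.left ℰ.l.left
  obtain ⟨g₀, hg₀⟩ := exists_pt_lift v h (v.left.surjective _)
  obtain ⟨a, d, hgd⟩ := exists_decomp 𝒟 g₀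
  have hcomm : ∀ x : U1 ⟶ H, (d ≫ 𝒟.κ ≫ v) * x = x * (d ≫ 𝒟.κ ≫ v) := fun x => by
    obtain ⟨x', hx'⟩ := exists_pt_lift v x (v.left.surjective _)
    have := congrArg (· ≫ v) (𝒟.central U1 d x')
    simpa only [MonObj.mul_comp, Category.assoc, hx'] using this
  obtain ⟨l, hl, hls⟩ := exists_lift_centralizing z (isMaxTorus_factor (iB := 𝒟.l) (htL.symm ▸ hT)) t' p (by
    rw [← cancel_mono ℰ.l, Category.assoc, ht', hp, Category.assoc, hzl, reassoc_of% htL]) (a ≫ z) fun y => by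
    rw [← cancel_mono ℰ.l]
    simp only [MonObj.mul_comp, Category.assoc, hzl, ht']
    have h1 := hh y
    have h2 : h = (a ≫ 𝒟.l ≫ v) * (d ≫ 𝒟.κ ≫ v) := by
      rw [← hg₀, hgd, MonObj.mul_comp, Category.assoc, Category.assoc]
    have h3 := hcomm (y ≫ iT')
    rw [h2, _root_.mul_assoc, h3, ← _root_.mul_assoc, ← _root_.mul_assoc] at h1
    exact mul_right_cancel h1
  refine ⟨(l ≫ 𝒟.l) * (d ≫ 𝒟.κ), ?_, fun s => ?_⟩
  · rw [MonObj.mul_comp, Category.assoc, ← hzl, reassoc_of% hl, ← hg₀, hgd, MonObj.mul_comp, Category.assoc a 𝒟.l,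
      hzl]
  · have h1 := congrArg (· ≫ 𝒟.l) (hls s)
    simp only [MonObj.mul_comp, Category.assoc, htL] at h1
    rw [_root_.mul_assoc, 𝒟.central U1 d (s ≫ iT), ← _root_.mul_assoc, h1, _root_.mul_assoc]

/-- **The image of the centralizer of a maximal torus is the centralizer of its image.** -/
theorem isCentralizerOf_image {T C T' C' : Over (Spec (CommRingCat.of k))} [GrpObj T] [GrpObj C] [GrpObj T']
    [GrpObj C'] {iT : T ⟶ G} (hT : AGF.IsMaxTorus iT) {c : C ⟶ G} (hC : Red.IsCentralizerOf iT c)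
    (iT' : T' ⟶ H) [IsMonHom iT'] [Mono iT'] (p : T ⟶ T') [IsMonHom p] [Surjective p.left] [Flat p.left]
    (hp : p ≫ iT' = iT ≫ v) (c' : C' ⟶ H) [IsMonHom c'] [Mono c'] (w : C ⟶ C') [Flat w.left] [Surjective w.left]
    (hw : w ≫ c' = c ≫ v) : Red.IsCentralizerOf iT' c' := by
  obtain ⟨hT', hT'c, hT's⟩ := isMaxTorus_image_gen v hT iT' p hp
  haveI := hT'c; haveI := hT's
  haveI := hT.1; haveI := hT.2.1
  haveI : LocallyOfFiniteType G.hom := inferInstance
  haveI : LocallyOfFiniteType H.hom := inferInstance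
  haveI : IsSeparated H.hom := Groth.L08.AbelianGrp.isSeparated H
  haveI : IsReduced T'.left := Groth.Agent.AV.isReduced_of_smooth_field T'.hom
  obtain ⟨a1, a2, a3, -, -⟩ := torus_props hT.2.2.1
  haveI := a2
  haveI : LocallyOfFiniteType T.hom := inferInstance
  -- a good model of the centralizer
  obtain ⟨C₀, g₀, c₀, hc₀, hc₀c, hc₀s, -⟩ := exists_centralizer_gen iT hT.2.2.1
  haveI := hC.1; haveI := hC.2.1; haveI := hc₀.1; haveI := hc₀.2.1; haveI := hc₀c; haveI := hc₀s
  obtain ⟨f, hf⟩ := (hc₀.2.2 C c).2 fun X' x h => (hC.2.2 C c).1 ⟨𝟙 C, Category.id_comp c⟩ X' x h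
  obtain ⟨f', hf'⟩ := (hC.2.2 C₀ c₀).2 fun X' x h => (hc₀.2.2 C₀ c₀).1 ⟨𝟙 C₀, Category.id_comp c₀⟩ X' x h
  haveI : IsIso f' := ⟨f, by rw [← cancel_mono c₀, Category.assoc, hf, hf', Category.id_comp],
    by rw [← cancel_mono c, Category.assoc, hf', hf, Category.id_comp]⟩
  haveI : IsIso f'.left := inferInstanceAs (IsIso ((Over.forget _).map f'))
  haveI : IsMonHom f' := isMonHom_of_comp_mono f' c c₀ hf'
  haveI : QuasiCompact C₀.hom := by rw [← Over.w c₀]; infer_instance
  haveI : CompactSpace C₀.left := QuasiCompact.compactSpace_of_compactSpace C₀.hom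
  haveI : Flat (f' ≫ w).left := inferInstanceAs (Flat (f'.left ≫ w.left))
  haveI : Surjective (f' ≫ w).left := inferInstanceAs (Surjective (f'.left ≫ w.left))
  -- its image
  obtain ⟨C₁, g₁, p₁, i₁, hp₁, hi₁, hpi₁, hp₁f, hp₁s, hp₁l, hi₁c⟩ := Groth.L08.AbelianGrp.exists_image (c₀ ≫ v)
  haveI := hp₁; haveI := hi₁; haveI := hp₁f; haveI := hp₁s; haveI := hp₁l; haveI := hi₁c
  haveI : Mono i₁ := Groth.L08.mono_of_closedImmersion i₁
  haveI : LocallyOfFiniteType C₁.hom := by rw [← Over.w i₁]; infer_instance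
  haveI : LocallyOfFiniteType C₀.hom := inferInstance
  haveI : Smooth C₁.hom := Groth.L19.AlgGrpBasic.smooth_of_cover p₁
  haveI : IsReduced C₁.left := Groth.Agent.AV.isReduced_of_smooth_field C₁.hom
  haveI : IsSeparated C₁.hom := Groth.L08.AbelianGrp.isSeparated C₁
  haveI : QuasiCompact p₁.left := by
    haveI : QuasiCompact (p₁.left ≫ C₁.hom) := by rw [Over.w p₁]; infer_instance
    exact QuasiCompact.of_comp p₁.left C₁.hom
  obtain ⟨e, he, -⟩ := exists_iso_image (f' ≫ w) p₁ c' i₁ (by rw [Category.assoc, hw, reassoc_of% hf', hpi₁])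
  -- the centralizer of the image torus
  obtain ⟨Z, gZ, zc, hzc, hzcc, hzs, -⟩ := exists_centralizer_gen iT' hT'.2.2.1
  haveI := hzc.1; haveI := hzc.2.1; haveI := hzcc; haveI := hzs
  haveI : LocallyOfFiniteType Z.hom := inferInstance
  haveI : IsReduced Z.left := Groth.Agent.AV.isReduced_of_smooth_field Z.hom
  obtain ⟨φ, hφ⟩ := factor_of_pts i₁ zc fun x => by
    obtain ⟨x₀, hx₀⟩ := exists_pt_lift p₁ x (p₁.left.surjective _)
    refine (hzc.2.2 U1 _).2 fun X' q s => ?_
    have hall : (toUnit T' ≫ x ≫ i₁) * iT' = iT' * (toUnit T' ≫ x ≫ i₁) := hom_ext_pts _ _ fun y => by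
      obtain ⟨s₀, hs₀⟩ := exists_pt_lift p y (p.left.surjective _)
      have h1 := congrArg (· ≫ v) ((hc₀.2.2 U1 (x₀ ≫ c₀)).1 ⟨x₀, rfl⟩ U1 (𝟙 _) s₀)
      simp only [MonObj.mul_comp, Category.id_comp, Category.assoc, ← hpi₁, ← hp, reassoc_of% hs₀,
        reassoc_of% hx₀] at h1
      rw [MonObj.comp_mul, MonObj.comp_mul, ← Category.assoc y (toUnit T'), toUnit_unique (y ≫ toUnit T') (𝟙 _),
        Category.id_comp]
      exact h1
    have h2 := congrArg (s ≫ ·) hall
    simp only [MonObj.comp_mul, ← Category.assoc, toUnit_unique (s ≫ toUnit T') q] at h2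
    simpa only [Category.assoc] using h2
  obtain ⟨ψ, hψ⟩ := factor_of_pts zc i₁ fun x => by
    obtain ⟨g, hg, hgc⟩ := exists_lift_centralizing_gen v hT iT' p hp (x ≫ zc) fun y => by
      simpa only [Category.id_comp] using (hzc.2.2 U1 (x ≫ zc)).1 ⟨x, rfl⟩ U1 (𝟙 _) y
    haveI : IsSeparated G.hom := Groth.L08.AbelianGrp.isSeparated G
    haveI : IsReduced T.left := Groth.Agent.AV.isReduced_of_smooth_field T.hom
    obtain ⟨u, hu⟩ := (hc₀.2.2 U1 g).2 fun X' q s => by
      have hall : (toUnit T ≫ g) * iT = iT * (toUnit T ≫ g) := hom_ext_pts _ _ fun y => by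
        rw [MonObj.comp_mul, MonObj.comp_mul, ← Category.assoc y (toUnit T), toUnit_unique (y ≫ toUnit T) (𝟙 _),
          Category.id_comp]
        exact hgc y
      have h2 := congrArg (s ≫ ·) hall
      simp only [MonObj.comp_mul, ← Category.assoc, toUnit_unique (s ≫ toUnit T) q] at h2
      exact h2
    exact ⟨u ≫ p₁, by rw [Category.assoc, hpi₁, reassoc_of% hu, hg]⟩
  refine ⟨‹_›, ‹_›, fun X g => ⟨fun ⟨z, hz⟩ => (hzc.2.2 X g).1 ⟨z ≫ e.hom ≫ φ, ?_⟩, fun h => ?_⟩⟩
  · rw [Category.assoc, Category.assoc, hφ, he, hz]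
  · obtain ⟨z, hz⟩ := (hzc.2.2 X g).2 h
    exact ⟨z ≫ ψ ≫ e.inv, by rw [Category.assoc, Category.assoc, ← he, e.inv_hom_id_assoc, hψ, hz]⟩

/-- the centralizer only depends on the torus up to isomorphism -/
theorem isCentralizerOf_of_iso {T₁ T₂ C : Over (Spec (CommRingCat.of k))} {i₁ : T₁ ⟶ H} {i₂ : T₂ ⟶ H} {c : C ⟶ H}
    [GrpObj C] (e : T₁ ≅ T₂) (he : e.hom ≫ i₂ = i₁) (h : Red.IsCentralizerOf i₁ c) : Red.IsCentralizerOf i₂ c := by
  refine ⟨h.1, h.2.1, fun X g => ⟨fun hz X' x s => ?_, fun hc => (h.2.2 X g).2 fun X' x s => ?_⟩⟩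
  · have := (h.2.2 X g).1 hz X' x (s ≫ e.inv)
    simpa only [Category.assoc, ← he, e.inv_hom_id_assoc] using this
  · have := hc X' x (s ≫ e.hom)
    simpa only [Category.assoc, he] using this

end Groth.L08.Borel
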