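import Groth.Agent.L08.Borel.RedRank
import Groth.Agent.L08.Borel.SigmaSub
import Groth.Agent.L25.Extend.EtaleSplit

/-!
# Locally constant reductive rank and maximal tori
-/

set_option autoImplicit false
set_option backward.isDefEq.respectTransparency.types false
set_option linter.style.haveILetI false
universe u

open CategoryTheory CategoryTheory.Limits MonoidalCategory CartesianMonoidalCategory MonObj AlgebraicGeometry

noncomputable section

namespace Groth.L08.Borel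

section Transport

variable {k : Type u} [Field k]

/-- maximal subtori are transported by isomorphisms -/
theorem isMaxTorus_comp_iso {G G' T : Over (Spec (CommRingCat.of k))} [GrpObj G] [GrpObj G'] [GrpObj T]
    {i : T ⟶ G} (h : AGF.IsMaxTorus i) (φ : G ≅ G') [IsMonHom φ.hom] : AGF.IsMaxTorus (i ≫ φ.hom) := by
  haveI := h.1; haveI := h.2.1
  refine ⟨inferInstance, mono_comp _ _, h.2.2.1, fun T' _ j _ _ f hT' hf => ?_⟩
  haveI : IsMonHom φ.inv := inferInstance
  haveI : Mono (j ≫ φ.inv) := mono_comp _ _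
  exact h.2.2.2 T' (j ≫ φ.inv) f hT' (by rw [← Category.assoc, hf, Category.assoc, φ.hom_inv_id, Category.comp_id])

end Transport

/-- split tori stay split after base change -/
theorem isSplit_bc {S S' : Scheme.{u}} (g : S' ⟶ S) {T : Over S} [GrpObj T] {M : Type} [AddCommGroup M]
    (h : Red.IsSplitTorusWith M T) : Red.IsSplitTorusWith M (Red.bc g T) := by
  obtain ⟨e⟩ := h
  exact ⟨(Over.pullback g).mapGrp.mapIso e ≪≫ Grp.mkIso' (ActBC.bcCompIso g
    (specULiftZIsTerminal.from S) (Red.diag (ULift.{u} ℤ) M)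
      (specULiftZIsTerminal.hom_ext _ (specULiftZIsTerminal.from S')))⟩

/-- split tori are transported by isomorphisms -/
theorem isSplit_iso {S : Scheme.{u}} {T T' : Over S} [GrpObj T] [GrpObj T'] (φ : T ≅ T') [IsMonHom φ.hom]
    {M : Type} [AddCommGroup M] (h : Red.IsSplitTorusWith M T) : Red.IsSplitTorusWith M T' := by
  obtain ⟨e⟩ := h
  exact ⟨(Grp.mkIso' φ).symm ≪≫ e⟩

theorem isSplit_of_pt {P V : Scheme.{u}} (c : V ⟶ P) {D : Over P} [GrpObj D] {r : ℕ}
    (h : Red.IsSplitTorusWith (Fin r → ℤ) (Red.bc c D)) {Q : Scheme.{u}} (σ : Q ⟶ V) (b : Q ⟶ P) (hσ : σ ≫ c = b) :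
    Red.IsSplitTorusWith (Fin r → ℤ) (Red.bc b D) :=
  isSplit_iso (ActBC.bcCompIso σ c D hσ) (isSplit_bc σ h)

/-- the geometric fibre of a group split on an etale chart is split -/
theorem isSplit_geomFibre {P V : Scheme.{u}} (c : V ⟶ P) [Etale c] {D : Over P} [GrpObj D] {r : ℕ}
    (h : Red.IsSplitTorusWith (Fin r → ℤ) (Red.bc c D)) {p : P} (hp : p ∈ Set.range c.base) :
    Red.IsSplitTorusWith (Fin r → ℤ) (Red.geomFibre p D) := by
  obtain ⟨σ, hσ⟩ := exists_geomPt_lift c hp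
  exact isSplit_of_pt c h σ (Red.geomPt p) hσ

variable {S S' : Scheme.{u}} {G : Over S} [GrpObj G] [Smooth G.hom] [QuasiCompact G.hom]

/-- maximal tori at a point of a base change have the rank of the point below -/
theorem exists_maxTorus_of_rank (j : S' ⟶ S) (p : S') {m : ℕ} (h : SGA3x.HasRedRank G (j p) m) :
    ∃ (T : Over (Spec (CommRingCat.of (AlgebraicClosure (S'.residueField p))))) (_ : GrpObj T)
      (i : T ⟶ Red.geomFibre p (Red.bc j G)), AGF.IsMaxTorus i ∧ Red.IsSplitTorusWith (Fin m → ℤ) T := by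
  obtain ⟨T, gT, i, hi, n, hn, hmn⟩ := hasRedRank_iff.1 h
  obtain rfl : m = n := by exact_mod_cast hmn
  obtain ⟨θ, hθ⟩ := exists_geomPt_map j p
  haveI : Smooth (Red.geomFibre (j p) G).hom := inferInstanceAs (Smooth (pullback.snd G.hom (Red.geomPt (j p))))
  haveI : QuasiCompact (Red.geomFibre (j p) G).hom :=
    inferInstanceAs (QuasiCompact (pullback.snd G.hom (Red.geomPt (j p))))
  haveI : IsMonHom (fibreIso j θ hθ G).symm.hom := (isMonHom_fibreIso j θ hθ G).2
  exact ⟨_, inferInstance, _, isMaxTorus_comp_iso (isMaxTorus_bc_field hi θ) (fibreIso j θ hθ G).symm,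
    isSplit_bc θ hn⟩

/-- the rank of a maximal torus in the geometric fibre of a base change -/
theorem rank_eq_of_maxTorus (j : S' ⟶ S) (p : S') {m : ℕ} (h : SGA3x.HasRedRank G (j p) m)
    {T : Over (Spec (CommRingCat.of (AlgebraicClosure (S'.residueField p))))} [GrpObj T]
    {i : T ⟶ Red.geomFibre p (Red.bc j G)} (hi : AGF.IsMaxTorus i) {r : ℕ}
    (hr : Red.IsSplitTorusWith (Fin r → ℤ) T) : r = m := by
  haveI : Smooth (Red.bc j G).hom := inferInstanceAs (Smooth (pullback.snd G.hom j))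
  haveI : QuasiCompact (Red.bc j G).hom := inferInstanceAs (QuasiCompact (pullback.snd G.hom j))
  haveI : Smooth (Red.geomFibre p (Red.bc j G)).hom :=
    inferInstanceAs (Smooth (pullback.snd (Red.bc j G).hom (Red.geomPt p)))
  haveI : QuasiCompact (Red.geomFibre p (Red.bc j G)).hom :=
    inferInstanceAs (QuasiCompact (pullback.snd (Red.bc j G).hom (Red.geomPt p)))
  obtain ⟨T', gT', i', hi', hr'⟩ := exists_maxTorus_of_rank j p h
  exact maxTorus_rank_eq hi hi' hr hr'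

/-- a subtorus of the rank of the group is maximal -/
theorem isMaximalTorus_of_ranks (e : S' ⟶ S) {T : Over S'} [GrpObj T] (i : T ⟶ Red.bc e G) [IsMonHom i] [Mono i]
    (hT : Red.IsTorus T)
    (h : ∀ p : S', ∃ m : ℕ, Red.IsSplitTorusWith (Fin m → ℤ) (Red.geomFibre p T) ∧ SGA3x.HasRedRank G (e p) m) :
    Red.IsMaximalTorus i := by
  refine ⟨inferInstance, inferInstance, hT, fun p T' _ j _ _ f hT' hf => ?_⟩
  obtain ⟨m, hm, hrk⟩ := h p
  obtain ⟨m', hm'⟩ := exists_split_rank hT'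
  haveI : Smooth (Red.bc e G).hom := inferInstanceAs (Smooth (pullback.snd G.hom e))
  haveI : QuasiCompact (Red.bc e G).hom := inferInstanceAs (QuasiCompact (pullback.snd G.hom e))
  haveI : Smooth (Red.geomFibre p (Red.bc e G)).hom :=
    inferInstanceAs (Smooth (pullback.snd (Red.bc e G).hom (Red.geomPt p)))
  haveI : QuasiCompact (Red.geomFibre p (Red.bc e G)).hom :=
    inferInstanceAs (QuasiCompact (pullback.snd (Red.bc e G).hom (Red.geomPt p)))
  haveI : IsMonHom ((Over.pullback (Red.geomPt p)).map i) := Groth.L25.MonoClosed.isMonHom_pullbackMap _ _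
  haveI : Mono ((Over.pullback (Red.geomPt p)).map i) := Functor.map_mono _ _
  haveI : IsMonHom f := isMonHom_of_comp_mono f j _ hf
  haveI : Mono f := by haveI : Mono (f ≫ j) := hf.symm ▸ inferInstance; exact mono_of_mono f j
  obtain ⟨q, q', hq, -, -, -, hqi⟩ := Groth.L25.SplitSub.exists_std hm'
  haveI := hq; haveI := hqi
  obtain ⟨U, gU, iU, hU, r, hr, hle⟩ := exists_maxTorus_rank_ge (q ≫ j)
  obtain rfl := rank_eq_of_maxTorus e p hrk hU hr
  exact isIso_of_rank_le f hm hm' hle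

/-- torus data split over a cover -/
theorem isTorus_of_openCover {P : Scheme.{u}} {D : Over P} [GrpObj D]
    (h : ∀ x : P, ∃ (V : Scheme.{u}) (c : V ⟶ P), IsOpenImmersion c ∧ x ∈ Set.range c.base ∧
      ∃ r : ℕ, Red.IsSplitTorusWith (Fin r → ℤ) (Red.bc c D)) : Red.IsTorus D := by
  refine ⟨P, 𝟙 P, inferInstance, inferInstance, fun V hV => ⟨V, hV.isCompact, by simp⟩, fun x => ?_⟩
  obtain ⟨V, c, hc, hx, r, hr⟩ := h x
  haveI := hc
  refine ⟨c.opensRange, hx, r, ?_⟩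
  exact isSplit_of_pt c hr c.isoOpensRange.inv _ (by rw [Category.comp_id, Scheme.Hom.isoOpensRange_inv_comp])

omit [QuasiCompact G.hom] in
theorem locally_maxTorus [IsAffineHom G.hom] (hr : SGA3x.RedRankLocallyConstant G) (s : S) :
    ∃ (V : Scheme.{u}) (e : V ⟶ S) (m : ℕ) (w : Red.DS V (Fin m → ℤ) ⟶ Red.bc e G),
      Etale e ∧ s ∈ Set.range e.base ∧ IsMonHom w ∧ Mono w ∧ ∀ q : V, SGA3x.HasRedRank G (e q) m := by
  obtain ⟨U, hs, r, hU⟩ := hr s
  obtain ⟨m, V₀, e, w, rfl, he, ⟨v, hv⟩, hwh, hwm⟩ := exists_chart_of_rank (hU s hs)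
  haveI := he; haveI := hwh; haveI := hwm
  let k : (e ⁻¹ᵁ U).toScheme ⟶ V₀ := (e ⁻¹ᵁ U).ι
  haveI : IsMonHom (Groth.L25.SplitSub.bcHom k w) := Groth.L25.SplitSub.isMonHom_bcHom k w
  haveI : Mono ((Over.pullback k).map w) := Functor.map_mono _ _
  haveI : Mono (Groth.L25.SplitSub.bcHom k w) := mono_comp _ _
  refine ⟨_, k ≫ e, m, Groth.L25.SplitSub.bcHom k w ≫ (ActBC.bcCompIso k e G rfl).hom, inferInstance,
    ⟨⟨v, ?_⟩, ?_⟩, inferInstance, mono_comp _ _, fun q => hU _ q.2⟩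
  · show e v ∈ U
    rw [show e v = s from hv]
    exact hs
  · show e v = s
    exact hv

/-- **locally constant reductive rank gives maximal tori etale locally** -/
theorem hasMaxTorusEtaleLocally [IsAffineHom G.hom] (hr : SGA3x.RedRankLocallyConstant G) :
    SGA3x.HasMaxTorusEtaleLocally G := by
  choose V e m w he hes hwh hwm hrk using locally_maxTorus hr
  let F : (∐ V) ⟶ S := Sigma.desc e
  let c : ∀ x, Red.DS (V x) (Fin (m x) → ℤ) ⟶ Red.bc (Sigma.ι V x) (Red.bc F G) := fun x =>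
    w x ≫ (ActBC.bcCompIso (Sigma.ι V x) F G (Sigma.ι_desc e x)).inv
  haveI := hwh; haveI := hwm
  obtain ⟨D, gD, d, hd, hdm, -, hiso⟩ := exists_subgroup_sigma (Red.bc F G) (fun x => Red.DS (V x) (Fin (m x) → ℤ)) c
    (fun x => inferInstanceAs (IsMonHom (_ ≫ _))) (fun x => mono_comp _ _)
  haveI := hd; haveI := hdm
  have hsplit : ∀ x, Red.IsSplitTorusWith (Fin (m x) → ℤ) (Red.bc (Sigma.ι V x) D) := fun x => by
    obtain ⟨φ, hφ, -⟩ := hiso x
    haveI := hφ
    exact ⟨Grp.mkIso' φ⟩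
  have hcov : ∀ p : ↥(∐ V), ∃ x, p ∈ Set.range (Sigma.ι V x).base := fun p => by
    obtain ⟨i, y, hy⟩ := (sigmaOpenCover V).exists_eq p
    exact ⟨i, y, hy⟩
  refine ⟨∐ V, F, IsZariskiLocalAtSource.sigmaDesc (P := @Etale) he, ⟨fun s => ?_⟩, D, gD, d, ?_⟩
  · obtain ⟨q, hq⟩ := hes s
    exact ⟨Sigma.ι V s q, by rw [← Scheme.Hom.comp_apply, Sigma.ι_desc]; exact hq⟩
  refine isMaximalTorus_of_ranks F d (isTorus_of_openCover fun p => ?_) fun p => ?_
  · obtain ⟨x, hx⟩ := hcov p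
    exact ⟨V x, Sigma.ι V x, inferInstance, hx, m x, hsplit x⟩
  · obtain ⟨x, q, hq⟩ := hcov p
    refine ⟨m x, isSplit_geomFibre (Sigma.ι V x) (hsplit x) ⟨q, hq⟩, ?_⟩
    rw [← show Sigma.ι V x q = p from hq, ← Scheme.Hom.comp_apply, Sigma.ι_desc]
    exact hrk x q

/-- every geometric fibre has a reductive rank -/
theorem exists_redRank (t : S) : ∃ m : ℕ, SGA3x.HasRedRank G t m := by
  haveI : Smooth (Red.geomFibre t G).hom := inferInstanceAs (Smooth (pullback.snd G.hom (Red.geomPt t)))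
  haveI : QuasiCompact (Red.geomFibre t G).hom := inferInstanceAs (QuasiCompact (pullback.snd G.hom (Red.geomPt t)))
  haveI : LocallyOfFiniteType (Red.geomFibre t G).hom := inferInstance
  obtain ⟨G₀, g₀, j, hj⟩ := Groth.L08.Chev.exists_idComp (Red.geomFibre t G)
  haveI := hj.smooth; haveI := hj.connectedSpace; haveI := hj.quasiCompact
  obtain ⟨T, gT, i, hi⟩ := exists_maxTorus_gen G₀
  obtain ⟨m, hm⟩ := exists_split_rank hi.2.2.1
  exact ⟨m, hasRedRank_iff.2 ⟨T, gT, _, isMaxTorus_comp_idComp hj hi, m, hm, rfl⟩⟩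

/-- **maximal tori etale locally give locally constant reductive rank** -/
theorem redRankLocallyConstant_of_etale (h : SGA3x.HasMaxTorusEtaleLocally G) : SGA3x.RedRankLocallyConstant G := by
  obtain ⟨S₁, f, hf, hfs, T, gT, i, hi⟩ := h
  haveI := hf
  intro s
  obtain ⟨s₁, hs₁⟩ := hfs.surj s
  obtain ⟨S₂, g, hg, ⟨s₂, hs₂⟩, M, _, -, ⟨eM⟩⟩ :=
    Groth.L25.Extend.exists_etale_split (Groth.L25.Locus.isMultTypeFT_of_isTorus hi.2.2.1) s₁
  haveI : Etale g := hg
  obtain ⟨σ, hσ⟩ := exists_geomPt_lift g ⟨s₂, hs₂⟩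
  obtain ⟨r, ⟨er⟩⟩ := exists_split_rank (Groth.L25.Locus.isTorus_bc hi.2.2.1 (Red.geomPt s₁))
  obtain ⟨φ⟩ := Groth.L25.TorLift.addEquiv_of_ds ((Groth.L25.TrivLocus.restrictIso g σ eM hσ).symm ≪≫ er)
  have hsplit : Red.IsSplitTorusWith (Fin r → ℤ) (Red.bc g T) :=
    ⟨eM ≪≫ Groth.L25.TorLift.dsCongr _ φ⟩
  refine ⟨⟨Set.range (g ≫ f).base, (g ≫ f).isOpenMap.isOpen_range⟩, ⟨s₂, ?_⟩, (r : ℕ), ?_⟩
  · rw [Scheme.Hom.comp_apply, show g s₂ = s₁ from hs₂]
    exact hs₁
  rintro t ⟨q, rfl⟩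
  obtain ⟨m, hm⟩ := exists_redRank (G := G) (f (g q))
  have hmax : AGF.IsMaxTorus ((Over.pullback (Red.geomPt (g q))).map i) := by
    haveI := hi.1; haveI := hi.2.1
    exact ⟨Groth.L25.MonoClosed.isMonHom_pullbackMap _ _, Functor.map_mono _ _,
      Groth.L25.Locus.isTorus_bc hi.2.2.1 _, fun T₁ _ b _ _ a h₁ ha => hi.2.2.2 (g q) T₁ b a h₁ ha⟩
  obtain rfl := rank_eq_of_maxTorus f (g q) hm hmax (isSplit_geomFibre g hsplit ⟨q, rfl⟩)
  show SGA3x.HasRedRank G ((g ≫ f) q) r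
  rwa [Scheme.Hom.comp_apply]

end Groth.L08.Borel
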