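import Groth.Agent.L08.Borel.BorelPreimage
import Groth.Agent.L08.Borel.GenImage
import Groth.Agent.L08.Borel.RedRankTorus

/-!
# Preimages of subgroups containing Cartan subgroups under homomorphisms with central kernel
-/

set_option autoImplicit false
set_option backward.isDefEq.respectTransparency.types false
set_option linter.style.haveILetI false
set_option linter.unusedSectionVars false
universe u

open CategoryTheory CategoryTheory.Limits MonoidalCategory CartesianMonoidalCategory MonObj AlgebraicGeometry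

noncomputable section

namespace Groth.L08.Borel

section Field

variable {k : Type u} [Field k] [IsAlgClosed k] {G G' : Over (Spec (CommRingCat.of k))} [GrpObj G] [GrpObj G']
  [Smooth G.hom] [QuasiCompact G.hom] [ConnectedSpace G.left] [Smooth G'.hom] [QuasiCompact G'.hom]
  [ConnectedSpace G'.left]

local notation "U1" => 𝟙_ (Over (Spec (CommRingCat.of k)))

/-- Cartan subgroups lift along a surjection with central kernel -/
theorem exists_cartan_over (u : G ⟶ G') [IsMonHom u] [Surjective u.left]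
    (hker : ∀ (X : Over (Spec (CommRingCat.of k))) (z : X ⟶ G), z ≫ u = 1 →
      ∀ (X' : Over (Spec (CommRingCat.of k))) (x : X' ⟶ X) (g : X' ⟶ G), (x ≫ z) * g = g * (x ≫ z))
    {C' : Over (Spec (CommRingCat.of k))} [GrpObj C'] {c' : C' ⟶ G'} (hC' : SGA3x.IsCartanOver k c') :
    ∃ (C : Over (Spec (CommRingCat.of k))) (_ : GrpObj C) (c : C ⟶ G), SGA3x.IsCartanOver k c ∧
      IsMonHom c ∧ IsClosedImmersion c.left ∧ Smooth C.hom ∧ ConnectedSpace C.left ∧ KerLe u c ∧
      ∃ w, w ≫ c' = c ≫ u := by
  obtain ⟨hc'm, hc'mono, T', gT', i', hi', hc'⟩ := hC'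
  have hT' := isMaxTorus_of_isMaximalTorus hi'
  haveI := hT'.1; haveI := hT'.2.1; haveI := hc'm
  haveI : LocallyOfFiniteType G.hom := inferInstance
  haveI : LocallyOfFiniteType G'.hom := inferInstance
  obtain ⟨T, gT, iT, hT⟩ := exists_maxTorus_gen G
  haveI := hT.1; haveI := hT.2.1
  haveI : IsAffine T.left := (torus_props hT.2.2.1).1
  haveI : QuasiCompact T.hom := quasiCompact_of_compactSpace _
  haveI : Smooth T.hom := (torus_props hT.2.2.1).2.1
  obtain ⟨T'', gT'', p, i'', hp, hi'', hpi, hpf, hps, hplfp, hic⟩ := Groth.L08.AbelianGrp.exists_image (iT ≫ u)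
  haveI := hp; haveI := hi''; haveI := hpf; haveI := hps; haveI := hplfp; haveI := hic
  haveI : Mono i'' := Groth.L08.mono_of_closedImmersion i''
  obtain ⟨hT'', -, -⟩ := isMaxTorus_image_gen (v := u) hT i'' p hpi
  obtain ⟨g', f, hf⟩ := exists_maxTorus_conj_gen hT'' hT'
  obtain ⟨g, rfl⟩ := exists_pt_lift u g' (u.left.surjective _)
  obtain ⟨σ, hσ⟩ := exists_conjIso g
  haveI : IsMonHom σ.hom := by
    have h := hσ (𝟙 G)
    rw [Category.id_comp] at h
    rw [h]
    exact isMonHom_conjBy g (𝟙 G)
  have h₁ : AGF.IsMaxTorus (iT ≫ σ.hom) := isMaxTorus_comp_iso hT σ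
  haveI := h₁.1; haveI := h₁.2.1
  obtain ⟨C, gC, c, hc, hcc, hCs, hCc⟩ := exists_centralizer_gen (iT ≫ σ.hom) h₁.2.2.1
  haveI := hc.1; haveI := hc.2.1
  have hp₁ : (p ≫ f.hom) ≫ i' = (iT ≫ σ.hom) ≫ u := by
    rw [Category.assoc, hf, hσ]
    simp only [AGF.conjBy, MonObj.comp_mul, GrpObj.comp_inv, MonObj.mul_comp, GrpObj.inv_comp, hpi,
      Category.assoc]
    rw [← Category.assoc p, comp_toUnit]
  refine ⟨C, gC, c, ⟨hc.1, hc.2.1, T, gT, iT ≫ σ.hom, isMaximalTorus_of_isMaxTorus h₁, hc⟩, hc.1, hcc, hCs, hCc,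
    fun X z hz => (hc.2.2 X z).2 fun X' x h => hker X z hz X' x _, ?_⟩
  refine (hc'.2.2 C (c ≫ u)).2 fun X' x h => ?_
  -- lift the point of the torus locally
  haveI : IsIso f.hom.left := inferInstanceAs (IsIso ((Over.forget _).map f.hom))
  haveI : Flat (p ≫ f.hom).left := inferInstanceAs (Flat (p.left ≫ f.hom.left))
  haveI : Surjective (p ≫ f.hom).left := inferInstanceAs (Surjective (p.left ≫ f.hom.left))
  haveI : LocallyOfFinitePresentation (p ≫ f.hom).left :=
    inferInstanceAs (LocallyOfFinitePresentation (p.left ≫ f.hom.left))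
  obtain ⟨Q, q, t, hq₁, hq₂, hq₃, ht⟩ := exists_cover (p ≫ f.hom) h
  haveI : Epi q.left := Flat.epi_of_flat_of_surjective q.left
  haveI : Epi q := Over.epi_of_epi_left q
  have hcomm := (hc.2.2 C c).1 ⟨𝟙 C, Category.id_comp c⟩ Q (q ≫ x) t
  have e : q ≫ h ≫ i' = (t ≫ (iT ≫ σ.hom)) ≫ u := by
    rw [← Category.assoc, ← ht, Category.assoc, hp₁]
    simp only [Category.assoc]
  rw [← cancel_epi q, MonObj.comp_mul, MonObj.comp_mul, e]
  simp only [← Category.assoc] at hcomm ⊢
  rw [← MonObj.mul_comp, ← MonObj.mul_comp, hcomm]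

/-- **preimages of subgroups containing a Cartan subgroup** -/
theorem preimage_props (u : G ⟶ G') [IsMonHom u] [Surjective u.left]
    (hker : ∀ (X : Over (Spec (CommRingCat.of k))) (z : X ⟶ G), z ≫ u = 1 →
      ∀ (X' : Over (Spec (CommRingCat.of k))) (x : X' ⟶ X) (g : X' ⟶ G), (x ≫ z) * g = g * (x ≫ z))
    {H' : Over (Spec (CommRingCat.of k))} [GrpObj H'] [Smooth H'.hom] [QuasiCompact H'.hom] (h' : H' ⟶ G')
    [IsMonHom h'] [Mono h']
    (hC : ∃ (C' : Over (Spec (CommRingCat.of k))) (_ : GrpObj C') (c' : C' ⟶ H'), SGA3x.IsCartanOver k (c' ≫ h'))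
    {P : Over (Spec (CommRingCat.of k))} (π : P ⟶ H') (j : P ⟶ G) (sq : IsPullback π j h' u) :
    Smooth P.hom ∧
      (∃ (C : Over (Spec (CommRingCat.of k))) (_ : GrpObj C) (c : C ⟶ P), SGA3x.IsCartanOver k (c ≫ j)) ∧
      (ConnectedSpace H'.left → ConnectedSpace P.left) := by
  haveI : LocallyOfFiniteType H'.hom := inferInstance
  haveI : LocallyOfFiniteType G.hom := inferInstance
  haveI : LocallyOfFiniteType G'.hom := inferInstance
  haveI : IsReduced H'.left := Groth.Agent.AV.isReduced_of_smooth_field H'.hom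
  obtain ⟨gP, hfst, hsnd⟩ := exists_grpObj_preimage u h'
  letI := gP
  haveI := hfst; haveI := hsnd
  let e : P ≅ pullback u h' := sq.flip.isoPullback
  have he₁ : e.hom ≫ pullback.fst u h' = j := sq.flip.isoPullback_hom_fst
  haveI : IsSeparated G'.hom := Groth.L08.AbelianGrp.isSeparated G'
  haveI : QuasiCompact h'.left := by
    haveI : QuasiCompact (h'.left ≫ G'.hom) := by rw [Over.w h']; infer_instance
    exact QuasiCompact.of_comp h'.left G'.hom
  haveI : IsClosedImmersion h'.left := Groth.L08.MonoClosed.isClosedImmersion_of_field h'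
  haveI : IsClosedImmersion (pullback.fst u h').left :=
    MorphismProperty.of_isPullback (P := @IsClosedImmersion)
      ((IsPullback.of_hasPullback u h').map (Over.forget _)).flip ‹_›
  haveI : Surjective (pullback.snd u h').left :=
    MorphismProperty.of_isPullback (P := @Surjective) ((IsPullback.of_hasPullback u h').map (Over.forget _)) ‹_›
  haveI : Mono (pullback.fst u h') := Groth.L08.mono_of_closedImmersion _
  haveI : LocallyOfFiniteType (pullback u h').hom := by rw [← Over.w (pullback.fst u h')]; infer_instance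
  haveI : QuasiCompact (pullback u h').hom := by rw [← Over.w (pullback.fst u h')]; infer_instance
  obtain ⟨Pr, gPr, jr, hjm, hjc, hPs, hjs, hPfac⟩ := exists_red_subgroup (pullback u h')
  haveI := hjm; haveI := hjc; haveI := hPs; haveI := hjs
  haveI : Mono jr := Groth.L08.mono_of_closedImmersion jr
  haveI : LocallyOfFiniteType Pr.hom := inferInstance
  haveI : QuasiCompact Pr.hom := by rw [← Over.w jr]; infer_instance
  obtain ⟨C', gC', c', hc'⟩ := hC
  obtain ⟨C, gC, c, hcC, hcm, hcc, hCs, hCc, hCK, w, hw⟩ := exists_cartan_over u hker hc'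
  haveI := hcm; haveI := hcc; haveI := hCs; haveI := hCc
  let cP : C ⟶ pullback u h' := pullback.lift c (w ≫ c') (by rw [Category.assoc, hw])
  have hcP : cP ≫ pullback.fst u h' = c := pullback.lift_fst _ _ _
  obtain ⟨cr, hcr⟩ := hPfac C cP (Groth.Agent.AV.isReduced_of_smooth_field C.hom)
  let jG : Pr ⟶ G := jr ≫ pullback.fst u h'
  let p₁ : Pr ⟶ H' := jr ≫ pullback.snd u h'
  haveI : IsMonHom jG := inferInstanceAs (IsMonHom (jr ≫ pullback.fst u h'))
  haveI : Mono jG := mono_comp _ _
  haveI : IsMonHom p₁ := inferInstanceAs (IsMonHom (jr ≫ pullback.snd u h'))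
  haveI : Surjective p₁.left := inferInstanceAs (Surjective (jr.left ≫ (pullback.snd u h').left))
  haveI : Flat p₁.left := Groth.L08.FlatHom.flat_of_surjective Pr H' p₁
  haveI : LocallyOfFinitePresentation p₁.left := Groth.L08.ChevPerf.lfp_left p₁
  have hcrG : cr ≫ jG = c := by simp only [jG, reassoc_of% hcr, hcP]
  have sqr : IsPullback jG p₁ u h' := isPullback_of_kerLe u jG h' p₁
    (by simp only [jG, p₁, Category.assoc, pullback.condition])
    (fun X z hz => by obtain ⟨y, hy⟩ := hCK X z hz; exact ⟨y ≫ cr, by rw [Category.assoc, hcrG, hy]⟩)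
  let ε : Pr ≅ P := sqr.isoIsPullback _ _ sq.flip
  haveI : IsIso ε.hom.left := inferInstanceAs (IsIso ((Over.forget _).map ε.hom))
  haveI : IsIso ε.inv.left := inferInstanceAs (IsIso ((Over.forget _).map ε.inv))
  refine ⟨by rw [← Over.w ε.inv]; infer_instance, ⟨C, gC, cr ≫ ε.hom, ?_⟩, fun hH => ?_⟩
  · rw [Category.assoc, IsPullback.isoIsPullback_hom_fst, hcrG]
    exact hcC
  · haveI := hH
    obtain ⟨R, gR, r₀, hr₀⟩ := Groth.L08.Chev.exists_idComp Pr
    haveI := hr₀.hom; haveI := hr₀.closedImm; haveI := hr₀.smooth; haveI := hr₀.connectedSpace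
    haveI := hr₀.quasiCompact
    haveI : Mono r₀ := Groth.L08.mono_of_closedImmersion r₀
    have hid : Groth.L08.Chev.IdCompData (𝟙 H') := ⟨inferInstance, inferInstanceAs (IsClosedImmersion (𝟙 H'.left)),
      inferInstanceAs (IsOpenImmersion (𝟙 H'.left)), by
        rw [PreconnectedSpace.connectedComponent_eq_univ]; exact Set.range_id⟩
    obtain ⟨p₀, hp₀, hp₀s, hp₀e⟩ := exists_surjective_idComp hr₀ hid p₁
    haveI := hp₀; haveI := hp₀s
    rw [Category.comp_id] at hp₀e
    haveI : IsReduced C.left := Groth.Agent.AV.isReduced_of_smooth_field C.hom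
    haveI : IsMonHom cr := isMonHom_of_comp_mono cr jG c hcrG
    obtain ⟨cR, hcR⟩ := hr₀.exists_lift_hom cr
    haveI : Mono (r₀ ≫ jG) := mono_comp _ _
    haveI : LocallyOfFiniteType R.hom := inferInstance
    haveI : Flat p₀.left := Groth.L08.FlatHom.flat_of_surjective R H' p₀
    haveI : LocallyOfFinitePresentation p₀.left := Groth.L08.ChevPerf.lfp_left p₀
    have sq₀ : IsPullback (r₀ ≫ jG) p₀ u h' := isPullback_of_kerLe u (r₀ ≫ jG) h' p₀
      (by simp only [hp₀e, Category.assoc]; rw [← sqr.w])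
      (fun X z hz => by
        obtain ⟨y, hy⟩ := hCK X z hz
        exact ⟨y ≫ cR, by rw [Category.assoc, reassoc_of% hcR, hcrG, hy]⟩)
    let δ : R ≅ P := sq₀.isoIsPullback _ _ sq.flip
    haveI : IsIso δ.hom.left := inferInstanceAs (IsIso ((Over.forget _).map δ.hom))
    exact δ.hom.left.surjective.connectedSpace δ.hom.left.continuous

end Field

variable {S : Scheme.{u}} {G G' : Over S} [GrpObj G] [GrpObj G']

/-- a morphism surjective on all fibres is surjective -/
theorem surjective_of_fibres (u : G ⟶ G')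
    (hu : ∀ s : S, Surjective ((Over.pullback (S.fromSpecResidueField s)).map u).left) : Surjective u.left := by
  refine ⟨fun y => ?_⟩
  obtain ⟨y', hy'⟩ : y ∈ Set.range (pullback.fst G'.hom (S.fromSpecResidueField (G'.hom y))) := by
    rw [Scheme.Pullback.range_fst]
    exact ⟨IsLocalRing.closedPoint _, (S.fromSpecResidueField_apply _ _)⟩
  obtain ⟨x, hx⟩ := (hu (G'.hom y)).surj y'
  refine ⟨pullback.fst G.hom (S.fromSpecResidueField (G'.hom y)) x, ?_⟩
  refine Eq.trans ?_ ((congrArg (pullback.fst G'.hom (S.fromSpecResidueField (G'.hom y))) hx).trans hy')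
  refine (Scheme.Hom.comp_apply _ u.left x).symm.trans (Eq.trans ?_ (Scheme.Hom.comp_apply _ _ x))
  exact congrArg (fun m : pullback G.hom (S.fromSpecResidueField (G'.hom y)) ⟶ G'.left => m x)
    (pullback.lift_fst _ _ _).symm

/-- a geometric fibre being connected makes the fibre connected -/
theorem isConnected_fibre_of_geom (X : Over S) (s : S) (h : ConnectedSpace (Red.geomFibre s X).left) :
    _root_.IsConnected (X.hom.base ⁻¹' {s}) := by
  have e : X.hom.base ⁻¹' {s} = Set.range (pullback.fst X.hom (Red.geomPt s)) := by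
    rw [Scheme.Pullback.range_fst]
    congr 1
    ext y
    refine ⟨fun h' => ⟨IsLocalRing.closedPoint _, (geomPt_apply s _).trans (h'.symm)⟩, ?_⟩
    rintro ⟨p, rfl⟩
    exact geomPt_apply s p
  haveI : ConnectedSpace ↥(pullback X.hom (Red.geomPt s)) := h
  rw [e]
  exact isConnected_range (pullback.fst X.hom (Red.geomPt s)).continuous

/-- the geometric fibre case, packaged -/
theorem preimage_props_geom [Smooth G.hom] [QuasiCompact G.hom] [Smooth G'.hom] [QuasiCompact G'.hom]
    (hconn : ∀ s : S, _root_.IsConnected (G.hom.base ⁻¹' {s}))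
    (hconn' : ∀ s : S, _root_.IsConnected (G'.hom.base ⁻¹' {s})) (u : G ⟶ G') [IsMonHom u] [Surjective u.left]
    (hker : ∀ (X : Over S) (z : X ⟶ G), z ≫ u = 1 → ∀ (X' : Over S) (x : X' ⟶ X) (g : X' ⟶ G),
      (x ≫ z) * g = g * (x ≫ z))
    {H' : Over S} [GrpObj H'] (h' : H' ⟶ G') [IsMonHom h'] [Mono h'] [Smooth H'.hom] [QuasiCompact H'.hom] (s : S)
    (hC : ∃ (C' : Over (Spec (CommRingCat.of (AlgebraicClosure (S.residueField s))))) (_ : GrpObj C')
      (c' : C' ⟶ Red.geomFibre s H'), SGA3x.IsCartanOver _ (c' ≫ (Over.pullback (Red.geomPt s)).map h')) :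
    Smooth (Red.geomFibre s (pullback h' u)).hom ∧
      (∃ (C : Over (Spec (CommRingCat.of (AlgebraicClosure (S.residueField s))))) (_ : GrpObj C)
        (c : C ⟶ Red.geomFibre s (pullback h' u)),
        SGA3x.IsCartanOver _ (c ≫ (Over.pullback (Red.geomPt s)).map (pullback.snd h' u))) ∧
      (ConnectedSpace (Red.geomFibre s H').left → ConnectedSpace (Red.geomFibre s (pullback h' u)).left) := by
  haveI : Smooth (Red.geomFibre s G).hom := inferInstanceAs (Smooth (pullback.snd G.hom (Red.geomPt s)))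
  haveI : QuasiCompact (Red.geomFibre s G).hom := inferInstanceAs (QuasiCompact (pullback.snd G.hom (Red.geomPt s)))
  haveI : ConnectedSpace (Red.geomFibre s G).left := connectedSpace_bc_point G hconn (Red.geomPt s)
  haveI : Smooth (Red.geomFibre s G').hom := inferInstanceAs (Smooth (pullback.snd G'.hom (Red.geomPt s)))
  haveI : QuasiCompact (Red.geomFibre s G').hom := inferInstanceAs (QuasiCompact (pullback.snd G'.hom (Red.geomPt s)))
  haveI : ConnectedSpace (Red.geomFibre s G').left := connectedSpace_bc_point G' hconn' (Red.geomPt s)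
  haveI : Smooth (Red.geomFibre s H').hom := inferInstanceAs (Smooth (pullback.snd H'.hom (Red.geomPt s)))
  haveI : QuasiCompact (Red.geomFibre s H').hom := inferInstanceAs (QuasiCompact (pullback.snd H'.hom (Red.geomPt s)))
  let F := Over.pullback (Red.geomPt s)
  haveI : IsMonHom (F.map u) := Groth.L25.MonoClosed.isMonHom_pullbackMap _ _
  haveI : IsMonHom (F.map h') := Groth.L25.MonoClosed.isMonHom_pullbackMap _ _
  haveI : Mono (F.map h') := Functor.map_mono _ _
  haveI : Surjective (F.map u).left := surjective_bcMap _ u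
  exact preimage_props (F.map u) (central_bc hker (Red.geomPt s)) (F.map h') hC _ _
    ((IsPullback.of_hasPullback h' u).map F)

end Groth.L08.Borel

namespace Groth.L08.Borel

variable {S : Scheme.{u}} {G G' : Over S} [GrpObj G] [GrpObj G']

/-- surjections preserve connectedness of fibres -/
theorem isConnected_fibre_of_surjective {X Y : Over S} (f : X ⟶ Y) [Surjective f.left] (s : S)
    (h : _root_.IsConnected (X.hom.base ⁻¹' {s})) : _root_.IsConnected (Y.hom.base ⁻¹' {s}) := by
  have hw : ∀ x, Y.hom (f.left x) = X.hom x := fun x => by rw [← Scheme.Hom.comp_apply, Over.w f]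
  have e : Y.hom.base ⁻¹' {s} = f.left '' (X.hom.base ⁻¹' {s}) := by
    ext y
    refine ⟨fun hy => ?_, ?_⟩
    · obtain ⟨x, rfl⟩ := f.left.surjective y
      exact ⟨x, (hw x).symm.trans hy, rfl⟩
    · rintro ⟨x, hx, rfl⟩
      exact (hw x).trans hx
  rw [e]
  exact h.image _ f.left.continuous.continuousOn

/-- **preimages under homomorphisms with central kernel** -/
theorem preimage_smooth [Smooth G.hom] [QuasiCompact G.hom] [QuasiSeparated G.hom] [Smooth G'.hom]
    [QuasiCompact G'.hom] [QuasiSeparated G'.hom] (hconn : ∀ s : S, _root_.IsConnected (G.hom.base ⁻¹' {s}))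
    (u : G ⟶ G') [IsMonHom u] [Surjective u.left]
    (hker : ∀ (X : Over S) (z : X ⟶ G), z ≫ u = 1 → ∀ (X' : Over S) (x : X' ⟶ X) (g : X' ⟶ G),
      (x ≫ z) * g = g * (x ≫ z))
    {H' : Over S} [GrpObj H'] (h' : H' ⟶ G') [IsMonHom h'] [Mono h'] [Smooth H'.hom] [QuasiCompact H'.hom]
    (hH' : ∀ s : S, ∃ (C' : Over (Spec (CommRingCat.of (AlgebraicClosure (S.residueField s))))) (_ : GrpObj C')
      (c' : C' ⟶ Red.geomFibre s H'), SGA3x.IsCartanOver _ (c' ≫ (Over.pullback (Red.geomPt s)).map h')) :
    Smooth (pullback h' u).hom ∧ QuasiCompact (pullback h' u).hom ∧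
    (∀ s : S, ∃ (C : Over (Spec (CommRingCat.of (AlgebraicClosure (S.residueField s))))) (_ : GrpObj C)
      (c : C ⟶ Red.geomFibre s (pullback h' u)),
      SGA3x.IsCartanOver _ (c ≫ (Over.pullback (Red.geomPt s)).map (pullback.snd h' u))) ∧
    ((∀ s : S, _root_.IsConnected ((pullback h' u).hom.base ⁻¹' {s})) ↔
      ∀ s : S, _root_.IsConnected (H'.hom.base ⁻¹' {s})) := by
  have hconn' : ∀ s : S, _root_.IsConnected (G'.hom.base ⁻¹' {s}) := fun s =>
    isConnected_fibre_of_surjective u s (hconn s)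
  haveI : GeometricallyReduced G'.hom := Groth.Agent.AV.geometricallyReduced_of_smooth G'.hom
  haveI : Flat u.left := (Groth.L08.FlatHom.flat_of_surjective_fibres G G' u).1
  haveI : QuasiCompact (u.left ≫ G'.hom) := by rw [Over.w u]; infer_instance
  haveI : QuasiCompact u.left := QuasiCompact.of_comp u.left G'.hom
  haveI : LocallyOfFinitePresentation u.left :=
    Groth.L23.lfp_of_comp_lft u.left G'.hom (by rw [Over.w u]; infer_instance)
  have sql := (IsPullback.of_hasPullback h' u).flip.map (Over.forget S)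
  let p := pullback.fst h' u
  haveI : Flat p.left := MorphismProperty.of_isPullback (P := @Flat) sql ‹_›
  haveI : Surjective p.left := MorphismProperty.of_isPullback (P := @Surjective) sql ‹_›
  haveI : LocallyOfFinitePresentation p.left :=
    MorphismProperty.of_isPullback (P := @LocallyOfFinitePresentation) sql ‹_›
  haveI : QuasiCompact p.left := MorphismProperty.of_isPullback (P := @QuasiCompact) sql ‹_›
  haveI : Flat (pullback h' u).hom := by rw [← Over.w p]; infer_instance
  haveI : LocallyOfFinitePresentation (pullback h' u).hom := by rw [← Over.w p]; infer_instance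
  have hp := fun s => preimage_props_geom hconn hconn' u hker h' s (hH' s)
  refine ⟨Groth.L07.SmoothFibre.smooth_of_fibres _ fun s => smooth_fibre_of_geomFibre _ s (hp s).1,
    by rw [← Over.w p]; infer_instance, fun s => (hp s).2.1,
    fun h s => isConnected_fibre_of_surjective p s (h s), fun h s => ?_⟩
  exact isConnected_fibre_of_geom _ s ((hp s).2.2 (connectedSpace_bc_point H' h (Red.geomPt s)))

end Groth.L08.Borel
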