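import Groth.Agent.L08.Borel.MaxToriConj
import Groth.Agent.L08.GrpQC
import Groth.Agent.L25.Component

/-!
# Cartan subgroups of subgroups containing a Cartan subgroup
-/

set_option autoImplicit false
set_option backward.isDefEq.respectTransparency.types false
set_option linter.style.haveILetI false
set_option linter.unusedSectionVars false

universe u

open CategoryTheory CategoryTheory.Limits MonoidalCategory CartesianMonoidalCategory MonObj GrpObj AlgebraicGeometry

noncomputable section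

namespace Groth.L08.Borel

variable {k : Type u} [Field k] [IsAlgClosed k]

local notation "U1" => 𝟙_ (Over (Spec (CommRingCat.of k)))

/-- Cartan subgroups of a subgroup containing a Cartan subgroup are the Cartan subgroups it contains -/
theorem isCartanOver_sub_iff {G H C C₀ : Over (Spec (CommRingCat.of k))} [GrpObj G] [GrpObj H] [GrpObj C] [GrpObj C₀]
    [Smooth G.hom] [QuasiCompact G.hom] [Smooth H.hom] [QuasiCompact H.hom] (h : H ⟶ G) [IsMonHom h] [Mono h]
    {c₀ : C₀ ⟶ H} (h₀ : SGA3x.IsCartanOver k (c₀ ≫ h)) (c : C ⟶ H) :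
    SGA3x.IsCartanOver k c ↔ SGA3x.IsCartanOver k (c ≫ h) := by
  obtain ⟨m₀, n₀, T₀, gT₀, i₀, hi₀, hc₀⟩ := h₀
  have hT₀ := isMaxTorus_of_isMaximalTorus hi₀
  haveI := hT₀.1; haveI := hT₀.2.1; haveI := m₀; haveI := n₀
  obtain ⟨-, -, -, -, hcomm⟩ := torus_props hT₀.2.2.1
  obtain ⟨t₀, ht₀⟩ := (hc₀.2.2 T₀ i₀).2 fun X x s => by rw [← MonObj.mul_comp, ← MonObj.mul_comp, hcomm X x s]
  have hH₀ : AGF.IsMaxTorus (t₀ ≫ c₀) :=
    isMaxTorus_factor (iB := h) (by rw [Category.assoc, ht₀]; exact hT₀)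
  constructor
  · rintro ⟨m, n, T', gT', i', hi', hc⟩
    have hT' := isMaxTorus_of_isMaximalTorus hi'
    haveI := hT'.1; haveI := hT'.2.1; haveI := m; haveI := n
    obtain ⟨g, f, hf⟩ := exists_maxTorus_conj_any hH₀ hT'
    have hfG : f.hom ≫ i' ≫ h = AGF.conjBy (g ≫ h) i₀ := by
      rw [reassoc_of% hf, conjBy_comp, Category.assoc, ht₀]
    have hmaxG : AGF.IsMaxTorus (i' ≫ h) := by
      have hcj := isMaxTorus_conjBy hT₀ (g ≫ h)
      refine ⟨inferInstance, mono_comp _ _, hT'.2.2.1, fun T₁ _ a _ _ f₁ h₁ hf₁ => ?_⟩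
      haveI : IsIso (f.hom ≫ f₁) := hcj.2.2.2 T₁ a (f.hom ≫ f₁) h₁ (by rw [Category.assoc, hf₁, hfG])
      exact IsIso.of_isIso_comp_left f.hom f₁
    refine ⟨inferInstance, mono_comp _ _, T', gT', i' ≫ h, isMaximalTorus_of_isMaxTorus hmaxG,
      inferInstance, mono_comp _ _, fun X y => ⟨?_, fun hy => ?_⟩⟩
    · rintro ⟨z, rfl⟩ X' x s
      have h1 := congrArg (· ≫ h) ((hc.2.2 X (z ≫ c)).1 ⟨z, rfl⟩ X' x s)
      simpa only [MonObj.mul_comp, Category.assoc] using h1
    · let gX : X ⟶ G := toUnit X ≫ g ≫ h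
      obtain ⟨z₀, hz₀⟩ := (hc₀.2.2 X (gX⁻¹ * y * gX)).2 fun X' x s => by
        have h1 := hy X' x (s ≫ f.hom)
        rw [Category.assoc, hfG] at h1
        simp only [AGF.conjBy, MonObj.comp_mul, GrpObj.comp_inv, ← Category.assoc,
          toUnit_unique (s ≫ toUnit T₀) (x ≫ toUnit X)] at h1
        simp only [gX, MonObj.comp_mul, GrpObj.comp_inv, ← Category.assoc]
        generalize ((x ≫ toUnit X) ≫ g) ≫ h = a at h1 ⊢
        generalize x ≫ y = b at h1 ⊢
        generalize s ≫ i₀ = t at h1 ⊢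
        calc a⁻¹ * b * a * t = a⁻¹ * (b * (a * t * a⁻¹)) * a := by group
          _ = a⁻¹ * ((a * t * a⁻¹) * b) * a := by rw [h1]
          _ = t * (a⁻¹ * b * a) := by group
      let yH : X ⟶ H := (toUnit X ≫ g) * (z₀ ≫ c₀) * (toUnit X ≫ g)⁻¹
      have hyH : yH ≫ h = y := by
        simp only [yH, MonObj.mul_comp, GrpObj.inv_comp, Category.assoc, hz₀, gX]
        group
      obtain ⟨z, hz⟩ := (hc.2.2 X yH).2 fun X' x s => by
        rw [← cancel_mono h, MonObj.mul_comp, MonObj.mul_comp, Category.assoc, Category.assoc, hyH]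
        exact hy X' x s
      exact ⟨z, by rw [reassoc_of% hz, hyH]⟩
  · rintro ⟨m, n, T, gT, iT, hiT, hc⟩
    have hT := isMaxTorus_of_isMaximalTorus hiT
    haveI := hT.1; haveI := hT.2.1; haveI := m; haveI := n
    obtain ⟨-, -, -, -, hcomm'⟩ := torus_props hT.2.2.1
    obtain ⟨t, ht⟩ := (hc.2.2 T iT).2 fun X x s => by rw [← MonObj.mul_comp, ← MonObj.mul_comp, hcomm' X x s]
    haveI : IsMonHom c := isMonHom_of_comp_mono c h _ rfl
    haveI : Mono c := mono_of_mono c h
    refine ⟨inferInstance, inferInstance, T, gT, t ≫ c,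
      isMaximalTorus_of_isMaxTorus (isMaxTorus_factor (iB := h) (by rw [Category.assoc, ht]; exact hT)),
      inferInstance, inferInstance, fun X y => ⟨?_, fun hy => ?_⟩⟩
    · rintro ⟨z, rfl⟩ X' x s
      rw [← cancel_mono h, MonObj.mul_comp, MonObj.mul_comp]
      simp only [Category.assoc, ht]
      exact (hc.2.2 X (z ≫ c ≫ h)).1 ⟨z, rfl⟩ X' x s
    · obtain ⟨z, hz⟩ := (hc.2.2 X (y ≫ h)).2 fun X' x s => by
        have h1 := congrArg (· ≫ h) (hy X' x s)
        simp only [MonObj.mul_comp, Category.assoc, ht] at h1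
        exact h1
      exact ⟨z, by rw [← cancel_mono h, Category.assoc, hz]⟩

end Groth.L08.Borel
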