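import Groth.Agent.L08.Borel.RootConst
import Mathlib.GroupTheory.NoncommPiCoprod

/-!
# Homomorphisms from constant groups given by commuting torsion sections
-/

set_option autoImplicit false
set_option backward.isDefEq.respectTransparency.types false
set_option linter.style.haveILetI false
set_option linter.unusedSectionVars false

universe u

open CategoryTheory CategoryTheory.Limits MonoidalCategory CartesianMonoidalCategory MonObj AlgebraicGeometry
open Groth.L08.AlbLarge TopologicalSpace

noncomputable section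

namespace Groth.L08.Borel

/-- powers of an element killed by `n` -/
def powHom {n : ℕ} [NeZero n] {P : Type*} [Group P] (g : P) (hg : g ^ n = 1) : Multiplicative (ZMod n) →* P where
  toFun x := g ^ x.toAdd.val
  map_one' := by simp
  map_mul' x y := by
    show g ^ (x * y).toAdd.val = _
    rw [toAdd_mul, ZMod.val_add, ← pow_eq_pow_mod _ hg, pow_add]

variable {V : Scheme.{u}} {A : Over V} [GrpObj A] {N : Type} [CommGroup N]

/-- the morphism from a constant group with given values -/
def ofPts' (c : N →* (𝟙_ (Over V) ⟶ A)) : TwC.const V N ⟶ A :=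
  Over.homMk (Sigma.desc fun m => (c m).left) (Sigma.hom_ext _ _ fun m => by
    simp [TwC.const, Over.w (c m)])

theorem pt_ofPts' (c : N →* (𝟙_ (Over V) ⟶ A)) (m : N) : TwC.pt V N m ≫ ofPts' c = c m :=
  Over.OverMorphism.ext (Sigma.ι_desc _ m)

/-- to compare maps out of the constant group it suffices to compare on constant labels -/
theorem hom_ext_on_fibres {T B : Over V} (t : T ⟶ TwC.const V N) (a b : T ⟶ B)
    (h : ∀ (m : N) (W : Over V) (j : W ⟶ T), j ≫ t = toUnit W ≫ TwC.pt V N m → j ≫ a = j ≫ b) : a = b := by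
  let U : N → T.left.Opens := fun m => fibre ⟨label t, isLocallyConstant_label t⟩ m
  have hU : ⨆ x, U x = ⊤ := eq_top_iff.2 fun x _ => Opens.mem_iSup.2 ⟨_, rfl⟩
  refine Over.OverMorphism.ext (Scheme.Cover.hom_ext (T.left.openCoverOfIsOpenCover U hU) _ _ fun m => ?_)
  let W : Over V := Over.mk ((U m).ι ≫ T.hom)
  let j : W ⟶ T := Over.homMk (U m).ι rfl
  have hj : j ≫ t = toUnit W ≫ TwC.pt V N m := hom_ext_label fun y => by
    rw [label_comp, label_pt]; exact y.2
  exact congrArg CommaMorphism.left (h m W j hj)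

theorem isMonHom_ofPts' (c : N →* (𝟙_ (Over V) ⟶ A)) : IsMonHom (ofPts' c) := by
  have hmul : ∀ (T : Over V) (a b : T ⟶ TwC.const V N), (a * b) ≫ ofPts' c = (a ≫ ofPts' c) * (b ≫ ofPts' c) := by
    intro T a b
    refine hom_ext_on_fibres a _ _ fun m W j hj => hom_ext_on_fibres (j ≫ b) _ _ fun m' W' j' hj' => ?_
    have hab : (j' ≫ j) ≫ (a * b) = toUnit W' ≫ TwC.pt V N (m * m') := hom_ext_label fun y => by
      rw [MonObj.comp_mul, Category.assoc, Category.assoc, hj, hj', label_mul, label_comp, label_pt, label_pt, label_pt]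
    rw [MonObj.comp_mul, MonObj.comp_mul, ← Category.assoc j', ← Category.assoc (j' ≫ j), hab]
    rw [reassoc_of% hj, reassoc_of% hj']
    simp only [Category.assoc, pt_ofPts', map_mul, MonObj.comp_mul]
    rw [← Category.assoc j', toUnit_unique (j' ≫ toUnit W) (toUnit W')]
  refine ⟨?_, ?_⟩
  · have h := hmul (𝟙_ _) 1 1
    rw [_root_.one_mul] at h
    rw [MonObj.one_eq_one, MonObj.one_eq_one]
    exact left_eq_mul.1 h
  · rw [MonObj.mul_eq_mul, hmul, MonObj.mul_eq_mul, MonObj.comp_mul, tensorHom_fst, tensorHom_snd]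

/-- commuting torsion sections give a homomorphism from a constant group -/
theorem exists_cst_hom {n r : ℕ} [NeZero n] (y : Fin r → (𝟙_ (Over V) ⟶ A)) (hy : ∀ i, y i ^ n = 1)
    (hcomm : ∀ i j, Commute (y i) (y j)) :
    ∃ μc : cst V n r ⟶ A, IsMonHom μc ∧ (∀ i, ∃ a : 𝟙_ (Over V) ⟶ cst V n r, a ≫ μc = y i) ∧
      ∀ (T : Over V) (g : T ⟶ A), (∀ i, Commute g (toUnit T ≫ y i)) →
        ∀ m : T ⟶ cst V n r, Commute g (m ≫ μc) := by
  classical
  let φ : ∀ _ : Fin r, Multiplicative (ZMod n) →* (𝟙_ (Over V) ⟶ A) := fun i => powHom (y i) (hy i)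
  have hφ : Pairwise fun i j => ∀ a b, Commute (φ i a) (φ j b) := fun i j _ a b => (hcomm i j).pow_pow _ _
  let split : Multiplicative (Vec n r) →* (Fin r → Multiplicative (ZMod n)) :=
    { toFun := fun a i => Multiplicative.ofAdd (a.toAdd i), map_one' := rfl, map_mul' := fun _ _ => rfl }
  let cc : Multiplicative (Vec n r) →* (𝟙_ (Over V) ⟶ A) := (MonoidHom.noncommPiCoprod φ hφ).comp split
  refine ⟨ofPts' cc, isMonHom_ofPts' cc, fun i => ⟨TwC.pt V _ (Multiplicative.ofAdd (Pi.single i 1)), ?_⟩, ?_⟩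
  · rw [pt_ofPts', MonoidHom.comp_apply,
      show split (Multiplicative.ofAdd (Pi.single i 1)) = Pi.mulSingle i (Multiplicative.ofAdd (1 : ZMod n)) from
        funext fun j => by rcases eq_or_ne j i with rfl | hj <;> simp [split, *],
      MonoidHom.noncommPiCoprod_mulSingle]
    show y i ^ (1 : ZMod n).val = y i
    rw [ZMod.val_one_eq_one_mod]
    rcases eq_or_ne n 1 with rfl | hn
    · rw [Nat.mod_self, pow_zero, ← hy i, pow_one]
    · have := NeZero.pos n
      rw [Nat.one_mod_eq_one.2 hn, pow_one]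
  · intro T g hg m
    rw [commute_iff_eq]
    refine hom_ext_on_fibres m _ _ fun a W j hj => ?_
    have hjy : ∀ i, Commute (j ≫ g) (toUnit W ≫ y i) := fun i => by
      rw [commute_iff_eq]
      have h := congrArg (fun v => j ≫ v) (hg i).eq
      simp only [MonObj.comp_mul, ← Category.assoc, toUnit_unique (j ≫ toUnit T) (toUnit W)] at h
      exact h
    rw [MonObj.comp_mul, MonObj.comp_mul, reassoc_of% hj, pt_ofPts']
    let L : (𝟙_ (Over V) ⟶ A) →* (W ⟶ A) := MonoidHom.mk' (fun v => toUnit W ≫ v) fun u v => MonObj.comp_mul _ u v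
    show (j ≫ g) * L (cc a) = L (cc a) * (j ≫ g)
    refine (Finset.noncommProd_induction Finset.univ (fun i => φ i (split a i))
      (fun i _ i' _ h => hφ h _ _) (fun v => Commute (j ≫ g) (L v))
      (fun u v hu hv => by simp only [map_mul]; exact hu.mul_right hv)
      (by simp only [map_one]; exact Commute.one_right _) (fun i _ => ?_)).eq
    have e : ∀ (i : Fin r) (v : Multiplicative (ZMod n)), φ i v = y i ^ v.toAdd.val := fun i v => rfl
    rw [e, map_pow]
    exact (hjy i).pow_right _

end Groth.L08.Borel
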