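import Groth.Agent.L08.Borel.NormOpen
import Groth.Agent.L08.Borel.CentKernel
import Groth.Agent.L08.HomLocus
import Groth.Agent.L28.Ext.Split

/-!
# Homomorphisms open on one fibre are open nearby
-/

set_option autoImplicit false
set_option backward.isDefEq.respectTransparency.types false
set_option linter.style.haveILetI false
set_option linter.unusedSectionVars false

universe u

open CategoryTheory CategoryTheory.Limits MonoidalCategory CartesianMonoidalCategory MonObj GrpObj AlgebraicGeometry

noncomputable section

namespace Groth.L08.Borel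

variable {S : Scheme.{u}}

/-- a monomorphism with smooth source which is an isomorphism on geometric fibres is an isomorphism -/
theorem isIso_of_geomFibres {A B : Over S} [Smooth A.hom] [LocallyOfFiniteType B.hom] (f : A ⟶ B) [Mono f]
    (h : ∀ s : S, IsIso ((Over.pullback (Red.geomPt s)).map f)) : IsIso f := by
  haveI : Mono f.left := inferInstanceAs (Mono ((Over.forget S).map f))
  haveI : LocallyOfFinitePresentation f.left := by
    haveI : LocallyOfFinitePresentation (f.left ≫ B.hom) := by rw [Over.w f]; infer_instance
    exact Groth.L20.locallyOfFinitePresentation_of_comp f.left B.hom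
  have hi : ∀ s : S, IsIso ((Over.pullback (Red.geomPt s)).map f).left := fun s =>
    haveI := h s
    inferInstanceAs (IsIso ((Over.forget _).map ((Over.pullback (Red.geomPt s)).map f)))
  haveI : Flat f.left := flat_of_geomFibres f fun s => by haveI := hi s; infer_instance
  haveI : Surjective f.left := by
    refine ⟨fun y => ?_⟩
    let s := B.hom y
    obtain ⟨y', hy'⟩ : y ∈ Set.range (pullback.fst B.hom (Red.geomPt s)) := by
      rw [Scheme.Pullback.range_fst]
      refine ⟨IsLocalRing.closedPoint _, ?_⟩
      rw [show Red.geomPt s = Spec.map _ ≫ S.fromSpecResidueField s from rfl, Scheme.Hom.comp_apply]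
      exact (S.fromSpecResidueField_apply s _)
    haveI := hi s
    obtain ⟨x, hx⟩ := ((Over.pullback (Red.geomPt s)).map f).left.surjective y'
    refine ⟨(pullback.fst A.hom (Red.geomPt s)) x, ?_⟩
    rw [← hy', ← hx, ← Scheme.Hom.comp_apply, ← Scheme.Hom.comp_apply,
      (Groth.L25.SchImage.isPullback_fst_map (Red.geomPt s) f).w]
  haveI : IsOpenImmersion f.left := IsOpenImmersion.of_flat_of_mono f.left
  haveI : Epi f.left.base := (TopCat.epi_iff_surjective _).2 f.left.surjective
  haveI : IsIso f.left := IsOpenImmersion.isIso f.left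
  haveI : IsIso ((Over.forget S).map f) := ‹IsIso f.left›
  exact isIso_of_reflects_iso _ (Over.forget S)

/-- a monomorphism of groups which is open on one geometric fibre is open nearby -/
theorem exists_open_isOpenImmersion {G H : Over S} [GrpObj G] [GrpObj H] [Flat G.hom]
    [LocallyOfFinitePresentation G.hom] [LocallyOfFiniteType H.hom] (f : G ⟶ H) [IsMonHom f] [Mono f] (s : S)
    (h : Flat ((Over.pullback (S.fromSpecResidueField s)).map f).left) :
    ∃ U : S.Opens, s ∈ U ∧ ∀ {V : Scheme.{u}} (q : V ⟶ S), Set.range q ⊆ (U : Set S) →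
      IsOpenImmersion ((Over.pullback q).map f).left := by
  haveI : LocallyOfFinitePresentation f.left := Groth.L08.HomLocus.lfp_hom f
  let O : G.left.Opens := ⟨{y | (f.left.stalkMap y).hom.Flat}, Groth.Agent.S0386.result f.left⟩
  let e : S ⟶ G.left := η[G].left
  have he : ∀ t : S, G.hom (e t) = t := fun t => congr(($(Over.w η[G])) t)
  refine ⟨e ⁻¹ᵁ O, ?_, fun {V} q hq => ?_⟩
  · show (f.left.stalkMap (e s)).hom.Flat
    rw [Groth.L08.HomLocus.flat_stalk_iff f, he s]
    exact h
  · have hst : ∀ y : G.left, G.hom y ∈ Set.range q → (f.left.stalkMap y).hom.Flat := fun y hy => by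
      have h1 : (f.left.stalkMap (e (G.hom y))).hom.Flat := hq hy
      rw [Groth.L08.HomLocus.flat_stalk_iff f, he (G.hom y)] at h1
      exact (Groth.L08.HomLocus.flat_stalk_iff f y).2 h1
    let W : G.left.Opens := G.hom ⁻¹ᵁ (e ⁻¹ᵁ O)
    have hW : Flat (W.ι ≫ f.left) := Flat.of_stalkMap _ fun y => by
      rw [Scheme.Hom.stalkMap_comp]
      refine (RingHom.Flat.respectsIso.cancel_right_isIso _ _).2 ?_
      have h1 : (f.left.stalkMap (e (G.hom (W.ι y)))).hom.Flat := y.2
      rw [Groth.L08.HomLocus.flat_stalk_iff f, he] at h1
      exact (Groth.L08.HomLocus.flat_stalk_iff f _).2 h1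
    have sq := Groth.L25.SchImage.isPullback_fst_map q f
    have hr : Set.range (pullback.fst G.hom q) ⊆ Set.range W.ι := by
      rintro _ ⟨y, rfl⟩
      rw [Scheme.Opens.range_ι]
      show G.hom _ ∈ (e ⁻¹ᵁ O : S.Opens)
      rw [← Scheme.Hom.comp_apply, pullback.condition, Scheme.Hom.comp_apply]
      exact hq ⟨_, rfl⟩
    let l := IsOpenImmersion.lift W.ι (pullback.fst G.hom q) hr
    have hl : l ≫ W.ι = pullback.fst G.hom q := IsOpenImmersion.lift_fac _ _ _
    have sq' : IsPullback l ((Over.pullback q).map f).left (W.ι ≫ f.left) (pullback.fst H.hom q) := by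
      refine IsPullback.of_isLimit' ⟨by rw [← Category.assoc, hl]; exact sq.w⟩
        (PullbackCone.IsLimit.mk _ (fun c => sq.lift (c.fst ≫ W.ι) c.snd (by rw [Category.assoc]; exact c.condition))
          (fun c => by rw [← cancel_mono W.ι, Category.assoc, hl, sq.lift_fst])
          (fun c => sq.lift_snd _ _ _)
          fun c m h1 h2 => sq.hom_ext (by rw [sq.lift_fst, ← hl, reassoc_of% h1]) (by rw [sq.lift_snd, h2]))
    haveI : Flat ((Over.pullback q).map f).left := MorphismProperty.of_isPullback sq' hW
    haveI : Mono ((Over.pullback q).map f) := Functor.map_mono _ _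
    haveI : Mono ((Over.pullback q).map f).left := inferInstanceAs (Mono ((Over.forget V).map ((Over.pullback q).map f)))
    haveI : LocallyOfFinitePresentation ((Over.pullback q).map f).left :=
      MorphismProperty.of_isPullback (P := @LocallyOfFinitePresentation) sq ‹_›
    exact IsOpenImmersion.of_flat_of_mono _

/-- an open subgroup of a group with irreducible geometric fibres is everything -/
theorem isIso_of_open_subgroup {A B : Over S} [GrpObj A] [GrpObj B] [Smooth A.hom] [LocallyOfFiniteType B.hom]
    (hB : Groth.L02.SchDom.IrrFib B.hom) (f : A ⟶ B) [IsMonHom f] [Mono f] [IsOpenImmersion f.left] : IsIso f := by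
  refine isIso_of_geomFibres f fun s => ?_
  let j := Red.geomPt s
  let F := (Over.pullback j).map f
  haveI : IsMonHom F := Groth.L25.MonoClosed.isMonHom_pullbackMap _ _
  haveI : IsOpenImmersion F.left :=
    MorphismProperty.of_isPullback (P := @IsOpenImmersion) (Groth.L25.SchImage.isPullback_fst_map j f) ‹_›
  haveI : IrreducibleSpace ↥(Red.bc j B).left := hB _ j
  haveI : GeometricallyIrreducible (Red.bc j B).hom :=
    Groth.L25.GeomIrred.geometricallyIrreducible_of_isAlgClosed _
  haveI := Groth.L28.Ext.surjective_of_isOpenImmersion F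
  haveI : Epi F.left.base := (TopCat.epi_iff_surjective _).2 F.left.surjective
  haveI : IsIso F.left := IsOpenImmersion.isIso F.left
  haveI : IsIso ((Over.forget _).map F) := ‹IsIso F.left›
  exact isIso_of_reflects_iso _ (Over.forget _)

/-- flatness descends from any field point to the fibre -/
theorem flat_fibre_of_point {H N : Over S} (f : H ⟶ N) {K : Type u} [Field K] (p : Spec (CommRingCat.of K) ⟶ S)
    (h : Flat ((Over.pullback p).map f).left) :
    Flat ((Over.pullback (S.fromSpecResidueField (p (IsLocalRing.closedPoint K)))).map f).left := by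
  let s := p (IsLocalRing.closedPoint K)
  let res := S.fromSpecResidueField s
  let φ : S.residueField s ⟶ CommRingCat.of K := S.descResidueField (Scheme.stalkClosedPointTo p)
  let a : Spec (CommRingCat.of K) ⟶ Spec (S.residueField s) := Spec.map φ
  have hp : a ≫ res = p := S.descResidueField_stalkClosedPointTo_fromSpecResidueField _ p
  haveI : Flat a := by
    letI := φ.hom.toAlgebra
    rw [show a = Spec.map (CommRingCat.ofHom (algebraMap (S.residueField s) K)) from rfl,
      HasRingHomProperty.Spec_iff (P := @Flat)]
    exact RingHom.flat_algebraMap_iff.2 (inferInstance : Module.Flat (S.residueField s) K)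
  haveI : Surjective a :=
    ⟨fun x => ⟨IsLocalRing.closedPoint K, Subsingleton.elim (α := PrimeSpectrum (S.residueField s)) _ _⟩⟩
  haveI : QuasiCompact a := inferInstance
  let bN : pullback N.hom p ⟶ pullback N.hom res :=
    pullback.lift (pullback.fst _ _) (pullback.snd _ _ ≫ a) (by rw [pullback.condition, Category.assoc, hp])
  let bH : pullback H.hom p ⟶ pullback H.hom res :=
    pullback.lift (pullback.fst _ _) (pullback.snd _ _ ≫ a) (by rw [pullback.condition, Category.assoc, hp])
  have sqN : IsPullback bN (pullback.snd N.hom p) (pullback.snd N.hom res) a := by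
    refine IsPullback.of_right ?_ (pullback.lift_snd _ _ _) (IsPullback.of_hasPullback N.hom res)
    rw [pullback.lift_fst, hp]
    exact IsPullback.of_hasPullback N.hom p
  have hw : bH ≫ ((Over.pullback res).map f).left = ((Over.pullback p).map f).left ≫ bN := by
    apply pullback.hom_ext
    · rw [Category.assoc, Category.assoc, pullback.lift_fst,
        ← (Groth.L25.SchImage.isPullback_fst_map res f).w, ← Category.assoc, pullback.lift_fst]
      exact (Groth.L25.SchImage.isPullback_fst_map p f).w
    · rw [Category.assoc, Category.assoc, pullback.lift_snd]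
      erw [Over.w ((Over.pullback res).map f), pullback.lift_snd, reassoc_of% (Over.w ((Over.pullback p).map f))]
      rfl
  have sq : IsPullback bH ((Over.pullback p).map f).left ((Over.pullback res).map f).left bN := by
    refine IsPullback.of_right ?_ hw (Groth.L25.SchImage.isPullback_fst_map res f)
    erw [pullback.lift_fst, pullback.lift_fst]
    exact Groth.L25.SchImage.isPullback_fst_map p f
  exact MorphismProperty.of_isPullback_of_descendsAlong (P := @Flat) (Q := @Surjective ⊓ @Flat ⊓ @QuasiCompact) sq.flip
    ⟨⟨MorphismProperty.of_isPullback sqN.flip ‹Surjective a›, MorphismProperty.of_isPullback sqN.flip ‹Flat a›⟩,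
      MorphismProperty.of_isPullback sqN.flip ‹QuasiCompact a›⟩ h

end Groth.L08.Borel
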