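import Groth.Agent.L08.Borel.RootConst
import Groth.Agent.L25.CentralLift.Etale
import Groth.Agent.L25.SplitSub.SmoothTorus
import Mathlib.RingTheory.RootsOfUnity.EnoughRootsOfUnity
import Mathlib.RingTheory.RootsOfUnity.AlgebraicallyClosed

/-!
# Torsion sections on etale neighbourhoods
-/

set_option autoImplicit false
set_option backward.isDefEq.respectTransparency.types false
set_option linter.style.haveILetI false
set_option linter.unusedSectionVars false

universe u

open CategoryTheory CategoryTheory.Limits MonoidalCategory CartesianMonoidalCategory MonObj GrpObj AlgebraicGeometry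
open Groth.L25.CentralLift

noncomputable section

namespace Groth.L08.Borel

variable {S : Scheme.{u}} {G : Over S} [GrpObj G] [Flat G.hom] [LocallyOfFinitePresentation G.hom]
  {K : Type u} [Field K]

/-- torsion field points in the etale locus lift to etale neighbourhoods -/
theorem exists_tors_tuple {V₀ : Scheme.{u}} (q₀ : V₀ ⟶ S) [Etale q₀] (p₀ : Spec (CommRingCat.of K) ⟶ V₀) (n : ℕ)
    {r : ℕ} (x : Fin r → (Over.mk (p₀ ≫ q₀) ⟶ G)) (hx : ∀ i, x i ^ n = 1)
    (hl : ∀ i (t : Spec (CommRingCat.of K)), (x i).left t ∈ locus G n) :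
    ∃ (V : Scheme.{u}) (g : V ⟶ V₀) (_ : Etale g) (p : Spec (CommRingCat.of K) ⟶ V) (hp : p ≫ g = p₀)
      (y : Fin r → (Over.mk (g ≫ q₀) ⟶ G)), (∀ i, y i ^ n = 1) ∧ (∀ i v, (y i).left v ∈ locus G n) ∧
      ∀ i, (Over.homMk p (by show p ≫ g ≫ q₀ = _; rw [reassoc_of% hp]; rfl) :
        Over.mk (p₀ ≫ q₀) ⟶ Over.mk (g ≫ q₀)) ≫ y i = x i := by
  induction r with
  | zero => exact ⟨V₀, 𝟙 _, inferInstance, p₀, Category.comp_id _, Fin.elim0, fun i => i.elim0, fun i => i.elim0, fun i => i.elim0⟩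
  | succ r ih =>
    obtain ⟨V, g, hg, p, hp, y, hy, hyl, hyx⟩ := ih (fun i => x i.succ) (fun i => hx _) fun i => hl _
    obtain ⟨x', hx'⟩ := exists_tors_lift (x 0) (hx 0) (hl 0)
    let P := pullback (g ≫ q₀) (tors G n).hom
    haveI : Etale (tors G n).hom := etale_tors n
    haveI : Etale (pullback.fst (g ≫ q₀) (tors G n).hom) :=
      MorphismProperty.pullback_fst (P := @Etale) _ _ inferInstance
    let p' : Spec (CommRingCat.of K) ⟶ P := pullback.lift p x'.left (by rw [reassoc_of% hp]; exact (Over.w x').symm)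
    let a : Over.mk ((pullback.fst (g ≫ q₀) (tors G n).hom ≫ g) ≫ q₀) ⟶ Over.mk (g ≫ q₀) :=
      Over.homMk (pullback.fst _ _) (Category.assoc _ _ _).symm
    let b : Over.mk ((pullback.fst (g ≫ q₀) (tors G n).hom ≫ g) ≫ q₀) ⟶ tors G n :=
      Over.homMk (pullback.snd _ _) (by
        show pullback.snd _ _ ≫ _ = (pullback.fst _ _ ≫ g) ≫ q₀
        rw [← pullback.condition, Category.assoc])
    refine ⟨P, pullback.fst _ _ ≫ g, inferInstance, p', by rw [pullback.lift_fst_assoc, hp],
      Fin.cons (b ≫ torsι G n) (fun i => a ≫ y i), fun i => ?_, fun i v => ?_, fun i => ?_⟩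
    · refine Fin.cases ?_ (fun i => ?_) i
      · rw [Fin.cons_zero, ← MonObj.comp_pow, torsι_pow, MonObj.comp_one]
      · rw [Fin.cons_succ, ← MonObj.comp_pow, hy, MonObj.comp_one]
    · refine Fin.cases ?_ (fun i => ?_) i
      · rw [Fin.cons_zero, Over.comp_left, Scheme.Hom.comp_apply]
        exact range_torsι_le n _
      · rw [Fin.cons_succ, Over.comp_left, Scheme.Hom.comp_apply]
        exact hyl i _
    · refine Fin.cases ?_ (fun i => ?_) i
      · rw [Fin.cons_zero, ← hx', ← Category.assoc]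
        congr 1
        exact Over.OverMorphism.ext (pullback.lift_snd _ _ _)
      · rw [Fin.cons_succ, ← hyx i, ← Category.assoc]
        congr 1
        exact Over.OverMorphism.ext (pullback.lift_fst _ _ _)

/-- torsion sections commuting at a point commute nearby -/
theorem exists_open_commute {V : Scheme.{u}} (q : V ⟶ S) (p : Spec (CommRingCat.of K) ⟶ V) (n : ℕ)
    (a b : Over.mk q ⟶ G) (hb : b ^ n = 1) (hbl : ∀ v, b.left v ∈ locus G n)
    (h : (Over.homMk p rfl : Over.mk (p ≫ q) ⟶ Over.mk q) ≫ (a * b) =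
      (Over.homMk p rfl : Over.mk (p ≫ q) ⟶ Over.mk q) ≫ (b * a)) :
    ∃ U : V.Opens, p (IsLocalRing.closedPoint K) ∈ U ∧ ∀ (T : Over S) (t : T ⟶ Over.mk q),
      Set.range t.left ⊆ (U : Set V) → Commute (t ≫ a) (t ≫ b) := by
  let c := a * b * a⁻¹
  have hcn : c ^ n = 1 := by rw [conj_pow, hb, _root_.mul_one, mul_inv_cancel]
  have hcl : ∀ v, c.left v ∈ locus G n := fun v => by
    let ξ := V.fromSpecResidueField v ≫ q
    let e : Over.mk ξ ⟶ Over.mk q := Over.homMk (V.fromSpecResidueField v) rfl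
    have he : e.left (IsLocalRing.closedPoint _) = v := V.fromSpecResidueField_apply v _
    have h1 := conj_mem_locus (K := V.residueField v) ξ n (e ≫ b) (e ≫ a)
      (by rw [Over.comp_left, Scheme.Hom.comp_apply, he]; exact hbl v)
    rw [← GrpObj.comp_inv, ← MonObj.comp_mul, ← MonObj.comp_mul, Over.comp_left, Scheme.Hom.comp_apply, he] at h1
    exact h1
  obtain ⟨b', hb'⟩ := exists_tors_lift b hb hbl
  obtain ⟨c', hc'⟩ := exists_tors_lift c hcn hcl
  haveI : Etale (tors G n).hom := etale_tors n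
  let d : V ⟶ pullback (tors G n).hom (tors G n).hom := pullback.lift b'.left c'.left ((Over.w b').trans (Over.w c').symm)
  haveI : IsOpenImmersion (pullback.diagonal (tors G n).hom) := inferInstance
  haveI : IsOpenImmersion (pullback.fst d (pullback.diagonal (tors G n).hom)) := inferInstance
  refine ⟨(pullback.fst d (pullback.diagonal (tors G n).hom)).opensRange, ?_, fun T t ht => ?_⟩
  · let e : Over.mk (p ≫ q) ⟶ Over.mk q := Over.homMk p rfl
    have h2 : e ≫ b' = e ≫ c' := by
      rw [← cancel_mono (torsι G n), Category.assoc, Category.assoc, hb', hc']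
      simp only [c, MonObj.comp_mul, GrpObj.comp_inv] at h ⊢
      rw [h, mul_inv_cancel_right]
    refine ⟨(pullback.lift p (e ≫ b').left (by
      apply pullback.hom_ext
      · simp only [d, Category.assoc, pullback.lift_fst, pullback.diagonal_fst, Category.comp_id]; rfl
      · simp only [d, Category.assoc, pullback.lift_snd, pullback.diagonal_snd, Category.comp_id, h2]; rfl) :
        Spec (CommRingCat.of K) ⟶ pullback d (pullback.diagonal (tors G n).hom)) (IsLocalRing.closedPoint K), ?_⟩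
    rw [← Scheme.Hom.comp_apply, pullback.lift_fst]
  · let l := IsOpenImmersion.lift (pullback.fst d (pullback.diagonal (tors G n).hom)) t.left ht
    have hl : l ≫ pullback.fst d _ = t.left := IsOpenImmersion.lift_fac _ _ _
    have hc := pullback.condition (f := d) (g := pullback.diagonal (tors G n).hom)
    have h1 := congrArg (· ≫ pullback.fst (tors G n).hom (tors G n).hom) hc
    have h2 := congrArg (· ≫ pullback.snd (tors G n).hom (tors G n).hom) hc
    simp only [d, Category.assoc, pullback.lift_fst, pullback.lift_snd, pullback.diagonal_fst,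
      pullback.diagonal_snd, Category.comp_id] at h1 h2
    have h3 : t ≫ b' = t ≫ c' := by
      apply Over.OverMorphism.ext
      rw [Over.comp_left, Over.comp_left, ← hl, Category.assoc, Category.assoc, h1, h2]
    have h4 := congrArg (· ≫ torsι G n) h3
    simp only [Category.assoc, hb', hc', c, MonObj.comp_mul, GrpObj.comp_inv] at h4
    exact (eq_mul_inv_iff_mul_eq.1 h4).symm

variable [IsAlgClosed K]

/-- primitive roots of unity exist on etale neighbourhoods -/
theorem exists_root_nhd (p₀ : Spec (CommRingCat.of K) ⟶ S) (n : ℕ) [NeZero n] (hn : (n : K) ≠ 0) :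
    ∃ (V : Scheme.{u}) (q : V ⟶ S) (_ : Etale q) (p : Spec (CommRingCat.of K) ⟶ V) (_ : p ≫ q = p₀) (z : Γ(V, ⊤)),
      z ^ n = 1 ∧ IsUnit (n : Γ(V, ⊤)) ∧ ∀ v : V, IsPrimitiveRoot (evalAt v z) n := by
  haveI : NeZero (n : K) := ⟨hn⟩
  obtain ⟨ζ, hζ⟩ := HasEnoughRootsOfUnity.exists_primitiveRoot K n
  let D : Over S := Red.DS S (Fin 1 → ℤ)
  haveI : Smooth D.hom := Groth.L25.SplitSub.smooth_DS S 1
  let e₁ : Multiplicative (Fin 1 → ℤ) := Multiplicative.ofAdd fun _ => 1
  let jK : K →+* Γ(Spec (CommRingCat.of K), ⊤) := (Scheme.ΓSpecIso (CommRingCat.of K)).inv.hom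
  let u : Γ(Spec (CommRingCat.of K), ⊤)ˣ := ((hζ.map_of_injective jK.injective).isUnit (NeZero.ne n)).unit
  let χ : Multiplicative (Fin 1 → ℤ) →* Γ(Spec (CommRingCat.of K), ⊤) :=
    { toFun := fun m => ((u ^ (m.toAdd 0) : Γ(Spec (CommRingCat.of K), ⊤)ˣ) : Γ(Spec (CommRingCat.of K), ⊤))
      map_one' := by simp
      map_mul' := fun a b => by rw [toAdd_mul, Pi.add_apply, zpow_add, Units.val_mul] }
  let x : Over.mk p₀ ⟶ D := Groth.L25.DSPts.pt χ
  have hchar : ∀ (T : Over S) (t : T ⟶ D) (m : ℕ), Groth.L25.DSPts.char (t ^ m) = Groth.L25.DSPts.char t ^ m := by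
    intro T t m
    induction m with
    | zero => rw [pow_zero, pow_zero, Groth.L25.DSPts.char_one]
    | succ m ih => rw [pow_succ, pow_succ, Groth.L25.DSPts.char_mul, ih]
  have hχ : χ ^ n = 1 := by
    refine MonoidHom.ext fun m => ?_
    have hu : u ^ n = 1 := Units.ext (by
      show jK ζ ^ n = 1
      rw [← map_pow, hζ.pow_eq_one, map_one])
    show ((u ^ (m.toAdd 0) : Γ(Spec (CommRingCat.of K), ⊤)ˣ) : Γ(Spec (CommRingCat.of K), ⊤)) ^ n = 1
    rw [← Units.val_pow_eq_pow_val, ← zpow_natCast, ← zpow_mul, mul_comm, zpow_mul, zpow_natCast, hu, one_zpow,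
      Units.val_one]
  have hxn : x ^ n = 1 := Groth.L25.DSPts.char_injective (by
    rw [hchar, Groth.L25.DSPts.char_pt, hχ, Groth.L25.DSPts.char_one])
  haveI := isCommMonObj_DS (V := S) (Fin 1 → ℤ)
  have hxl : x.left (IsLocalRing.closedPoint K) ∈ locus D n :=
    central_mem_locus p₀ n hn x fun Z q g =>
      Groth.L25.DSPts.char_injective (by rw [Groth.L25.DSPts.char_mul, Groth.L25.DSPts.char_mul, mul_comm])
  obtain ⟨x', hx'⟩ := exists_tors_lift x hxn fun t => by
    rw [Subsingleton.elim (α := PrimeSpectrum K) t (IsLocalRing.closedPoint K)]; exact hxl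
  haveI : Etale (tors D n).hom := etale_tors n
  let z₀ := Groth.L25.DSPts.char (torsι D n) e₁
  have hz₀ : z₀ ^ n = 1 := by
    show (Groth.L25.DSPts.char (torsι D n) ^ n) e₁ = 1
    rw [← hchar, torsι_pow, Groth.L25.DSPts.char_one]; rfl
  have hev : x'.left.appTop z₀ = jK ζ := by
    rw [← Groth.L25.DSPts.char_comp, hx', Groth.L25.DSPts.char_pt]
    show ((u ^ (1 : ℤ) : Γ(Spec (CommRingCat.of K), ⊤)ˣ) : Γ(Spec (CommRingCat.of K), ⊤)) = jK ζ
    rw [zpow_one]; rfl
  let W := (tors D n).left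
  let P₁ := x'.left (IsLocalRing.closedPoint K)
  have hmem : ∀ f : Γ(W, ⊤), x'.left.appTop f ≠ 0 → P₁ ∈ W.basicOpen f := by
    intro f hf
    refine (Scheme.evaluation_ne_zero_iff_mem_basicOpen W P₁ (show P₁ ∈ (⊤ : W.Opens) from trivial) f).1 ?_
    intro h0
    have h1 : evalAt (IsLocalRing.closedPoint K) (x'.left.appTop f) = 0 := by
      rw [evalAt_appTop]; exact (congrArg _ h0).trans (map_zero _)
    have hinj : Function.Injective ((evalAt (X := Spec (CommRingCat.of K)) (IsLocalRing.closedPoint K)).comp jK) :=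
      RingHom.injective _
    refine hf ?_
    obtain ⟨c, hc⟩ : ∃ c, jK c = x'.left.appTop f :=
      ⟨_, (Scheme.ΓSpecIso (CommRingCat.of K)).commRingCatIsoToRingEquiv.symm_apply_apply _⟩
    rw [← hc] at h1 ⊢
    rw [show c = 0 from hinj (h1.trans (map_zero _).symm), map_zero]
  let U : W.Opens := W.basicOpen (n : Γ(W, ⊤)) ⊓ (Finset.Ioo 0 n).inf fun d => W.basicOpen (z₀ ^ d - 1)
  have hU : P₁ ∈ U := by
    refine ⟨hmem _ ?_, ?_⟩
    · rw [map_natCast, ← map_natCast jK]
      exact (map_ne_zero_iff jK jK.injective).2 hn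
    · have : ∀ d ∈ Finset.Ioo 0 n, P₁ ∈ W.basicOpen (z₀ ^ d - 1) := fun d hd => hmem _ (by
        rw [map_sub, map_pow, map_one, hev, ← map_pow, ← map_one jK, ← map_sub]
        refine (map_ne_zero_iff jK jK.injective).2 (sub_ne_zero.2 fun h => ?_)
        obtain ⟨hd0, hdn⟩ := Finset.mem_Ioo.1 hd
        exact absurd (Nat.le_of_dvd hd0 (hζ.dvd_of_pow_eq_one d h)) (by omega))
      rw [TopologicalSpace.Opens.coe_finset_inf]
      simpa [Finset.inf_set_eq_iInter] using this
  have hr : Set.range x'.left ⊆ Set.range U.ι := by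
    rintro _ ⟨t, rfl⟩
    rw [Scheme.Opens.range_ι, Subsingleton.elim (α := PrimeSpectrum K) t (IsLocalRing.closedPoint K)]
    exact hU
  let p := IsOpenImmersion.lift U.ι x'.left hr
  refine ⟨U, U.ι ≫ (tors D n).hom, inferInstance, p, ?_, U.ι.appTop z₀, ?_, ?_, fun v => ?_⟩
  · rw [IsOpenImmersion.lift_fac_assoc]; exact Over.w x'
  · rw [← map_pow, hz₀, map_one]
  · refine isUnit_of_evalAt _ fun v => ?_
    rw [map_natCast]
    have h1 : evalAt (U.ι v) (n : Γ(W, ⊤)) ≠ 0 :=
      (Scheme.evaluation_ne_zero_iff_mem_basicOpen W (U.ι v) (show _ ∈ (⊤ : W.Opens) from trivial) _).2 v.2.1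
    rw [map_natCast] at h1
    rw [← map_natCast (U.ι.residueFieldMap v).hom]
    exact (map_ne_zero_iff _ (RingHom.injective _)).2 h1
  · have hv : IsPrimitiveRoot (evalAt (U.ι v) z₀) n := by
      refine IsPrimitiveRoot.mk_of_lt _ (NeZero.pos n) (by rw [← map_pow, hz₀, map_one]) fun d hd0 hdn h => ?_
      have h1 : U.ι v ∈ W.basicOpen (z₀ ^ d - 1) :=
        (Finset.inf_le (f := fun d => W.basicOpen (z₀ ^ d - 1)) (Finset.mem_Ioo.2 ⟨hd0, hdn⟩)) v.2.2
      refine (Scheme.evaluation_ne_zero_iff_mem_basicOpen W (U.ι v) (show _ ∈ (⊤ : W.Opens) from trivial) _).2 h1 ?_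
      show evalAt (U.ι v) _ = 0
      rw [map_sub, map_pow, map_one, h, sub_self]
    rw [evalAt_appTop]
    exact hv.map_of_injective (RingHom.injective _)

end Groth.L08.Borel
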