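import Groth.Agent.L08.Borel.TorsCentral
import Groth.Agent.L08.Borel.TorsNhd
import Groth.Agent.L08.Borel.TorsSet
import Groth.Agent.L08.Borel.ConstHom
import Groth.Agent.L08.Borel.FlatNhd

/-!
# Cartan subgroups are, etale locally, open in the centralizer of a central finite group
-/

set_option autoImplicit false
set_option backward.isDefEq.respectTransparency.types false
set_option linter.style.haveILetI false
set_option linter.unusedSectionVars false

universe u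

open CategoryTheory CategoryTheory.Limits MonoidalCategory CartesianMonoidalCategory MonObj GrpObj AlgebraicGeometry
open Groth.L25.NilAction

noncomputable section

namespace Groth.L08.Borel

variable {S : Scheme.{u}}

theorem irrFib_bc {S' : Scheme.{u}} (g : S' ⟶ S) {C : Over S} (h : Groth.L02.SchDom.IrrFib C.hom) :
    Groth.L02.SchDom.IrrFib (Red.bc g C).hom := by
  intro K _ _ q
  haveI := h K (q ≫ g)
  let e := (pullbackLeftPullbackSndIso C.hom g q).hom.homeomorph.symm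
  refine (irreducibleSpace_def _).2 ?_
  show IsIrreducible (Set.univ : Set ↥(pullback (pullback.snd C.hom g) q))
  rw [← e.surjective.range_eq, ← Set.image_univ]
  exact (IrreducibleSpace.isIrreducible_univ _).image _ e.continuous.continuousOn

/-- a morphism whose image on a field point is open is flat there -/
theorem flat_map_of_section {A B : Over S} {K : Type u} [Field K] (p : Spec (CommRingCat.of K) ⟶ S) (f : A ⟶ B) [Mono f]
    (h : ∃ b, b ≫ (Over.pullback p).map f = 𝟙 _) : Flat ((Over.pullback p).map f).left := by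
  obtain ⟨b, hb⟩ := h
  haveI : Mono ((Over.pullback p).map f) := Functor.map_mono _ _
  haveI : IsSplitEpi ((Over.pullback p).map f) := IsSplitEpi.mk' ⟨b, hb⟩
  haveI := isIso_of_mono_of_isSplitEpi ((Over.pullback p).map f)
  haveI : IsIso ((Over.pullback p).map f).left := inferInstanceAs (IsIso ((Over.forget _).map ((Over.pullback p).map f)))
  infer_instance

set_option maxHeartbeats 1600000 in
/-- near a field point at which `C` is the centralizer of a torus, `C` is open in the centralizer of a central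
finite multiplicative type group -/
theorem exists_torsCentral_nhd_point {G C : Over S} [GrpObj G] [GrpObj C] [Smooth G.hom] [IsSeparated G.hom]
    [QuasiCompact G.hom] [Smooth C.hom] (c : C ⟶ G) [IsMonHom c] [Mono c]
    (hirr : Groth.L02.SchDom.IrrFib C.hom) {K : Type u} [Field K] [IsAlgClosed K]
    (p₀ : Spec (CommRingCat.of K) ⟶ S) {T : Over (Spec (CommRingCat.of K))} [GrpObj T] (t : T ⟶ Red.bc p₀ G)
    [IsMonHom t] (hT : Red.IsTorus T) (hcen : Red.IsCentralizerOf t ((Over.pullback p₀).map c)) :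
    ∃ (V : Scheme.{u}) (q : V ⟶ S), Etale q ∧ p₀ (IsLocalRing.closedPoint K) ∈ Set.range q ∧
      TorsCentral ((Over.pullback q).map c) := by
  haveI := hcen.1; haveI := hcen.2.1
  haveI : Smooth (Red.bc p₀ G).hom := MorphismProperty.pullback_snd G.hom p₀ ‹_›
  haveI : QuasiCompact (Red.bc p₀ G).hom := MorphismProperty.pullback_snd G.hom p₀ ‹_›
  obtain ⟨-, -, -, -, hTcomm⟩ := torus_props hT
  obtain ⟨tC, htC⟩ := (hcen.2.2 T t).2 fun X x h => by rw [← MonObj.mul_comp, ← MonObj.mul_comp, hTcomm X x h]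
  obtain ⟨n, r, x, hn0, hnk, hx, hK⟩ := exists_torsion_set t hT
  haveI : NeZero n := ⟨hn0.ne'⟩
  let e₁ : Over.mk p₀ ⟶ Over.mk ((𝟙_ (Over (Spec (CommRingCat.of K)))).hom ≫ p₀) := Over.homMk (𝟙 _) (by
    show 𝟙 _ ≫ 𝟙 _ ≫ p₀ = p₀
    rw [Category.id_comp, Category.id_comp])
  let xb : Fin r → (Over.mk p₀ ⟶ C) := fun i => e₁ ≫ toBase p₀ (x i ≫ tC)
  have hxn : ∀ i, xb i ^ n = 1 := fun i => by
    have h1 : (x i ≫ tC) ^ n = 1 := by
      rw [← cancel_mono ((Over.pullback p₀).map c), MonObj.pow_comp, Category.assoc, htC, ← MonObj.pow_comp, hx,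
        MonObj.one_comp, MonObj.one_comp]
    rw [← MonObj.comp_pow, ← Groth.L25.CentralLift.toBase_pow, h1, toBase_one, MonObj.comp_one]
  have hxc : ∀ (Y : Over (Spec (CommRingCat.of K))) (y : Y ⟶ Red.bc p₀ C) i,
      Commute y (toUnit Y ≫ x i ≫ tC) := fun Y y i => by
    have h := (hcen.2.2 Y (y ≫ (Over.pullback p₀).map c)).1 ⟨y, rfl⟩ Y (𝟙 _) (toUnit Y ≫ x i)
    rw [Category.id_comp, Category.assoc, ← htC] at h
    rw [commute_iff_eq, ← cancel_mono ((Over.pullback p₀).map c), MonObj.mul_comp, MonObj.mul_comp]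
    simpa only [Category.assoc] using h
  have hqx : ∀ (Z : Over S) (qZ : Z ⟶ Over.mk p₀) i,
      qZ ≫ xb i = (Over.homMk (𝟙 _) (by
        show 𝟙 _ ≫ qZ.left ≫ p₀ = Z.hom
        rw [Category.id_comp]; exact Over.w qZ) : Z ⟶ Over.mk ((Over.mk qZ.left).hom ≫ p₀)) ≫
        toBase p₀ (toUnit (Over.mk qZ.left) ≫ x i ≫ tC) := fun Z qZ i => by
    apply Over.OverMorphism.ext
    show qZ.left ≫ 𝟙 _ ≫ (x i ≫ tC).left ≫ pullback.fst C.hom p₀ =
      𝟙 _ ≫ ((toUnit (Over.mk qZ.left)).left ≫ (x i ≫ tC).left) ≫ pullback.fst C.hom p₀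
    rw [Category.id_comp, Category.id_comp, Category.assoc]
    congr 1
  have hcx : ∀ (Z : Over S) (qZ : Z ⟶ Over.mk p₀) (g : Z ⟶ C) i, Commute (qZ ≫ xb i) g := fun Z qZ g i => by
    let Y : Over (Spec (CommRingCat.of K)) := Over.mk qZ.left
    let e : Z ⟶ Over.mk (Y.hom ≫ p₀) := Over.homMk (𝟙 _) (by
      show 𝟙 _ ≫ qZ.left ≫ p₀ = Z.hom
      rw [Category.id_comp]; exact Over.w qZ)
    let e' : Over.mk (Y.hom ≫ p₀) ⟶ Z := Over.homMk (𝟙 _) (by
      show 𝟙 _ ≫ Z.hom = qZ.left ≫ p₀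
      rw [Category.id_comp]; exact (Over.w qZ).symm)
    have hee : e ≫ e' = 𝟙 Z := Over.OverMorphism.ext (Category.id_comp _)
    have h := congrArg (fun m => e ≫ toBase p₀ m) (hxc Y (ofBase p₀ (e' ≫ g)) i).eq
    simp only [toBase_mul, toBase_ofBase, MonObj.comp_mul, reassoc_of% hee] at h
    rw [hqx Z qZ i]
    exact h.symm
  obtain ⟨V₀, q₀, hq₀, p₁, rfl, z, hz, hnu, hprim⟩ := exists_root_nhd p₀ n hnk
  haveI := hq₀
  obtain ⟨V₁, g, hg, p₂, hp₂, y, hy, hyl, hyx⟩ := exists_tors_tuple q₀ p₁ n xb hxn fun i s => by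
    rw [Subsingleton.elim (α := PrimeSpectrum K) s (IsLocalRing.closedPoint K)]
    exact Groth.L25.CentralLift.central_mem_locus _ n hnk (xb i) fun Z qZ g => (hcx Z qZ g i).eq
  haveI := hg
  let q₁ := g ≫ q₀
  let e₂ : Over.mk (p₁ ≫ q₀) ⟶ Over.mk q₁ := Over.homMk p₂ (by show p₂ ≫ g ≫ q₀ = _; rw [reassoc_of% hp₂]; rfl)
  have hU : ∀ ij : Fin r × Fin r, ∃ U : V₁.Opens, p₂ (IsLocalRing.closedPoint K) ∈ U ∧
      ∀ (T : Over S) (t : T ⟶ Over.mk q₁), Set.range t.left ⊆ (U : Set V₁) → Commute (t ≫ y ij.1) (t ≫ y ij.2) := by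
    intro ij
    refine exists_open_commute q₁ p₂ n (y ij.1) (y ij.2) (hy _) (hyl _) ?_
    let e₃ : Over.mk (p₂ ≫ q₁) ⟶ Over.mk (p₁ ≫ q₀) := Over.homMk (𝟙 _) (by
      show 𝟙 _ ≫ p₁ ≫ q₀ = p₂ ≫ g ≫ q₀
      rw [Category.id_comp, reassoc_of% hp₂])
    rw [show (Over.homMk p₂ rfl : Over.mk (p₂ ≫ q₁) ⟶ Over.mk q₁) = e₃ ≫ e₂ from
      Over.OverMorphism.ext (Category.id_comp _).symm]
    rw [Category.assoc, Category.assoc]
    congr 1
    rw [MonObj.comp_mul, MonObj.comp_mul, hyx, hyx]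
    have h := (hcx (Over.mk (p₁ ≫ q₀)) (𝟙 _) (xb ij.2) ij.1).eq
    rwa [Category.id_comp] at h
  choose U hUp hUc using hU
  let U₀ : V₁.Opens := Finset.univ.inf U
  have hp₂U : p₂ (IsLocalRing.closedPoint K) ∈ U₀ := by
    show p₂ (IsLocalRing.closedPoint K) ∈ ((Finset.univ.inf U : V₁.Opens) : Set V₁)
    rw [TopologicalSpace.Opens.coe_finset_inf]
    simpa [Finset.inf_set_eq_iInter] using hUp
  let V : Scheme.{u} := U₀.toScheme
  let q : V ⟶ S := U₀.ι ≫ q₁
  have hr₂ : Set.range p₂ ⊆ Set.range U₀.ι := by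
    rintro _ ⟨s, rfl⟩
    rw [Scheme.Opens.range_ι, Subsingleton.elim (α := PrimeSpectrum K) s (IsLocalRing.closedPoint K)]
    exact hp₂U
  let p₃ := IsOpenImmersion.lift U₀.ι p₂ hr₂
  have hp₃ι : p₃ ≫ U₀.ι = p₂ := IsOpenImmersion.lift_fac _ _ _
  have hp₃ : p₃ ≫ q = p₁ ≫ q₀ := by
    show p₃ ≫ U₀.ι ≫ g ≫ q₀ = _
    rw [reassoc_of% hp₃ι, reassoc_of% hp₂]
  let j : Over.mk ((𝟙_ (Over V)).hom ≫ q) ⟶ Over.mk q₁ := Over.homMk U₀.ι (by
    show U₀.ι ≫ q₁ = 𝟙 _ ≫ q
    rw [Category.id_comp])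
  let yV : Fin r → (𝟙_ (Over V) ⟶ Red.bc q C) := fun i => ofBase q (j ≫ y i)
  have hyV : ∀ i, yV i ^ n = 1 := fun i => Groth.L25.CentralLift.toBase_injective q (by
    rw [Groth.L25.CentralLift.toBase_pow, toBase_ofBase, ← MonObj.comp_pow, hy, MonObj.comp_one, toBase_one])
  have hyVc : ∀ i i', Commute (yV i) (yV i') := fun i i' => Groth.L25.CentralLift.toBase_injective q (by
    rw [toBase_mul, toBase_mul, toBase_ofBase, toBase_ofBase]
    refine (hUc (i, i') _ j ?_).eq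
    rintro _ ⟨v, rfl⟩
    exact Finset.inf_le (f := U) (Finset.mem_univ (i, i')) v.2)
  obtain ⟨μc, hμm, hμy, hμc⟩ := exists_cst_hom yV hyV hyVc
  haveI := hμm
  let zV : Γ(V, ⊤) := (U₀.ι ≫ g).appTop z
  have hzV : zV ^ n = 1 := by rw [← map_pow, hz, map_one]
  have hM := locally_cst (V := V) r zV hzV (fun v => by
      rw [evalAt_appTop]; exact (hprim _).map_of_injective (RingHom.injective _))
    (by have := hnu.map (U₀.ι ≫ g).appTop.hom; rwa [map_natCast] at this)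
  let CV := Red.bc q C
  let GV := Red.bc q G
  let cq : CV ⟶ GV := (Over.pullback q).map c
  haveI : IsMonHom cq := Groth.L25.MonoClosed.isMonHom_pullbackMap _ _
  haveI : Mono cq := Functor.map_mono _ _
  haveI : Smooth CV.hom := MorphismProperty.pullback_snd C.hom q ‹_›
  haveI : Smooth GV.hom := MorphismProperty.pullback_snd G.hom q ‹_›
  haveI : IsSeparated GV.hom := MorphismProperty.pullback_snd G.hom q ‹_›
  haveI : IsSeparated CV.hom := by
    haveI : Mono cq.left := inferInstanceAs (Mono ((Over.forget V).map cq))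
    rw [← Over.w cq]; infer_instance
  have hkey : ∀ (X : Over V) (ξ : X.left ⟶ Spec (CommRingCat.of K)) (_ : ξ ≫ p₃ = X.hom) i,
      toBase q (toUnit X ≫ yV i) = (Over.homMk ξ (by
        show ξ ≫ p₁ ≫ q₀ = X.hom ≫ q
        rw [← hp₃, ← Category.assoc, ‹ξ ≫ p₃ = X.hom›]) : Over.mk (X.hom ≫ q) ⟶ Over.mk (p₁ ≫ q₀)) ≫ xb i := by
    intro X ξ hξ i
    rw [toBase_comp q (toUnit X) (yV i), toBase_ofBase, ← hyx i]
    refine ((Category.assoc _ _ _).symm.trans ?_).trans (Category.assoc _ _ _)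
    congr 1
    apply Over.OverMorphism.ext
    show (toUnit X).left ≫ U₀.ι = ξ ≫ p₂
    rw [← hp₃ι, ← Category.assoc, hξ]
    congr 1
  have hpC : ∀ (X : Over V) (ξ : X.left ⟶ Spec (CommRingCat.of K)) (_ : ξ ≫ p₃ = X.hom)
      (a : X ⟶ CV) (m : X ⟶ cst V n r), Commute a (m ≫ μc) := by
    intro X ξ hξ a m
    refine hμc X a (fun i => Groth.L25.CentralLift.toBase_injective q ?_) m
    rw [toBase_mul, toBase_mul, hkey X ξ hξ i]
    exact (hcx _ _ _ i).symm.eq
  obtain ⟨W, gW, w, hWc, hwc, hWs⟩ := Groth.L25.Locus.exists_smooth_centralizer hM μc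
  haveI := hWc.1; haveI := hWc.2.1; haveI := hwc; haveI := hWs
  obtain ⟨U₁, hvU₁, hU₁⟩ := exists_open_isOpenImmersion w (p₃ (IsLocalRing.closedPoint K))
    (flat_fibre_of_point w p₃ (flat_map_of_section p₃ w (by
      let a := toBase p₃ (𝟙 (Red.bc p₃ CV))
      obtain ⟨b, hb⟩ := (hWc.2.2 _ a).2 fun X' x m =>
        (hpC X' (x.left ≫ (Red.bc p₃ CV).hom) (by rw [Category.assoc]; exact Over.w x) (x ≫ a) m).eq
      exact ⟨ofBase p₃ b, by rw [ofBase_comp, hb, ofBase_toBase]⟩)))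
  let ι₁ := U₁.ι
  have hr₃ : Set.range p₃ ⊆ Set.range ι₁ := by
    rintro _ ⟨s, rfl⟩
    rw [Scheme.Opens.range_ι, Subsingleton.elim (α := PrimeSpectrum K) s (IsLocalRing.closedPoint K)]
    exact hvU₁
  let p₄ := IsOpenImmersion.lift ι₁ p₃ hr₃
  have hp₄ : p₄ ≫ ι₁ = p₃ := IsOpenImmersion.lift_fac _ _ _
  haveI := hU₁ ι₁ (le_of_eq U₁.range_ι)
  let C₂ := Red.bc ι₁ CV
  let G₂ := Red.bc ι₁ GV
  let c₂ : C₂ ⟶ G₂ := (Over.pullback ι₁).map cq
  let μ₂ := (Over.pullback ι₁).map μc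
  haveI : IsMonHom ((Over.pullback ι₁).map w) := Groth.L25.MonoClosed.isMonHom_pullbackMap _ _
  haveI : Mono ((Over.pullback ι₁).map w) := Functor.map_mono _ _
  haveI : Smooth (Red.bc ι₁ W).hom := MorphismProperty.pullback_snd W.hom ι₁ ‹_›
  haveI : Smooth C₂.hom := MorphismProperty.pullback_snd CV.hom ι₁ ‹_›
  haveI : IsIso ((Over.pullback ι₁).map w) := isIso_of_open_subgroup (irrFib_bc ι₁ (irrFib_bc q hirr)) _
  haveI : IsMonHom μ₂ := Groth.L25.MonoClosed.isMonHom_pullbackMap _ _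
  haveI : IsMonHom c₂ := Groth.L25.MonoClosed.isMonHom_pullbackMap _ _
  haveI : Mono c₂ := Functor.map_mono _ _
  have hcomm₂ : ∀ (X : Over U₁.toScheme) (a : X ⟶ C₂) (m : X ⟶ Red.bc ι₁ (cst V n r)), Commute a (m ≫ μ₂) := by
    intro X a m
    have h := ((isCentralizerOf_bc ι₁ hWc).2.2 X a).1 ⟨a ≫ inv ((Over.pullback ι₁).map w), by
      rw [Category.assoc, IsIso.inv_hom_id, Category.comp_id]⟩ X (𝟙 _) m
    rwa [Category.id_comp] at h
  haveI : Smooth G₂.hom := MorphismProperty.pullback_snd GV.hom ι₁ ‹_›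
  haveI : IsSeparated G₂.hom := MorphismProperty.pullback_snd GV.hom ι₁ ‹_›
  have hM₂ := Groth.L25.Locus.locally_bc hM ι₁
  obtain ⟨Z, gZ, zz, hZc, hzc, hZs⟩ := Groth.L25.Locus.exists_smooth_centralizer hM₂ (μ₂ ≫ c₂)
  haveI := hZc.1; haveI := hZc.2.1; haveI := hzc; haveI := hZs
  obtain ⟨f, hf⟩ := (hZc.2.2 C₂ c₂).2 fun X' x m => by
    rw [← Category.assoc m, ← MonObj.mul_comp, ← MonObj.mul_comp, (hcomm₂ X' x m).eq]
  haveI : Mono (f ≫ zz) := by rw [hf]; infer_instance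
  haveI : Mono f := mono_of_mono f zz
  haveI : IsMonHom f := Groth.L25.Bridge.isMonHom_of_mul f fun X a b => by
    rw [← cancel_mono zz, Category.assoc, hf, MonObj.mul_comp (a ≫ f) (b ≫ f) zz, Category.assoc, Category.assoc, hf]
    exact MonObj.mul_comp a b c₂
  obtain ⟨U₂, hvU₂, hU₂⟩ := exists_open_isOpenImmersion f (p₄ (IsLocalRing.closedPoint K))
    (flat_fibre_of_point f p₄ (flat_map_of_section p₄ f (by
      let a := toBase p₄ (𝟙 (Red.bc p₄ Z))
      let X : Over U₁.toScheme := Over.mk ((Red.bc p₄ Z).hom ≫ p₄)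
      let Y : Over (Spec (CommRingCat.of K)) := Red.bc p₄ Z
      let gS : Over.mk ((Over.mk (X.hom ≫ ι₁)).hom ≫ q) ⟶ G := toBase q (toBase ι₁ (a ≫ zz))
      let e : Over.mk (Y.hom ≫ p₁ ≫ q₀) ⟶ Over.mk ((Over.mk (X.hom ≫ ι₁)).hom ≫ q) := Over.homMk (𝟙 _) (by
        show 𝟙 _ ≫ ((Y.hom ≫ p₄) ≫ ι₁) ≫ q = Y.hom ≫ p₁ ≫ q₀
        rw [Category.id_comp, Category.assoc, Category.assoc, reassoc_of% hp₄, hp₃])
      let e' : Over.mk ((Over.mk (X.hom ≫ ι₁)).hom ≫ q) ⟶ Over.mk (Y.hom ≫ p₁ ≫ q₀) := Over.homMk (𝟙 _) (by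
        show 𝟙 _ ≫ Y.hom ≫ p₁ ≫ q₀ = ((Y.hom ≫ p₄) ≫ ι₁) ≫ q
        rw [Category.id_comp, Category.assoc, Category.assoc, reassoc_of% hp₄, hp₃])
      have hee : e' ≫ e = 𝟙 _ := Over.OverMorphism.ext (Category.id_comp _)
      let gK : Y ⟶ Red.bc (p₁ ≫ q₀) G := ofBase (p₁ ≫ q₀) (e ≫ gS)
      have hcomK : ∀ i, Commute gK (toUnit Y ≫ x i ≫ t) := fun i => by
        obtain ⟨m, hm⟩ := hμy i
        let mX : Over.mk (X.hom ≫ ι₁) ⟶ cst V n r := toUnit _ ≫ m
        have h0 := (hZc.2.2 X (a ≫ zz)).1 ⟨a, rfl⟩ X (𝟙 _) (ofBase ι₁ mX)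
        rw [Category.id_comp] at h0
        have h1 := congrArg (toBase ι₁) h0
        rw [toBase_mul, toBase_mul, ← Category.assoc (ofBase ι₁ mX), toBase_map', toBase_map', toBase_ofBase,
          show mX ≫ μc = toUnit _ ≫ yV i by rw [Category.assoc, hm]] at h1
        have h2 : e ≫ (gS * toBase q ((toUnit (Over.mk (X.hom ≫ ι₁)) ≫ yV i) ≫ cq)) =
            e ≫ (toBase q ((toUnit (Over.mk (X.hom ≫ ι₁)) ≫ yV i) ≫ cq) * gS) := by
          refine congrArg (fun v => e ≫ v) ?_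
          refine ((toBase_mul q _ _).symm.trans ?_).trans (toBase_mul q _ _)
          exact congrArg (toBase q) h1
        rw [toBase_map', hkey (Over.mk (X.hom ≫ ι₁)) Y.hom
            (show Y.hom ≫ p₃ = (Y.hom ≫ p₄) ≫ ι₁ by rw [Category.assoc, hp₄]) i,
          MonObj.comp_mul, MonObj.comp_mul] at h2
        refine Groth.L25.CentralLift.toBase_injective (p₁ ≫ q₀) ?_
        rw [toBase_mul, toBase_mul, toBase_ofBase, ← htC, ← Category.assoc (x i), ← Category.assoc (toUnit Y),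
          toBase_map', toBase_comp (p₁ ≫ q₀) (toUnit Y)]
        refine Eq.trans ?_ (h2.trans ?_)
        all_goals
          congr 1
      obtain ⟨yK, hyK⟩ := (hcen.2.2 Y gK).2 fun X' s h => by
        refine (hK X' (s ≫ gK) (fun i => ?_) h).eq
        rw [commute_iff_eq]
        have h3 := congrArg (fun v => s ≫ v) (hcomK i).eq
        simp only [MonObj.comp_mul, ← Category.assoc, toUnit_unique (s ≫ toUnit Y) (toUnit X')] at h3
        simpa only [Category.assoc] using h3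
      let bb : X ⟶ C₂ := ofBase ι₁ (ofBase q (e' ≫ toBase (p₁ ≫ q₀) yK))
      have hbb : bb ≫ c₂ = a ≫ zz := by
        rw [ofBase_comp, ofBase_comp, Category.assoc, ← toBase_map', hyK, toBase_ofBase, reassoc_of% hee,
          ofBase_toBase, ofBase_toBase]
      have hbf : bb ≫ f = a := by rw [← cancel_mono zz, Category.assoc, hf, hbb]
      exact ⟨ofBase p₄ bb, by rw [ofBase_comp, hbf, ofBase_toBase]⟩)))
  have hopen := hU₂ U₂.ι (le_of_eq U₂.range_ι)
  haveI : LocallyOfFinitePresentation zz.left := by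
    haveI : LocallyOfFinitePresentation (zz.left ≫ G₂.hom) := by rw [Over.w zz]; infer_instance
    exact Groth.L20.locallyOfFinitePresentation_of_comp zz.left G₂.hom
  have hfinal := torsCentral_map U₂.ι c₂ _ μ₂ hM₂ hcomm₂ Z zz hZc f hf hopen
  refine ⟨U₂.toScheme, (U₂.ι ≫ ι₁) ≫ q, inferInstance, ?_, torsCentral_comp _ _ c (torsCentral_comp U₂.ι ι₁ cq hfinal)⟩
  refine ⟨⟨p₄ (IsLocalRing.closedPoint K), hvU₂⟩, ?_⟩
  show q (ι₁ (p₄ (IsLocalRing.closedPoint K))) = _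
  rw [← Scheme.Hom.comp_apply p₄, hp₄, ← Scheme.Hom.comp_apply, hp₃]

end Groth.L08.Borel
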