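import Groth.Agent.L08.Borel.FlatNhd
import Groth.Agent.L25.Locus.Smooth
import Groth.Agent.L02.SchDom.MonoApps

/-!
# Factorisation through smooth subgroups from the geometric fibres
-/

set_option autoImplicit false
set_option backward.isDefEq.respectTransparency.types false
set_option linter.style.haveILetI false
set_option linter.unusedSectionVars false

universe u

open CategoryTheory CategoryTheory.Limits MonoidalCategory CartesianMonoidalCategory MonObj GrpObj AlgebraicGeometry
open Groth.L25.NilAction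

noncomputable section

namespace Groth.L08.Borel

variable {S : Scheme.{u}}

/-- a subgroup open in the centralizer of a multiplicative type group inside `H` lies in `H` if it does on the
geometric fibres -/
theorem exists_fac_of_fibres_cent {G H A M Z : Over S} [GrpObj G] [GrpObj H] [GrpObj M] [Smooth G.hom] [Smooth H.hom]
    [Smooth A.hom]
    (hM : TwC.Locally S TwC.Topology.fpqc (fun S' f => ∃ (M' : Type) (_ : AddCommGroup M'),
      Nonempty (Grp.mk (Red.bc f M) ≅ Grp.mk (Red.DS S' M'))))
    (i : H ⟶ G) [IsMonHom i] [Mono i] (φ : M ⟶ H) [IsMonHom φ]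
    (z : Z ⟶ G) [Mono z] [LocallyOfFinitePresentation z.left]
    (hz : ∀ (X : Over S) (g : X ⟶ G), (∃ w, w ≫ z = g) ↔
      ∀ (X' : Over S) (x : X' ⟶ X) (m : X' ⟶ M), (x ≫ g) * (m ≫ φ ≫ i) = (m ≫ φ ≫ i) * (x ≫ g))
    (ψ : A ⟶ G) (f : A ⟶ Z) (hf : f ≫ z = ψ) [IsOpenImmersion f.left]
    (hfib : ∀ s : S, ∃ w : Red.geomFibre s A ⟶ Red.geomFibre s H,
      w ≫ (Over.pullback (Red.geomPt s)).map i = (Over.pullback (Red.geomPt s)).map ψ) :
    ∃ h : A ⟶ H, h ≫ i = ψ := by
  haveI : Mono z.left := inferInstanceAs (Mono ((Over.forget S).map z))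
  obtain ⟨W, y, hym, hyl, hy⟩ := Groth.L02.SchDom.exists_preimage z i
  haveI := hym; haveI := hyl
  haveI : Mono y := Over.mono_of_mono_left y
  have hW : ∀ (T : Over S) (x : T ⟶ H), (∃ w, w ≫ y = x) ↔ Groth.L25.Locus.Transports φ φ T x := fun T x => by
    rw [hy, hz]
    refine forall_congr' fun X' => forall_congr' fun t => forall_congr' fun m => ?_
    rw [mul_inv_eq_iff_eq_mul, ← cancel_mono i, MonObj.mul_comp, MonObj.mul_comp]
    simp only [Category.assoc]
  haveI : Smooth W.hom := Groth.L25.Locus.smooth_transporter hM φ φ y hW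
  obtain ⟨κ, hκ⟩ := (hy W y).1 ⟨𝟙 _, Category.id_comp _⟩
  haveI : Mono (κ ≫ z) := by rw [hκ]; infer_instance
  haveI : Mono κ := mono_of_mono κ z
  let j := pullback.fst f κ
  let p := pullback.snd f κ
  have sq : IsPullback j.left p.left f.left κ.left := (IsPullback.of_hasPullback f κ).map (Over.forget S)
  haveI : IsOpenImmersion p.left := MorphismProperty.of_isPullback (P := @IsOpenImmersion) sq ‹_›
  haveI : Smooth (pullback f κ).hom := by rw [← Over.w p]; infer_instance
  haveI : Mono j := inferInstanceAs (Mono (pullback.fst f κ))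
  haveI : IsIso j := isIso_of_geomFibres j fun s => by
    obtain ⟨w, hw⟩ := hfib s
    let q := Red.geomPt s
    let a := toBase q (𝟙 (Red.bc q A))
    have hha : toBase q w ≫ i = a ≫ ψ := by
      rw [← toBase_map', ← toBase_map', hw, Category.id_comp]
    obtain ⟨b, hb⟩ := (hy _ (toBase q w)).2 ⟨a ≫ f, by rw [Category.assoc, hf, hha]⟩
    let ℓ := pullback.lift a b (by
      rw [← cancel_mono z, Category.assoc, hf, Category.assoc, hκ, reassoc_of% hb]; exact hha.symm)
    haveI : Mono ((Over.pullback q).map j) := Functor.map_mono _ _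
    haveI : IsSplitEpi ((Over.pullback q).map j) := IsSplitEpi.mk' ⟨ofBase q ℓ, by
      rw [ofBase_comp, pullback.lift_fst, ofBase_toBase]⟩
    exact isIso_of_mono_of_isSplitEpi _
  refine ⟨inv j ≫ p ≫ y, ?_⟩
  rw [Category.assoc, IsIso.inv_comp_eq, Category.assoc, ← hκ, ← hf, ← Category.assoc, ← pullback.condition,
    Category.assoc]

end Groth.L08.Borel
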