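import Groth.Agent.L08.Borel.CartanTors
import Groth.Agent.L08.Borel.FacTorsion
import Groth.Agent.L08.Borel.SendsIntoSmooth
import Groth.Agent.L25.TwConst.Local
import Groth.Agent.L08.Borel.CartanImage

/-!
# Transporters of Cartan subgroups into smooth subgroups are smooth
-/

set_option autoImplicit false
set_option backward.isDefEq.respectTransparency.types false
set_option linter.style.haveILetI false
set_option linter.unusedSectionVars false

universe u

open CategoryTheory CategoryTheory.Limits MonoidalCategory CartesianMonoidalCategory MonObj GrpObj AlgebraicGeometry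
open Groth.L25 Groth.L25.NilAction

noncomputable section

namespace Groth.L08.Borel

variable {S : Scheme.{u}}

/-- Cartan subgroups have irreducible geometric fibres -/
theorem irrFib_of_isCartan {G C : Over S} [GrpObj G] [GrpObj C] [Smooth G.hom] [QuasiCompact G.hom] {c : C ⟶ G}
    (hconn : ∀ s : S, _root_.IsConnected (G.hom.base ⁻¹' {s})) (hc : SGA3x.IsCartan c) :
    Groth.L02.SchDom.IrrFib C.hom := by
  haveI := hc.2.2.1
  refine Groth.L02.SchDom.IrrFib.of_connected C.hom fun s => ?_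
  haveI : Smooth (Red.geomFibre s G).hom := inferInstanceAs (Smooth (pullback.snd G.hom (Red.geomPt s)))
  haveI : QuasiCompact (Red.geomFibre s G).hom := inferInstanceAs (QuasiCompact (pullback.snd G.hom (Red.geomPt s)))
  haveI : ConnectedSpace ↥(Red.geomFibre s G).left := by
    have h := Groth.L25.Extension.isConnected_fibre_bc (Red.geomPt s) G hconn (IsLocalRing.closedPoint _)
    rw [connectedSpace_iff_univ]
    refine (congrArg _root_.IsConnected ?_).mp h
    exact Set.eq_univ_of_forall fun x => Subsingleton.elim (α := PrimeSpectrum (AlgebraicClosure (S.residueField s))) _ _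
  obtain ⟨-, -, T, gT, t, ht, hcen⟩ := hc.2.2.2 s
  haveI := ht.1
  exact (Groth.L25.Locus.centralizer_smooth_connected _ T t ht.2.2.1 _ _ hcen).2

/-- near every point a Cartan subgroup is, etale locally, open in the centralizer of a central torsion group -/
theorem exists_torsCentral_nhd {G C : Over S} [GrpObj G] [GrpObj C] [Smooth G.hom] [IsSeparated G.hom]
    [QuasiCompact G.hom] {c : C ⟶ G} (hconn : ∀ s : S, _root_.IsConnected (G.hom.base ⁻¹' {s}))
    (hc : SGA3x.IsCartan c) (s : S) :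
    ∃ (V : Scheme.{u}) (q : V ⟶ S), Etale q ∧ s ∈ Set.range q ∧ TorsCentral ((Over.pullback q).map c) := by
  haveI := hc.1; haveI := hc.2.1; haveI := hc.2.2.1
  obtain ⟨-, -, T, gT, t, ht, hcen⟩ := hc.2.2.2 s
  haveI := ht.1
  obtain ⟨V, q, hq, hs, h⟩ := exists_torsCentral_nhd_point c (irrFib_of_isCartan hconn hc) (Red.geomPt s) t ht.2.2.1 hcen
  refine ⟨V, q, hq, ?_, h⟩
  rwa [show Red.geomPt s (IsLocalRing.closedPoint _) = s by
    rw [show Red.geomPt s = Spec.map _ ≫ S.fromSpecResidueField s from rfl, Scheme.Hom.comp_apply]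
    exact S.fromSpecResidueField_apply s _] at hs

theorem mono_comp_iso {A B B' : Over S} (u : A ⟶ B) [Mono u] (e : B ⟶ B') [IsIso e] : Mono (u ≫ e) := inferInstance

/-- the transporter into a smooth subgroup of a subgroup open in the centralizer of a central torsion group
is smooth -/
theorem smooth_sends_torsCentral {G C H W : Over S} [GrpObj G] [GrpObj C] [GrpObj H] [Smooth G.hom] [Smooth H.hom]
    [Smooth C.hom] (c : C ⟶ G) [IsMonHom c] [Mono c] (hc : TorsCentral c) (i : H ⟶ G) [IsMonHom i] [Mono i]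
    (w : W ⟶ G) [Mono w] [LocallyOfFinitePresentation w.left]
    (hW : ∀ (T' : Over S) (x : T' ⟶ G), (∃ v, v ≫ w = x) ↔ Locus.Sends c i T' x) : Smooth W.hom := by
  obtain ⟨M, gM, μc, Z, gZ, z, f, hμ, hM, hcomm, hz, hl, hs, hf, ho⟩ := hc
  haveI := hμ; haveI := hl; haveI := ho; haveI := hz.1; haveI := hz.2.1
  have : LocallyOfFinitePresentation W.hom := by rw [← Over.w w]; infer_instance
  refine Locus.smooth_of_formallySmooth _ fun B _ I hI a₀ b hab => ?_
  let g₀s : Over.mk ((Cocycle.Z I).hom ≫ b) ⟶ W := Over.homMk a₀ hab.symm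
  have hG' : Smooth (Red.bc b G).hom := MorphismProperty.pullback_snd G.hom b ‹_›
  haveI : Smooth (Red.bc b H).hom := MorphismProperty.pullback_snd H.hom b ‹_›
  haveI : Smooth (Red.bc b C).hom := MorphismProperty.pullback_snd C.hom b ‹_›
  let g₀ : Cocycle.Z I ⟶ Red.bc b G := NilAction.ofBase b (g₀s ≫ w)
  have htr₁ := (hW _ (g₀s ≫ w)).1 ⟨g₀s, rfl⟩
  let iB := (Over.pullback b).map i
  let cB := (Over.pullback b).map c
  let μB := (Over.pullback b).map μc
  let zB := (Over.pullback b).map z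
  let fB := (Over.pullback b).map f
  haveI : IsMonHom iB := MonoClosed.isMonHom_pullbackMap _ _
  haveI : IsMonHom cB := MonoClosed.isMonHom_pullbackMap _ _
  haveI : IsMonHom μB := MonoClosed.isMonHom_pullbackMap _ _
  haveI : Mono iB := Functor.map_mono _ _
  haveI : Mono cB := Functor.map_mono _ _
  haveI : Mono zB := Functor.map_mono _ _
  obtain ⟨gl, hgl⟩ := Cocycle.exists_lift_point (J := I) ⟨2, hI⟩ g₀
  have hfac : ∀ (Y : Over (Spec (CommRingCat.of B))) (_ : Y ⟶ Cocycle.Z I) (h : Y ⟶ Red.bc b C),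
      ∃ h' : Y ⟶ Red.bc b H, h' ≫ iB = h ≫ Cocycle.intBy gl cB := fun Y q h => by
    obtain ⟨h', e⟩ := htr₁ _ ((Over.homMk q.left (by
      show q.left ≫ (Cocycle.Z I).hom ≫ b = Y.hom ≫ b
      rw [← Category.assoc, Over.w q]) : Over.mk (Y.hom ≫ b) ⟶ Over.mk ((Cocycle.Z I).hom ≫ b))) (NilAction.toBase b h)
    refine ⟨NilAction.ofBase b h', ?_⟩
    rw [Cocycle.comp_intBy, toUnit_unique (toUnit Y) (q ≫ toUnit _), Category.assoc, hgl,
      ← NilAction.ofBase_toBase b h, Locus.comp_ofBase, NilAction.ofBase_comp, NilAction.ofBase_comp,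
      ← Locus.ofBase_inv, ← Locus.ofBase_mul, ← Locus.ofBase_mul, e]
  obtain ⟨f₀, hf₀⟩ := hfac _ (snd (Red.bc b M) (Cocycle.Z I)) (fst (Red.bc b M) (Cocycle.Z I) ≫ μB)
  have hu : ∀ (Y : Over (Spec (CommRingCat.of B))) (h : Y ⟶ Red.bc b M),
      (h ≫ μB) ≫ Cocycle.intBy gl cB = h ≫ Cocycle.intBy gl (μB ≫ cB) := fun Y h => by
    rw [Cocycle.comp_intBy, Cocycle.comp_intBy, Category.assoc]
  have hMB := Locus.locally_bc hM b
  obtain ⟨φ, hφm, hφ⟩ := HomSmooth.exists_hom_lift_smooth hMB (J := I) ⟨2, hI⟩ f₀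
    (fun Y p a a' => by
      rw [← cancel_mono iB, MonObj.mul_comp, Category.assoc, Category.assoc, Category.assoc, hf₀, hu]
      simp only [lift_fst_assoc]
      exact MonObj.mul_comp a a' _)
  have hA : Cocycle.AgreeMod I (φ ≫ iB) (Cocycle.intBy gl (μB ≫ cB)) := fun Y q h => by
    have e : h ≫ φ = lift h q ≫ f₀ := by rw [← hφ, lift_fst_assoc]
    rw [← Category.assoc, e, Category.assoc, hf₀, hu, lift_fst_assoc]
  obtain ⟨g', hg'1, hg'⟩ := Cocycle.exists_conj_nilpotent hMB (J := I) ⟨2, hI⟩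
    (Cocycle.intBy gl (μB ≫ cB)) (φ ≫ iB) (fun Y q h => (hA Y q h).symm)
  let g := g' * gl
  let cj : Red.bc b G ⟶ Red.bc b G := Cocycle.intBy g (𝟙 _)
  let cj' : Red.bc b G ⟶ Red.bc b G := Cocycle.intBy g⁻¹ (𝟙 _)
  have hcj1 : cj ≫ cj' = 𝟙 _ := by
    rw [Cocycle.comp_intBy, Category.comp_id, GrpObj.comp_inv]
    simp only [cj, Cocycle.intBy]
    group
  have hcj2 : cj' ≫ cj = 𝟙 _ := by
    rw [Cocycle.comp_intBy, Category.comp_id]
    simp only [cj', Cocycle.intBy, GrpObj.comp_inv]
    group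
  haveI : IsIso cj := ⟨cj', hcj1, hcj2⟩
  haveI : IsMonHom cj := inferInstanceAs (IsMonHom (Cocycle.intBy g (𝟙 _)))
  haveI : IsIso cj.left := inferInstanceAs (IsIso ((Over.forget _).map cj))
  haveI : LocallyOfFinitePresentation (zB ≫ cj).left := by
    haveI : LocallyOfFinitePresentation zB.left :=
      MorphismProperty.of_isPullback (P := @LocallyOfFinitePresentation) (SchImage.isPullback_fst_map b z) hl
    exact inferInstanceAs (LocallyOfFinitePresentation (zB.left ≫ cj.left))
  haveI : IsOpenImmersion fB.left :=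
    MorphismProperty.of_isPullback (P := @IsOpenImmersion) (SchImage.isPullback_fst_map b f) ho
  have hcjμ : ∀ (Y : Over (Spec (CommRingCat.of B))) (m : Y ⟶ Red.bc b M),
      (m ≫ μB ≫ cB) ≫ cj = m ≫ φ ≫ iB := fun Y m => by
    rw [Cocycle.comp_intBy, Category.comp_id, hg' Y m, Cocycle.comp_intBy]
    simp only [g, MonObj.comp_mul]
    group
  have hzc := isCentralizerOf_bc b hz
  obtain ⟨hC, hhC⟩ : ∃ h, h ≫ iB = cB ≫ cj := by
    refine exists_fac_of_fibres_cent hMB iB φ (zB ≫ cj)
      (fun X x => ⟨?_, fun hx => ?_⟩) (cB ≫ cj) fB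
      (by rw [← Category.assoc, ← Functor.map_comp, hf]) (fun s => ?_)
    · rintro ⟨v, rfl⟩ X' t m
      have h1 := (hzc.2.2 X (v ≫ zB)).1 ⟨v, rfl⟩ X' t m
      rw [Functor.map_comp] at h1
      have h2 := congrArg (· ≫ cj) h1
      simp only [MonObj.mul_comp] at h2
      change (_ ≫ cj) * ((m ≫ μB ≫ cB) ≫ cj) = ((m ≫ μB ≫ cB) ≫ cj) * _ at h2
      rw [hcjμ X' m] at h2
      simpa only [Category.assoc] using h2
    · obtain ⟨v, hv⟩ := (hzc.2.2 X (x ≫ cj')).2 fun X' t m => by
        have h1 := hx X' t m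
        rw [← hcjμ X' m] at h1
        have h2 := congrArg (· ≫ cj') h1
        haveI : IsMonHom cj' := inferInstanceAs (IsMonHom (Cocycle.intBy g⁻¹ (𝟙 _)))
        simp only [MonObj.mul_comp, Category.assoc, hcj1, Category.comp_id] at h2
        rw [Functor.map_comp]
        exact h2
      exact ⟨v, by rw [← Category.assoc, hv, Category.assoc, hcj2, Category.comp_id]⟩
    · let q := Red.geomPt s
      obtain ⟨θ, hθ⟩ := Spec.map_surjective q
      have hJ : ∀ r ∈ I, θ.hom r = 0 := fun r hr => by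
        have h2 : θ.hom r ^ 2 = 0 := by
          rw [← map_pow]
          have : r ^ 2 ∈ I ^ 2 := Ideal.pow_mem_pow hr 2
          rw [hI, Ideal.mem_bot] at this
          rw [this, map_zero]
        exact eq_zero_of_pow_eq_zero h2
      let a := Spec.map (CommRingCat.ofHom (Ideal.Quotient.lift I θ.hom hJ))
      have ha : a ≫ (Cocycle.Z I).hom = q := by
        show Spec.map _ ≫ Spec.map _ = q
        rw [← Spec.map_comp, ← CommRingCat.ofHom_comp, Ideal.Quotient.lift_comp_mk, ← hθ]
        rfl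
      let Y : Over (Spec (CommRingCat.of B)) := Over.mk ((Red.geomFibre s (Red.bc b C)).hom ≫ q)
      let qY : Y ⟶ Cocycle.Z I := Over.homMk ((Red.geomFibre s (Red.bc b C)).hom ≫ a) (by
        rw [Category.assoc, ha]; rfl)
      let y : Y ⟶ Red.bc b C := toBase q (𝟙 (Red.geomFibre s (Red.bc b C)))
      obtain ⟨h', e⟩ := hfac Y qY y
      refine ⟨ofBase q h', Groth.L25.CentralLift.toBase_injective q ?_⟩
      rw [toBase_map', toBase_ofBase, e]
      conv_rhs => rw [← Category.id_comp ((Over.pullback q).map (cB ≫ cj))]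
      rw [toBase_map', ← Category.assoc (toBase q (𝟙 (Red.geomFibre s (Red.bc b C)))) cB cj]
      rw [Cocycle.comp_intBy, Cocycle.comp_intBy, Category.comp_id]
      simp only [g, MonObj.comp_mul]
      rw [show toUnit Y ≫ g' = 1 by rw [toUnit_unique (toUnit Y) (qY ≫ toUnit _), Category.assoc, hg'1, MonObj.comp_one],
        _root_.one_mul]
  let cu : Over.mk b ⟶ Over.mk ((𝟙_ (Over (Spec (CommRingCat.of B)))).hom ≫ b) :=
    Over.homMk (𝟙 _) (by
      show 𝟙 _ ≫ 𝟙 _ ≫ b = b
      rw [Category.id_comp, Category.id_comp])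
  let x : Over.mk b ⟶ G := cu ≫ NilAction.toBase b g
  have hx : Locus.Sends c i (Over.mk b) x := by
    intro X' t h
    let Y : Over (Spec (CommRingCat.of B)) := Over.mk t.left
    let e : Over.mk (Y.hom ≫ b) ⟶ X' := Over.homMk (𝟙 _) (by
      show 𝟙 _ ≫ X'.hom = t.left ≫ b
      rw [Category.id_comp]; exact (Over.w t).symm)
    have : IsIso e := by
      have : IsIso e.left := inferInstanceAs (IsIso (𝟙 _))
      have : IsIso ((Over.forget S).map e) := this
      exact isIso_of_reflects_iso _ (Over.forget S)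
    have het : (e ≫ t) ≫ x = NilAction.toBase b (toUnit Y ≫ g) := by
      apply Over.OverMorphism.ext
      show ((𝟙 _ ≫ t.left) ≫ 𝟙 _ ≫ g.left ≫ pullback.fst G.hom b) =
        ((toUnit Y).left ≫ g.left) ≫ pullback.fst G.hom b
      rw [Category.id_comp, Category.id_comp, Category.assoc]
      congr 1
    let hb := NilAction.ofBase b (e ≫ h)
    refine ⟨inv e ≫ NilAction.toBase b (hb ≫ hC), ?_⟩
    rw [← cancel_epi e]
    simp only [MonObj.comp_mul, GrpObj.comp_inv, ← Category.assoc, IsIso.hom_inv_id, Category.id_comp, het]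
    rw [← toBase_map']
    change _ = toBase b ((hb ≫ hC) ≫ iB)
    rw [Category.assoc hb hC iB, hhC, ← Category.assoc hb cB cj, Cocycle.comp_intBy, Category.comp_id,
      toBase_mul, toBase_mul, toBase_inv, toBase_map', toBase_ofBase]
  obtain ⟨v, hv⟩ := (hW _ x).2 hx
  refine ⟨v.left, ?_, Over.w v⟩
  let zb : Over.mk ((Cocycle.Z I).hom ≫ b) ⟶ Over.mk b := Over.homMk (Cocycle.Z I).hom rfl
  have hzb : zb ≫ x = g₀s ≫ w := by
    rw [← NilAction.toBase_ofBase b (g₀s ≫ w)]
    change zb ≫ x = NilAction.toBase b g₀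
    have e1 : toUnit (Cocycle.Z I) ≫ g = g₀ := by
      show _ ≫ (g' * gl) = _
      rw [MonObj.comp_mul, hg'1, hgl, _root_.one_mul]
    rw [← e1]
    apply Over.OverMorphism.ext
    show (Cocycle.Z I).hom ≫ 𝟙 _ ≫ g.left ≫ pullback.fst G.hom b =
        ((toUnit (Cocycle.Z I)).left ≫ g.left) ≫ pullback.fst G.hom b
    rw [Category.id_comp, Category.assoc]
    congr 1
  exact congrArg (fun m => m.left) ((cancel_mono w).1 (by rw [Category.assoc, hv, hzb]) : zb ≫ v = g₀s)

/-- base change of transporters -/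
theorem sends_bc {S' : Scheme.{u}} (q : S' ⟶ S) {G C H W : Over S} [GrpObj G] [GrpObj C] [GrpObj H]
    (c : C ⟶ G) (i : H ⟶ G) (w : W ⟶ G)
    (hW : ∀ (T' : Over S) (x : T' ⟶ G), (∃ v, v ≫ w = x) ↔ Locus.Sends c i T' x)
    (Y : Over S') (x : Y ⟶ Red.bc q G) :
    (∃ v, v ≫ (Over.pullback q).map w = x) ↔
      Locus.Sends ((Over.pullback q).map c) ((Over.pullback q).map i) Y x := by
  constructor
  · rintro ⟨v, rfl⟩ X' t h
    obtain ⟨h', e⟩ := (hW _ (toBase q v ≫ w)).1 ⟨toBase q v, rfl⟩ _ ((Over.map q).map t) (toBase q h)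
    refine ⟨ofBase q h', toBase_injective q _ _ ?_⟩
    rw [toBase_mul, toBase_mul, toBase_inv, toBase_comp q t, toBase_map', toBase_map', toBase_map', toBase_ofBase]
    exact e
  · intro hx
    obtain ⟨v, hv⟩ := (hW _ (toBase q x)).2 fun X' t h => by
      have hxw : t.left ≫ Y.hom ≫ q = X'.hom := Over.w t
      let Z : Over S' := Over.mk (t.left ≫ Y.hom)
      let e : X' ⟶ Over.mk (Z.hom ≫ q) := Over.homMk (𝟙 X'.left) (by
        show 𝟙 _ ≫ (t.left ≫ Y.hom) ≫ q = X'.hom
        rw [Category.id_comp, Category.assoc, hxw])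
      let e' : Over.mk (Z.hom ≫ q) ⟶ X' := Over.homMk (𝟙 X'.left) (by
        show 𝟙 _ ≫ X'.hom = (t.left ≫ Y.hom) ≫ q
        rw [Category.id_comp, Category.assoc, hxw])
      let y : Z ⟶ Y := Over.homMk t.left rfl
      have hee : e ≫ e' = 𝟙 X' := Over.OverMorphism.ext (Category.id_comp _)
      have hy : (Over.map q).map y = e' ≫ t := Over.OverMorphism.ext (Category.id_comp _).symm
      obtain ⟨h', he⟩ := hx Z y (ofBase q (e' ≫ h))
      refine ⟨e ≫ toBase q h', ?_⟩
      have hh := congrArg (fun m => e ≫ toBase q m) he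
      rw [toBase_mul, toBase_mul, toBase_inv, toBase_comp q y, toBase_map', toBase_ofBase, hy, toBase_map'] at hh
      simp only [MonObj.comp_mul, GrpObj.comp_inv, Category.assoc, reassoc_of% hee] at hh
      rw [hh, Category.assoc]
    exact ⟨ofBase q v, by rw [ofBase_comp, hv, ofBase_toBase]⟩

/-- transporters of Cartan subgroups into smooth subgroups are smooth -/
theorem smooth_sends_cartan {G C H W : Over S} [GrpObj G] [GrpObj C] [GrpObj H] [Smooth G.hom] [IsSeparated G.hom]
    [QuasiCompact G.hom] [Smooth H.hom] (hconn : ∀ s : S, _root_.IsConnected (G.hom.base ⁻¹' {s}))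
    (c : C ⟶ G) (hc : SGA3x.IsCartan c) (i : H ⟶ G) [IsMonHom i] [Mono i]
    (w : W ⟶ G) [Mono w] [LocallyOfFinitePresentation w.left]
    (hW : ∀ (T' : Over S) (x : T' ⟶ G), (∃ v, v ≫ w = x) ↔ Locus.Sends c i T' x) : Smooth W.hom := by
  haveI := hc.1; haveI := hc.2.1; haveI := hc.2.2.1
  refine Groth.L25.TwConst.of_fppf_local (P := @Smooth) W.hom fun s => ?_
  obtain ⟨V, q, hq, hs, h⟩ := exists_torsCentral_nhd hconn hc s
  haveI := hq
  refine ⟨V, q, inferInstance, inferInstance, hs, ?_⟩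
  haveI : Smooth (Red.bc q G).hom := MorphismProperty.pullback_snd G.hom q ‹_›
  haveI : Smooth (Red.bc q H).hom := MorphismProperty.pullback_snd H.hom q ‹_›
  haveI : Smooth (Red.bc q C).hom := MorphismProperty.pullback_snd C.hom q ‹_›
  haveI : IsMonHom ((Over.pullback q).map c) := MonoClosed.isMonHom_pullbackMap _ _
  haveI : Mono ((Over.pullback q).map c) := Functor.map_mono _ _
  haveI : IsMonHom ((Over.pullback q).map i) := MonoClosed.isMonHom_pullbackMap _ _
  haveI : Mono ((Over.pullback q).map i) := Functor.map_mono _ _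
  haveI : Mono ((Over.pullback q).map w) := Functor.map_mono _ _
  haveI : LocallyOfFinitePresentation ((Over.pullback q).map w).left :=
    MorphismProperty.of_isPullback (P := @LocallyOfFinitePresentation) (SchImage.isPullback_fst_map q w) ‹_›
  exact smooth_sends_torsCentral _ h ((Over.pullback q).map i) ((Over.pullback q).map w) (sends_bc q c i w hW)

end Groth.L08.Borel
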