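import Groth.Agent.L08.Borel.Nilp
import Groth.Agent.L08.UnipTorsion
import Groth.Agent.L08.HomSpace.Quot

/-!
# Torsion points of a group with a central maximal torus
-/

set_option autoImplicit false
set_option backward.isDefEq.respectTransparency.types false
set_option linter.style.haveILetI false
set_option linter.unusedSectionVars false

universe u

open CategoryTheory CategoryTheory.Limits MonoidalCategory CartesianMonoidalCategory MonObj GrpObj AlgebraicGeometry
open TensorProduct WithConv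
open Groth.L25.Bridge (P)
open Groth.L08.TorusQuot (sp sp_left sp_comp exists_sp toPt toPt_pre SP Pt pre spA)

noncomputable section

namespace Groth.L08.Borel

open Groth.L08.HomSpace

variable {k : Type u} [Field k] [IsAlgClosed k]

local notation "U1" => 𝟙_ (Over (Spec (CommRingCat.of k)))

/-- In a connected solvable group with central maximal torus the points of order prime to the characteristic, with
values in any scheme, lie in the torus. -/
theorem exists_factor_of_pow {H T : Over (Spec (CommRingCat.of k))} [GrpObj H] [GrpObj T] [IsAffine H.left]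
    [Smooth H.hom] [ConnectedSpace H.left] (hsol : Red.IsSolvableGrp H) {iT : T ⟶ H} (hT : AGF.IsMaxTorus iT)
    (hcen : ∀ (X : Over (Spec (CommRingCat.of k))) (t : X ⟶ T) (h : X ⟶ H), (t ≫ iT) * h = h * (t ≫ iT))
    {X : Over (Spec (CommRingCat.of k))} (y : X ⟶ H) {m : ℕ} (hm : (m : k) ≠ 0) (hy : y ^ m = 1) :
    ∃ f : X ⟶ T, f ≫ iT = y := by
  haveI := hT.1; haveI := hT.2.1
  obtain ⟨A, _, _, hft, hred, hconn, hsolv, ⟨eG⟩⟩ := exists_hopf_data hsol
  obtain ⟨B, _, _, ψ, J, hJI, r, n, hψ, hB, hJ, hU, hr, ⟨eB⟩⟩ := exists_retraction (k := k) hconn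
  have hrs : Function.Surjective r := fun b => ⟨ψ b, congrArg (fun f : B →ₐc[k] B => f b) hr⟩
  let φ : P k A ⟶ H := eG.inv.hom.hom
  let ψH : H ⟶ P k A := eG.hom.hom.hom
  have h1 : φ ≫ ψH = 𝟙 _ := congrArg (fun f => f.hom.hom) eG.inv_hom_id
  have h2 : ψH ≫ φ = 𝟙 H := congrArg (fun f => f.hom.hom) eG.hom_inv_id
  haveI : IsMonHom φ := eG.inv.hom.isMonHom_hom
  haveI : IsMonHom ψH := eG.hom.hom.isMonHom_hom
  haveI : IsIso φ := ⟨ψH, h1, h2⟩
  haveI : IsClosedImmersion (Spec.map (CommRingCat.ofHom (r : A →+* B))) :=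
    IsClosedImmersion.spec_of_surjective _ hrs
  haveI : IsClosedImmersion (sp r).left := ‹IsClosedImmersion (Spec.map (CommRingCat.ofHom (r : A →+* B)))›
  haveI : Mono (sp r) := Groth.L08.mono_of_closedImmersion _
  let j₀ : P k B ⟶ H := sp r ≫ φ
  haveI : Mono j₀ := mono_comp _ _
  haveI : IsMonHom j₀ := inferInstanceAs (IsMonHom (sp r ≫ φ))
  obtain ⟨g, f₀, hf₀⟩ := maxTorus_absorbing hT (P k B) j₀ (isTorus_of_laurent eB)
  have hj₀ : f₀ ≫ iT = j₀ := by
    have e := congrArg (AGF.conjBy g⁻¹) hf₀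
    rw [conjBy_conjBy, inv_mul_cancel, conjBy_one] at e
    rw [← e]
    simp only [AGF.conjBy]
    rw [← hcen _ f₀ (toUnit _ ≫ g⁻¹), mul_inv_cancel_right]
  -- the torus part and the unipotent part
  let y' : X ⟶ P k A := y ≫ ψH
  let t : X ⟶ P k B := y' ≫ sp ψ
  refine ⟨t ≫ f₀, ?_⟩
  rw [Category.assoc, hj₀]
  let w : X ⟶ P k A := t ≫ sp r
  have hrψ : sp r ≫ sp ψ = 𝟙 (P k B) := by
    rw [sp_comp, hr]
    exact Over.OverMorphism.ext (by rw [sp_left]; exact Spec.map_id _)
  have hcw : Commute w y' := by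
    have := congrArg (· ≫ ψH) (hcen X (t ≫ f₀) y)
    simp only [MonObj.mul_comp, Category.assoc, reassoc_of% hj₀, j₀, h1, Category.comp_id] at this
    exact this
  have hty : y' ^ m = 1 := by
    show (y ≫ ψH) ^ m = 1
    rw [← MonObj.pow_comp, hy, MonObj.one_comp]
  have htm : t ^ m = 1 := by
    show (y' ≫ sp ψ) ^ m = 1
    rw [← MonObj.pow_comp, hty, MonObj.one_comp]
  let z : X ⟶ P k A := w⁻¹ * y'
  have hzm : z ^ m = 1 := by
    show (w⁻¹ * y') ^ m = 1
    rw [hcw.inv_left.mul_pow, inv_pow, hty, show w ^ m = 1 from ?_, inv_one, _root_.one_mul]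
    show (t ≫ sp r) ^ m = 1
    rw [← MonObj.pow_comp, htm, MonObj.one_comp]
  have hzψ : z ≫ sp ψ = 1 := by
    show (w⁻¹ * y') ≫ sp ψ = 1
    rw [MonObj.mul_comp, GrpObj.inv_comp]
    show ((t ≫ sp r) ≫ sp ψ)⁻¹ * t = 1
    rw [Category.assoc, hrψ, Category.comp_id, inv_mul_cancel]
  suffices hz : z = 1 by
    have e : y' = w := by
      have := congrArg (w * ·) hz
      simpa [z] using this
    show t ≫ sp r ≫ φ = y
    rw [← Category.assoc]
    show w ≫ φ = y
    rw [← e]
    show (y ≫ ψH) ≫ φ = y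
    rw [Category.assoc, h2, Category.comp_id]
  refine hom_ext_affine _ _ fun R _ _ u => ?_
  let x : WithConv (A →ₐ[k] R) := Spec.mapMulEquiv.symm (u ≫ z)
  have hxu : toPt x = u ≫ z := Spec.mapMulEquiv.apply_symm_apply _
  have hxψ : pre ψ x = 1 := by
    refine Spec.mapMulEquiv.injective ?_
    rw [map_one]
    show toPt (pre ψ x) = 1
    rw [toPt_pre, hxu, Category.assoc, hzψ, MonObj.comp_one]
  have hxm : x ^ m = 1 := by
    refine Spec.mapMulEquiv.injective ?_
    rw [map_pow, map_one]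
    show toPt x ^ m = 1
    rw [hxu, ← MonObj.comp_pow, hzm, MonObj.comp_one]
  have hkill : ∀ a ∈ J, x.ofConv a = 0 := fun a ha => by
    rw [hJ] at ha
    refine (Ideal.map_le_iff_le_comap (K := RingHom.ker x.ofConv.toRingHom)).2 (fun b hb => ?_) ha
    have e := congrArg (fun f : WithConv (B →ₐ[k] R) => f.ofConv b) hxψ
    rw [AlgHom.convOne_def] at e
    rw [RingHom.mem_ker] at hb
    show x.ofConv (ψ b) = 0
    refine e.trans ?_
    have hb' : Coalgebra.counit (R := k) b = 0 := hb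
    simp [hb']
  let q : A →ₐc[k] A ⧸ J := Bialgebra.Quotient.mkBialgHom (R := k) J
  let x' : WithConv ((A ⧸ J) →ₐ[k] R) := toConv (Ideal.Quotient.liftₐ J x.ofConv hkill)
  have hqx : pre q x' = x := WithConv.ofConv_injective (AlgHom.ext fun _ => rfl)
  have hinj : Function.Injective (pre q (R := R)) := fun a b e => by
    refine WithConv.ofConv_injective (AlgHom.ext fun c => ?_)
    obtain ⟨c, rfl⟩ := Ideal.Quotient.mk_surjective c
    exact congrArg (fun f : WithConv (A →ₐ[k] R) => f.ofConv c) e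
  have hx' : x' = 1 := Groth.L08.eq_one_of_pow_eq_one hU x' hm (hinj (by rw [map_pow, hqx, hxm, map_one]))
  have hx1 : x = 1 := by rw [← hqx, hx', map_one]
  rw [MonObj.comp_one, ← hxu, hx1]
  exact map_one Spec.mapMulEquiv

end Groth.L08.Borel
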