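import Groth.Agent.L08.Borel.RedRankTorus
import Groth.Agent.L08.Borel.CentTorus
import Groth.Agent.L08.Borel.CentBorel
import Groth.Agent.L08.Borel.FlatNhd
import Groth.Agent.L08.Borel.CentKernel
import Groth.Agent.L25.Locus.Transporter

/-!
# Maximal tori when all tori of the geometric fibres are central
-/

set_option autoImplicit false
set_option backward.isDefEq.respectTransparency.types false
set_option linter.style.haveILetI false
universe u

open CategoryTheory CategoryTheory.Limits MonoidalCategory CartesianMonoidalCategory MonObj AlgebraicGeometry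

noncomputable section

namespace Groth.L08.Borel

/-- every torus of every geometric fibre is central -/
def FibCentral {S : Scheme.{u}} (G : Over S) [GrpObj G] : Prop :=
  ∀ (p : S) (R : Over (Spec (CommRingCat.of (AlgebraicClosure (S.residueField p))))) [GrpObj R]
    (j : R ⟶ Red.geomFibre p G) [IsMonHom j] [Mono j], Red.IsTorus R →
      ∀ (X : Over (Spec (CommRingCat.of (AlgebraicClosure (S.residueField p))))) (g : X ⟶ Red.geomFibre p G)
        (t : X ⟶ R), g * (t ≫ j) = (t ≫ j) * g

/-- a centraliser of a subgroup that is central at a point is everything there -/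
theorem isIso_map_centralizer {S P : Scheme.{u}} (q : P ⟶ S) {G T C : Over S} [GrpObj G] [GrpObj T] [GrpObj C]
    {iT : T ⟶ G} {c : C ⟶ G} (hc : Red.IsCentralizerOf iT c)
    (h : ∀ (X : Over P) (g : X ⟶ Red.bc q G) (t : X ⟶ Red.bc q T),
      g * (t ≫ (Over.pullback q).map iT) = (t ≫ (Over.pullback q).map iT) * g) :
    IsIso ((Over.pullback q).map c) := by
  have hc' := isCentralizerOf_bc q hc
  haveI := hc'.2.1
  obtain ⟨w, hw⟩ := (hc'.2.2 _ (𝟙 _)).2 fun X x t => by
    rw [Category.comp_id]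
    exact h X x t
  haveI : IsSplitEpi ((Over.pullback q).map c) := IsSplitEpi.mk' ⟨w, hw⟩
  exact isIso_of_mono_of_isSplitEpi _

variable {S : Scheme.{u}}

/-- **tori central on geometric fibres are central** -/
theorem central_of_geomFibres {G T : Over S} [GrpObj G] [GrpObj T] [Smooth G.hom] [IsSeparated G.hom]
    [QuasiCompact G.hom] (iT : T ⟶ G) [IsMonHom iT] [Mono iT] (hT : Red.IsTorus T) (hA : FibCentral G) :
    ∀ (X : Over S) (g : X ⟶ G) (t : X ⟶ T), g * (t ≫ iT) = (t ≫ iT) * g := by
  haveI : LocallyOfFiniteType G.hom := inferInstance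
  obtain ⟨C, gC, c, hc, hcl, hCs⟩ := Groth.L25.Locus.exists_smooth_centralizer
    (Groth.L25.Locus.locally_of_multTypeFT (Groth.L25.Locus.isMultTypeFT_of_isTorus hT)) iT
  haveI := hc.2.1; haveI := hCs
  haveI : IsIso c := isIso_of_geomFibres c fun s => isIso_map_centralizer (Red.geomPt s) hc fun X g t => by
    haveI : IsMonHom ((Over.pullback (Red.geomPt s)).map iT) := Groth.L25.MonoClosed.isMonHom_pullbackMap _ _
    haveI : Mono ((Over.pullback (Red.geomPt s)).map iT) := Functor.map_mono _ _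
    exact hA s _ _ (Groth.L25.Locus.isTorus_bc hT (Red.geomPt s)) X g t
  intro X g t
  have := (hc.2.2 X g).1 ⟨g ≫ inv c, by rw [Category.assoc, IsIso.inv_hom_id, Category.comp_id]⟩ X (𝟙 X) t
  rwa [Category.id_comp] at this

/-- pullbacks of a maximal torus on a cover are maximal tori -/
theorem isMaximalTorus_pullInc {S' P : Scheme.{u}} {G : Over S} [GrpObj G] [Smooth G.hom] [QuasiCompact G.hom]
    {π : S' ⟶ S} {B : Over S'} [GrpObj B] {iB : B ⟶ Red.bc π G} (hB : Red.IsMaximalTorus iB) (q : P ⟶ S')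
    {ρ : P ⟶ S} (e : q ≫ π = ρ) : Red.IsMaximalTorus (Groth.L25.Descent.pullInc iB q e) := by
  haveI : Smooth (Red.bc π G).hom := inferInstanceAs (Smooth (pullback.snd G.hom π))
  haveI : QuasiCompact (Red.bc π G).hom := inferInstanceAs (QuasiCompact (pullback.snd G.hom π))
  have hm := isMaximalTorus_bc hB q
  haveI := hm.1; haveI := hm.2.1
  refine ⟨inferInstanceAs (IsMonHom (_ ≫ _)), mono_comp _ _, hm.2.2.1, fun s T₁ _ a _ _ f h₁ hf => ?_⟩
  haveI : IsMonHom ((Over.pullback (Red.geomPt s)).map (ActBC.bcCompIso q π G e).inv) :=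
    Groth.L25.MonoClosed.isMonHom_pullbackMap _ _
  haveI : Mono ((Over.pullback (Red.geomPt s)).map (ActBC.bcCompIso q π G e).inv) := Functor.map_mono _ _
  refine hm.2.2.2 s T₁ (a ≫ (Over.pullback (Red.geomPt s)).map (ActBC.bcCompIso q π G e).inv) f h₁ ?_
  rw [reassoc_of% hf, ← Functor.map_comp]
  simp only [Groth.L25.Descent.pullInc, Category.assoc, Iso.hom_inv_id, Category.comp_id]

/-- tori inside a maximal torus, from central fibres -/
theorem exists_fac_maxTorus {G T R : Over S} [GrpObj G] [GrpObj T] [GrpObj R] [Smooth G.hom] [IsSeparated G.hom]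
    [QuasiCompact G.hom] {iT : T ⟶ G} (hT : Red.IsMaximalTorus iT) (j : R ⟶ G) [IsMonHom j] [Mono j]
    (hR : Red.IsTorus R) (hA : FibCentral G) : ∃ f : R ⟶ T, f ≫ iT = j := by
  haveI := hT.1; haveI := hT.2.1
  have m₁ := Groth.L25.Locus.isMultTypeFT_of_isTorus hR
  have m₂ := Groth.L25.Locus.isMultTypeFT_of_isTorus hT.2.2.1
  haveI : LocallyOfFiniteType G.hom := inferInstance
  haveI : IsClosedImmersion iT.left := Groth.L25.MonoClosed.isClosedImmersion_of_mono m₂ iT
  have hc := central_of_geomFibres j hR hA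
  refine exists_fac_of_fibres m₁ m₂ j iT (fun s => ?_) fun s X _ _ => hc X
  haveI : IsMonHom ((Over.pullback (Red.geomPt s)).map iT) := Groth.L25.MonoClosed.isMonHom_pullbackMap _ _
  haveI : Mono ((Over.pullback (Red.geomPt s)).map iT) := Functor.map_mono _ _
  haveI : IsMonHom ((Over.pullback (Red.geomPt s)).map j) := Groth.L25.MonoClosed.isMonHom_pullbackMap _ _
  haveI : Mono ((Over.pullback (Red.geomPt s)).map j) := Functor.map_mono _ _
  haveI : Smooth (Red.geomFibre s G).hom := inferInstanceAs (Smooth (pullback.snd G.hom (Red.geomPt s)))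
  haveI : QuasiCompact (Red.geomFibre s G).hom := inferInstanceAs (QuasiCompact (pullback.snd G.hom (Red.geomPt s)))
  have hmax : AGF.IsMaxTorus ((Over.pullback (Red.geomPt s)).map iT) :=
    ⟨inferInstance, inferInstance, Groth.L25.Locus.isTorus_bc hT.2.2.1 _,
      fun T₁ _ a _ _ f h₁ hf => hT.2.2.2 s T₁ a f h₁ hf⟩
  have htR := Groth.L25.Locus.isTorus_bc hR (Red.geomPt s)
  obtain ⟨f, hf⟩ := central_torus_le_maxTorus ((Over.pullback (Red.geomPt s)).map j) htR (hA s _ ((Over.pullback (Red.geomPt s)).map j) htR) hmax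
  exact fac_of_geomFibre j iT s f hf

/-- **groups with central tori in all geometric fibres and locally constant rank have a unique maximal torus** -/
theorem exists_central_maximalTorus (G : Over S) [GrpObj G] [Smooth G.hom] [IsAffineHom G.hom]
    (hr : SGA3x.RedRankLocallyConstant G) (hA : FibCentral G)
    (hA' : ∀ (P : Scheme.{u}) (q : P ⟶ S), FibCentral (Red.bc q G)) :
    ∃ (T : Over S) (_ : GrpObj T) (i : T ⟶ G), Red.IsMaximalTorus i ∧
      (∀ (X : Over S) (t : X ⟶ T) (g : X ⟶ G), (t ≫ i) * g = g * (t ≫ i)) ∧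
      ∀ (R : Over S) [GrpObj R] (j : R ⟶ G) [IsMonHom j] [Mono j], Red.IsTorus R → ∃ f : R ⟶ T, f ≫ i = j := by
  obtain ⟨S₁, π, he, hs, T₁, gT₁, i₁, hT₁⟩ := hasMaxTorusEtaleLocally hr
  haveI := he; haveI := hs
  obtain ⟨T, gT, i, hT, -⟩ := exists_maximalTorus_desc (π := π) (fun V hV => cover_of_lfp π V hV) hT₁
    fun P p₁ p₂ h => by
      haveI : Smooth (Red.bc (p₁ ≫ π) G).hom := inferInstanceAs (Smooth (pullback.snd G.hom (p₁ ≫ π)))
      haveI : QuasiCompact (Red.bc (p₁ ≫ π) G).hom := inferInstanceAs (QuasiCompact (pullback.snd G.hom (p₁ ≫ π)))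
      haveI : IsSeparated (Red.bc (p₁ ≫ π) G).hom := inferInstanceAs (IsSeparated (pullback.snd G.hom (p₁ ≫ π)))
      have m₁ := isMaximalTorus_pullInc hT₁ p₁ (ρ := p₁ ≫ π) rfl
      have m₂ := isMaximalTorus_pullInc hT₁ p₂ (ρ := p₁ ≫ π) h.symm
      haveI := m₂.1; haveI := m₂.2.1
      exact exists_iso_of_central_maximal m₂ (central_of_geomFibres _ m₂.2.2.1 (hA' P (p₁ ≫ π))) m₁
  haveI := hT.1; haveI := hT.2.1
  exact ⟨T, gT, i, hT, fun X t g => (central_of_geomFibres i hT.2.2.1 hA X g t).symm,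
    fun R _ j _ _ hR => exists_fac_maxTorus hT j hR hA⟩

/-- commutative groups have central tori -/
theorem fibCentral_of_comm (G : Over S) [GrpObj G] [IsCommMonObj G] : FibCentral G := by
  intro p R _ j _ _ _ X g t
  apply Groth.L25.CentralLift.toBase_injective
  rw [Groth.L25.NilAction.toBase_mul, Groth.L25.NilAction.toBase_mul]
  exact mul_comm _ _

end Groth.L08.Borel
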