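import Groth.Agent.L08.Borel.MaxTorusNonsmooth
import Groth.Agent.L08.Borel.MonoQAff
import Groth.Agent.L08.Borel.CommTorusGlobal
import Groth.Agent.L25.Locus.Normalizer

/-!
# Central maximal tori descend, groups of finite presentation
-/

set_option autoImplicit false
set_option backward.isDefEq.respectTransparency.types false
set_option linter.style.haveILetI false
universe u

open CategoryTheory CategoryTheory.Limits MonoidalCategory CartesianMonoidalCategory MonObj AlgebraicGeometry

noncomputable section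

namespace Groth.L08.Borel

open Groth.L25

variable {S S' : Scheme.{u}} {π : S' ⟶ S} {G : Over S} [GrpObj G]

/-- **descent of a subgroup of multiplicative type, mono, whose two pullbacks agree** -/
theorem exists_mono_subgroup_of_pullInc_eq {H' : Over S'} [GrpObj H'] (j' : H' ⟶ Red.bc π G)
    [LocallyOfFinitePresentation G.hom] [QuasiSeparated G.hom] [Flat π] [Surjective π]
    (hcov : ∀ V : S.Opens, IsAffineOpen V → ∃ W : S'.Opens, IsCompact (W : Set S') ∧ π.base '' (W : Set S') = (V : Set S))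
    (hH' : SGA3x.IsMultTypeFT H') [IsMonHom j'] [Mono j']
    (huniq : ∀ (P : Scheme.{u}) (p₁ p₂ : P ⟶ S') (h : p₁ ≫ π = p₂ ≫ π),
      ∃ φ : Red.bc p₁ H' ≅ Red.bc p₂ H', φ.hom ≫ Descent.pullInc j' p₂ h.symm = Descent.pullInc j' p₁ rfl) :
    ∃ (H : Over S) (_ : GrpObj H) (j : H ⟶ G), IsMonHom j ∧ Mono j ∧
      ∃ φ : Red.bc π H ≅ H', IsMonHom φ.hom ∧ φ.hom ≫ j' = (Over.pullback π).map j := by
  suffices hd : ∃ (H : Over S) (j : H ⟶ G),
      ∃ φ : Red.bc π H ≅ H', φ.hom ≫ j' = (Over.pullback π).map j by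
    obtain ⟨H, j, φ, hφ⟩ := hd
    haveI : Mono ((Over.pullback π).map j) := hφ ▸ mono_comp φ.hom j'
    have : Mono j := ⟨fun {T} x y hxy => by
      let q := fst T (Over.mk π)
      let p := snd T (Over.mk π)
      have : EffectiveEpi q.left := Descent.effectiveEpi_pullback_fst T.hom π hcov
      have : Epi q := Over.epi_of_epi_left _
      have key : NilAction.ofBase π ((Descent.adjP p).hom ≫ q ≫ x) = NilAction.ofBase π ((Descent.adjP p).hom ≫ q ≫ y) := by
        rw [← cancel_mono ((Over.pullback π).map j), NilAction.ofBase_comp, NilAction.ofBase_comp]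
        simp only [Category.assoc, hxy]
      have key2 := congrArg (NilAction.toBase π) key
      rw [NilAction.toBase_ofBase, NilAction.toBase_ofBase, cancel_epi, cancel_epi] at key2
      exact key2⟩
    obtain ⟨hg, hjm⟩ := Locus.exists_subgroup j (Descent.Sub j') (Descent.points_iff j' hcov j φ hφ)
      (Descent.sub_one j') (Descent.sub_mul j') (Descent.sub_inv j')
    letI := hg
    haveI := hjm
    haveI : IsMonHom ((Over.pullback π).map j) := MonoClosed.isMonHom_pullbackMap _ _
    have : IsMonHom φ.hom := isMonHom_lift_mono j' ((Over.pullback π).map j) φ.hom hφ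
    exact ⟨H, hg, j, hjm, inferInstance, φ, this, hφ⟩
  let q₀ := pullback.fst G.hom π
  have : Flat q₀ := MorphismProperty.pullback_fst G.hom π inferInstance
  have : Surjective q₀ := MorphismProperty.pullback_fst G.hom π inferInstance
  have hcov₀ : ∀ V : G.left.Opens, IsAffineOpen V → ∃ W : (pullback G.hom π).Opens,
      IsCompact (W : Set ↥(pullback G.hom π)) ∧ q₀.base '' (W : Set ↥(pullback G.hom π)) = (V : Set G.left) :=
    fun V hV => MultTypeBC.exists_compact_image π hcov G.hom V hV
  have : Groth.L20.SchDesc.Cov q₀ := Descent.cov_of_cover q₀ hcov₀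
  let f : H'.left ⟶ pullback G.hom π := j'.left
  have hfs : f ≫ pullback.snd G.hom π = H'.hom := Over.w j'
  have hex : ∀ {T : Scheme.{u}} (v : T ⟶ H'.left) (x : T ⟶ pullback G.hom π),
      v ≫ f ≫ q₀ = x ≫ q₀ → ∃ w : T ⟶ H'.left, w ≫ f = x := by
    intro T v x h
    have hc : (v ≫ H'.hom) ≫ π = (x ≫ pullback.snd G.hom π) ≫ π := by
      rw [Category.assoc, Category.assoc, ← pullback.condition, ← Category.assoc x, ← h, ← hfs]
      simp only [q₀, Category.assoc, pullback.condition]
    obtain ⟨φ, hφ⟩ := huniq _ (v ≫ H'.hom) (x ≫ pullback.snd G.hom π) hc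
    let a : T ⟶ (Red.bc (v ≫ H'.hom) H').left := pullback.lift v (𝟙 T) (by rw [Category.id_comp])
    let w : T ⟶ H'.left := a ≫ φ.hom.left ≫ pullback.fst H'.hom (x ≫ pullback.snd G.hom π)
    have ha : a ≫ φ.hom.left ≫ pullback.snd H'.hom (x ≫ pullback.snd G.hom π) = 𝟙 T := by
      rw [show φ.hom.left ≫ pullback.snd H'.hom _ = pullback.snd H'.hom (v ≫ H'.hom) from Over.w φ.hom]
      exact pullback.lift_snd _ _ _
    refine ⟨w, pullback.hom_ext ?_ ?_⟩
    · have h2 := congrArg (fun m => m.left ≫ pullback.fst G.hom ((v ≫ H'.hom) ≫ π)) hφ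
      simp only [Over.comp_left, Category.assoc, Groth.L25.Descent.pullInc_fst] at h2
      show ((a ≫ φ.hom.left ≫ pullback.fst H'.hom _) ≫ f) ≫ q₀ = x ≫ q₀
      rw [← h]
      simp only [Category.assoc]
      refine (congrArg (a ≫ ·) h2).trans ?_
      exact pullback.lift_fst_assoc _ _ _ _
    · rw [Category.assoc, hfs]
      show (a ≫ φ.hom.left ≫ pullback.fst H'.hom _) ≫ H'.hom = _
      rw [Category.assoc, Category.assoc, pullback.condition, ← Category.assoc φ.hom.left, ← Category.assoc a, ha,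
        Category.id_comp]
  choose act hact using @hex
  have : Mono f := inferInstanceAs (Mono ((Over.forget S').map j'))
  let P : Groth.L20.SchDesc.Pre q₀ f :=
    { act := act
      hom := hact
      natural := fun g v x e e' => (cancel_mono f).1 (by rw [hact, Category.assoc, hact])
      self := fun v e => (cancel_mono f).1 (hact _ _ _)
      comp := fun v x y e e' e'' => (cancel_mono f).1 (by rw [hact, hact]) }
  haveI : IsAffineHom H'.hom := HomSmooth.isAffineHom_of_locally (Locus.locally_of_multTypeFT hH')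
  haveI : LocallyOfFiniteType (f ≫ pullback.snd G.hom π) := by
    rw [hfs]; haveI := Locus.lfp_of_multTypeFT hH'; infer_instance
  haveI : LocallyOfFiniteType f := locallyOfFiniteType_of_comp f (pullback.snd G.hom π)
  haveI : QuasiSeparated (Red.bc π G).hom := MorphismProperty.pullback_snd G.hom π ‹_›
  haveI : QuasiCompact (f ≫ pullback.snd G.hom π) := by rw [hfs]; infer_instance
  haveI : QuasiCompact f := QuasiCompact.of_comp f (pullback.snd G.hom π)
  obtain ⟨d⟩ := Groth.L20.SchDesc.effective_of_isIndQuasiAffineHom (isIndQuasiAffineHom_of_mono f) P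
  let H : Over S := Over.mk (d.a ≫ G.hom)
  let j : H ⟶ G := Over.homMk d.a rfl
  have sq : IsPullback d.q H'.hom (d.a ≫ G.hom) π := by
    have h1 := d.isPullback.flip.paste_vert (IsPullback.of_hasPullback G.hom π)
    rwa [hfs] at h1
  let e : H' ≅ Red.bc π H := Over.isoMk sq.isoPullback sq.isoPullback_hom_snd
  have he : e.hom ≫ (Over.pullback π).map j = j' := by
    apply Over.OverMorphism.ext
    apply pullback.hom_ext
    · show (sq.isoPullback.hom ≫ ((Over.pullback π).map j).left) ≫ pullback.fst G.hom π = f ≫ q₀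
      rw [Category.assoc, ActBC.pullback_map_left_fst, d.isPullback.w]
      exact sq.isoPullback_hom_fst_assoc d.a
    · exact (Over.w (e.hom ≫ (Over.pullback π).map j)).trans (Over.w j').symm
  exact ⟨H, j, e.symm, by rw [Iso.symm_hom, Iso.inv_comp_eq]; exact he.symm⟩

/-- **central maximal tori descend along fpqc coverings** -/
theorem exists_central_maximalTorus_desc [LocallyOfFinitePresentation G.hom] [QuasiCompact G.hom]
    [QuasiSeparated G.hom] [Flat π] [Surjective π]
    (hcov : ∀ V : S.Opens, IsAffineOpen V → ∃ W : S'.Opens, IsCompact (W : Set S') ∧ π.base '' (W : Set S') = (V : Set S))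
    {T' : Over S'} [GrpObj T'] {i' : T' ⟶ Red.bc π G} (hT' : Red.IsMaximalTorus i')
    (hc : ∀ (X : Over S') (t : X ⟶ T') (g : X ⟶ Red.bc π G), (t ≫ i') * g = g * (t ≫ i')) :
    ∃ (T : Over S) (_ : GrpObj T) (i : T ⟶ G), Red.IsMaximalTorus i ∧
      ∀ (X : Over S) (t : X ⟶ T) (g : X ⟶ G), (t ≫ i) * g = g * (t ≫ i) := by
  haveI := hT'.1; haveI := hT'.2.1
  haveI : LocallyOfFiniteType (Red.bc π G).hom := inferInstanceAs (LocallyOfFiniteType (pullback.snd G.hom π))
  haveI : QuasiCompact (Red.bc π G).hom := inferInstanceAs (QuasiCompact (pullback.snd G.hom π))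
  have huniq : ∀ (P : Scheme.{u}) (p₁ p₂ : P ⟶ S') (h : p₁ ≫ π = p₂ ≫ π),
      ∃ φ : Red.bc p₁ T' ≅ Red.bc p₂ T', φ.hom ≫ Descent.pullInc i' p₂ h.symm = Descent.pullInc i' p₁ rfl := by
    intro P p₁ p₂ h
    let c := p₁ ≫ π
    haveI : LocallyOfFinitePresentation (Red.bc c G).hom :=
      inferInstanceAs (LocallyOfFinitePresentation (pullback.snd G.hom c))
    let i₁ := Descent.pullInc i' p₁ (c := c) rfl
    let i₂ := Descent.pullInc i' p₂ (c := c) h.symm
    have h₁ : Red.IsMaximalTorus i₁ :=
      isMaximalTorus_comp_iso (isMaximalTorus_bc_fp hT' p₁) (ActBC.bcCompIso p₁ π G rfl)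
    have h₂ : Red.IsMaximalTorus i₂ :=
      isMaximalTorus_comp_iso (isMaximalTorus_bc_fp hT' p₂) (ActBC.bcCompIso p₂ π G h.symm)
    haveI := h₁.2.1; haveI := h₂.2.1
    obtain ⟨f, hf⟩ := exists_fac_of_commute h₂ i₁ h₁.2.2.1 fun X t r =>
      Descent.pullInc_central i' (fun Y g t' => (hc Y t' g).symm) p₁ rfl X (t ≫ i₂) r
    obtain ⟨g, hg⟩ := exists_fac_of_commute h₁ i₂ h₂.2.2.1 fun X t r =>
      Descent.pullInc_central i' (fun Y g t' => (hc Y t' g).symm) p₂ h.symm X (t ≫ i₁) r
    exact ⟨⟨f, g, by rw [← cancel_mono i₁, Category.assoc, hg, hf, Category.id_comp],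
      by rw [← cancel_mono i₂, Category.assoc, hf, hg, Category.id_comp]⟩, hf⟩
  obtain ⟨T, gT, i, hi, him, φ, hφm, hφ⟩ := exists_mono_subgroup_of_pullInc_eq i' hcov
    (Locus.isMultTypeFT_of_isTorus hT'.2.2.1) huniq
  haveI := hi; haveI := him; haveI := hφm
  refine ⟨T, gT, i, isMaximalTorus_of_bc (isTorus_descend π hcov
    (TorLift.isTorus_of_iso (Grp.mkIso' φ).symm hT'.2.2.1)) π (hφ ▸ isMaximalTorus_iso_comp hT' φ),
    fun X t g => ?_⟩
  let q := fst X (Over.mk π)
  let p := snd X (Over.mk π)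
  have : EffectiveEpi q.left := Descent.effectiveEpi_pullback_fst X.hom π hcov
  have : Epi q := Over.epi_of_epi_left _
  let r := (Descent.adjP p).hom ≫ q
  have hti : NilAction.ofBase π (r ≫ t ≫ i) = (NilAction.ofBase π (r ≫ t) ≫ φ.hom) ≫ i' := by
    refine Eq.trans ?_ (Category.assoc _ _ _).symm
    rw [hφ, NilAction.ofBase_comp]
    simp only [r, Category.assoc]
  have key : NilAction.ofBase π (r ≫ ((t ≫ i) * g)) = NilAction.ofBase π (r ≫ (g * (t ≫ i))) := by
    simp only [MonObj.comp_mul, Locus.ofBase_mul, hti]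
    exact hc _ _ _
  have key2 := congrArg (NilAction.toBase π) key
  rw [NilAction.toBase_ofBase, NilAction.toBase_ofBase, cancel_epi] at key2
  exact key2

end Groth.L08.Borel
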