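import Groth.Agent.L08.Borel.Fixed
import Mathlib.AlgebraicGeometry.ZariskisMainTheorem

/-!
# Maps from proper connected varieties to affine ones
-/

set_option autoImplicit false
set_option backward.isDefEq.respectTransparency.types false
set_option linter.style.haveILetI false

universe u

open CategoryTheory CategoryTheory.Limits MonoidalCategory CartesianMonoidalCategory MonObj GrpObj AlgebraicGeometry

noncomputable section

namespace Groth.L08.Borel

variable {k : Type u} [Field k] [IsAlgClosed k]

local notation "U1" => 𝟙_ (Over (Spec (CommRingCat.of k)))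

/-- a morphism from a proper connected scheme to an affine one takes the same value at all points -/
theorem comp_eq_of_proper {X Z : Over (Spec (CommRingCat.of k))} [IsProper X.hom] [ConnectedSpace X.left]
    [IsAffine Z.left] [LocallyOfFiniteType Z.hom] (j : X ⟶ Z) (s t : U1 ⟶ X) : s ≫ j = t ≫ j := by
  haveI : IsAffineHom Z.hom := isAffineHom_of_isAffine Z.hom
  haveI : IsProper (j.left ≫ Z.hom) := by rw [Over.w]; infer_instance
  haveI : IsProper j.left := IsProper.of_comp j.left Z.hom
  haveI : IsProper (j.left.imageι ≫ Z.hom) := by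
    suffices UniversallyClosed (j.left.imageι ≫ Z.hom) from ⟨⟩
    have : UniversallyClosed (j.left.toImage ≫ j.left.imageι ≫ Z.hom) := by
      rw [Scheme.Hom.toImage_imageι_assoc]; infer_instance
    exact .of_comp_surjective j.left.toImage _
  haveI : IsFinite (j.left.imageι ≫ Z.hom) := by
    rw [IsFinite.iff_isProper_and_isAffineHom]
    exact ⟨inferInstance, inferInstance⟩
  haveI : ConnectedSpace j.left.image := j.left.toImage.surjective.connectedSpace j.left.toImage.continuous
  haveI : Subsingleton j.left.image := subsingleton_of_finite_connected (j.left.imageι ≫ Z.hom)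
  refine pt_ext ?_
  have e : ∀ y : X.left, j.left y = j.left.imageι (j.left.toImage y) := fun y => by
    rw [← Scheme.Hom.comp_apply, Scheme.Hom.toImage_imageι]
  exact (e _).trans ((congrArg j.left.imageι (Subsingleton.elim _ _)).trans (e _).symm)

/-- a morphism constant on cosets of a subgroup with proper quotient is constant -/
theorem eq_of_proper_quotient {G H X Z : Over (Spec (CommRingCat.of k))} [GrpObj G] [GrpObj H] [Smooth G.hom]
    [ConnectedSpace G.left] {i : H ⟶ G} {a : AlgGrp.Action G X} {o : U1 ⟶ X} (hX : AGF.IsQuotient i X a o)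
    [IsProper X.hom] [IsAffine Z.left] [LocallyOfFiniteType Z.hom] [IsSeparated Z.hom] (f : G ⟶ Z)
    (hf : ∀ (T : Over (Spec (CommRingCat.of k))) (x y : T ⟶ G), (∃ z : T ⟶ H, z ≫ i = x⁻¹ * y) → x ≫ f = y ≫ f) :
    f = toUnit G ≫ (1 : U1 ⟶ G) ≫ f := by
  obtain ⟨j, hj⟩ := exists_desc hX f hf
  haveI := hX.2.2.1
  haveI : ConnectedSpace X.left := (a.orbitMap o).left.surjective.connectedSpace (a.orbitMap o).left.continuous
  haveI : IsReduced G.left := Groth.Agent.AV.isReduced_of_smooth_field G.hom
  refine hom_ext_pts _ _ fun g => ?_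
  rw [← Category.assoc g (toUnit G), toUnit_unique (g ≫ toUnit G) (𝟙 _), Category.id_comp, ← hj, ← Category.assoc,
    ← Category.assoc]
  exact comp_eq_of_proper j _ _

end Groth.L08.Borel
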