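import Groth.Agent.L08.Borel.BaseChange
import Groth.Agent.L08.Borel.OverField

/-!
# Factorisations through closed subschemes descend along field extensions
-/

set_option autoImplicit false
set_option backward.isDefEq.respectTransparency.types false
set_option linter.style.haveILetI false

universe u

open CategoryTheory CategoryTheory.Limits MonoidalCategory CartesianMonoidalCategory MonObj AlgebraicGeometry

noncomputable section

namespace Groth.L08.Borel

variable {k : Type u} [Field k] {Ω : Type u} [Field Ω]

/-- a factorisation through a monomorphism can be checked after a field extension -/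
theorem factor_of_bc {C B G : Over (Spec (CommRingCat.of k))} (c : C ⟶ G) (i : B ⟶ G) [Mono i]
    (θ : Spec (CommRingCat.of Ω) ⟶ Spec (CommRingCat.of k))
    (f : Red.bc θ C ⟶ Red.bc θ B) (hf : f ≫ (Over.pullback θ).map i = (Over.pullback θ).map c) :
    ∃ f : C ⟶ B, f ≫ i = c := by
  let F := Over.pullback θ
  let pr := pullback.fst c i
  haveI : Mono pr := inferInstance
  haveI : Mono (F.map pr) := Functor.map_mono F pr
  have hsq : IsPullback (F.map pr) (F.map (pullback.snd c i)) (F.map c) (F.map i) :=
    (IsPullback.of_hasPullback c i).map F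
  obtain ⟨s, hs, -⟩ := hsq.exists_lift (𝟙 _) f (by rw [Category.id_comp]; exact hf.symm)
  haveI : IsIso (F.map pr) := ⟨s, by rw [← cancel_mono (F.map pr), Category.assoc, hs, Category.comp_id,
    Category.id_comp], hs⟩
  have hp := isPullback_bc_map' θ pr
  have hd : (@Surjective ⊓ @Flat ⊓ @QuasiCompact : MorphismProperty Scheme.{u}) θ :=
    ⟨⟨(bc_props_field θ).1, (bc_props_field θ).2.1⟩, (bc_props_field θ).2.2⟩
  haveI : Surjective θ := (bc_props_field θ).1
  haveI : Flat θ := (bc_props_field θ).2.1
  haveI : QuasiCompact θ := (bc_props_field θ).2.2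
  haveI : IsIso pr.left :=
    MorphismProperty.of_isPullback_of_descendsAlong (P := MorphismProperty.isomorphisms Scheme.{u})
      (Q := @Surjective ⊓ @Flat ⊓ @QuasiCompact) hp
      ⟨⟨inferInstanceAs (Surjective (pullback.fst C.hom θ)),
        inferInstanceAs (Flat (pullback.fst C.hom θ))⟩,
        inferInstanceAs (QuasiCompact (pullback.fst C.hom θ))⟩
      (inferInstanceAs (IsIso ((Over.forget _).map (F.map pr))))
  haveI : IsIso ((Over.forget _).map pr) := ‹IsIso pr.left›
  haveI : IsIso pr := isIso_of_reflects_iso pr (Over.forget _)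
  exact ⟨CategoryTheory.inv pr ≫ pullback.snd c i, by
    rw [Category.assoc, ← pullback.condition, IsIso.inv_hom_id_assoc]⟩

end Groth.L08.Borel
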