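import Groth.Agent.L25.Dyn.TorusCentralizer
import Groth.Agent.L25.Dyn.Unipotent
import Groth.Agent.S7986

/-!
# Limits along one-parameter subgroups and subgroups containing them
-/

set_option autoImplicit false
set_option linter.style.haveILetI false

universe u

open LaurentPolynomial TensorProduct WithConv AddMonoidAlgebra
open Groth.L25.Dyn

noncomputable section

namespace Groth.L08.Borel.Dyn

variable {k : Type u} [Field k] {A : Type u} [CommRing A] [HopfAlgebra k A]

/-- A point moved by the big cell into a subgroup containing the conjugated one-parameter subgroup lies in the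
subgroup. -/
theorem mem_of_limit (lamNeg : A →ₐc[k] LaurentPolynomial k) {I : Ideal A}
    (hmul : ∀ (R : Type u) [CommRing R] [Algebra k R] (x y : Pt (k := k) A R), (∀ a ∈ I, x.ofConv a = 0) →
      (∀ a ∈ I, y.ofConv a = 0) → ∀ a ∈ I, (x * y).ofConv a = 0)
    (hinv : ∀ (R : Type u) [CommRing R] [Algebra k R] (x : Pt (k := k) A R), (∀ a ∈ I, x.ofConv a = 0) →
      ∀ a ∈ I, (x⁻¹).ofConv a = 0)
    {R : Type u} [CommRing R] [Algebra k R] (g a b h : Pt (k := k) A R)
    (ha : Dyn.LimIsOne k A lamNeg R a.ofConv) (hb : Dyn.LimIsOne k A lamNeg R b.ofConv)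
    (hh : ∀ x ∈ I, h.ofConv x = 0) (hl : ∀ x ∈ I, (lamP lamNeg R).ofConv x = 0)
    (hconj : ∀ x ∈ I, ((pmap (cst R) g)⁻¹ * lamP lamNeg R * pmap (cst R) g).ofConv x = 0)
    (e : a * g = b * h) : ∀ x ∈ I, g.ofConv x = 0 := by
  obtain ⟨ha', hha, ha0⟩ := ha
  obtain ⟨hb', hhb, hb0⟩ := hb
  let ι : Polynomial R →ₐ[k] LaurentPolynomial R := inclP R
  let c : R →ₐ[k] Polynomial R := IsScalarTower.toAlgHom k R (Polynomial R)
  let ev : Polynomial R →ₐ[k] R := (Polynomial.aeval (R := R) (0 : R)).restrictScalars k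
  set l := lamP lamNeg R with hl'
  set G := pmap (cst (k := k) R) g with hG
  have hι : ∀ z : Pt (k := k) A R, pmap ι (pmap c z) = pmap (cst R) z := fun z => WithConv.ext (AlgHom.ext fun x => by
    show Polynomial.toLaurent (Polynomial.C (z.ofConv x)) = single 0 (z.ofConv x)
    rw [Polynomial.toLaurent_C]
    rfl)
  have hao : pmap ι (toConv ha') = l * pmap (cst R) a * l⁻¹ := (WithConv.ext hha).trans (conjOrbit_eq lamNeg a.ofConv)
  have hbo : pmap ι (toConv hb') = l * pmap (cst R) b * l⁻¹ := (WithConv.ext hhb).trans (conjOrbit_eq lamNeg b.ofConv)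
  have hch : ∀ x ∈ I, (pmap (cst R) h).ofConv x = 0 := fun x hx => by
    show cst (k := k) R (h.ofConv x) = 0
    rw [hh x hx, map_zero]
  let F : Pt (k := k) A (Polynomial R) := (toConv ha' * pmap c g)⁻¹ * toConv hb'
  have hF : pmap ι F = (G⁻¹ * l * G * l⁻¹) * (l * pmap (cst R) h * l⁻¹)⁻¹ := by
    have hb2 : pmap ι (toConv hb') = l * (pmap (cst R) a * G * (pmap (cst R) h)⁻¹) * l⁻¹ := by
      rw [hbo, hG, ← map_mul, e, map_mul]
      group
    simp only [F, map_mul, map_inv, hι]
    rw [hao, hb2, ← hG]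
    group
  have hFI : ∀ x ∈ I, F.ofConv x = 0 := fun x hx => by
    refine inclP_injective (k := k) ?_
    rw [map_zero]
    show (pmap ι F).ofConv x = 0
    rw [hF]
    exact hmul _ _ _ (hmul _ _ _ hconj (hinv _ _ hl)) (hinv _ _ (hmul _ _ _ (hmul _ _ _ hl hch) (hinv _ _ hl))) x hx
  have hev : pmap ev F = g⁻¹ := by
    have h1 : pmap ev (pmap c g) = g := WithConv.ext (AlgHom.ext fun x => by
      show Polynomial.aeval (0 : R) (algebraMap R (Polynomial R) (g.ofConv x)) = g.ofConv x
      simp)
    have h2 : pmap ev (toConv ha') = 1 := WithConv.ext ha0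
    have h3 : pmap ev (toConv hb') = 1 := WithConv.ext hb0
    simp only [F, map_mul, map_inv, h1, h2, h3, _root_.one_mul, _root_.mul_one]
  have hg : ∀ x ∈ I, (g⁻¹).ofConv x = 0 := fun x hx => by
    rw [← hev]
    show ev (F.ofConv x) = 0
    rw [hFI x hx, map_zero]
  have := hinv _ _ hg
  rwa [inv_inv] at this

/-- conjugates by fixed points keep the limit -/
theorem limIsOne_conj (lamNeg : A →ₐc[k] LaurentPolynomial k) {R : Type u} [CommRing R] [Algebra k R]
    (z a : Pt (k := k) A R)
    (hz : Dyn.conjOrbit k A lamNeg R z.ofConv = (IsScalarTower.toAlgHom k R (LaurentPolynomial R)).comp z.ofConv)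
    (ha : Dyn.LimIsOne k A lamNeg R a.ofConv) : Dyn.LimIsOne k A lamNeg R (z * a * z⁻¹).ofConv := by
  obtain ⟨h, hh, h0⟩ := ha
  let c : R →ₐ[k] Polynomial R := IsScalarTower.toAlgHom k R (Polynomial R)
  let ev : Polynomial R →ₐ[k] R := (Polynomial.aeval (R := R) (0 : R)).restrictScalars k
  have hc : pmap (inclP R) (pmap c z) = orb lamNeg R z := by
    refine (WithConv.ext ?_).trans (WithConv.ext hz.symm)
    refine AlgHom.ext fun x => ?_
    show Polynomial.toLaurent (Polynomial.C (z.ofConv x)) = single 0 (z.ofConv x)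
    rw [Polynomial.toLaurent_C]
    rfl
  have hev : pmap ev (pmap c z) = z := WithConv.ext (AlgHom.ext fun x => by
    show Polynomial.aeval (0 : R) (algebraMap R (Polynomial R) (z.ofConv x)) = z.ofConv x
    simp)
  refine ⟨(pmap c z * toConv h * (pmap c z)⁻¹).ofConv, congrArg WithConv.ofConv
    (?_ : pmap (inclP R) (pmap c z * toConv h * (pmap c z)⁻¹) = orb lamNeg R (z * a * z⁻¹)),
    congrArg WithConv.ofConv (?_ : pmap ev (pmap c z * toConv h * (pmap c z)⁻¹) = 1)⟩
  · rw [map_mul, map_mul, map_inv, map_mul, map_mul, map_inv, hc,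
      show pmap (inclP R) (toConv h) = orb lamNeg R a from WithConv.ext hh]
  · rw [map_mul, map_mul, map_inv, hev, show pmap ev (toConv h) = 1 from WithConv.ext h0, _root_.mul_one,
      mul_inv_cancel]

/-- a contracted point lies in every closed subgroup containing its commutators with the one-parameter subgroup -/
theorem mem_of_contract (lamNeg : A →ₐc[k] LaurentPolynomial k) {I : Ideal A}
    (hmul : ∀ (R : Type u) [CommRing R] [Algebra k R] (x y : Pt (k := k) A R), (∀ a ∈ I, x.ofConv a = 0) →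
      (∀ a ∈ I, y.ofConv a = 0) → ∀ a ∈ I, (x * y).ofConv a = 0)
    (hinv : ∀ (R : Type u) [CommRing R] [Algebra k R] (x : Pt (k := k) A R), (∀ a ∈ I, x.ofConv a = 0) →
      ∀ a ∈ I, (x⁻¹).ofConv a = 0)
    {R : Type u} [CommRing R] [Algebra k R] (g : Pt (k := k) A R) (hg : Dyn.LimIsOne k A lamNeg R g.ofConv)
    (hcomm : ∀ x ∈ I,
      ((pmap (cst R) g)⁻¹ * lamP lamNeg R * pmap (cst R) g * (lamP lamNeg R)⁻¹).ofConv x = 0) :
    ∀ x ∈ I, g.ofConv x = 0 := by
  obtain ⟨h, hh, h0⟩ := hg
  let ι : Polynomial R →ₐ[k] LaurentPolynomial R := inclP R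
  let c : R →ₐ[k] Polynomial R := IsScalarTower.toAlgHom k R (Polynomial R)
  let ev : Polynomial R →ₐ[k] R := (Polynomial.aeval (R := R) (0 : R)).restrictScalars k
  let F : Pt (k := k) A (Polynomial R) := (pmap c g)⁻¹ * toConv h
  have hF : pmap ι F = (pmap (cst R) g)⁻¹ * lamP lamNeg R * pmap (cst R) g * (lamP lamNeg R)⁻¹ := by
    have h1 : pmap ι (pmap c g) = pmap (cst R) g := WithConv.ext (AlgHom.ext fun x => by
      show Polynomial.toLaurent (Polynomial.C (g.ofConv x)) = single 0 (g.ofConv x)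
      rw [Polynomial.toLaurent_C]
      rfl)
    have h2 : pmap ι (toConv h) = lamP lamNeg R * pmap (cst R) g * (lamP lamNeg R)⁻¹ :=
      (WithConv.ext hh).trans (conjOrbit_eq lamNeg g.ofConv)
    simp only [F, map_mul, map_inv, h1, h2, _root_.mul_assoc]
  have hFI : ∀ x ∈ I, F.ofConv x = 0 := fun x hx => by
    refine inclP_injective (k := k) ?_
    rw [map_zero]
    show (pmap ι F).ofConv x = 0
    rw [hF]
    exact hcomm x hx
  have hev : pmap ev F = g⁻¹ := by
    have h1 : pmap ev (pmap c g) = g := WithConv.ext (AlgHom.ext fun x => by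
      show Polynomial.aeval (0 : R) (algebraMap R (Polynomial R) (g.ofConv x)) = g.ofConv x
      simp)
    simp only [F, map_mul, map_inv, h1, show pmap ev (toConv h) = 1 from WithConv.ext h0, _root_.mul_one]
  have := hinv _ _ (fun x hx => by
    rw [← hev]
    show ev (F.ofConv x) = 0
    rw [hFI x hx, map_zero] : ∀ x ∈ I, (g⁻¹).ofConv x = 0)
  rwa [inv_inv] at this

/-- the points with a limit form a solvable group when the fixed points do -/
theorem isSolvable_of_limit [Algebra.FiniteType k A] (lam : A →ₐc[k] LaurentPolynomial k)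
    [hJ : (jPlus lam).IsHopfIdeal k] {N : Subgroup (Pt (k := k) A k)} [Group.IsSolvable N]
    (hN : ∀ z : Pt (k := k) A k,
      Dyn.conjOrbit k A lam k z.ofConv = (IsScalarTower.toAlgHom k k (LaurentPolynomial k)).comp z.ofConv → z ∈ N) :
    Group.IsSolvable (Pt (k := k) (A ⧸ jPlus lam) k) := by
  classical
  let q : A →ₐc[k] A ⧸ jPlus lam := Bialgebra.Quotient.mkBialgHom (R := k) (jPlus lam)
  let pr' : Pt (k := k) (A ⧸ jPlus lam) k →* Pt (k := k) A k :=
    { toFun := fun x => toConv (x.ofConv.comp (q : A →ₐ[k] A ⧸ jPlus lam))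
      map_one' := WithConv.ext (AlgHom.ext fun a => by simp [AlgHom.convOne_def])
      map_mul' := fun x y => congrArg toConv (AlgHom.convMul_comp_bialgHom_distrib x y q) }
  have hqs : ∀ b : A ⧸ jPlus lam, ∃ a, q a = b := Ideal.Quotient.mk_surjective
  have hinj : Function.Injective pr' := fun x y h => WithConv.ext (AlgHom.ext fun b => by
    obtain ⟨a, rfl⟩ := hqs b
    exact DFunLike.congr_fun (congrArg WithConv.ofConv h) a)
  let ι : Polynomial k →ₐ[k] LaurentPolynomial k := inclP k
  let ev : Polynomial k →ₐ[k] k := (Polynomial.aeval (R := k) (0 : k)).restrictScalars k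
  have hex : ∀ x, ∃ h : Pt (k := k) A (Polynomial k), pmap ι h = orb lam k (pr' x) := fun x => by
    obtain ⟨h, hh⟩ := (represents_jPlus lam k (pr' x).ofConv).1 fun a ha => by
      show x.ofConv (q a) = 0
      rw [show q a = 0 from Ideal.Quotient.eq_zero_iff_mem.2 ha, map_zero]
    exact ⟨toConv h, WithConv.ext hh⟩
  choose H hH using hex
  have hι : Function.Injective (pmap (A := A) ι) := fun x y h => WithConv.ext (AlgHom.ext fun a =>
    inclP_injective (k := k) (DFunLike.congr_fun (congrArg WithConv.ofConv h) a))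
  have hmul : ∀ x y, H (x * y) = H x * H y := fun x y => hι (by rw [map_mul, hH, hH, hH, map_mul, map_mul])
  let f : Pt (k := k) (A ⧸ jPlus lam) k →* Pt (k := k) A k := (pmap ev).comp (MonoidHom.mk' H hmul)
  have hf : ∀ x, f x ∈ N := fun x => hN _ ((commutes_iff lam _).2 fun n hn a ha => by
    show (((Polynomial.aeval (R := k) (0 : k)).restrictScalars k).comp (H x).ofConv) a = 0
    rw [eval_zero lam _ _ (congrArg WithConv.ofConv (hH x)) a, ha.pr_eq, if_neg hn, map_zero])
  let fN : Pt (k := k) (A ⧸ jPlus lam) k →* N := f.codRestrict N hf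
  haveI := isHopfIdeal_jU lam
  let qU : A →ₐc[k] A ⧸ jU lam := Bialgebra.Quotient.mkBialgHom (R := k) (jU lam)
  let uU : Pt (k := k) (A ⧸ jU lam) k →* Pt (k := k) A k :=
    { toFun := fun x => toConv (x.ofConv.comp (qU : A →ₐ[k] A ⧸ jU lam))
      map_one' := WithConv.ext (AlgHom.ext fun a => by simp [AlgHom.convOne_def])
      map_mul' := fun x y => congrArg toConv (AlgHom.convMul_comp_bialgHom_distrib x y qU) }
  haveI hnil : Group.IsNilpotent (Pt (k := k) (A ⧸ jU lam) k) :=
    Groth.Agent.S7986.result k (A ⧸ jU lam) (isUnipotent_quotient lam _ rfl)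
  haveI : Group.IsSolvable (Pt (k := k) (A ⧸ jU lam) k) := inferInstance
  haveI : Group.IsSolvable uU.range := Group.isSolvable_of_surjective uU.rangeRestrict_surjective
  haveI : Group.IsSolvable (fN.ker.map pr') := by
    refine Group.isSolvable_of_isSolvable_injective (f := Subgroup.inclusion (show fN.ker.map pr' ≤ uU.range from ?_))
      (Subgroup.inclusion_injective _)
    rintro _ ⟨x, hx, rfl⟩
    have h1 : Dyn.LimIsOne k A lam k (pr' x).ofConv :=
      ⟨(H x).ofConv, congrArg WithConv.ofConv (hH x),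
        congrArg WithConv.ofConv (show f x = 1 from congrArg Subtype.val (MonoidHom.mem_ker.1 hx))⟩
    exact ⟨toConv (Ideal.Quotient.liftₐ (jU lam) (pr' x).ofConv ((represents_jU lam k _).2 h1)),
      WithConv.ext (AlgHom.ext fun a => rfl)⟩
  haveI : Group.IsSolvable fN.ker :=
    Group.isSolvable_of_isSolvable_injective (f := (Subgroup.equivMapOfInjective fN.ker pr' hinj).toMonoidHom)
      (Subgroup.equivMapOfInjective fN.ker pr' hinj).injective
  exact Group.isSolvable_of_ker_le_range fN.ker.subtype fN (by rw [Subgroup.range_subtype])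

end Groth.L08.Borel.Dyn
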