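import Groth.Agent.L08.Borel.DynAlg
import Groth.Agent.L25.Dyn.Cell
import Groth.Agent.S3305
import Groth.Agent.L08.Borel.Cartan
import Groth.Agent.L08.Borel.TorusImage
import Groth.Agent.L25.Dyn.CentConn

/-!
# The big cell of a regular one-parameter subgroup, scheme form
-/

set_option autoImplicit false
set_option backward.isDefEq.respectTransparency.types false
set_option linter.style.haveILetI false
set_option linter.unusedSectionVars false

universe u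

open CategoryTheory CategoryTheory.Limits MonoidalCategory CartesianMonoidalCategory MonObj GrpObj AlgebraicGeometry
open TensorProduct WithConv
open Groth.L25.Bridge (P)
open Groth.L08.TorusQuot (sp sp_left sp_comp exists_sp toPt toPt_pre toPt_post SP Pt pre spA)
open Groth.L08.HomSpace (exists_hopfIdeal)
open Groth.L25.Dyn (jPlus jU lamP lamW cst pmap)

noncomputable section

namespace Groth.L08.Borel

variable {k : Type u} [Field k] [IsAlgClosed k]

local notation "U1" => 𝟙_ (Over (Spec (CommRingCat.of k)))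

/-- points in the big cell with the conjugation hypothesis lie in the subgroup -/
theorem mem_subgroup_of_cell {A : Type u} [CommRing A] [HopfAlgebra k A] {G T H : Over (Spec (CommRingCat.of k))}
    [GrpObj G] [GrpObj H] (φ : P k A ⟶ G) [IsMonHom φ] [IsIso φ] (ψ : G ⟶ P k A) [IsMonHom ψ] [IsIso ψ]
    [IsIso ψ.left] (hφψ : φ ≫ ψ = 𝟙 _) (hψφ : ψ ≫ φ = 𝟙 G)
    (iT : T ⟶ G) (lamNeg : A →ₐc[k] LaurentPolynomial k) {D : Type u} [CommRing D] [Algebra k D] (aP : Pt k A D)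
    (haP : ∀ x ∈ jU lamNeg, aP.ofConv x = 0)
    (hlam : ∀ (R : Type u) [CommRing R] [Algebra k R],
      ∃ s : SP k (LaurentPolynomial R) ⟶ T, s ≫ iT = toPt (lamP lamNeg R) ≫ φ)
    (iH : H ⟶ G) [IsMonHom iH] [IsClosedImmersion iH.left]
    {R : Type u} [CommRing R] [Algebra k R] (g : SP k R ⟶ G) (u v : SP k R ⟶ SP k D) (h : SP k R ⟶ H)
    (ht' : ∃ t' : T ⟶ H, t' ≫ iH = iT)
    (hconj : ∀ (X : Over (Spec (CommRingCat.of k))) (x : X ⟶ SP k R) (s : X ⟶ T),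
      ∃ h' : X ⟶ H, (x ≫ g)⁻¹ * (s ≫ iT) * (x ≫ g) = h' ≫ iH)
    (e : (u ≫ toPt aP ≫ φ) * g = (v ≫ toPt aP ≫ φ) * (h ≫ iH)) : ∃ z : SP k R ⟶ H, z ≫ iH = g := by
  haveI : IsClosedImmersion (iH ≫ ψ).left := inferInstanceAs (IsClosedImmersion (iH.left ≫ ψ.left))
  obtain ⟨I, -, hIp⟩ := exists_hopfIdeal (iH ≫ ψ)
  have hmem : ∀ (R' : Type u) [CommRing R'] [Algebra k R'] (x : Pt k A R'),
      (∃ z : SP k R' ⟶ H, z ≫ iH = toPt x ≫ φ) ↔ ∀ a ∈ I, x.ofConv a = 0 := fun R' _ _ x => by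
    rw [← hIp R' x]
    refine exists_congr fun z => ⟨fun hz => ?_, fun hz => ?_⟩
    · rw [reassoc_of% hz, hφψ, Category.comp_id]
    · rw [← cancel_mono ψ, Category.assoc, hz, Category.assoc, hφψ, Category.comp_id]
  have hmulφ : ∀ (R' : Type u) [CommRing R'] [Algebra k R'] (x x' : Pt k A R'),
      toPt (x * x') ≫ φ = (toPt x ≫ φ) * (toPt x' ≫ φ) := fun R' _ _ x x' =>
    (congrArg (· ≫ φ) (map_mul (Spec.mapMulEquiv (R := k) (S := A) (T := R')) x x')).trans (MonObj.mul_comp _ _ _)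
  have hinvφ : ∀ (R' : Type u) [CommRing R'] [Algebra k R'] (x : Pt k A R'),
      toPt x⁻¹ ≫ φ = (toPt x ≫ φ)⁻¹ := fun R' _ _ x =>
    (congrArg (· ≫ φ) (map_inv (Spec.mapMulEquiv (R := k) (S := A) (T := R')) x)).trans (GrpObj.inv_comp _ _)
  obtain ⟨g₀, hg₀⟩ := (Spec.mapMulEquiv (R := k) (S := A) (T := R)).surjective (g ≫ ψ)
  obtain ⟨h₀, hh₀⟩ := (Spec.mapMulEquiv (R := k) (S := A) (T := R)).surjective (h ≫ iH ≫ ψ)
  have hg₁ : toPt g₀ ≫ φ = g := by
    rw [show toPt g₀ = g ≫ ψ from hg₀, Category.assoc, hψφ, Category.comp_id]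
  have hh₁ : toPt h₀ ≫ φ = h ≫ iH := by
    rw [show toPt h₀ = h ≫ iH ≫ ψ from hh₀]
    simp only [Category.assoc, hψφ, Category.comp_id]
  have hpt : ∀ w : SP k R ⟶ SP k D, ∃ x : Pt k A R, toPt x ≫ φ = w ≫ toPt aP ≫ φ ∧
      Dyn.LimIsOne k A lamNeg R x.ofConv := fun w => by
    obtain ⟨w₀, hw₀⟩ := Groth.L25.Dyn.exists_algHom w
    refine ⟨Groth.L08.TorusQuot.post w₀ aP, by rw [toPt_post, hw₀, Category.assoc]; rfl, ?_⟩
    exact (Groth.L25.Dyn.represents_jU lamNeg R _).1 fun a ha => by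
      show w₀ (aP.ofConv a) = 0
      rw [haP a ha, map_zero]
  obtain ⟨a₀, ha₀, ha₁⟩ := hpt u
  obtain ⟨b₀, hb₀, hb₁⟩ := hpt v
  obtain ⟨s, hs⟩ := hlam R
  obtain ⟨t', ht'⟩ := ht'
  obtain ⟨h', hh'⟩ := hconj _ (spA (cst (k := k) R)) s
  have ecst : toPt (pmap (cst (k := k) R) g₀) ≫ φ = spA (cst (k := k) R) ≫ g := by
    rw [← hg₁, ← Category.assoc, ← toPt_post]; rfl
  have hkey : ∀ a ∈ I, g₀.ofConv a = 0 := by
    refine Dyn.mem_of_limit lamNeg ?_ ?_ g₀ a₀ b₀ h₀ ha₁ hb₁ ?_ ?_ ?_ ?_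
    · intro R' _ _ x x' hx hx'
      obtain ⟨z, hz⟩ := (hmem R' x).2 hx
      obtain ⟨z', hz'⟩ := (hmem R' x').2 hx'
      exact (hmem R' _).1 ⟨z * z', by rw [MonObj.mul_comp, hz, hz', hmulφ]⟩
    · intro R' _ _ x hx
      obtain ⟨z, hz⟩ := (hmem R' x).2 hx
      exact (hmem R' _).1 ⟨z⁻¹, by rw [GrpObj.inv_comp, hz, hinvφ]⟩
    · exact (hmem R h₀).1 ⟨h, hh₁.symm⟩
    · exact (hmem _ _).1 ⟨s ≫ t', by rw [Category.assoc, ht', hs]⟩
    · exact (hmem _ _).1 ⟨h', by rw [← hh', hs, hmulφ, hmulφ, hinvφ, ecst]⟩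
    · refine (Spec.mapMulEquiv (R := k) (S := A) (T := R)).injective ((cancel_mono φ).1 ?_)
      show toPt (a₀ * g₀) ≫ φ = toPt (b₀ * h₀) ≫ φ
      rw [hmulφ, hmulφ, ha₀, hb₀, hg₁, hh₁]
      exact e
  obtain ⟨z, hz⟩ := (hmem R g₀).2 hkey
  exact ⟨z, hz.trans hg₁⟩

/-- the cell contains the unit -/
theorem exists_one_mem_cell {A : Type u} [CommRing A] [HopfAlgebra k A] {G : Over (Spec (CommRingCat.of k))} [GrpObj G]
    (φ : P k A ⟶ G) [IsMonHom φ] (Jm Jp : Ideal A) [Jm.IsHopfIdeal k] [Jp.IsHopfIdeal k] :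
    ∃ e : SP k k ⟶ SP k ((A ⧸ Jm) ⊗[k] (A ⧸ Jp)),
      e ≫ toPt (toConv (Groth.L25.Dyn.mulHom (k := k) Jm Jp)) ≫ φ = 1 := by
  let εm : A ⧸ Jm →ₐ[k] k := Bialgebra.counitAlgHom k (A ⧸ Jm)
  let εp : A ⧸ Jp →ₐ[k] k := Bialgebra.counitAlgHom k (A ⧸ Jp)
  let ε : (A ⧸ Jm) ⊗[k] (A ⧸ Jp) →ₐ[k] k := Algebra.TensorProduct.lift εm εp (fun _ _ => Commute.all _ _)
  refine ⟨spA ε, ?_⟩
  have h : Groth.L08.TorusQuot.post ε (toConv (Groth.L25.Dyn.mulHom (k := k) Jm Jp)) = 1 := by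
    refine (Groth.L25.Dyn.comp_mulHom (Jm := Jm) (Jp := Jp) ε).trans ?_
    have h1 : Groth.L25.Dyn.fstPt ε = 1 := WithConv.ext (AlgHom.ext fun x => by
      show ε ((Algebra.TensorProduct.includeLeft : A ⧸ Jm →ₐ[k] _) (Ideal.Quotient.mkₐ k Jm x)) = _
      rw [Algebra.TensorProduct.includeLeft_apply, Algebra.TensorProduct.lift_tmul, map_one, _root_.mul_one,
        AlgHom.convOne_apply]
      exact congrArg _ rfl)
    have h2 : Groth.L25.Dyn.sndPt ε = 1 := WithConv.ext (AlgHom.ext fun x => by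
      show ε ((Algebra.TensorProduct.includeRight : A ⧸ Jp →ₐ[k] _) (Ideal.Quotient.mkₐ k Jp x)) = _
      rw [Algebra.TensorProduct.includeRight_apply, Algebra.TensorProduct.lift_tmul, map_one, _root_.one_mul,
        AlgHom.convOne_apply]
      exact congrArg _ rfl)
    rw [h1, h2, _root_.one_mul]
  rw [← Category.assoc, ← toPt_post, h, toPt, map_one, MonObj.one_comp]

/-- the left factor of the cell kills its ideal -/
theorem fstPt_id_kills {A : Type u} [CommRing A] [HopfAlgebra k A] (Jm Jp : Ideal A) :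
    ∀ a ∈ Jm, (Groth.L25.Dyn.fstPt (k := k) (Jm := Jm) (Jp := Jp)
      (AlgHom.id k ((A ⧸ Jm) ⊗[k] (A ⧸ Jp)))).ofConv a = 0 := by
  intro a ha
  show (Algebra.TensorProduct.includeLeft : A ⧸ Jm →ₐ[k] (A ⧸ Jm) ⊗[k] (A ⧸ Jp)) (Ideal.Quotient.mk Jm a) = 0
  rw [Ideal.Quotient.eq_zero_iff_mem.2 ha, map_zero]

/-- contracted commutators lie in closed subgroups containing the iterated commutators -/
theorem mem_subgroup_of_contract {A : Type u} [CommRing A] [HopfAlgebra k A] {G T K : Over (Spec (CommRingCat.of k))}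
    [GrpObj G] [GrpObj K] (φ : P k A ⟶ G) [IsMonHom φ] [IsIso φ] (ψ : G ⟶ P k A) [IsMonHom ψ] [IsIso ψ]
    [IsIso ψ.left] (hφψ : φ ≫ ψ = 𝟙 _) (hψφ : ψ ≫ φ = 𝟙 G)
    (iT : T ⟶ G) (lamNeg : A →ₐc[k] LaurentPolynomial k) {D : Type u} [CommRing D] [Algebra k D] (aP : Pt k A D)
    (haP : ∀ x ∈ jU lamNeg, aP.ofConv x = 0)
    (hlam : ∀ (R : Type u) [CommRing R] [Algebra k R],
      ∃ s : SP k (LaurentPolynomial R) ⟶ T, s ≫ iT = toPt (lamP lamNeg R) ≫ φ)
    (hfix : ∀ (R : Type u) [CommRing R] [Algebra k R] (σ : SP k R ⟶ T), ∃ σ₀ : Pt k A R, toPt σ₀ ≫ φ = σ ≫ iT ∧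
      Dyn.conjOrbit k A lamNeg R σ₀.ofConv = (IsScalarTower.toAlgHom k R (LaurentPolynomial R)).comp σ₀.ofConv)
    (iK : K ⟶ G) [IsMonHom iK] [IsClosedImmersion iK.left]
    {R : Type u} [CommRing R] [Algebra k R] (u : SP k R ⟶ SP k D) (s : SP k R ⟶ T) (g : SP k R ⟶ G)
    (hg : g = (u ≫ toPt aP ≫ φ)⁻¹ * (s ≫ iT) * (u ≫ toPt aP ≫ φ) * (s ≫ iT)⁻¹)
    (hconj : ∀ (X : Over (Spec (CommRingCat.of k))) (x : X ⟶ SP k R) (σ : X ⟶ T),
      ∃ h' : X ⟶ K, (x ≫ g)⁻¹ * (σ ≫ iT) * (x ≫ g) * (σ ≫ iT)⁻¹ = h' ≫ iK) :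
    ∃ z : SP k R ⟶ K, z ≫ iK = g := by
  haveI : IsClosedImmersion (iK ≫ ψ).left := inferInstanceAs (IsClosedImmersion (iK.left ≫ ψ.left))
  obtain ⟨I, -, hIp⟩ := exists_hopfIdeal (iK ≫ ψ)
  have hmem : ∀ (R' : Type u) [CommRing R'] [Algebra k R'] (x : Pt k A R'),
      (∃ z : SP k R' ⟶ K, z ≫ iK = toPt x ≫ φ) ↔ ∀ a ∈ I, x.ofConv a = 0 := fun R' _ _ x => by
    rw [← hIp R' x]
    refine exists_congr fun z => ⟨fun hz => ?_, fun hz => ?_⟩
    · rw [reassoc_of% hz, hφψ, Category.comp_id]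
    · rw [← cancel_mono ψ, Category.assoc, hz, Category.assoc, hφψ, Category.comp_id]
  have hmulφ : ∀ (R' : Type u) [CommRing R'] [Algebra k R'] (x x' : Pt k A R'),
      toPt (x * x') ≫ φ = (toPt x ≫ φ) * (toPt x' ≫ φ) := fun R' _ _ x x' =>
    (congrArg (· ≫ φ) (map_mul (Spec.mapMulEquiv (R := k) (S := A) (T := R')) x x')).trans (MonObj.mul_comp _ _ _)
  have hinvφ : ∀ (R' : Type u) [CommRing R'] [Algebra k R'] (x : Pt k A R'),
      toPt x⁻¹ ≫ φ = (toPt x ≫ φ)⁻¹ := fun R' _ _ x =>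
    (congrArg (· ≫ φ) (map_inv (Spec.mapMulEquiv (R := k) (S := A) (T := R')) x)).trans (GrpObj.inv_comp _ _)
  obtain ⟨u₀, hu₀⟩ := Groth.L25.Dyn.exists_algHom u
  let a₀ := Groth.L08.TorusQuot.post u₀ aP
  have ha₀ : toPt a₀ ≫ φ = u ≫ toPt aP ≫ φ := by rw [toPt_post, hu₀, Category.assoc]; rfl
  have ha₁ : Dyn.LimIsOne k A lamNeg R a₀.ofConv := (Groth.L25.Dyn.represents_jU lamNeg R _).1 fun a ha => by
    show u₀ (aP.ofConv a) = 0
    rw [haP a ha, map_zero]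
  obtain ⟨σ₀, hσ₀, hσ₁⟩ := hfix R s
  let g₀ : Pt k A R := a₀⁻¹ * σ₀ * a₀ * σ₀⁻¹
  have hg₁ : toPt g₀ ≫ φ = g := by rw [hmulφ, hmulφ, hmulφ, hinvφ, hinvφ, ha₀, hσ₀, hg]
  have hlim : Dyn.LimIsOne k A lamNeg R g₀.ofConv := by
    have h := Groth.L25.Dyn.LimIsOne.mul lamNeg (f := a₀⁻¹) (g := σ₀ * a₀ * σ₀⁻¹)
      (Groth.L25.Dyn.LimIsOne.inv lamNeg ha₁) (Dyn.limIsOne_conj lamNeg σ₀ a₀ hσ₁ ha₁)
    have e : g₀ = a₀⁻¹ * (σ₀ * a₀ * σ₀⁻¹) := by simp only [g₀, _root_.mul_assoc]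
    rw [e]
    exact h
  obtain ⟨l, hl⟩ := hlam R
  obtain ⟨h', hh'⟩ := hconj _ (spA (cst (k := k) R)) l
  have ecst : toPt (pmap (cst (k := k) R) g₀) ≫ φ = spA (cst (k := k) R) ≫ g := by
    rw [← hg₁, ← Category.assoc, ← toPt_post]; rfl
  have hkey : ∀ a ∈ I, g₀.ofConv a = 0 := by
    refine Dyn.mem_of_contract lamNeg ?_ ?_ g₀ hlim ?_
    · intro R' _ _ x x' hx hx'
      obtain ⟨z, hz⟩ := (hmem R' x).2 hx
      obtain ⟨z', hz'⟩ := (hmem R' x').2 hx'
      exact (hmem R' _).1 ⟨z * z', by rw [MonObj.mul_comp, hz, hz', hmulφ]⟩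
    · intro R' _ _ x hx
      obtain ⟨z, hz⟩ := (hmem R' x).2 hx
      exact (hmem R' _).1 ⟨z⁻¹, by rw [GrpObj.inv_comp, hz, hinvφ]⟩
    · exact (hmem _ _).1 ⟨h', by rw [← hh', hl, hmulφ, hmulφ, hmulφ, hinvφ, hinvφ, ecst]⟩
  obtain ⟨z, hz⟩ := (hmem R g₀).2 hkey
  exact ⟨z, hz.trans hg₁⟩

set_option maxHeartbeats 1000000 in
/-- the big cell of a regular one-parameter subgroup of a maximal torus -/
theorem exists_cell {G T C : Over (Spec (CommRingCat.of k))} [GrpObj G] [GrpObj T] [GrpObj C] [IsAffine G.left]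
    [Smooth G.hom] [ConnectedSpace G.left] {iT : T ⟶ G} (hT : AGF.IsMaxTorus iT) {c : C ⟶ G}
    (hc : Red.IsCentralizerOf iT c) :
    ∃ (W : Over (Spec (CommRingCat.of k))) (_ : GrpObj W) (iw : W ⟶ G) (t : T ⟶ W)
      (Q : Over (Spec (CommRingCat.of k))) (q a : Q ⟶ G) (p : Q ⟶ W),
      IsMonHom iw ∧ IsClosedImmersion iw.left ∧ Smooth W.hom ∧ ConnectedSpace W.left ∧ Red.IsSolvableGrp W ∧
      t ≫ iw = iT ∧ IsOpenImmersion q.left ∧ (∃ e : SP k k ⟶ Q, e ≫ q = 1) ∧ q = a * (p ≫ iw) ∧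
      (∀ (K : Over (Spec (CommRingCat.of k))) [GrpObj K] (iK : K ⟶ G) [IsMonHom iK] [IsClosedImmersion iK.left]
        (R : Type u) [CommRing R] [Algebra k R] (u : SP k R ⟶ Q) (s : SP k R ⟶ T) (g : SP k R ⟶ G),
        g = (u ≫ a)⁻¹ * (s ≫ iT) * (u ≫ a) * (s ≫ iT)⁻¹ →
        (∀ (X : Over (Spec (CommRingCat.of k))) (x : X ⟶ SP k R) (σ : X ⟶ T),
          ∃ h' : X ⟶ K, (x ≫ g)⁻¹ * (σ ≫ iT) * (x ≫ g) * (σ ≫ iT)⁻¹ = h' ≫ iK) →
        ∃ z : SP k R ⟶ K, z ≫ iK = g) ∧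
      ∀ (H : Over (Spec (CommRingCat.of k))) [GrpObj H] (iH : H ⟶ G) [IsMonHom iH] [IsClosedImmersion iH.left]
        (R : Type u) [CommRing R] [Algebra k R] (g : SP k R ⟶ G) (u v : SP k R ⟶ Q) (h : SP k R ⟶ H),
        (∃ t' : T ⟶ H, t' ≫ iH = iT) →
        (∀ (X : Over (Spec (CommRingCat.of k))) (x : X ⟶ SP k R) (s : X ⟶ T),
          ∃ h' : X ⟶ H, (x ≫ g)⁻¹ * (s ≫ iT) * (x ≫ g) = h' ≫ iH) →
        (u ≫ a) * g = (v ≫ a) * (h ≫ iH) → ∃ z : SP k R ⟶ H, z ≫ iH = g := by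
  haveI := hT.1; haveI := hT.2.1; haveI := hc.1; haveI := hc.2.1
  haveI : LocallyOfFiniteType G.hom := inferInstance
  obtain ⟨A, _, _, ⟨eG⟩⟩ := Groth.L25.Bridge.exists_hopf G
  let φ : P k A ⟶ G := eG.inv.hom.hom
  let ψ : G ⟶ P k A := eG.hom.hom.hom
  have hψφ : ψ ≫ φ = 𝟙 G := congrArg (fun f => f.hom.hom) eG.hom_inv_id
  have hφψ : φ ≫ ψ = 𝟙 _ := congrArg (fun f => f.hom.hom) eG.inv_hom_id
  haveI : IsMonHom φ := eG.inv.hom.isMonHom_hom
  haveI : IsMonHom ψ := eG.hom.hom.isMonHom_hom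
  haveI : IsIso φ := ⟨ψ, hφψ, hψφ⟩
  haveI : IsIso ψ := ⟨φ, hψφ, hφψ⟩
  haveI : IsIso φ.left := inferInstanceAs (IsIso ((Over.forget _).map φ))
  haveI : IsIso ψ.left := inferInstanceAs (IsIso ((Over.forget _).map ψ))
  haveI hft : LocallyOfFiniteType (P k A).hom := by rw [← Over.w φ]; infer_instance
  haveI hsm : Smooth (P k A).hom := by rw [← Over.w φ]; infer_instance
  haveI : Algebra.FiniteType k A := by
    change LocallyOfFiniteType (Spec.map (CommRingCat.ofHom (algebraMap k A))) at hft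
    rwa [HasRingHomProperty.Spec_iff (P := @LocallyOfFiniteType), CommRingCat.hom_ofHom,
      RingHom.finiteType_algebraMap] at hft
  haveI : Algebra.Smooth k A := by
    change Smooth (Spec.map (CommRingCat.ofHom (algebraMap k A))) at hsm
    rw [HasRingHomProperty.Spec_iff (P := @Smooth), CommRingCat.hom_ofHom] at hsm
    exact RingHom.smooth_algebraMap.1 hsm
  haveI : Algebra.FinitePresentation k A := Algebra.FinitePresentation.of_finiteType.1 inferInstance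
  haveI : ConnectedSpace (PrimeSpectrum A) := ψ.left.homeomorph.surjective.connectedSpace ψ.left.homeomorph.continuous
  have hconn : ∀ e : A, IsIdempotentElem e → e = 0 ∨ e = 1 := idempotent_trivial
  -- the cocharacter
  obtain ⟨n, ⟨eT⟩⟩ := exists_laurent_of_torus hT.2.2.1
  let b : T ⟶ P k (MonoidAlgebra k (Multiplicative (Fin n → ℤ))) := eT.hom.hom.hom
  let bi : P k (MonoidAlgebra k (Multiplicative (Fin n → ℤ))) ⟶ T := eT.inv.hom.hom
  have hbb : b ≫ bi = 𝟙 T := congrArg (fun f => f.hom.hom) eT.hom_inv_id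
  have hbb' : bi ≫ b = 𝟙 _ := congrArg (fun f => f.hom.hom) eT.inv_hom_id
  haveI : IsMonHom bi := eT.inv.hom.isMonHom_hom
  haveI : IsMonHom b := eT.hom.hom.isMonHom_hom
  obtain ⟨cA, hcA⟩ := exists_sp (bi ≫ iT ≫ ψ)
  let eM := (AddMonoidAlgebra.toMultiplicativeBialgEquiv k k (Fin n → ℤ)).symm
  let φc : A →ₐc[k] AddMonoidAlgebra k (Fin n → ℤ) :=
    (eM : MonoidAlgebra k (Multiplicative (Fin n → ℤ)) →ₐc[k] AddMonoidAlgebra k (Fin n → ℤ)).comp cA
  obtain ⟨w, hw⟩ := Groth.L25.Dyn.exists_cocharacter φc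
  let lam := lamW φc w
  obtain ⟨lamNeg, hneg⟩ := Groth.L25.Dyn.exists_neg lam
  -- points through the torus
  have hsp : ∀ (R : Type u) [CommRing R] [Algebra k R] (x : Pt k A R),
      (∃ y : Pt k (MonoidAlgebra k (Multiplicative (Fin n → ℤ))) R, pre cA y = x) →
      ∃ s : SP k R ⟶ T, s ≫ iT = toPt x ≫ φ := by
    rintro R _ _ _ ⟨y, rfl⟩
    exact ⟨toPt y ≫ bi, by rw [toPt_pre, hcA]; simp only [Category.assoc, hψφ, Category.comp_id]⟩
  have hlamT : ∀ (R : Type u) [CommRing R] [Algebra k R],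
      ∃ y : Pt k (MonoidAlgebra k (Multiplicative (Fin n → ℤ))) (LaurentPolynomial R),
        pre cA y = lamP lamNeg R := fun R _ _ => by
    refine ⟨toConv (((AddMonoidAlgebra.mapAlgHom ℤ (Algebra.ofId k R)).comp
      (LaurentPolynomial.invert (R := k)).toAlgHom).comp
      ((AddMonoidAlgebra.mapDomainBialgHom k w :
        AddMonoidAlgebra k (Fin n → ℤ) →ₐc[k] LaurentPolynomial k).comp
        (eM : MonoidAlgebra k (Multiplicative (Fin n → ℤ)) →ₐc[k] AddMonoidAlgebra k (Fin n → ℤ)) :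
          MonoidAlgebra k (Multiplicative (Fin n → ℤ)) →ₐ[k] LaurentPolynomial k)), ?_⟩
    refine WithConv.ext (AlgHom.ext fun a => ?_)
    show _ = AddMonoidAlgebra.mapAlgHom ℤ (Algebra.ofId k R) ((lamNeg : A →ₐ[k] LaurentPolynomial k) a)
    rw [hneg]
    rfl
  haveI := Groth.L25.Dyn.isHopfIdeal_jPlus lam
  haveI := Groth.L25.Dyn.isHopfIdeal_jU lamNeg
  let Jp := jPlus lam
  let Jm := jU lamNeg
  let qW : A →ₐc[k] A ⧸ Jp := Bialgebra.Quotient.mkBialgHom (R := k) Jp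
  -- the opposite unipotent part, as points
  let Q : Over (Spec (CommRingCat.of k)) := SP k ((A ⧸ Jm) ⊗[k] (A ⧸ Jp))
  let aP : Pt k A ((A ⧸ Jm) ⊗[k] (A ⧸ Jp)) := Groth.L25.Dyn.fstPt (AlgHom.id k _)
  let pP : Pt k (A ⧸ Jp) ((A ⧸ Jm) ⊗[k] (A ⧸ Jp)) :=
    toConv (Algebra.TensorProduct.includeRight : A ⧸ Jp →ₐ[k] (A ⧸ Jm) ⊗[k] (A ⧸ Jp))
  -- connectedness, smoothness and solvability
  haveI : Algebra.FormallySmooth k (A ⧸ Jp) :=
    Groth.L25.Dyn.formallySmooth_of_lifts (Groth.L25.Dyn.represents_jPlus lam) fun B _ _ J hJ g hg => by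
      obtain ⟨g1, hg1, hg2⟩ := Groth.L25.Dyn.exists_negKill_lift lam hJ g ((Groth.L25.Dyn.limExists_iff lam _).1 hg)
      exact ⟨g1, (Groth.L25.Dyn.limExists_iff lam _).2 hg1, hg2⟩
  haveI : Algebra.FinitePresentation k (A ⧸ Jp) := Algebra.FinitePresentation.quotient (Groth.L25.Dyn.fg_jPlus lam).1
  haveI : Algebra.Smooth k (A ⧸ Jp) := ⟨inferInstance, inferInstance⟩
  haveI hWs : Smooth (P k (A ⧸ Jp)).hom := by
    show Smooth (Spec.map (CommRingCat.ofHom (algebraMap k (A ⧸ Jp))))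
    rw [HasRingHomProperty.Spec_iff (P := @Smooth), CommRingCat.hom_ofHom]
    exact RingHom.smooth_algebraMap.2 inferInstance
  haveI : IsClosedImmersion (sp qW).left :=
    IsClosedImmersion.spec_of_surjective (CommRingCat.ofHom (qW : A →+* A ⧸ Jp)) Ideal.Quotient.mk_surjective
  haveI : IsClosedImmersion (sp qW ≫ φ).left := inferInstanceAs (IsClosedImmersion ((sp qW).left ≫ φ.left))
  haveI hWc : ConnectedSpace (P k (A ⧸ Jp)).left := by
    show ConnectedSpace (PrimeSpectrum (A ⧸ Jp))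
    haveI : Nontrivial (A ⧸ Jp) :=
      (Bialgebra.counitAlgHom k (A ⧸ Jp)).toRingHom.domain_nontrivial
    refine connectedSpace_iff_clopen.2 ⟨inferInstance, fun s hs => ?_⟩
    obtain ⟨f, ⟨hf, rfl⟩, -⟩ := PrimeSpectrum.existsUnique_idempotent_basicOpen_eq_of_isClopen hs
    rcases Groth.L25.Dyn.idem_quotient_jPlus lam Jp rfl hconn f hf with rfl | rfl
    · left; rw [PrimeSpectrum.basicOpen_zero]; rfl
    · right; rw [PrimeSpectrum.basicOpen_one]; rfl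
  have hWsol : Red.IsSolvableGrp (P k (A ⧸ Jp)) := by
    haveI : QuasiCompact (P k (A ⧸ Jp)).hom := quasiCompact_of_compactSpace _
    haveI := isSolvable_pts (isSolvableGrp_centralizer hT hc)
    let Φ : Pt k A k →* (SP k k ⟶ G) :=
      { toFun := fun g => toPt g ≫ φ
        map_one' := by rw [toPt, map_one, MonObj.one_comp]
        map_mul' := fun g g' => by rw [toPt, map_mul, MonObj.mul_comp] }
    have hΦ : Function.Injective Φ := fun g g' e => Spec.mapMulEquiv.injective ((cancel_mono φ).1 e)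
    let e1 : U1 ≅ SP k k := Over.isoMk (Iso.refl _) (by
      show 𝟙 _ ≫ Spec.map (CommRingCat.ofHom (algebraMap k k)) = 𝟙 _
      rw [Algebra.algebraMap_self, Category.id_comp]; exact Spec.map_id _)
    let Cp : (U1 ⟶ C) →* (SP k k ⟶ G) := MonoidHom.mk' (fun z => e1.inv ≫ z ≫ c) fun z z' => by
      rw [MonObj.mul_comp, MonObj.comp_mul]
    let N : Subgroup (Pt k A k) := Cp.range.comap Φ
    haveI : Group.IsSolvable Cp.range := Group.isSolvable_of_surjective Cp.rangeRestrict_surjective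
    haveI : Group.IsSolvable N :=
      Group.isSolvable_of_isSolvable_injective (f := (Φ.comp N.subtype).codRestrict Cp.range fun x => x.2)
        fun x y e => Subtype.ext (hΦ (congrArg Subtype.val e))
    haveI hsol := Dyn.isSolvable_of_limit lam (N := N) fun z hz => by
      have hcomm := hw k z.ofConv hz
      obtain ⟨z', hz'⟩ := (hc.2.2 (SP k k) (toPt z ≫ φ)).2 fun X' x h => by
        refine Groth.L08.HomSpace.hom_ext_affine _ _ fun R _ _ v => ?_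
        obtain ⟨ψR, hψR⟩ : ∃ ψR : k →ₐ[k] R, spA ψR = v ≫ x := ⟨Algebra.ofId k R, hom_ext_base _ _⟩
        obtain ⟨y, hy⟩ := (Spec.mapMulEquiv (R := k) (S := MonoidAlgebra k (Multiplicative (Fin n → ℤ)))
          (T := R)).surjective ((v ≫ h) ≫ b)
        let χ : AddMonoidAlgebra k (Fin n → ℤ) →ₐ[k] R := y.ofConv.comp
          (eM.symm : AddMonoidAlgebra k (Fin n → ℤ) →ₐc[k] MonoidAlgebra k (Multiplicative (Fin n → ℤ)))
        have hc' : pre cA y * pmap ψR z = pmap ψR z * pre cA y := by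
          have h1 : toConv (χ.comp (φc : A →ₐ[k] AddMonoidAlgebra k (Fin n → ℤ))) = pre cA y := by
            refine WithConv.ext (AlgHom.ext fun a => ?_)
            show y.ofConv (eM.symm (eM (cA a))) = y.ofConv (cA a)
            rw [BialgEquiv.symm_apply_apply]
          have h2 := (hcomm R ψR χ).eq
          rw [h1] at h2
          exact h2
        have h3 : toPt (pre cA y) * toPt (pmap ψR z) = toPt (pmap ψR z) * toPt (pre cA y) :=
          (map_mul _ _ _).symm.trans ((congrArg toPt hc').trans (map_mul _ _ _))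
        have e2 : toPt (pre cA y) ≫ φ = v ≫ h ≫ iT := by
          rw [toPt_pre, hcA, show toPt y = (v ≫ h) ≫ b from hy]
          simp only [Category.assoc, hψφ, Category.comp_id, reassoc_of% hbb]
        have e3 : toPt (pmap ψR z) ≫ φ = v ≫ x ≫ toPt z ≫ φ := by
          rw [show pmap ψR z = Groth.L08.TorusQuot.post ψR z from rfl, toPt_post, hψR]
          simp only [Category.assoc]
        have := congrArg (· ≫ φ) h3
        simp only [MonObj.mul_comp, e2, e3] at this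
        simp only [MonObj.comp_mul]
        exact this.symm
      exact ⟨e1.hom ≫ z', by
        show e1.inv ≫ (e1.hom ≫ z') ≫ c = toPt z ≫ φ
        rw [Category.assoc, Iso.inv_hom_id_assoc, hz']⟩
    refine isSolvableGrp_of_pts ?_
    let Ψ : (U1 ⟶ P k (A ⧸ Jp)) →* Pt k (A ⧸ Jp) k :=
      MonoidHom.mk' (fun x => Groth.L08.TorusQuot.ofPt (e1.inv ≫ x)) fun x y => by
        rw [MonObj.comp_mul]; exact map_mul _ _ _
    exact Group.isSolvable_of_isSolvable_injective (f := Ψ) fun x y e =>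
      (cancel_epi e1.inv).1 ((Spec.mapMulEquiv (R := k) (S := A ⧸ Jp) (T := k)).symm.injective e)
  -- the torus inside
  have htors : ∀ (R : Type u) [CommRing R] [Algebra k R] (y : Pt k (MonoidAlgebra k (Multiplicative (Fin n → ℤ))) R),
      ∀ x ∈ Jp, (pre cA y).ofConv x = 0 := fun R _ _ y => by
    refine (Groth.L25.Dyn.represents_jPlus lam R _).2 ((Groth.L25.Dyn.limExists_iff lam _).2 ?_)
    have hfix : Dyn.conjOrbit k A lam R (pre cA y).ofConv =
        (IsScalarTower.toAlgHom k R (LaurentPolynomial R)).comp (pre cA y).ofConv := by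
      let l : Pt k (MonoidAlgebra k (Multiplicative (Fin n → ℤ))) (LaurentPolynomial R) :=
        toConv ((AddMonoidAlgebra.mapAlgHom ℤ (Algebra.ofId k R)).comp
          ((AddMonoidAlgebra.mapDomainBialgHom k w :
            AddMonoidAlgebra k (Fin n → ℤ) →ₐc[k] LaurentPolynomial k).comp
            (eM : MonoidAlgebra k (Multiplicative (Fin n → ℤ)) →ₐc[k] AddMonoidAlgebra k (Fin n → ℤ)) :
              MonoidAlgebra k (Multiplicative (Fin n → ℤ)) →ₐ[k] LaurentPolynomial k))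
      have hl : lamP lam R = pre cA l := rfl
      have h1 := Groth.L25.Dyn.conjOrbit_eq lam (pre cA y).ofConv
      have h2 : pmap (cst (k := k) R) (pre cA y) = pre cA (Groth.L08.TorusQuot.post (cst (k := k) R) y) := rfl
      rw [toConv_ofConv, h2, hl, ← map_inv, ← map_mul, ← map_mul,
        mul_comm l, mul_inv_cancel_right] at h1
      exact congrArg WithConv.ofConv h1
    exact fun m hm a ha => (Groth.L25.Dyn.commutes_iff lam _).1 hfix m hm.ne a ha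
  obtain ⟨cW, hcW⟩ : ∃ cW : A ⧸ Jp →ₐ[k] MonoidAlgebra k (Multiplicative (Fin n → ℤ)),
      cW.comp (qW : A →ₐ[k] A ⧸ Jp) = (cA : A →ₐ[k] _) := by
    refine ⟨Ideal.Quotient.liftₐ Jp (cA : A →ₐ[k] _) fun x hx => ?_, AlgHom.ext fun x => rfl⟩
    exact htors _ (toConv (AlgHom.id k _)) x hx
  refine ⟨P k (A ⧸ Jp), inferInstance, sp qW ≫ φ, b ≫ toPt (toConv cW), Q, toPt (toConv
    (Groth.L25.Dyn.mulHom (k := k) Jm Jp)) ≫ φ, toPt aP ≫ φ, toPt pP, inferInstance, inferInstance, hWs, hWc, hWsol,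
    ?_, ?_, ?_, ?_, ?_, ?_⟩
  · have e : toPt (toConv cW) ≫ sp qW = sp cA := by
      rw [← toPt_pre]
      refine Over.OverMorphism.ext ?_
      rw [sp_left]
      exact congrArg (fun f : A →ₐ[k] _ => Spec.map (CommRingCat.ofHom f.toRingHom)) hcW
    rw [Category.assoc, reassoc_of% e, hcA]
    simp only [Category.assoc, hψφ, Category.comp_id, reassoc_of% hbb]
  · haveI : IsOpenImmersion (toPt (toConv (Groth.L25.Dyn.mulHom (k := k) Jm Jp))).left :=
      Groth.Agent.S3305.result k A lam lamNeg hneg Jp Jm (Groth.L25.Dyn.represents_jPlus lam)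
        (Groth.L25.Dyn.represents_jU lamNeg)
    exact inferInstanceAs (IsOpenImmersion (_ ≫ φ.left))
  · exact exists_one_mem_cell φ Jm Jp
  · rw [← Category.assoc, ← toPt_pre, ← MonObj.mul_comp]
    refine congrArg (· ≫ φ) (Eq.trans ?_ (map_mul _ _ _))
    refine congrArg toPt ?_
    have h := Groth.L25.Dyn.comp_mulHom (Jm := Jm) (Jp := Jp) (AlgHom.id k _)
    rw [AlgHom.id_comp] at h
    exact h
  · intro K _ iK _ _ R _ _ u s g hg hconj
    refine mem_subgroup_of_contract φ ψ hφψ hψφ iT lamNeg aP ?_ ?_ ?_ iK u s g hg hconj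
    · exact fstPt_id_kills Jm Jp
    · intro R' _ _
      obtain ⟨y, hy⟩ := hlamT R'
      exact hsp _ (lamP lamNeg R') ⟨y, hy⟩
    · intro R' _ _ σ
      obtain ⟨y, hy⟩ := (Spec.mapMulEquiv (R := k) (S := MonoidAlgebra k (Multiplicative (Fin n → ℤ)))
        (T := R')).surjective (σ ≫ b)
      obtain ⟨l, hl⟩ := hlamT R'
      refine ⟨pre cA y, ?_, ?_⟩
      · rw [toPt_pre, hcA, show toPt y = σ ≫ b from hy]
        simp only [Category.assoc, hψφ, Category.comp_id, reassoc_of% hbb]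
      · have h1 := Groth.L25.Dyn.conjOrbit_eq lamNeg (pre cA y).ofConv
        have h2 : pmap (cst (k := k) R') (pre cA y) = pre cA (Groth.L08.TorusQuot.post (cst (k := k) R') y) := rfl
        rw [toConv_ofConv, h2, ← hl, ← map_inv, ← map_mul, ← map_mul, mul_comm l, mul_inv_cancel_right] at h1
        exact congrArg WithConv.ofConv h1
  · intro H _ iH _ _ R _ _ g u v h ht' hconj e
    refine mem_subgroup_of_cell φ ψ hφψ hψφ iT lamNeg aP ?_ ?_ iH g u v h ht' hconj e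
    · exact fstPt_id_kills Jm Jp
    · intro R' _ _
      obtain ⟨y, hy⟩ := hlamT R'
      exact hsp _ (lamP lamNeg R') ⟨y, hy⟩

end Groth.L08.Borel
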