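import Groth.Prelude.Def_AGF
import Groth.Agent.L24.Mono.Over
import Groth.Agent.L08.HomSpace.Quot

/-!
# Morphisms out of a quotient `G/H`
-/

set_option autoImplicit false
set_option backward.isDefEq.respectTransparency.types false
set_option linter.style.haveILetI false

universe u

open CategoryTheory CategoryTheory.Limits MonoidalCategory CartesianMonoidalCategory MonObj GrpObj AlgebraicGeometry

noncomputable section

namespace Groth.L08.Borel

variable {k : Type u} [Field k] {G H X Z : Over (Spec (CommRingCat.of k))} [GrpObj G] [GrpObj H]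
  {i : H ⟶ G} {a : AlgGrp.Action G X} {o : 𝟙_ (Over (Spec (CommRingCat.of k))) ⟶ X}

/-- the orbit map of a quotient is of finite presentation -/
theorem lfp_orbitMap (hX : AGF.IsQuotient i X a o) [LocallyOfFiniteType G.hom] :
    LocallyOfFinitePresentation (a.orbitMap o).left := by
  haveI := hX.1
  haveI : LocallyOfFinitePresentation G.hom := LocallyOfFinitePresentation.iff_locallyOfFiniteType.2 inferInstance
  haveI : LocallyOfFinitePresentation ((a.orbitMap o).left ≫ X.hom) := by rw [Over.w]; infer_instance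
  exact Groth.L23.lfp_of_comp_lft (a.orbitMap o).left X.hom ‹_›

/-- the orbit map of a quotient is an effective epimorphism -/
theorem effectiveEpi_orbitMap (hX : AGF.IsQuotient i X a o) [LocallyOfFiniteType G.hom] :
    EffectiveEpi (a.orbitMap o).left := by
  haveI := hX.2.1
  haveI := hX.2.2.1
  haveI := lfp_orbitMap hX
  infer_instance

/-- equivariance of the orbit map -/
theorem mul_orbitMap (a : AlgGrp.Action G X) (o : 𝟙_ (Over (Spec (CommRingCat.of k))) ⟶ X)
    {T : Over (Spec (CommRingCat.of k))} (g h : T ⟶ G) :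
    (g * h) ≫ a.orbitMap o = lift g (h ≫ a.orbitMap o) ≫ a.act := by
  have e : ∀ f : T ⟶ G, f ≫ a.orbitMap o = lift f (toUnit T ≫ o) ≫ a.act := fun f => by
    simp only [AlgGrp.Action.orbitMap, ← Category.assoc, comp_lift, Category.comp_id]
    rw [toUnit_unique (f ≫ toUnit G) (toUnit T)]
  rw [e, e, Groth.L25.Actions.mul_act]

theorem one_orbitMap (a : AlgGrp.Action G X) (o : 𝟙_ (Over (Spec (CommRingCat.of k))) ⟶ X)
    {T : Over (Spec (CommRingCat.of k))} : (1 : T ⟶ G) ≫ a.orbitMap o = toUnit T ≫ o := by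
  simp only [AlgGrp.Action.orbitMap, ← Category.assoc, comp_lift, Category.comp_id]
  rw [toUnit_unique ((1 : T ⟶ G) ≫ toUnit G) (toUnit T)]
  exact Groth.L25.Actions.one_act a _

/-- two points have the same image in the quotient iff they differ by a point of the subgroup -/
theorem orbitMap_eq_iff (hX : AGF.IsQuotient i X a o) {T : Over (Spec (CommRingCat.of k))} (x y : T ⟶ G) :
    x ≫ a.orbitMap o = y ≫ a.orbitMap o ↔ ∃ z : T ⟶ H, z ≫ i = x⁻¹ * y := by
  have sq := hX.2.2.2
  have hmul : ∀ {T : Over (Spec (CommRingCat.of k))} (g : T ⟶ G) (h : T ⟶ H),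
      lift g h ≫ (G ◁ i) ≫ μ[G] = g * (h ≫ i) := fun g h => by rw [lift_whiskerLeft_assoc, Hom.mul_def]
  constructor
  · intro e
    refine ⟨sq.lift x y e ≫ snd G H, ?_⟩
    have e1 := sq.lift_fst x y e
    have e2 := sq.lift_snd x y e
    generalize sq.lift x y e = l at e1 e2 ⊢
    rw [← lift_comp_fst_snd l, lift_whiskerLeft_assoc, ← Hom.mul_def, e1] at e2
    rw [eq_inv_mul_iff_mul_eq]
    exact e2
  · rintro ⟨z, hz⟩
    have := lift x z ≫= sq.w
    simp only [lift_fst_assoc, Category.assoc, lift_whiskerLeft_assoc] at this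
    rw [← Category.assoc, ← Hom.mul_def, hz, mul_inv_cancel_left] at this
    exact this

/-- a morphism constant on cosets factors through the quotient -/
theorem exists_desc (hX : AGF.IsQuotient i X a o) [LocallyOfFiniteType G.hom] (f : G ⟶ Z)
    (hf : ∀ (T : Over (Spec (CommRingCat.of k))) (x y : T ⟶ G), (∃ z : T ⟶ H, z ≫ i = x⁻¹ * y) → x ≫ f = y ≫ f) :
    ∃ j : X ⟶ Z, a.orbitMap o ≫ j = f := by
  haveI := effectiveEpi_orbitMap hX
  obtain ⟨j, hj, -⟩ := Groth.L25.Actions.existsUnique_desc (a.orbitMap o) f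
    (fun T g₁ g₂ e => hf T g₁ g₂ ((orbitMap_eq_iff hX g₁ g₂).1 e))
  exact ⟨j, hj⟩

/-- a morphism with the same kernel pair as the orbit map gives a monomorphism out of the quotient -/
theorem exists_mono (hX : AGF.IsQuotient i X a o) [LocallyOfFiniteType G.hom] [LocallyOfFiniteType Z.hom]
    (f : G ⟶ Z) (hf : IsPullback (fst G H) ((G ◁ i) ≫ μ[G]) f f) :
    ∃ j : X ⟶ Z, a.orbitMap o ≫ j = f ∧ Mono j := by
  have sq := hX.2.2.2
  haveI := hX.2.1
  haveI := hX.2.2.1
  haveI := lfp_orbitMap hX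
  haveI : EffectiveEpi (a.orbitMap o).left := inferInstance
  haveI : LocallyOfFinitePresentation G.hom := LocallyOfFinitePresentation.iff_locallyOfFiniteType.2 inferInstance
  have hfl : Flat (fst G H).left :=
    MorphismProperty.of_isPullback (P := @Flat) (sq.map (Over.forget _)).flip hX.2.1
  obtain ⟨Q, p, m, hpm, hs, hfp, hp, hm, hQ, sqQ⟩ := Groth.L24.MonoFac.exists_factor_over f hf.flip hfl
  haveI := hs; haveI := hfp; haveI := hp; haveI := hm
  haveI : EffectiveEpi p.left := inferInstance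
  obtain ⟨j₁, hj₁, -⟩ := Groth.L25.Actions.existsUnique_desc (a.orbitMap o) p (fun T g₁ g₂ e => by
    have e1 := sq.lift_fst g₁ g₂ e
    have e2 := sq.lift_snd g₁ g₂ e
    calc g₁ ≫ p = sq.lift g₁ g₂ e ≫ fst G H ≫ p := by rw [← Category.assoc, e1]
      _ = sq.lift g₁ g₂ e ≫ ((G ◁ i) ≫ μ[G]) ≫ p := by rw [sqQ.w]
      _ = g₂ ≫ p := by rw [← Category.assoc, e2])
  obtain ⟨j₂, hj₂, -⟩ := Groth.L25.Actions.existsUnique_desc p (a.orbitMap o) (fun T g₁ g₂ e => by
    have e1 := sqQ.lift_fst g₂ g₁ e.symm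
    have e2 := sqQ.lift_snd g₂ g₁ e.symm
    calc g₁ ≫ a.orbitMap o = sqQ.lift g₂ g₁ e.symm ≫ fst G H ≫ a.orbitMap o := by rw [← Category.assoc, e2]
      _ = sqQ.lift g₂ g₁ e.symm ≫ ((G ◁ i) ≫ μ[G]) ≫ a.orbitMap o := by rw [sq.w]
      _ = g₂ ≫ a.orbitMap o := by rw [← Category.assoc, e1])
  haveI : Epi (a.orbitMap o) := Over.epi_of_epi_left _
  have h12 : j₁ ≫ j₂ = 𝟙 X := by rw [← cancel_epi (a.orbitMap o), reassoc_of% hj₁, hj₂, Category.comp_id]
  haveI : IsSplitMono j₁ := ⟨⟨⟨j₂, h12⟩⟩⟩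
  exact ⟨j₁ ≫ m, by rw [reassoc_of% hj₁, hpm], mono_comp j₁ m⟩

/-- quotients by closed subgroups of affine algebraic groups are separated and quasi-compact -/
theorem isSeparated_quotient (hX : AGF.IsQuotient i X a o) [IsAffine G.left] [LocallyOfFiniteType G.hom]
    [IsMonHom i] [IsClosedImmersion i.left] : IsSeparated X.hom ∧ QuasiCompact X.hom := by
  obtain ⟨n, f, sq⟩ := Groth.L08.HomSpace.exists_orbit_pullback i
  haveI := Groth.L18.PS.isProper_toSpec n k
  haveI : IsProper (Over.mk (CohB1.ProjSpace.toSpec n k)).hom := Groth.L18.PS.isProper_toSpec n k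
  obtain ⟨j, -, hj⟩ := exists_mono hX f sq
  constructor
  · haveI : Mono ((Over.forget _).map j) := inferInstance
    haveI : IsSeparated j.left := inferInstance
    rw [← Over.w j]
    infer_instance
  · haveI : QuasiCompact ((a.orbitMap o).left ≫ X.hom) := by
      rw [Over.w]; infer_instance
    haveI := hX.2.2.1
    refine (quasiCompact_iff X.hom).2 fun U hU hU' => ?_
    have h := (QuasiCompact.isCompact_preimage (f := (a.orbitMap o).left ≫ X.hom) U hU hU').image
      (a.orbitMap o).left.continuous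
    rwa [show ((a.orbitMap o).left ≫ X.hom).base ⁻¹' U = (a.orbitMap o).left.base ⁻¹' (X.hom.base ⁻¹' U) from rfl,
      Set.image_preimage_eq _ (a.orbitMap o).left.surjective] at h

end Groth.L08.Borel
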