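import Groth.Agent.L08.Borel.General
import Groth.Agent.L08.Borel.Weyl
import Groth.Agent.L08.Borel.IsoBase
import Groth.Agent.S3900

/-!
# Connected algebraic groups modulo their anti-affine part
-/

set_option autoImplicit false
set_option backward.isDefEq.respectTransparency.types false
set_option linter.style.haveILetI false
set_option linter.unusedSectionVars false

universe u

open CategoryTheory CategoryTheory.Limits MonoidalCategory CartesianMonoidalCategory MonObj GrpObj AlgebraicGeometry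
open Topology TopologicalSpace

noncomputable section

namespace Groth.L08.Borel

variable {k : Type u} [Field k] [IsAlgClosed k]

local notation "U1" => 𝟙_ (Over (Spec (CommRingCat.of k)))

/-- A connected algebraic group, its affine part `L` and its affine quotient `H` by a smooth connected central
subgroup `D`. -/
structure GenData (G : Over (Spec (CommRingCat.of k))) [GrpObj G] : Type (u + 1) where
  H : Over (Spec (CommRingCat.of k))
  grpH : GrpObj H
  affH : IsAffine H.left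
  smH : Smooth H.hom
  connH : ConnectedSpace H.left
  ρ : G ⟶ H
  homρ : IsMonHom ρ
  surjρ : Surjective ρ.left
  flatρ : Flat ρ.left
  lfpρ : LocallyOfFinitePresentation ρ.left
  D : Over (Spec (CommRingCat.of k))
  grpD : GrpObj D
  κ : D ⟶ G
  homκ : IsMonHom κ
  clκ : IsClosedImmersion κ.left
  smD : Smooth D.hom
  connD : ConnectedSpace D.left
  qcD : QuasiCompact D.hom
  kerκ : AlgGrp.IsKernel κ ρ
  central : ∀ (T : Over (Spec (CommRingCat.of k))) (m : T ⟶ D) (x : T ⟶ G), (m ≫ κ) * x = x * (m ≫ κ)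
  L : Over (Spec (CommRingCat.of k))
  grpL : GrpObj L
  affL : IsAffine L.left
  smL : Smooth L.hom
  connL : ConnectedSpace L.left
  l : L ⟶ G
  homl : IsMonHom l
  cll : IsClosedImmersion l.left
  surjL : Surjective (l ≫ ρ).left
  normL : AlgGrp.IsNormalHom l
  factorL : ∀ (A : Over (Spec (CommRingCat.of k))) [GrpObj A] (f : A ⟶ G) [IsMonHom f], IsAffine A.left →
    Smooth A.hom → ConnectedSpace A.left → ∃ z : A ⟶ L, z ≫ l = f

theorem exists_genData_antiAffine (G : Over (Spec (CommRingCat.of k))) [GrpObj G] [Smooth G.hom] [QuasiCompact G.hom]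
    [ConnectedSpace G.left] : ∃ 𝒟 : GenData G, IsIso 𝒟.D.hom.appTop := by
  haveI : LocallyOfFiniteType G.hom := inferInstance
  obtain ⟨L, gL, l, Q, gQ, q, hl, hlc, hls, hlcon, hla, hnorm, hq, hqs, hqf, hqlfp, hker, hQp, hQs, hQc⟩ :=
    Groth.L08.ChevPerf.exists_chevalley G
  haveI := hl; haveI := hlc; haveI := hls; haveI := hlcon; haveI := hla; haveI := hq; haveI := hqs
  haveI := hQp; haveI := hQs; haveI := hQc
  haveI := Groth.L08.AffHull.compactSpace (G := G)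
  haveI := Groth.L08.AffHull.quasiSeparatedSpace (G := G)
  obtain ⟨hHl, hρs, hρf, hρp⟩ := Groth.L08.AffHull.hull_props (G := G)
  obtain ⟨D, gD, κ, hκ, hκc, -, sqD⟩ := Groth.L08.AbelianGrp.exists_kernel (Groth.L08.AffHull.rho G)
  haveI := hκ; haveI := hκc
  haveI : IsAffine (Groth.L08.AffHull.hull G).left := inferInstanceAs (IsAffine (Spec _))
  haveI hsD : Surjective (κ ≫ q).left :=
    Groth.L08.SmallNorm.surjective_of_affine_quotient' q κ (Groth.L08.AffHull.rho G) sqD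
  have hDO := Groth.L08.AffHull.isIso_appTop_kernel κ sqD
  haveI : LocallyOfFiniteType D.hom := by rw [← Over.w κ]; infer_instance
  haveI : QuasiCompact D.hom := by rw [← Over.w κ]; infer_instance
  haveI : Smooth D.hom := Groth.L08.AffHull.smooth_of_antiAffine D hDO
  haveI : ConnectedSpace D.left := Groth.L08.AffHull.connectedSpace_of_antiAffine D hDO
  have hcen : ∀ (T : Over (Spec (CommRingCat.of k))) (m : T ⟶ D) (x : T ⟶ G),
      (m ≫ κ) * x = x * (m ≫ κ) := fun T m x => by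
    haveI := hDO
    have hc := Groth.L08.Centre.central (H := D) (G := G) (ConcreteCategory.bijective_of_isIso D.hom.appTop).2 κ
    have := congrArg (fun e => lift m x ≫ e) hc
    simpa only [MonObj.comp_mul, lift_fst_assoc, lift_snd] using this
  haveI : IsReduced G.left := Groth.Agent.AV.isReduced_of_smooth_field G.hom
  haveI : IsReduced (Groth.L08.AffHull.hull G).left := inferInstanceAs (IsReduced (Spec Γ(G.left, ⊤)))
  haveI hsH : Smooth (Groth.L08.AffHull.hull G).hom := smooth_of_reduced_group _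
  haveI hcH : ConnectedSpace (Groth.L08.AffHull.hull G).left :=
    (Groth.L08.AffHull.rho G).left.surjective.connectedSpace (Groth.L08.AffHull.rho G).left.continuous
  haveI : Surjective ((l ⊗ₘ κ) ≫ μ[G]).left := (Groth.L08.Chev.surjective_mul_of_surjective l κ q hker hsD).1
  have hsL : Surjective (l ≫ Groth.L08.AffHull.rho G).left := by
    have e : ((l ⊗ₘ κ) ≫ μ[G]) ≫ Groth.L08.AffHull.rho G = fst L D ≫ l ≫ Groth.L08.AffHull.rho G := by
      rw [show (l ⊗ₘ κ) ≫ μ[G] = (fst L D ≫ l) * (snd L D ≫ κ) from by rw [Hom.mul_def]; congr 1,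
        MonObj.mul_comp]
      simp only [Category.assoc]
      rw [show κ ≫ Groth.L08.AffHull.rho G = 1 from by rw [sqD.w, ← Hom.one_def], MonObj.comp_one,
        _root_.mul_one]
    haveI : Surjective ((fst L D).left ≫ (l ≫ Groth.L08.AffHull.rho G).left) := by
      rw [← Over.comp_left, ← e, Over.comp_left]; infer_instance
    exact Surjective.of_comp (fst L D).left _
  exact ⟨⟨Groth.L08.AffHull.hull G, inferInstance, inferInstance, hsH, hcH, Groth.L08.AffHull.rho G, inferInstance,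
    hρs, hρf, hρp, D, gD, κ, hκ, hκc, ‹_›, ‹_›, ‹_›, sqD, hcen, L, gL, inferInstance, inferInstance, inferInstance, l, hl, hlc, hsL, hnorm,
    fun A _ f _ hA hAs hAc => by
      haveI := hA; haveI := hAs; haveI := hAc
      obtain ⟨z, hz, -⟩ := hker.exists_lift f (toUnit A)
        (by rw [Groth.L08.Chev.hom_to_proper_eq_one (f ≫ q), Hom.one_def])
      exact ⟨z, hz⟩⟩, hDO⟩

theorem exists_genData (G : Over (Spec (CommRingCat.of k))) [GrpObj G] [Smooth G.hom] [QuasiCompact G.hom]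
    [ConnectedSpace G.left] : Nonempty (GenData G) :=
  ⟨(exists_genData_antiAffine G).choose⟩

variable {G : Over (Spec (CommRingCat.of k))} [GrpObj G] [Smooth G.hom] [QuasiCompact G.hom] [ConnectedSpace G.left]

/-- Borel subgroups contain the anti-affine part -/
theorem exists_factor_kappa (𝒟 : GenData G) {B : Over (Spec (CommRingCat.of k))} [GrpObj B] {b : B ⟶ G}
    (hB : Red.IsBorelOver k b) : ∃ f : 𝒟.D ⟶ B, f ≫ b = 𝒟.κ := by
  letI := 𝒟.grpD
  haveI := 𝒟.homκ; haveI := 𝒟.clκ; haveI := 𝒟.smD; haveI := 𝒟.connD; haveI := 𝒟.qcD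
  haveI := hB.1; haveI := hB.2.1; haveI := hB.2.2.1; haveI := hB.2.2.2.1
  haveI : LocallyOfFiniteType G.hom := inferInstance
  haveI : QuasiCompact B.hom := by rw [← Over.w b]; infer_instance
  haveI : Mono 𝒟.κ := Groth.L08.mono_of_closedImmersion 𝒟.κ
  let j : B ⊗ 𝒟.D ⟶ G := (b ⊗ₘ 𝒟.κ) ≫ μ[G]
  haveI : IsMonHom j := Groth.L08.Chev.isMonHom_mul b 𝒟.κ fun T a m => (𝒟.central T m _).symm
  haveI : QuasiCompact (B ⊗ 𝒟.D).hom := Groth.L19.AlgGrpBasic.qc_tensor B 𝒟.D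
  haveI : Smooth (B ⊗ 𝒟.D).hom := inferInstanceAs (Smooth (pullback.fst B.hom 𝒟.D.hom ≫ B.hom))
  haveI : ConnectedSpace (B ⊗ 𝒟.D).left := by
    haveI : IsLocallyNoetherian B.left := LocallyOfFiniteType.isLocallyNoetherian B.hom
    haveI : IsLocallyNoetherian 𝒟.D.left := LocallyOfFiniteType.isLocallyNoetherian 𝒟.D.hom
    haveI : IrreducibleSpace B.left := Groth.L25.Component.irreducibleSpace B
    haveI : IrreducibleSpace 𝒟.D.left := Groth.L25.Component.irreducibleSpace 𝒟.D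
    haveI : GeometricallyIrreducible B.hom := Groth.L25.Component.geometricallyIrreducible B
    haveI : IrreducibleSpace (B ⊗ 𝒟.D).left := Groth.L19.AlgGrpBasic.irreducibleSpace_tensor B 𝒟.D
    infer_instance
  obtain ⟨S, gS, π, iS, hπ, hiS, hfac, hπs, hSc, hSs, hScon, hSsol⟩ := exists_image_smooth j
  haveI := hiS; haveI := hπ
  have hsolBD : Red.IsSolvableGrp (B ⊗ 𝒟.D) := by
    refine isSolvableGrp_of_pts ?_
    haveI := isSolvable_pts hB.2.2.2.2.1
    have hcD : ∀ a c : U1 ⟶ 𝒟.D, a * c = c * a := fun a c => by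
      rw [← cancel_mono 𝒟.κ, MonObj.mul_comp, MonObj.mul_comp, 𝒟.central _ a (c ≫ 𝒟.κ)]
    haveI : Group.IsSolvable (U1 ⟶ 𝒟.D) := ⟨⟨1, by
      rw [derivedSeries_one, commutator_eq_bot_iff_center_eq_top, eq_top_iff]
      exact fun a _ => Subgroup.mem_center_iff.2 fun c => hcD c a⟩⟩
    let Ψ : (U1 ⟶ B ⊗ 𝒟.D) →* (U1 ⟶ B) × (U1 ⟶ 𝒟.D) := MonoidHom.mk'
      (fun u => (u ≫ fst B 𝒟.D, u ≫ snd B 𝒟.D)) fun u v => Prod.ext (MonObj.mul_comp _ _ _) (MonObj.mul_comp _ _ _)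
    exact Group.isSolvable_of_isSolvable_injective (f := Ψ) fun u v h =>
      CartesianMonoidalCategory.hom_ext _ _ (congrArg Prod.fst h) (congrArg Prod.snd h)
  have hj : j = (fst B 𝒟.D ≫ b) * (snd B 𝒟.D ≫ 𝒟.κ) := by
    simp only [j]; rw [Hom.mul_def]; congr 1
  have h1 : (lift (𝟙 B) (1 : B ⟶ 𝒟.D) ≫ π) ≫ iS = b := by
    rw [Category.assoc, hfac, hj, MonObj.comp_mul, lift_fst_assoc, lift_snd_assoc, Category.id_comp,
      MonObj.one_comp, _root_.mul_one]
  haveI : IsIso (lift (𝟙 B) (1 : B ⟶ 𝒟.D) ≫ π) :=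
    hB.2.2.2.2.2 S iS _ hSc hSs hScon (hSsol hsolBD) h1
  refine ⟨lift (1 : 𝒟.D ⟶ B) (𝟙 𝒟.D) ≫ π ≫ inv (lift (𝟙 B) (1 : B ⟶ 𝒟.D) ≫ π), ?_⟩
  have h2 : inv (lift (𝟙 B) (1 : B ⟶ 𝒟.D) ≫ π) ≫ b = iS := by
    rw [IsIso.inv_comp_eq, h1]
  rw [Category.assoc, Category.assoc, h2, hfac, hj, MonObj.comp_mul, lift_fst_assoc, lift_snd_assoc,
    Category.id_comp, MonObj.one_comp, _root_.one_mul]

/-- the preimage of a connected solvable subgroup of the affine quotient -/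
theorem exists_preimage_solvable (𝒟 : GenData G) {B' : Over (Spec (CommRingCat.of k))} [GrpObj B'] (i' : B' ⟶ 𝒟.H)
    (hi' : letI := 𝒟.grpH; IsMonHom i') (hic : IsClosedImmersion i'.left) (hs : Smooth B'.hom)
    (hc : ConnectedSpace B'.left) (hsol : Red.IsSolvableGrp B') :
    ∃ (R : Over (Spec (CommRingCat.of k))) (_ : GrpObj R) (K : R ⟶ G) (f : R ⟶ B'), IsMonHom K ∧
      IsClosedImmersion K.left ∧ Smooth R.hom ∧ ConnectedSpace R.left ∧ Red.IsSolvableGrp R ∧ f ≫ i' = K ≫ 𝒟.ρ ∧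
      ∀ (X : Over (Spec (CommRingCat.of k))) (g : X ⟶ G), IsReduced X.left →
        (∃ y : X ⟶ B', y ≫ i' = g ≫ 𝒟.ρ) → ∃ z : X ⟶ R, z ≫ K = g := by
  letI := 𝒟.grpH; letI := 𝒟.grpD
  haveI := hi'; haveI := hic; haveI := hs; haveI := hc
  haveI := 𝒟.homρ; haveI := 𝒟.surjρ; haveI := 𝒟.flatρ; haveI := 𝒟.lfpρ
  haveI := 𝒟.homκ; haveI := 𝒟.connD
  haveI : Mono 𝒟.κ := by haveI := 𝒟.clκ; exact Groth.L08.mono_of_closedImmersion 𝒟.κ
  haveI : Mono i' := Groth.L08.mono_of_closedImmersion i'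
  haveI : LocallyOfFiniteType G.hom := inferInstance
  haveI : LocallyOfFiniteType 𝒟.H.hom := by haveI := 𝒟.smH; infer_instance
  let P := Limits.pullback 𝒟.ρ i'
  let i : P ⟶ G := pullback.fst _ _
  haveI : IsClosedImmersion i.left :=
    MorphismProperty.of_isPullback (P := @IsClosedImmersion)
      ((IsPullback.of_hasPullback 𝒟.ρ i').map (Over.forget _)).flip ‹IsClosedImmersion i'.left›
  haveI : Mono i := Groth.L08.mono_of_closedImmersion i
  have crit : ∀ {W : Over (Spec (CommRingCat.of k))} (g : W ⟶ G) (y : W ⟶ B'), y ≫ i' = g ≫ 𝒟.ρ →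
      ∃ z : W ⟶ P, z ≫ i = g := fun g y e => ⟨pullback.lift g y e.symm, pullback.lift_fst _ _ _⟩
  obtain ⟨gP, hmon⟩ := Groth.L08.exists_grpObj_of_mono i
    (crit η[G] 1 (by rw [MonObj.one_comp, MonObj.one_eq_one, MonObj.one_comp]))
    (crit ((fst P P ≫ i) * (snd P P ≫ i)) ((fst P P ≫ pullback.snd 𝒟.ρ i') * (snd P P ≫ pullback.snd 𝒟.ρ i')) (by
      simp only [MonObj.mul_comp, Category.assoc, ← pullback.condition, i]))
    (crit i⁻¹ (pullback.snd 𝒟.ρ i')⁻¹ (by rw [GrpObj.inv_comp, GrpObj.inv_comp, ← pullback.condition]))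
  haveI := hmon
  haveI : LocallyOfFiniteType P.hom := by rw [← Over.w i]; infer_instance
  haveI : QuasiCompact P.hom := by rw [← Over.w i]; infer_instance
  haveI : PreconnectedSpace P.left := by
    refine ⟨i.left.isClosedEmbedding.isInducing.isPreconnected_image.1 ?_⟩
    have sq : IsPullback i.left (pullback.snd 𝒟.ρ i').left 𝒟.ρ.left i'.left :=
      (IsPullback.of_hasPullback 𝒟.ρ i').map (Over.forget _)
    have hr : Set.range i.left = 𝒟.ρ.left ⁻¹' Set.range i'.left := by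
      rw [← sq.isoPullback_hom_fst, ← Scheme.Pullback.range_fst]
      exact (sq.isoPullback.hom.homeomorph.surjective.range_comp _)
    rw [Set.image_univ, hr]
    exact Groth.L25.Locus.isPreconnected_preimage_of_kernel 𝒟.ρ 𝒟.ρ.left.isOpenMap 𝒟.κ 𝒟.kerκ
      i'.left.isClosedEmbedding.isClosed_range (isConnected_range i'.left.continuous).isPreconnected
  obtain ⟨R, gR, m, hm, hmc, hRs, hms, hred⟩ := exists_red_subgroup P
  haveI := hm; haveI := hmc; haveI := hRs; haveI := hms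
  haveI : Nonempty P.left := ⟨η[P].left (IsLocalRing.closedPoint k)⟩
  haveI : ConnectedSpace P.left := { toNonempty := inferInstance }
  haveI : ConnectedSpace R.left := (IsHomeomorph.homeomorph m.left
    (isHomeomorph_iff_isEmbedding_surjective.2
      ⟨m.left.isClosedEmbedding.isEmbedding, m.left.surjective⟩)).symm.surjective.connectedSpace
    (Homeomorph.continuous _)
  let K : R ⟶ G := m ≫ i
  haveI : IsMonHom K := inferInstanceAs (IsMonHom (m ≫ i))
  haveI : IsClosedImmersion K.left := inferInstanceAs (IsClosedImmersion (m.left ≫ i.left))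
  haveI : Mono K := Groth.L08.mono_of_closedImmersion K
  haveI : QuasiCompact R.hom := by rw [← Over.w K]; infer_instance
  have hfK : (m ≫ pullback.snd 𝒟.ρ i') ≫ i' = K ≫ 𝒟.ρ := by
    simp only [K, i, Category.assoc, pullback.condition]
  refine ⟨R, gR, K, m ≫ pullback.snd 𝒟.ρ i', inferInstance, inferInstance, hRs, inferInstance,
    isSolvableGrp_of_pts ?_, hfK, fun X g hX ⟨y, hy⟩ => ?_⟩
  · haveI := isSolvable_pts hsol
    have hcD : ∀ a c : U1 ⟶ 𝒟.D, a * c = c * a := fun a c => by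
      rw [← cancel_mono 𝒟.κ, MonObj.mul_comp, MonObj.mul_comp, 𝒟.central _ a (c ≫ 𝒟.κ)]
    haveI : Group.IsSolvable (U1 ⟶ 𝒟.D) := ⟨⟨1, by
      rw [derivedSeries_one, commutator_eq_bot_iff_center_eq_top, eq_top_iff]
      exact fun a _ => Subgroup.mem_center_iff.2 fun c => hcD c a⟩⟩
    let ψ : (U1 ⟶ R) →* (U1 ⟶ B') := MonoidHom.mk' (fun x => x ≫ m ≫ pullback.snd 𝒟.ρ i') fun x y => by
      have e : ∀ z : U1 ⟶ R, (z ≫ m ≫ pullback.snd 𝒟.ρ i') ≫ i' = (z ≫ K) ≫ 𝒟.ρ := fun z => by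
        simp only [K, i, Category.assoc, pullback.condition]
      refine (cancel_mono i').1 ?_
      rw [e, MonObj.mul_comp x y K, MonObj.mul_comp (x ≫ K) (y ≫ K) 𝒟.ρ, ← e x, ← e y]
      exact (MonObj.mul_comp _ _ i').symm
    have hψ : ∀ x : ψ.ker, ∃ d : U1 ⟶ 𝒟.D, d ≫ 𝒟.κ = x.1 ≫ K := fun x => by
      obtain ⟨d, hd, -⟩ := 𝒟.kerκ.exists_lift (x.1 ≫ K) (toUnit _) (by
        have := congrArg (· ≫ i') (MonoidHom.mem_ker.1 x.2)
        simp only [ψ, MonoidHom.mk'_apply, Category.assoc, hfK, MonObj.one_comp] at this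
        rw [Category.assoc, this, Hom.one_def])
      exact ⟨d, hd⟩
    choose d hd using hψ
    let β : ψ.ker →* (U1 ⟶ 𝒟.D) := MonoidHom.mk' d fun x y => (cancel_mono 𝒟.κ).1 (by
      rw [MonObj.mul_comp, hd, hd, hd, Subgroup.coe_mul, MonObj.mul_comp])
    haveI : Group.IsSolvable ψ.ker := Group.isSolvable_of_isSolvable_injective (f := β) fun x y e =>
      Subtype.ext ((cancel_mono K).1 (by rw [← hd, ← hd]; exact congrArg (· ≫ 𝒟.κ) e))
    exact Group.isSolvable_of_ker_le_range ψ.ker.subtype ψ (by rw [Subgroup.range_subtype])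
  · obtain ⟨w, hw⟩ := crit g y hy
    obtain ⟨z, hz⟩ := hred X w hX
    exact ⟨z, by simp only [K, reassoc_of% hz, hw]⟩

/-- a Borel subgroup is the preimage of a Borel subgroup of the affine quotient -/
theorem exists_borel_below (𝒟 : GenData G) {B : Over (Spec (CommRingCat.of k))} [GrpObj B] {b : B ⟶ G}
    (hB : Red.IsBorelOver k b) :
    ∃ (B' : Over (Spec (CommRingCat.of k))) (_ : GrpObj B') (i' : B' ⟶ 𝒟.H) (f : B ⟶ B'),
      (letI := 𝒟.grpH; Red.IsBorelOver k i') ∧ f ≫ i' = b ≫ 𝒟.ρ ∧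
      ∀ (X : Over (Spec (CommRingCat.of k))) (g : X ⟶ G), IsReduced X.left →
        (∃ y : X ⟶ B', y ≫ i' = g ≫ 𝒟.ρ) → ∃ z : X ⟶ B, z ≫ b = g := by
  letI := 𝒟.grpH
  haveI := 𝒟.affH; haveI := 𝒟.smH; haveI := 𝒟.connH; haveI := 𝒟.homρ
  haveI := hB.1; haveI := hB.2.1; haveI := hB.2.2.1; haveI := hB.2.2.2.1
  haveI : QuasiCompact B.hom := by rw [← Over.w b]; infer_instance
  haveI : LocallyOfFiniteType 𝒟.H.hom := inferInstance
  haveI : QuasiCompact 𝒟.H.hom := inferInstance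
  obtain ⟨C, gC, p, iC, hp, hiC, hpi, -, hicl, hCs, hCc, hCsol⟩ := exists_image_smooth (b ≫ 𝒟.ρ)
  haveI := hiC; haveI := hicl; haveI := hCs; haveI := hCc
  obtain ⟨B', gB', i', hB', f, hf⟩ := exists_borel_ge iC (hCsol hB.2.2.2.2.1)
  obtain ⟨R, gR, K, fR, hK, hKc, hRs, hRc, hRsol, hfR, hfac⟩ :=
    exists_preimage_solvable 𝒟 i' hB'.1 hB'.2.1 hB'.2.2.1 hB'.2.2.2.1 hB'.2.2.2.2.1
  haveI := hK
  obtain ⟨w, hw⟩ := hfac B b (Groth.Agent.AV.isReduced_of_smooth_field B.hom)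
    ⟨p ≫ f, by rw [Category.assoc, hf, hpi]⟩
  haveI : IsIso w := hB.2.2.2.2.2 R K w hKc hRs hRc hRsol hw
  refine ⟨B', gB', i', p ≫ f, hB', by rw [Category.assoc, hf, hpi], fun X g hX hy => ?_⟩
  obtain ⟨z, hz⟩ := hfac X g hX hy
  exact ⟨z ≫ inv w, by rw [Category.assoc, ← hw, IsIso.inv_hom_id_assoc, hz]⟩

/-- **Borel subgroups of a connected algebraic group are conjugate.** -/
theorem exists_borel_conj {B₁ B₂ : Over (Spec (CommRingCat.of k))} [GrpObj B₁] [GrpObj B₂] {b₁ : B₁ ⟶ G}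
    {b₂ : B₂ ⟶ G} (h₁ : Red.IsBorelOver k b₁) (h₂ : Red.IsBorelOver k b₂) :
    ∃ (g : U1 ⟶ G) (φ : B₁ ≅ B₂), φ.hom ≫ b₂ = AGF.conjBy g b₁ := by
  obtain ⟨𝒟⟩ := exists_genData G
  letI := 𝒟.grpH
  haveI := 𝒟.affH; haveI := 𝒟.smH; haveI := 𝒟.connH; haveI := 𝒟.homρ; haveI := 𝒟.surjρ
  haveI : LocallyOfFiniteType G.hom := inferInstance
  haveI := h₁.1; haveI := h₁.2.1; haveI := h₁.2.2.1
  haveI := h₂.1; haveI := h₂.2.1; haveI := h₂.2.2.1
  haveI : Mono b₁ := Groth.L08.mono_of_closedImmersion b₁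
  haveI : Mono b₂ := Groth.L08.mono_of_closedImmersion b₂
  obtain ⟨C₁, _, i₁, f₁, hC₁, hf₁, hfac₁⟩ := exists_borel_below 𝒟 h₁
  obtain ⟨C₂, _, i₂, f₂, hC₂, hf₂, hfac₂⟩ := exists_borel_below 𝒟 h₂
  obtain ⟨g', e, he⟩ := Groth.Agent.S3900.result k 𝒟.H C₁ C₂ i₁ i₂ hC₁ hC₂
  obtain ⟨g, hg⟩ := exists_pt_lift 𝒟.ρ g' (𝒟.ρ.left.surjective _)
  obtain ⟨z, hz⟩ := hfac₂ B₁ (AGF.conjBy g b₁) (Groth.Agent.AV.isReduced_of_smooth_field B₁.hom)
    ⟨f₁ ≫ e.hom, by rw [Category.assoc, he, comp_conjBy, hf₁, conjBy_comp, hg]⟩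
  have he' : e.inv ≫ i₁ = AGF.conjBy g'⁻¹ i₂ := by
    rw [Iso.inv_comp_eq, comp_conjBy, he, conjBy_conjBy, inv_mul_cancel, conjBy_one]
  obtain ⟨z', hz'⟩ := hfac₁ B₂ (AGF.conjBy g⁻¹ b₂) (Groth.Agent.AV.isReduced_of_smooth_field B₂.hom)
    ⟨f₂ ≫ e.inv, by rw [Category.assoc, he', comp_conjBy, hf₂, conjBy_comp, GrpObj.inv_comp, hg]⟩
  refine ⟨g, ⟨z, z', ?_, ?_⟩, hz⟩
  · rw [← cancel_mono b₁, Category.assoc, hz', comp_conjBy, hz, conjBy_conjBy, inv_mul_cancel, conjBy_one,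
      Category.id_comp]
  · rw [← cancel_mono b₂, Category.assoc, hz, comp_conjBy, hz', conjBy_conjBy, mul_inv_cancel, conjBy_one,
      Category.id_comp]

/-- maximal tori absorb every torus up to conjugation -/
theorem maxTorus_absorbing_gen {T : Over (Spec (CommRingCat.of k))} [GrpObj T] {iT : T ⟶ G}
    (hT : AGF.IsMaxTorus iT) (S : Over (Spec (CommRingCat.of k))) [GrpObj S] (j : S ⟶ G) [IsMonHom j] [Mono j]
    (hS : Red.IsTorus S) : ∃ (g : U1 ⟶ G) (f : S ⟶ T), f ≫ iT = AGF.conjBy g j := by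
  obtain ⟨𝒟⟩ := exists_genData G
  letI := 𝒟.grpL
  haveI := 𝒟.affL; haveI := 𝒟.smL; haveI := 𝒟.connL; haveI := 𝒟.homl
  haveI : Mono 𝒟.l := by haveI := 𝒟.cll; exact Groth.L08.mono_of_closedImmersion 𝒟.l
  haveI := hT.1; haveI := hT.2.1
  obtain ⟨a1, a2, a3, -, -⟩ := torus_props hT.2.2.1
  obtain ⟨b1, b2, b3, -, -⟩ := torus_props hS
  obtain ⟨tT, htT⟩ := 𝒟.factorL T iT a1 a2 a3
  obtain ⟨tS, htS⟩ := 𝒟.factorL S j b1 b2 b3
  haveI : IsMonHom tS := isMonHom_of_comp_mono tS 𝒟.l j htS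
  haveI : Mono tS := by haveI : Mono (tS ≫ 𝒟.l) := htS ▸ inferInstance; exact mono_of_mono tS 𝒟.l
  obtain ⟨g, f, hf⟩ := maxTorus_absorbing (isMaxTorus_factor (iB := 𝒟.l) (htT.symm ▸ hT)) S tS hS
  exact ⟨g ≫ 𝒟.l, f, by rw [← htT, reassoc_of% hf, conjBy_comp, htS]⟩

/-- maximal tori of a connected algebraic group are conjugate -/
theorem exists_maxTorus_conj_gen {T T' : Over (Spec (CommRingCat.of k))} [GrpObj T] [GrpObj T'] {iT : T ⟶ G}
    {iT' : T' ⟶ G} (hT : AGF.IsMaxTorus iT) (hT' : AGF.IsMaxTorus iT') :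
    ∃ (g : U1 ⟶ G) (f : T ≅ T'), f.hom ≫ iT' = AGF.conjBy g iT := by
  haveI := hT'.1; haveI := hT'.2.1
  exact exists_iso_absorbing hT iT' hT'.2.2.1 fun S _ j _ _ hS => maxTorus_absorbing_gen hT' S j hS

/-- a maximal torus of a Borel subgroup is a maximal torus -/
theorem isMaxTorus_comp_borel {B : Over (Spec (CommRingCat.of k))} [GrpObj B] {b : B ⟶ G}
    (hB : Red.IsBorelOver k b) {T : Over (Spec (CommRingCat.of k))} [GrpObj T] {t : T ⟶ B}
    (hT : AGF.IsMaxTorus t) : AGF.IsMaxTorus (t ≫ b) := by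
  haveI := hB.1; haveI := hB.2.1; haveI := hB.2.2.1; haveI := hB.2.2.2.1
  haveI := hT.1; haveI := hT.2.1
  haveI : QuasiCompact B.hom := by rw [← Over.w b]; infer_instance
  haveI : Mono b := Groth.L08.mono_of_closedImmersion b
  haveI : Mono (t ≫ b) := mono_comp _ _
  haveI : LocallyOfFiniteType G.hom := inferInstance
  refine isMaxTorus_of_absorbing (t ≫ b) hT.2.2.1 fun S _ j _ _ hS => ?_
  obtain ⟨b1, b2, b3, b4, -⟩ := torus_props hS
  haveI := b1; haveI := b2; haveI := b3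
  haveI : QuasiCompact S.hom := quasiCompact_of_compactSpace _
  obtain ⟨C, gC, p, iC, hp, hiC, hpi, -, hicl, hCs, hCc, hCsol⟩ := exists_image_smooth j
  haveI := hiC; haveI := hicl; haveI := hCs; haveI := hCc
  obtain ⟨B₁, g₁, b₁, hB₁, f, hf⟩ := exists_borel_ge iC (hCsol b4)
  obtain ⟨g, φ, hφ⟩ := exists_borel_conj hB₁ hB
  have e : (p ≫ f ≫ φ.hom) ≫ b = AGF.conjBy g j := by
    simp only [Category.assoc, hφ, comp_conjBy, hf, hpi]
  haveI : IsMonHom (AGF.conjBy g j) := isMonHom_conjBy g j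
  haveI : Mono (AGF.conjBy g j) := mono_conjBy g j
  haveI : IsMonHom (p ≫ f ≫ φ.hom) := isMonHom_of_comp_mono _ b _ e
  haveI : Mono (p ≫ f ≫ φ.hom) := by haveI : Mono ((p ≫ f ≫ φ.hom) ≫ b) := e.symm ▸ inferInstance; exact mono_of_mono _ b
  obtain ⟨a, ψ, hψ⟩ := maxTorus_absorbing_gen hT S (p ≫ f ≫ φ.hom) hS
  exact ⟨(a ≫ b) * g, ψ, by rw [reassoc_of% hψ, conjBy_comp, e, conjBy_conjBy]⟩

end Groth.L08.Borel
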