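import Groth.Agent.L08.Borel.QuotGen
import Groth.Agent.L08.Borel.Quot
import Groth.Agent.L08.Chev.Decomp
import Groth.Agent.L16.Weights.BorelTransfer

/-!
# Borel subgroups of the affine part of an algebraic group
-/

set_option autoImplicit false
set_option backward.isDefEq.respectTransparency.types false
set_option linter.style.haveILetI false
set_option linter.unusedSectionVars false

universe u

open CategoryTheory CategoryTheory.Limits MonoidalCategory CartesianMonoidalCategory MonObj GrpObj AlgebraicGeometry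

noncomputable section

namespace Groth.L08.Borel

variable {k : Type u} [Field k] [IsAlgClosed k]

local notation "U1" => 𝟙_ (Over (Spec (CommRingCat.of k)))

/-- conjugation restricts to a normal subgroup -/
theorem exists_normal_conjIso {G N : Over (Spec (CommRingCat.of k))} [GrpObj G] [GrpObj N] (i : N ⟶ G) [IsMonHom i]
    [Mono i] (hN : AlgGrp.IsNormalHom i) (g : U1 ⟶ G) :
    ∃ e : N ≅ N, IsMonHom e.hom ∧ e.hom ≫ i = AGF.conjBy g i := by
  have key : ∀ g : U1 ⟶ G, ∃ c : N ⟶ N, c ≫ i = AGF.conjBy g i := fun g => by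
    obtain ⟨c, hc⟩ := hN N (toUnit N ≫ g) (𝟙 N)
    exact ⟨c, by rw [← hc, Category.id_comp]⟩
  obtain ⟨c, hc⟩ := key g
  obtain ⟨c', hc'⟩ := key g⁻¹
  haveI : IsMonHom (AGF.conjBy g i) := isMonHom_conjBy g i
  refine ⟨⟨c, c', ?_, ?_⟩, isMonHom_of_comp_mono c i _ hc, hc⟩
  · rw [← cancel_mono i, Category.assoc, hc', comp_conjBy, hc, conjBy_conjBy, _root_.inv_mul_cancel, conjBy_one,
      Category.id_comp]
  · rw [← cancel_mono i, Category.assoc, hc, comp_conjBy, hc', conjBy_conjBy, _root_.mul_inv_cancel, conjBy_one,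
      Category.id_comp]

/-- conjugates of Borel subgroups of a normal subgroup -/
theorem exists_borel_conj_normal {G N B : Over (Spec (CommRingCat.of k))} [GrpObj G] [GrpObj N] [GrpObj B]
    (i : N ⟶ G) [IsMonHom i] [Mono i] (hN : AlgGrp.IsNormalHom i) {b₀ : B ⟶ N} (hB : Red.IsBorelOver k b₀)
    (g : U1 ⟶ G) : ∃ b : B ⟶ N, Red.IsBorelOver k b ∧ b ≫ i = AGF.conjBy g (b₀ ≫ i) := by
  obtain ⟨e, _, he⟩ := exists_normal_conjIso i hN g
  exact ⟨b₀ ≫ e.hom, Groth.L16.Weights.isBorelOver_comp_iso hB e,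
    by rw [Category.assoc, he, comp_conjBy]⟩

end Groth.L08.Borel
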