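import Groth.Agent.L25.Locus.CentConnAll

/-!
# A closed subscheme of a torus containing its torsion points is everything
-/

set_option autoImplicit false
set_option backward.isDefEq.respectTransparency.types false
set_option linter.style.haveILetI false

universe u

open CategoryTheory CategoryTheory.Limits MonoidalCategory CartesianMonoidalCategory MonObj GrpObj
open AlgebraicGeometry TensorProduct WithConv

noncomputable section

namespace Groth.L08.Borel

open Groth.L25 Groth.L25.Locus

variable {k : Type u} [Field k] [IsAlgClosed k]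

local notation "S₀" => Spec (CommRingCat.of k)

/-- a closed subscheme of a torus through all torsion points of order prime to the characteristic has a section -/
theorem exists_section_of_torsion {T W : Over S₀} [GrpObj T] (hT : Red.IsTorus T) (c : W ⟶ T)
    [IsClosedImmersion c.left]
    (h : ∀ (q : ℕ) (t : 𝟙_ (Over S₀) ⟶ T), 0 < q → (q : k) ≠ 0 → t ^ q = 1 → ∃ w, w ≫ c = t) :
    ∃ s : T ⟶ W, s ≫ c = 𝟙 T := by
  have hM := isMultTypeFT_of_isTorus hT
  haveI : IsAffineHom T.hom := Central.isAffineHom_of_multTypeFT hM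
  haveI : IsAffine T.left := isAffine_of_isAffineHom T.hom
  obtain ⟨hTs, hTc⟩ := smooth_connected_torus hT
  haveI := hTs
  obtain ⟨B, _, _, ⟨eT⟩⟩ := Bridge.exists_hopf T
  let jT : T ⟶ Bridge.P k B := eT.hom.hom.hom
  let iT : Bridge.P k B ⟶ T := eT.inv.hom.hom
  have hji : jT ≫ iT = 𝟙 T := congr($(eT.hom_inv_id).hom.hom)
  have hij : iT ≫ jT = 𝟙 _ := congr($(eT.inv_hom_id).hom.hom)
  haveI : IsMonHom iT := eT.inv.hom.isMonHom_hom
  haveI : IsIso iT := ⟨jT, hij, hji⟩
  haveI : IsIso iT.left := inferInstanceAs (IsIso ((Over.forget _).map iT))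
  haveI : Algebra.FiniteType k B := by
    have h : LocallyOfFiniteType (Bridge.P k B).hom := by rw [← Over.w iT]; infer_instance
    change LocallyOfFiniteType (Spec.map (CommRingCat.ofHom (algebraMap k B))) at h
    rw [HasRingHomProperty.Spec_iff (P := @LocallyOfFiniteType), CommRingCat.hom_ofHom,
      RingHom.finiteType_algebraMap] at h
    exact h
  haveI : IsDomain B := by
    obtain ⟨K, _, _, r, ⟨eK⟩⟩ := Dyn.exists_field_split hT
    let θ := Spec.map (CommRingCat.ofHom (algebraMap k K))
    obtain ⟨d⟩ : Nonempty ((K ⊗[k] B) ≃ₐc[K] MonoidAlgebra K (Multiplicative (Fin r → ℤ))) :=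
      Bridge.exists_bialgEquiv ((Bridge.dsIso K (Fin r → ℤ)).symm ≪≫ eK.symm ≪≫
        (Over.pullback θ).mapGrp.mapIso eT ≪≫ Bridge.bcIso k B K)
    haveI : IsDomain (MonoidAlgebra K (Multiplicative (Fin r → ℤ))) := NoZeroDivisors.to_isDomain _
    haveI : IsDomain (K ⊗[k] B) := d.toAlgEquiv.toMulEquiv.isDomain _
    exact Function.Injective.isDomain (Algebra.TensorProduct.includeRight : B →ₐ[k] K ⊗[k] B).toRingHom
      (Algebra.TensorProduct.includeRight_injective (algebraMap k K).injective)
  have hB : SGA3b.IsMultType k B := by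
    refine Bridge.isMultType_of_locally B (Bridge.locally_of_iso eT ?_)
    obtain ⟨S', f, h1, h2, h3, h4⟩ := hT
    refine ⟨S', f, h1, h2, h3, fun s => ?_⟩
    obtain ⟨U, hU, r, e⟩ := h4 s
    exact ⟨U, hU, _, inferInstance, e⟩
  let E := pullback iT.left c.left
  let e : E ⟶ Spec (CommRingCat.of B) := pullback.fst _ _
  haveI : IsClosedImmersion e := inferInstanceAs (IsClosedImmersion (pullback.fst _ _))
  have hsurj : Set.range e = Set.univ := by
    obtain ⟨s, hs⟩ := (PrimeSpectrum.isClosed_iff_zeroLocus _).1 e.isClosedEmbedding.isClosed_range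
    have hs0 : ∀ f ∈ s, f = 0 := by
      intro f hf
      by_contra hne
      obtain ⟨q, x, hq, hq0, hx, hxf⟩ := Dyn.exists_torsion_point hB hne
      let xP : (Spec (CommRingCat.of k)).asOver S₀ ⟶ Bridge.P k B := Spec.mapMulEquiv x
      let o : 𝟙_ (Over S₀) ⟶ (Spec (CommRingCat.of k)).asOver S₀ := (unitIso k).hom
      have hpow : (o ≫ xP ≫ iT) ^ q = 1 := by
        rw [← MonObj.comp_pow, ← MonObj.pow_comp, ← map_pow, hx, map_one, MonObj.one_comp, MonObj.comp_one]
      obtain ⟨w₀, hw₀⟩ := h q _ hq hq0 hpow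
      have h1 := congrArg (fun m => m.left) hw₀
      have hmem : xP.left (IsLocalRing.closedPoint k) ∈ Set.range e := by
        let w : Spec (CommRingCat.of k) ⟶ E := pullback.lift xP.left w₀.left (by
          refine Eq.trans ?_ h1.symm
          show xP.left ≫ iT.left = (o ≫ xP ≫ iT).left
          rw [Over.comp_left, Over.comp_left, show o.left = 𝟙 _ from rfl]
          exact (Category.id_comp _).symm)
        exact ⟨w (IsLocalRing.closedPoint k), congrArg (fun m : Spec (CommRingCat.of k) ⟶ Spec (CommRingCat.of B) => m (IsLocalRing.closedPoint k)) (pullback.lift_fst _ _ _ : w ≫ e = xP.left)⟩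
      rw [hs] at hmem
      have h3 : x.ofConv f ∈ (IsLocalRing.closedPoint k).asIdeal :=
        (PrimeSpectrum.mem_zeroLocus _ _).1 hmem hf
      rw [show (IsLocalRing.closedPoint k).asIdeal = ⊥ from
        IsLocalRing.maximalIdeal_eq_bot, Ideal.mem_bot] at h3
      exact hxf h3
    rw [hs]
    exact Set.eq_univ_of_forall fun p => (PrimeSpectrum.mem_zeroLocus _ _).2 fun f hf => by
      rw [hs0 f hf]; exact p.asIdeal.zero_mem
  haveI : Surjective e := ⟨Set.range_eq_univ.1 hsurj⟩
  haveI : IsReduced (Spec (CommRingCat.of B)) := inferInstance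
  haveI hie : IsIso e := isIso_of_isClosedImmersion_of_surjective e
  obtain ⟨z, hz⟩ : ∃ z, z ≫ c.left = iT.left := ⟨(asIso e).inv ≫ pullback.snd iT.left c.left, by
    rw [Category.assoc, ← pullback.condition]
    exact (asIso e).inv_hom_id_assoc _⟩
  let m : Bridge.P k B ⟶ W := Over.homMk z (by rw [← Over.w c, reassoc_of% hz, Over.w iT])
  refine ⟨jT ≫ m, ?_⟩
  rw [Category.assoc, show m ≫ c = iT from Over.OverMorphism.ext hz, hji]

end Groth.L08.Borel
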