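import Groth.Agent.L08.Borel.GenCartan
import Groth.Agent.L08.Borel.CentTorsion
import Groth.Agent.L08.Borel.TorsionClosed
import Groth.Agent.L08.FactorLocus

/-!
# Normalizers of Cartan subgroups
-/

set_option autoImplicit false
set_option backward.isDefEq.respectTransparency.types false
set_option linter.style.haveILetI false
set_option linter.unusedSectionVars false

universe u

open CategoryTheory CategoryTheory.Limits MonoidalCategory CartesianMonoidalCategory MonObj GrpObj AlgebraicGeometry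
open Topology TopologicalSpace

noncomputable section

namespace Groth.L08.Borel

variable {k : Type u} [Field k] [IsAlgClosed k]

local notation "U1" => 𝟙_ (Over (Spec (CommRingCat.of k)))

variable {G : Over (Spec (CommRingCat.of k))} [GrpObj G] [Smooth G.hom] [QuasiCompact G.hom] [ConnectedSpace G.left]

/-- a point conjugating a Cartan subgroup into itself conjugates its maximal torus into itself -/
theorem conj_torus_of_conj_cartan {T C : Over (Spec (CommRingCat.of k))} [GrpObj T] [GrpObj C] {iT : T ⟶ G}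
    (hT : AGF.IsMaxTorus iT) {c : C ⟶ G} (hc : Red.IsCentralizerOf iT c)
    {X : Over (Spec (CommRingCat.of k))} (g : X ⟶ G)
    (hg : ∀ (X' : Over (Spec (CommRingCat.of k))) (x : X' ⟶ X) (h : X' ⟶ C),
      ∃ h' : X' ⟶ C, (x ≫ g) * (h ≫ c) * (x ≫ g)⁻¹ = h' ≫ c)
    (X' : Over (Spec (CommRingCat.of k))) (x : X' ⟶ X) (h : X' ⟶ T) :
    ∃ h' : X' ⟶ T, (x ≫ g) * (h ≫ iT) * (x ≫ g)⁻¹ = h' ≫ iT := by
  obtain ⟨𝒟⟩ := exists_genData G
  letI := 𝒟.grpL
  haveI := 𝒟.affL; haveI := 𝒟.smL; haveI := 𝒟.connL; haveI := 𝒟.homl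
  haveI : Mono 𝒟.l := by haveI := 𝒟.cll; exact Groth.L08.mono_of_closedImmersion 𝒟.l
  haveI := hT.1; haveI := hT.2.1; haveI := hc.1; haveI := hc.2.1
  obtain ⟨a1, a2, a3, -, hcomm⟩ := torus_props hT.2.2.1
  obtain ⟨tL, htL⟩ := 𝒟.factorL T iT a1 a2 a3
  have hTL : AGF.IsMaxTorus tL := isMaxTorus_factor (iB := 𝒟.l) (htL.symm ▸ hT)
  haveI := hTL.1; haveI := hTL.2.1
  obtain ⟨Z, gZ, zc, hz⟩ := exists_centralizer_torus tL hT.2.2.1
  haveI := hz.1; haveI := hz.2.1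
  obtain ⟨z1, z2, z3, z4, ⟨t, ht⟩, hzcomm⟩ := centralizer_props hT.2.2.1 hz
  haveI := z1; haveI := z2; haveI := z3; haveI := z4
  have hZsol := isSolvableGrp_centralizer hTL hz
  have htmax : AGF.IsMaxTorus t := isMaxTorus_factor (iB := zc) (ht.symm ▸ hTL)
  obtain ⟨pC, hpC, -⟩ := exists_retraction_maxTorus hZsol htmax
  obtain ⟨tC, htC⟩ := (hc.2.2 T iT).2 fun X' x s => by
    rw [← MonObj.mul_comp, ← MonObj.mul_comp, hcomm]
  -- the universal conjugate
  let gu : X' ⊗ T ⟶ G := fst X' T ≫ x ≫ g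
  let y : X' ⊗ T ⟶ G := gu * (snd X' T ≫ iT) * gu⁻¹
  obtain ⟨yL, hyL⟩ : ∃ yL : X' ⊗ T ⟶ 𝒟.L, yL ≫ 𝒟.l = y := by
    obtain ⟨w, hw⟩ := 𝒟.normL (X' ⊗ T) gu (snd X' T ≫ tL)
    refine ⟨w, ?_⟩
    rw [← hw, Category.assoc, htL]
  obtain ⟨yc, hyc⟩ : ∃ yc : X' ⊗ T ⟶ C, yc ≫ c = y := by
    obtain ⟨w, hw⟩ := hg (X' ⊗ T) (fst X' T ≫ x) (snd X' T ≫ tC)
    refine ⟨w, ?_⟩
    simp only [Category.assoc, htC] at hw
    exact hw.symm
  obtain ⟨yZ, hyZ⟩ := (hz.2.2 _ yL).2 fun W u s => by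
    rw [← cancel_mono 𝒟.l]
    simp only [MonObj.mul_comp, Category.assoc, hyL, htL]
    exact (hc.2.2 _ y).1 ⟨yc, hyc⟩ W u s
  haveI : IsSeparated Z.hom := Groth.L08.AbelianGrp.isSeparated Z
  haveI : Mono (zc ≫ 𝒟.l) := mono_comp _ _
  obtain ⟨W, w, hw, hW⟩ := Groth.L08.FactorLocus.exists_closedImmersion_agree yZ (yZ ≫ pC ≫ t)
  haveI := hw
  obtain ⟨σ, hσ⟩ := exists_section_of_torsion hT.2.2.1 w fun q s hq hq0 hs => by
    refine (hW U1 s).2 ?_
    have hpow : ((X' ◁ s) ≫ yZ) ^ q = 1 := by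
      rw [← cancel_mono (zc ≫ 𝒟.l), MonObj.pow_comp, MonObj.one_comp, Category.assoc, ← Category.assoc yZ, hyZ,
        hyL]
      simp only [y, MonObj.comp_mul, GrpObj.comp_inv]
      rw [conj_pow, whiskerLeft_snd_assoc, ← MonObj.comp_pow, ← MonObj.pow_comp, hs, MonObj.one_comp,
        MonObj.comp_one, _root_.mul_one, mul_inv_cancel]
    obtain ⟨f, hf⟩ := exists_factor_of_pow hZsol htmax
      (fun Y a b => by
        rw [← cancel_mono zc, MonObj.mul_comp, MonObj.mul_comp, Category.assoc, ht]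
        exact (hzcomm Y b a).symm) ((X' ◁ s) ≫ yZ) hq0 hpow
    rw [← Category.assoc (X' ◁ s) yZ, ← hf, Category.assoc, reassoc_of% hpC]
  have hag := (hW T (𝟙 T)).1 ⟨σ, hσ⟩
  simp only [whiskerLeft_id, Category.id_comp] at hag
  refine ⟨lift (𝟙 X') h ≫ yZ ≫ pC, ?_⟩
  have e : y = (yZ ≫ pC) ≫ iT := by
    rw [← hyL, ← hyZ, ← htL, ← ht]
    conv_lhs => rw [hag]
    simp only [Category.assoc]
  have e2 := congrArg (lift (𝟙 X') h ≫ ·) e
  simp only [y, gu, MonObj.comp_mul, GrpObj.comp_inv, lift_fst_assoc, lift_snd_assoc, Category.id_comp,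
    Category.assoc] at e2 ⊢
  exact e2

/-- the normalizer of a Cartan subgroup is the normalizer of its maximal torus -/
theorem isNormalizerOf_cartan_iff {T C N : Over (Spec (CommRingCat.of k))} [GrpObj T] [GrpObj C] [GrpObj N]
    {iT : T ⟶ G} (hT : AGF.IsMaxTorus iT) {c : C ⟶ G} (hc : Red.IsCentralizerOf iT c) (n : N ⟶ G) :
    Red.IsNormalizerOf c n ↔ Red.IsNormalizerOf iT n := by
  have key : ∀ (X : Over (Spec (CommRingCat.of k))) (g : X ⟶ G),
      (∀ (X' : Over (Spec (CommRingCat.of k))) (x : X' ⟶ X) (h : X' ⟶ C),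
        (∃ h' : X' ⟶ C, (x ≫ g) * (h ≫ c) * (x ≫ g)⁻¹ = h' ≫ c) ∧
        (∃ h' : X' ⟶ C, (x ≫ g)⁻¹ * (h ≫ c) * (x ≫ g) = h' ≫ c)) ↔
      (∀ (X' : Over (Spec (CommRingCat.of k))) (x : X' ⟶ X) (h : X' ⟶ T),
        (∃ h' : X' ⟶ T, (x ≫ g) * (h ≫ iT) * (x ≫ g)⁻¹ = h' ≫ iT) ∧
        (∃ h' : X' ⟶ T, (x ≫ g)⁻¹ * (h ≫ iT) * (x ≫ g) = h' ≫ iT)) := by
    intro X g
    constructor
    · intro H X' x h
      refine ⟨conj_torus_of_conj_cartan hT hc g (fun Y u a => (H Y u a).1) X' x h, ?_⟩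
      obtain ⟨h', he⟩ := conj_torus_of_conj_cartan hT hc g⁻¹ (fun Y u a => by
        obtain ⟨h', he⟩ := (H Y u a).2
        exact ⟨h', by rw [GrpObj.comp_inv, _root_.inv_inv]; exact he⟩) X' x h
      rw [GrpObj.comp_inv, _root_.inv_inv] at he
      exact ⟨h', he⟩
    · intro H X' x h
      have cent := fun (Y : Over (Spec (CommRingCat.of k))) (u : Y ⟶ X') (s : Y ⟶ T) =>
        (hc.2.2 X' (h ≫ c)).1 ⟨h, rfl⟩ Y u s
      constructor
      · obtain ⟨z, hz⟩ := (hc.2.2 X' ((x ≫ g) * (h ≫ c) * (x ≫ g)⁻¹)).2 fun Y u s => by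
          obtain ⟨s', hs⟩ := (H Y (u ≫ x) s).2
          have h0 := cent Y u s'
          simp only [MonObj.comp_mul, GrpObj.comp_inv, Category.assoc] at h0 hs ⊢
          rw [← hs] at h0
          generalize u ≫ x ≫ g = a at h0 ⊢
          generalize u ≫ h ≫ c = b at h0 ⊢
          generalize s ≫ iT = d at h0 ⊢
          calc a * b * a⁻¹ * d = a * (b * (a⁻¹ * d * a)) * a⁻¹ := by group
            _ = a * ((a⁻¹ * d * a) * b) * a⁻¹ := by rw [h0]
            _ = d * (a * b * a⁻¹) := by group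
        exact ⟨z, hz.symm⟩
      · obtain ⟨z, hz⟩ := (hc.2.2 X' ((x ≫ g)⁻¹ * (h ≫ c) * (x ≫ g))).2 fun Y u s => by
          obtain ⟨s', hs⟩ := (H Y (u ≫ x) s).1
          have h0 := cent Y u s'
          simp only [MonObj.comp_mul, GrpObj.comp_inv, Category.assoc] at h0 hs ⊢
          rw [← hs] at h0
          generalize u ≫ x ≫ g = a at h0 ⊢
          generalize u ≫ h ≫ c = b at h0 ⊢
          generalize s ≫ iT = d at h0 ⊢
          calc a⁻¹ * b * a * d = a⁻¹ * (b * (a * d * a⁻¹)) * a := by group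
            _ = a⁻¹ * ((a * d * a⁻¹) * b) * a := by rw [h0]
            _ = d * (a⁻¹ * b * a) := by group
        exact ⟨z, hz.symm⟩
  exact and_congr_right fun _ => and_congr_right fun _ =>
    forall_congr' fun X => forall_congr' fun g => iff_congr Iff.rfl (key X g)

end Groth.L08.Borel
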