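import Groth.Agent.L08.Borel.CommTorusGlobal

/-!
# Subgroups containing a kernel are preimages
-/

set_option autoImplicit false
set_option backward.isDefEq.respectTransparency.types false
set_option linter.style.haveILetI false
universe u

open CategoryTheory CategoryTheory.Limits MonoidalCategory CartesianMonoidalCategory MonObj AlgebraicGeometry

noncomputable section

namespace Groth.L08.Borel

variable {S : Scheme.{u}} {G G' : Over S} [GrpObj G] [GrpObj G']

/-- the kernel of a homomorphism lies in a subgroup (on points) -/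
def KerLe {H : Over S} (u : G ⟶ G') (h : H ⟶ G) : Prop :=
  ∀ (X : Over S) (g : X ⟶ G), g ≫ u = 1 → ∃ y, y ≫ h = g

/-- the set of points of the preimage of a subgroup is a subgroup -/
theorem exists_grpObj_preimage (u : G ⟶ G') [IsMonHom u] {C : Over S} [GrpObj C] (c : C ⟶ G') [IsMonHom c] [Mono c] :
    ∃ (_ : GrpObj (pullback u c)), IsMonHom (pullback.fst u c) ∧ IsMonHom (pullback.snd u c) := by
  obtain ⟨hg, hm⟩ := Groth.L25.Locus.exists_subgroup (pullback.fst u c) (fun X x => ∃ a, a ≫ c = x ≫ u)
    (fun X x => ⟨fun ⟨w, hw⟩ => ⟨w ≫ pullback.snd u c, by rw [Category.assoc, ← pullback.condition, ← hw, Category.assoc]⟩,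
      fun ⟨a, ha⟩ => ⟨pullback.lift x a ha.symm, pullback.lift_fst _ _ _⟩⟩)
    ⟨1, by rw [MonObj.one_comp, MonObj.one_comp]⟩
    (fun X x y ⟨a, ha⟩ ⟨b, hb⟩ => ⟨a * b, by rw [MonObj.mul_comp, MonObj.mul_comp, ha, hb]⟩)
    (fun X x ⟨a, ha⟩ => ⟨a⁻¹, by rw [GrpObj.inv_comp, GrpObj.inv_comp, ha]⟩)
  letI := hg
  haveI := hm
  exact ⟨hg, hm, Groth.L25.Bridge.isMonHom_of_mul _ fun X a b => by
    rw [← cancel_mono c, Category.assoc, ← pullback.condition, MonObj.mul_comp (a ≫ pullback.snd u c) (b ≫ pullback.snd u c) c,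
      Category.assoc, Category.assoc, ← pullback.condition, MonObj.mul_comp a b (pullback.fst u c ≫ u)]⟩

/-- **a subgroup containing the kernel, covering `C`, is the preimage of `C`** -/
theorem isPullback_of_kerLe (u : G ⟶ G') [IsMonHom u] {H C : Over S} [GrpObj H] [GrpObj C] (h : H ⟶ G) [IsMonHom h]
    [Mono h] (c : C ⟶ G') [Mono c] (p : H ⟶ C) [Flat p.left] [Surjective p.left]
    [LocallyOfFinitePresentation p.left] (hp : p ≫ c = h ≫ u) (hK : KerLe u h) : IsPullback h p u c := by
  have key : ∀ (X : Over S) (g : X ⟶ G) (a : X ⟶ C), g ≫ u = a ≫ c → ∃ z : X ⟶ H, z ≫ h = g := by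
    intro X g a e
    let Q : Over S := Over.mk (pullback.fst a.left p.left ≫ X.hom)
    let q : Q ⟶ X := Over.homMk (pullback.fst a.left p.left)
    let h₀ : Q ⟶ H := Over.homMk (pullback.snd a.left p.left) (by
      show pullback.snd a.left p.left ≫ H.hom = pullback.fst a.left p.left ≫ X.hom
      rw [← Over.w p, ← Category.assoc, ← pullback.condition, Category.assoc, Over.w a])
    have hq : q ≫ a = h₀ ≫ p := Over.OverMorphism.ext pullback.condition
    haveI : Flat q.left := inferInstanceAs (Flat (pullback.fst a.left p.left))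
    haveI : Surjective q.left := inferInstanceAs (Surjective (pullback.fst a.left p.left))
    haveI : LocallyOfFinitePresentation q.left :=
      inferInstanceAs (LocallyOfFinitePresentation (pullback.fst a.left p.left))
    obtain ⟨y, hy⟩ := hK Q ((q ≫ g) * (h₀ ≫ h)⁻¹) (by
      rw [MonObj.mul_comp, GrpObj.inv_comp, Category.assoc, e, ← Category.assoc, hq, Category.assoc, Category.assoc,
        hp, mul_inv_cancel])
    have hz : (y * h₀) ≫ h = q ≫ g := by rw [MonObj.mul_comp, hy, inv_mul_cancel_right]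
    obtain ⟨z, hz'⟩ := exists_desc_fppf q (y * h₀) fun a₁ b₁ eq => by
      rw [← cancel_mono h, Category.assoc, Category.assoc, hz, reassoc_of% eq]
    haveI : Epi q.left := Flat.epi_of_flat_of_surjective q.left
    haveI : Epi q := Over.epi_of_epi_left q
    exact ⟨z, by rw [← cancel_epi q, reassoc_of% hz', hz]⟩
  refine IsPullback.of_isLimit' ⟨hp.symm⟩ (PullbackCone.IsLimit.mk _ (fun s => (key _ s.fst s.snd s.condition).choose)
    (fun s => (key _ s.fst s.snd s.condition).choose_spec)
    (fun s => by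
      rw [← cancel_mono c, Category.assoc, hp, ← Category.assoc,
        (key _ s.fst s.snd s.condition).choose_spec, s.condition])
    (fun s m h₁ _ => by rw [← cancel_mono h, h₁, (key _ s.fst s.snd s.condition).choose_spec]))

omit [GrpObj G] in
/-- preimages contain the kernel -/
theorem kerLe_of_isPullback {u : G ⟶ G'} {H C : Over S} [GrpObj C] {h : H ⟶ G} {p : H ⟶ C} {c : C ⟶ G'} [IsMonHom c]
    (sq : IsPullback h p u c) : KerLe u h :=
  fun X g hg => ⟨sq.lift g 1 (by rw [hg, MonObj.one_comp]), sq.lift_fst _ _ _⟩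

end Groth.L08.Borel
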