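import Groth.Agent.L08.Borel.Fixed
import Groth.Agent.L18.ProjSpace
import Groth.Agent.L16.ProjSpace.Basic
import Groth.Agent.L08.Chev.Orbit
import Mathlib.AlgebraicGeometry.PullbackCarrier

/-!
# The morphism `Spec A × ℙⁿ ⟶ ℙⁿ` of an invertible matrix over `A`
-/

set_option autoImplicit false
set_option backward.isDefEq.respectTransparency.types false
set_option linter.style.haveILetI false

universe u

open CategoryTheory CategoryTheory.Limits MonoidalCategory CartesianMonoidalCategory MonObj AlgebraicGeometry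
open TensorProduct CohB1

noncomputable section

namespace Groth.L08.Borel

open Groth.L08.HomSpace

variable (k : Type u) [Field k]

local notation "U1" => 𝟙_ (Over (Spec (CommRingCat.of k)))

/-- projective space over `k` -/
abbrev PnOver (n : ℕ) : Over (Spec (CommRingCat.of k)) := Over.mk (ProjSpace.toSpec n k)

variable {k}

/-- a rational point of an affine scheme from an algebra map -/
def gPt {A : Type u} [CommRing A] [Algebra k A] (g : A →ₐ[k] k) : U1 ⟶ specOf k A :=
  Over.homMk (Spec.map (CommRingCat.ofHom g.toRingHom)) (by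
    show Spec.map (CommRingCat.ofHom g.toRingHom) ≫ Spec.map (CommRingCat.ofHom (algebraMap k A)) = 𝟙 _
    rw [← Spec.map_comp, ← CommRingCat.ofHom_comp,
      show g.toRingHom.comp (algebraMap k A) = RingHom.id k from RingHom.ext fun r => g.commutes r]
    exact Spec.map_id _)

theorem exists_gPt {A : Type u} [CommRing A] [Algebra k A] (z : U1 ⟶ specOf k A) : ∃ g : A →ₐ[k] k, gPt g = z := by
  obtain ⟨φ, hφ⟩ := Spec.map_surjective (z.left : Spec (CommRingCat.of k) ⟶ Spec (CommRingCat.of A))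
  have h := Over.w z
  replace h : Spec.map φ ≫ Spec.map (CommRingCat.ofHom (algebraMap k A)) = 𝟙 _ := by rw [hφ]; exact h
  rw [← Spec.map_comp, ← Spec.map_id] at h
  refine ⟨{ φ.hom with commutes' := fun r => RingHom.congr_fun (congrArg CommRingCat.Hom.hom (Spec.map_injective h)) r },
    Over.OverMorphism.ext hφ⟩

variable {n : ℕ}

/-- the rational point with homogeneous coordinates `x` -/
def vPt (x : Fin (n + 1) → k) (j : Fin (n + 1)) (h : IsUnit (x j)) : U1 ⟶ PnOver k n :=
  Over.homMk (Groth.L18.PS.tuplePt (B := CommRingCat.of k) (RingHom.id k) x j h) (by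
    show _ ≫ ProjSpace.toSpec n k = 𝟙 _
    rw [Groth.L18.PS.tuplePt_toSpec]
    exact Spec.map_id _)

theorem vPt_congr {x y : Fin (n + 1) → k} (c : k) (e : ∀ l, y l = c * x l) (j i : Fin (n + 1)) (h : IsUnit (x j))
    (h' : IsUnit (y i)) : vPt y i h' = vPt x j h := by
  refine Over.OverMorphism.ext ?_
  show Groth.L18.PS.tuplePt (B := CommRingCat.of k) (RingHom.id k) y i h' = _
  have h'' : IsUnit (c * x i) := e i ▸ h'
  exact (Groth.L18.PS.tuplePt_congr (B := CommRingCat.of k) (RingHom.id k) e i i h' h'').trans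
    (Groth.L18.PS.tuplePt_smul (B := CommRingCat.of k) (RingHom.id k) x c i j h'' h)

theorem exists_smul_of_vPt_eq {x y : Fin (n + 1) → k} {j i : Fin (n + 1)} {h : IsUnit (x j)} {h' : IsUnit (y i)}
    (e : vPt x j h = vPt y i h') : ∃ c : kˣ, ∀ l, y l = (c : k) * x l :=
  Groth.L18.PS.exists_smul_of_tuplePt_eq (B := CommRingCat.of k) (RingHom.id k) x (τ := RingHom.id k) (b := y) j i h h'
    (congrArg (fun z : U1 ⟶ PnOver k n => (z.left : Spec (CommRingCat.of k) ⟶ ProjSpace n k)) e)

theorem exists_vPt (z : U1 ⟶ PnOver k n) : ∃ (x : Fin (n + 1) → k) (j : Fin (n + 1)) (h : IsUnit (x j)), vPt x j h = z := by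
  let f : Spec (CommRingCat.of k) ⟶ ProjSpace n k := z.left
  obtain ⟨j, hj⟩ : ∃ j, f (IsLocalRing.closedPoint k) ∈ Proj.basicOpen (polyGrading n k) (MvPolynomial.X j) := by
    have h : f (IsLocalRing.closedPoint k) ∈
        (⨆ i : Fin (n + 1), Proj.basicOpen (polyGrading n k) (MvPolynomial.X i)) := by
      rw [Groth.L18.PS.iSup_chart]; trivial
    exact TopologicalSpace.Opens.mem_iSup.1 h
  obtain ⟨τ, b, hb, e, -⟩ := Groth.L18.PS.exists_tuplePt (B := CommRingCat.of k) f j fun p => by
    rw [show p = IsLocalRing.closedPoint k from Subsingleton.elim (α := PrimeSpectrum k) _ _]; exact hj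
  have hτ : τ = RingHom.id k := by
    have h : f ≫ ProjSpace.toSpec n k = 𝟙 _ := Over.w z
    rw [e, Groth.L18.PS.tuplePt_toSpec, ← Spec.map_id] at h
    exact congrArg CommRingCat.Hom.hom (Spec.map_injective h)
  subst hτ
  exact ⟨b, j, hb, Over.OverMorphism.ext e.symm⟩

variable {A : Type u} [CommRing A] [Algebra k A]

/-- the ring of the `j`-th chart -/
abbrev Aw (k : Type u) [Field k] (n : ℕ) (j : Fin (n + 1)) : Type u :=
  HomogeneousLocalization.Away (polyGrading n k) (MvPolynomial.X j : MvPolynomial (Fin (n + 1)) k)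

instance algAw (j : Fin (n + 1)) : Algebra k (Aw k n j) := (Groth.L18.PS.chartScalar n k j).toAlgebra

variable (A) in
/-- the `j`-th chart of `Spec A × ℙⁿ` -/
def prodChart (j : Fin (n + 1)) :
    Spec (CommRingCat.of (A ⊗[k] Aw k n j)) ⟶ pullback (Spec.map (CommRingCat.ofHom (algebraMap k A))) (ProjSpace.toSpec n k) :=
  (pullbackSpecIso k A (Aw k n j)).inv ≫ pullback.map _ _ (Spec.map (CommRingCat.ofHom (algebraMap k A))) (ProjSpace.toSpec n k) (𝟙 _)
    (Groth.L18.PS.chart n k j) (𝟙 _) ((Category.comp_id _).trans (Category.id_comp _).symm) (by rw [Category.comp_id, Groth.L18.PS.chart_toSpec])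

theorem prodChart_fst (j : Fin (n + 1)) : prodChart A j ≫ pullback.fst _ _ =
    Spec.map (CommRingCat.ofHom (Algebra.TensorProduct.includeLeftRingHom : A →+* A ⊗[k] Aw k n j)) := by
  simp only [prodChart, Category.assoc, pullback.map, pullback.lift_fst, Category.comp_id]
  exact pullbackSpecIso_inv_fst k A (Aw k n j)

theorem prodChart_snd (j : Fin (n + 1)) : prodChart A j ≫ pullback.snd _ _ =
    Spec.map (CommRingCat.ofHom ((Algebra.TensorProduct.includeRight : Aw k n j →ₐ[k] A ⊗[k] Aw k n j).toRingHom)) ≫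
      Groth.L18.PS.chart n k j := by
  simp only [prodChart, Category.assoc, pullback.map, pullback.lift_snd]
  rw [← Category.assoc]
  exact congrArg (· ≫ Groth.L18.PS.chart n k j) (pullbackSpecIso_inv_snd k A (Aw k n j))

instance isOpenImmersion_prodChart (j : Fin (n + 1)) : IsOpenImmersion (prodChart (k := k) A j) := by
  unfold prodChart
  infer_instance

theorem exists_mem_prodChart (t : ↥(pullback (Spec.map (CommRingCat.ofHom (algebraMap k A))) (ProjSpace.toSpec n k))) :
    ∃ j, t ∈ Set.range (prodChart (k := k) A j) := by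
  have ht : pullback.snd (Spec.map (CommRingCat.ofHom (algebraMap k A))) (ProjSpace.toSpec n k) t ∈
      (⨆ i : Fin (n + 1), Proj.basicOpen (polyGrading n k) (MvPolynomial.X i)) := by
    rw [Groth.L18.PS.iSup_chart]; trivial
  obtain ⟨j, hj⟩ := TopologicalSpace.Opens.mem_iSup.1 ht
  refine ⟨j, ?_⟩
  have hr : Set.range (prodChart (k := k) A j) = Set.range
      (pullback.map (Spec.map (CommRingCat.ofHom (algebraMap k A))) (Spec.map (CommRingCat.ofHom (algebraMap k (Aw k n j))))
        (Spec.map (CommRingCat.ofHom (algebraMap k A))) (ProjSpace.toSpec n k) (𝟙 _) (Groth.L18.PS.chart n k j) (𝟙 _)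
        ((Category.comp_id _).trans (Category.id_comp _).symm)
        (by rw [Category.comp_id, Groth.L18.PS.chart_toSpec])) := by
    have hf : ∀ q, prodChart (k := k) A j q = _ := fun q => Scheme.Hom.comp_apply _ _ q
    rw [funext hf]
    exact (pullbackSpecIso k A (Aw k n j)).inv.surjective.range_comp _
  rw [hr, Scheme.Pullback.range_map]
  refine ⟨⟨_, rfl⟩, ?_⟩
  rw [← Groth.L18.PS.range_chart] at hj
  exact hj

/-- the transformed coordinate on a chart -/
def cd (a : Fin (n + 1) → Fin (n + 1) → A) (j m : Fin (n + 1)) : A ⊗[k] Aw k n j :=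
  ∑ l, a m l ⊗ₜ[k] Groth.L18.PS.coord j l

theorem apply_cd (a : Fin (n + 1) → Fin (n + 1) → A) (j m : Fin (n + 1)) (ψ : A ⊗[k] Aw k n j →ₐ[k] k) :
    ψ (cd a j m) = ∑ l, ψ (a m l ⊗ₜ 1) * ψ (1 ⊗ₜ Groth.L18.PS.coord j l) := by
  simp only [cd, map_sum]
  refine Finset.sum_congr rfl fun l _ => ?_
  rw [← map_mul, Algebra.TensorProduct.tmul_mul_tmul, _root_.mul_one, _root_.one_mul]

theorem spec_comp_three {R R' L : Type u} [CommRing R] [CommRing R'] [CommRing L] {C : CommRingCat.{u}}
    (f : CommRingCat.of L ⟶ C) (a : R' →+* L) (b : R →+* R') :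
    Spec.map f ≫ Spec.map (CommRingCat.ofHom a) ≫ Spec.map (CommRingCat.ofHom b) =
      Spec.map (CommRingCat.ofHom (f.hom.comp (a.comp b))) := by
  rw [← Spec.map_comp, ← Spec.map_comp]
  rfl

theorem specMap_tuplePt_point {L : Type u} [CommRing L] (ψ' : L →+* k) (σ : k →+* L) (c : Fin (n + 1) → L) (i : Fin (n + 1))
    (hu : IsUnit (c i)) (hσ : ψ'.comp σ = RingHom.id k) (y : Fin (n + 1) → k) (x0 : k) (hx0 : x0 ≠ 0)
    (hc : ∀ m, ψ' (c m) = x0⁻¹ * y m) (hi : IsUnit (y i)) :
    Spec.map (CommRingCat.ofHom ψ') ≫ Groth.L18.PS.tuplePt (B := CommRingCat.of L) σ c i hu =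
      Groth.L18.PS.tuplePt (B := CommRingCat.of k) (RingHom.id k) y i hi := by
  have h1 : IsUnit (x0⁻¹ * y i) := (isUnit_iff_ne_zero.2 (inv_ne_zero hx0)).mul hi
  refine (Groth.L18.PS.SpecMap_tuplePt (n := n) (R := k) (B := CommRingCat.of L) σ c (C := CommRingCat.of k)
    (CommRingCat.ofHom ψ') i hu).trans ?_
  have h2 : IsUnit (ψ' (c i)) := hu.map ψ'
  have e1 : Groth.L18.PS.tuplePt (B := CommRingCat.of k) (ψ'.comp σ) (fun m => ψ' (c m)) i h2 =
      Groth.L18.PS.tuplePt (B := CommRingCat.of k) (RingHom.id k) y i hi := by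
    have e2 : ∀ (τ : k →+* k) (hτ : τ = RingHom.id k) (h3 : IsUnit (ψ' (c i))),
        Groth.L18.PS.tuplePt (B := CommRingCat.of k) τ (fun m => ψ' (c m)) i h3 =
          Groth.L18.PS.tuplePt (B := CommRingCat.of k) (RingHom.id k) (fun m => ψ' (c m)) i h3 := by
      rintro τ rfl h3; rfl
    refine (e2 _ hσ h2).trans ?_
    exact (Groth.L18.PS.tuplePt_congr (B := CommRingCat.of k) (RingHom.id k) (a := fun m => ψ' (c m))
      (b := fun m => x0⁻¹ * y m) hc i i h2 h1).trans
      (Groth.L18.PS.tuplePt_smul (B := CommRingCat.of k) (RingHom.id k) y x0⁻¹ i i h1 hi)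
  exact e1

theorem comp_trans₃ {S X P : Scheme.{u}} {f : S ⟶ P} {a : S ⟶ X} {b : X ⟶ P} {Q : Scheme.{u}} {χ : P ⟶ Q} {v : X ⟶ Q}
    {w : S ⟶ Q} (hl : f = a ≫ b) (hb : b ≫ χ = v) (hv : a ≫ v = w) : f ≫ χ = w := by
  rw [hl, Category.assoc, hb, hv]

variable [IsAlgClosed k] [Algebra.FiniteType k A]

theorem exists_algHom_of_isMaximal {R : Type u} [CommRing R] [Algebra k R] [Algebra.FiniteType k R] (m : Ideal R) [m.IsMaximal] :
    ∃ χ : R →ₐ[k] k, ∀ r, r - algebraMap k R (χ r) ∈ m := by
  letI := Ideal.Quotient.field m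
  haveI : Algebra.FiniteType k (R ⧸ m) :=
    Algebra.FiniteType.of_surjective (Ideal.Quotient.mkₐ k m) Ideal.Quotient.mk_surjective
  haveI : Module.Finite k (R ⧸ m) := finite_of_finite_type_of_isJacobsonRing k (R ⧸ m)
  let e := AlgEquiv.ofBijective (Algebra.ofId k (R ⧸ m)) IsAlgClosed.algebraMap_bijective_of_isIntegral
  refine ⟨e.symm.toAlgHom.comp (Ideal.Quotient.mkₐ k m), fun r => ?_⟩
  rw [← Ideal.Quotient.eq, Ideal.Quotient.mk_algebraMap]
  exact (e.apply_symm_apply _).symm

theorem span_cd (a : Fin (n + 1) → Fin (n + 1) → A)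
    (hinv : ∀ (g : A →ₐ[k] k) (x : Fin (n + 1) → k), x ≠ 0 → ∃ i, ∑ l, g (a i l) * x l ≠ 0) (j : Fin (n + 1)) :
    Ideal.span (Set.range (cd (k := k) a j)) = ⊤ := by
  by_contra hne
  obtain ⟨P, hP, hle⟩ := Ideal.exists_le_maximal _ hne
  haveI : Algebra.FiniteType k (Aw k n j) := by
    have h0 : LocallyOfFiniteType (Groth.L18.PS.chart n k j ≫ ProjSpace.toSpec n k) := by
      haveI := (Groth.L18.PS.isProper_toSpec n k).toLocallyOfFiniteType
      infer_instance
    rw [Groth.L18.PS.chart_toSpec, HasRingHomProperty.Spec_iff (P := @LocallyOfFiniteType)] at h0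
    exact RingHom.finiteType_algebraMap.1 h0
  haveI : Algebra.FiniteType k (A ⊗[k] Aw k n j) :=
    haveI h2 : Algebra.FiniteType A (A ⊗[k] Aw k n j) := inferInstance
    Algebra.FiniteType.trans ‹Algebra.FiniteType k A› h2
  obtain ⟨χ, hχ⟩ := exists_algHom_of_isMaximal (k := k) P
  have h0 : ∀ m, χ (cd a j m) = 0 := fun m => by
    have hm : cd a j m ∈ P := hle (Ideal.subset_span ⟨m, rfl⟩)
    by_contra h0
    have h2 := P.sub_mem hm (hχ (cd a j m))
    rw [sub_sub_cancel] at h2
    exact hP.ne_top (P.eq_top_of_isUnit_mem h2 ((isUnit_iff_ne_zero.2 h0).map (algebraMap k (A ⊗[k] Aw k n j))))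
  let g : A →ₐ[k] k := χ.comp Algebra.TensorProduct.includeLeft
  let x : Fin (n + 1) → k := fun l => χ (1 ⊗ₜ Groth.L18.PS.coord j l)
  have hx : x ≠ 0 := fun e => by
    have : x j = 0 := congrFun e j
    simp only [x, Groth.L18.PS.coord_self] at this
    exact one_ne_zero ((map_one χ).symm.trans this)
  obtain ⟨i, hi⟩ := hinv g x hx
  exact hi ((apply_cd a j i χ).symm.trans (h0 i))

set_option maxHeartbeats 800000 in
/-- The linear morphism on projective space of a pointwise invertible matrix. -/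
theorem exists_matMap (a : Fin (n + 1) → Fin (n + 1) → A)
    (hinv : ∀ (g : A →ₐ[k] k) (x : Fin (n + 1) → k), x ≠ 0 → ∃ i, ∑ l, g (a i l) * x l ≠ 0) :
    ∃ act : specOf k A ⊗ PnOver k n ⟶ PnOver k n, ∀ (g : A →ₐ[k] k) (x : Fin (n + 1) → k) (j : Fin (n + 1))
      (hj : IsUnit (x j)) (i : Fin (n + 1)) (hi : IsUnit (∑ l, g (a i l) * x l)),
      lift (gPt g) (vPt x j hj) ≫ act = vPt (fun m => ∑ l, g (a m l) * x l) i hi := by
  classical
  let B : Fin (n + 1) → Type u := fun j => A ⊗[k] Aw k n j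
  let h : ∀ j, Spec (CommRingCat.of (B j)) ⟶ pullback (Spec.map (CommRingCat.ofHom (algebraMap k A))) (ProjSpace.toSpec n k) := fun j => prodChart A j
  have h_fst : ∀ j, h j ≫ pullback.fst _ _ = Spec.map (CommRingCat.ofHom (Algebra.TensorProduct.includeLeftRingHom : A →+* B j)) :=
    fun j => prodChart_fst j
  have h_snd : ∀ j, h j ≫ pullback.snd _ _ =
      Spec.map (CommRingCat.ofHom ((Algebra.TensorProduct.includeRight : Aw k n j →ₐ[k] B j).toRingHom)) ≫ Groth.L18.PS.chart n k j :=
    fun j => prodChart_snd j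
  let d : ∀ j, Fin (n + 1) → B j := fun j m => cd a j m
  have hspan : ∀ j, Ideal.span (Set.range (d j)) = ⊤ := fun j => span_cd a hinv j
  let L : Fin (n + 1) × Fin (n + 1) → Type u := fun p => Localization.Away (d p.1 p.2)
  let F : ∀ p : ULift.{u} (Fin (n + 1) × Fin (n + 1)), Spec (CommRingCat.of (L p.down)) ⟶
      pullback (Spec.map (CommRingCat.ofHom (algebraMap k A))) (ProjSpace.toSpec n k) := fun p =>
    Spec.map (CommRingCat.ofHom (algebraMap (B p.down.1) (L p.down))) ≫ h p.down.1
  have hF : ∀ t, ∃ p, t ∈ Set.range (F p) := by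
    intro t
    obtain ⟨j, q, hq⟩ := exists_mem_prodChart (k := k) (A := A) t
    obtain ⟨i, hi⟩ : ∃ i, q ∈ PrimeSpectrum.basicOpen (d j i) := by
      by_contra hno
      push Not at hno
      refine q.2.ne_top (top_le_iff.1 ((hspan j).symm.trans_le (Ideal.span_le.2 ?_)))
      rintro _ ⟨i, rfl⟩
      exact not_not.1 (hno i)
    have hq' : q ∈ Set.range (PrimeSpectrum.comap (algebraMap (B j) (L (j, i)))) := by
      rw [PrimeSpectrum.localization_away_comap_range _ (d j i)]
      exact hi
    obtain ⟨y, hy⟩ := hq'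
    refine ⟨⟨(j, i)⟩, y, ?_⟩
    show h j (PrimeSpectrum.comap (algebraMap (B j) (L (j, i))) y) = t
    rw [hy]
    exact hq
  let 𝒰 : (pullback (Spec.map (CommRingCat.ofHom (algebraMap k A))) (ProjSpace.toSpec n k)).AffineOpenCover :=
    { I₀ := ULift.{u} (Fin (n + 1) × Fin (n + 1))
      X := fun p => CommRingCat.of (L p.down)
      f := F
      idx := fun t => (hF t).choose
      map_prop := fun p => by
        haveI : IsOpenImmersion (h p.down.1) := isOpenImmersion_prodChart (k := k) (A := A) p.down.1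
        haveI : IsOpenImmersion (Spec.map (CommRingCat.ofHom (algebraMap (B p.down.1) (L p.down)))) :=
          IsOpenImmersion.of_isLocalization (d p.down.1 p.down.2)
        show IsOpenImmersion (_ ≫ _)
        infer_instance
      covers := fun t => (hF t).choose_spec }
  let σ : ∀ p : ULift.{u} (Fin (n + 1) × Fin (n + 1)), k →+* L p.down := fun p => algebraMap k (L p.down)
  let c : ∀ p : ULift.{u} (Fin (n + 1) × Fin (n + 1)), Fin (n + 1) → L p.down :=
    fun p m => algebraMap (B p.down.1) (L p.down) (d p.down.1 m)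
  have hu : ∀ p, IsUnit (c p p.down.2) := fun p => IsLocalization.Away.algebraMap_isUnit _
  obtain ⟨φ, hφ⟩ := Groth.L18.PS.exists_hom_of_tuples (n := n) (R := k) 𝒰 σ c (fun p => p.down.2) hu (by
    intro p q C f g e
    let fA : A →+* C := f.hom.comp ((algebraMap (B p.down.1) (L p.down)).comp Algebra.TensorProduct.includeLeftRingHom)
    let gA : A →+* C := g.hom.comp ((algebraMap (B q.down.1) (L q.down)).comp Algebra.TensorProduct.includeLeftRingHom)
    have eA : fA = gA := by
      have e1 := congrArg (· ≫ pullback.fst _ _) e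
      simp only [𝒰, F, Category.assoc, h_fst] at e1
      exact congrArg CommRingCat.Hom.hom (Spec.map_injective
        ((spec_comp_three f _ _).symm.trans (e1.trans (spec_comp_three g _ _))))
    let fW : Aw k n p.down.1 →+* C :=
      f.hom.comp ((algebraMap (B p.down.1) (L p.down)).comp (Algebra.TensorProduct.includeRight : Aw k n p.down.1 →ₐ[k] B p.down.1).toRingHom)
    let gW : Aw k n q.down.1 →+* C :=
      g.hom.comp ((algebraMap (B q.down.1) (L q.down)).comp (Algebra.TensorProduct.includeRight : Aw k n q.down.1 →ₐ[k] B q.down.1).toRingHom)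
    have eW : Spec.map (CommRingCat.ofHom fW) ≫ Groth.L18.PS.chart n k p.down.1 =
        Spec.map (CommRingCat.ofHom gW) ≫ Groth.L18.PS.chart n k q.down.1 := by
      have e1 := congrArg (· ≫ pullback.snd _ _) e
      simp only [𝒰, F, Category.assoc, h_snd] at e1
      have hp := congrArg (· ≫ Groth.L18.PS.chart n k p.down.1) (spec_comp_three f
        (algebraMap (B p.down.1) (L p.down)) (Algebra.TensorProduct.includeRight : Aw k n p.down.1 →ₐ[k] B p.down.1).toRingHom)
      have hq := congrArg (· ≫ Groth.L18.PS.chart n k q.down.1) (spec_comp_three g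
        (algebraMap (B q.down.1) (L q.down)) (Algebra.TensorProduct.includeRight : Aw k n q.down.1 →ₐ[k] B q.down.1).toRingHom)
      simp only [Category.assoc] at hp hq
      exact hp.symm.trans (e1.trans hq)
    have u1 : IsUnit (fW (Groth.L18.PS.coord p.down.1 p.down.1)) := by
      rw [Groth.L18.PS.coord_self, map_one]; exact isUnit_one
    have u2 : IsUnit (gW (Groth.L18.PS.coord q.down.1 q.down.1)) := by
      rw [Groth.L18.PS.coord_self, map_one]; exact isUnit_one
    obtain ⟨cu, hcu⟩ := Groth.L18.PS.exists_smul_of_tuplePt_eq (n := n) (R := k) (B := C)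
      (fW.comp (Groth.L18.PS.chartScalar n k p.down.1)) (fun l => fW (Groth.L18.PS.coord p.down.1 l))
      (τ := gW.comp (Groth.L18.PS.chartScalar n k q.down.1)) (b := fun l => gW (Groth.L18.PS.coord q.down.1 l))
      p.down.1 q.down.1 u1 u2 (by
        rw [Groth.L18.PS.tuplePt, Groth.L18.PS.tuplePt, Groth.L18.PS.chartHom_universal _ fW u1,
          Groth.L18.PS.chartHom_universal _ gW u2]
        exact eW)
    refine ⟨?_, cu, fun m => ?_⟩
    · refine RingHom.ext fun r => ?_
      have hr := RingHom.congr_fun eA (algebraMap k A r)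
      simp only [fA, gA, RingHom.comp_apply] at hr
      change f.hom (algebraMap (B p.down.1) (L p.down) (algebraMap k (B p.down.1) r)) =
        g.hom (algebraMap (B q.down.1) (L q.down) (algebraMap k (B q.down.1) r))
      exact hr
    · simp only [c, d, cd, map_sum, Finset.mul_sum]
      refine Finset.sum_congr rfl fun l _ => ?_
      have e1 : ∀ (j : Fin (n + 1)), a m l ⊗ₜ[k] Groth.L18.PS.coord j l =
          (Algebra.TensorProduct.includeLeftRingHom (a m l) : B j) *
            (Algebra.TensorProduct.includeRight : Aw k n j →ₐ[k] B j) (Groth.L18.PS.coord j l) := fun j => by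
        simp [Algebra.TensorProduct.includeLeftRingHom]
      rw [e1, e1, map_mul, map_mul, map_mul, map_mul]
      change gA (a m l) * gW (Groth.L18.PS.coord q.down.1 l) = (cu : C) * (fA (a m l) * fW (Groth.L18.PS.coord p.down.1 l))
      rw [hcu, eA]
      ring)
  have hw : φ ≫ ProjSpace.toSpec n k = pullback.fst _ _ ≫ Spec.map (CommRingCat.ofHom (algebraMap k A)) := by
    refine Scheme.Cover.hom_ext 𝒰.openCover _ _ fun p => ?_
    show 𝒰.f p ≫ φ ≫ _ = 𝒰.f p ≫ _
    rw [← Category.assoc, hφ p, Groth.L18.PS.tuplePt_toSpec]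
    simp only [𝒰, F, Category.assoc, reassoc_of% (h_fst p.down.1)]
    refine Eq.trans ?_ (congrArg _ (Spec.map_comp _ _))
    exact Spec.map_comp (CommRingCat.ofHom ((Algebra.TensorProduct.includeLeftRingHom : A →+* B p.down.1).comp (algebraMap k A)))
      (CommRingCat.ofHom (algebraMap (B p.down.1) (L p.down)))
  refine ⟨Over.homMk φ hw, fun g x j hj i hi => ?_⟩
  let φx : Aw k n j →+* k := Groth.L18.PS.chartHom (RingHom.id k) x j hj
  let φxa : Aw k n j →ₐ[k] k := { φx with
    commutes' := fun r => RingHom.congr_fun (Groth.L18.PS.chartHom_comp_scalar (RingHom.id k) x j hj) r }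
  let ψ : B j →ₐ[k] k := Algebra.TensorProduct.lift g φxa (fun _ _ => Commute.all _ _)
  have hψA : ∀ r, ψ (r ⊗ₜ 1) = g r := fun r => by
    rw [show ψ (r ⊗ₜ 1) = g r * φxa 1 from Algebra.TensorProduct.lift_tmul _ _ _ _ _, map_one, _root_.mul_one]
  have hψW : ∀ r, ψ (1 ⊗ₜ r) = φx r := fun r => by
    rw [show ψ (1 ⊗ₜ r) = g 1 * φxa r from Algebra.TensorProduct.lift_tmul _ _ _ _ _, map_one, _root_.one_mul]
    rfl
  have hψd : ∀ m, ψ (d j m) * x j = ∑ l, g (a m l) * x l := fun m => by
    rw [show d j m = cd a j m from rfl, apply_cd, Finset.sum_mul]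
    refine Finset.sum_congr rfl fun l _ => ?_
    rw [hψA, hψW, _root_.mul_assoc]
    exact congrArg _ (Groth.L18.PS.chartHom_coord (RingHom.id k) x j hj l)
  have hψu : IsUnit (ψ (d j i)) := isUnit_of_mul_isUnit_left (y := x j) (by rw [hψd]; exact hi)
  let ψ' : L (j, i) →+* k := IsLocalization.Away.lift (d j i) (g := ψ.toRingHom) hψu
  have hψ' : ψ'.comp (algebraMap (B j) (L (j, i))) = ψ.toRingHom := IsLocalization.Away.lift_comp _ hψu
  have hl : (lift (gPt g) (vPt x j hj)).left =
      Spec.map (CommRingCat.ofHom ψ') ≫ 𝒰.f ⟨(j, i)⟩ := by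
    simp only [𝒰, F, ← Spec.map_comp_assoc, ← CommRingCat.ofHom_comp, hψ']
    refine pullback.hom_ext ?_ ?_
    · refine Eq.trans ?_ (((Category.assoc _ _ _).trans (congrArg _ (h_fst j))).trans
        ((Spec.map_comp _ _).symm.trans (congrArg Spec.map (CommRingCat.ofHom_comp _ _).symm))).symm
      refine (congrArg CommaMorphism.left (lift_fst (gPt g) (vPt x j hj))).trans ?_
      show Spec.map (CommRingCat.ofHom g.toRingHom) = _
      congr 2
      exact RingHom.ext fun r => (hψA r).symm
    · refine Eq.trans ?_ (((Category.assoc _ _ _).trans (congrArg _ (h_snd j))).trans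
        ((Category.assoc _ _ _).symm.trans (congrArg (· ≫ Groth.L18.PS.chart n k j)
          ((Spec.map_comp _ _).symm.trans (congrArg Spec.map (CommRingCat.ofHom_comp _ _).symm))))).symm
      refine (congrArg CommaMorphism.left (lift_snd (gPt g) (vPt x j hj))).trans ?_
      show Spec.map (CommRingCat.ofHom φx) ≫ _ = _
      congr 3
      exact RingHom.ext fun r => (hψW r).symm
  have hσ : ψ'.comp (σ ⟨(j, i)⟩) = RingHom.id k := RingHom.ext fun r => by
    change ψ' (algebraMap (B j) (L (j, i)) (algebraMap k (B j) r)) = r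
    rw [← RingHom.comp_apply, hψ']
    exact ψ.commutes r
  have hc : ∀ m, ψ' (c ⟨(j, i)⟩ m) = (x j)⁻¹ * ∑ l, g (a m l) * x l := fun m => by
    rw [← hψd, _root_.mul_comm (ψ _), inv_mul_cancel_left₀ hj.ne_zero]
    exact RingHom.congr_fun hψ' _
  exact Over.OverMorphism.ext (comp_trans₃ hl (hφ ⟨(j, i)⟩)
    (specMap_tuplePt_point ψ' (σ ⟨(j, i)⟩) (c ⟨(j, i)⟩) i (hu ⟨(j, i)⟩) hσ _ (x j) hj.ne_zero hc hi))

end Groth.L08.Borel
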