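import Groth.Agent.L08.Borel.MultUnip
import Groth.Agent.L08.Borel.MaxToriConj
import Groth.Agent.L19.AlgGrpBasic.GmProper
import Groth.Agent.L08.SmallNorm.HasAff

/-!
# Maximal tori are stable under base change
-/

set_option autoImplicit false
set_option backward.isDefEq.respectTransparency.types false
set_option linter.style.haveILetI false
set_option linter.unusedSectionVars false

universe u

open CategoryTheory CategoryTheory.Limits MonoidalCategory CartesianMonoidalCategory MonObj GrpObj AlgebraicGeometry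
open TensorProduct WithConv
open Groth.L25.Bridge (P)
open Groth.L08.TorusQuot (sp sp_left sp_comp toPt SP)
open Groth.L25.LargestMult (N val val_comp val_specMap eq_toSpecΓ_comp tot val_eq_counit mem_N_succ)
open Groth.L25.NilAction (toBase ofBase toBase_mul toBase_one toBase_ofBase ofBase_toBase)

noncomputable section

namespace Groth.L08.Borel

variable {k : Type u} [Field k]

/-- the unit on coordinates, relative version -/
theorem val_toBase_eq_one {A : Type u} [CommRing A] [HopfAlgebra k A] {S' : Scheme.{u}}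
    (θ : S' ⟶ Spec (CommRingCat.of k)) {H : Over S'} [GrpObj H] (hH : SGA3x.IsMultTypeFT H)
    {J : Ideal A} [J.IsHopfIdeal k] (hU : HopfRep.IsUnipotent k (A ⧸ J))
    (z : H ⟶ Red.bc θ (P k A)) [IsMonHom z] (hJ : ∀ a ∈ J, val (toBase θ z).left a = 0) : z = 1 := by
  let π : A →ₐc[k] A ⧸ J := Bialgebra.Quotient.mkBialgHom J
  let zt : Over.mk (H.hom ≫ θ) ⟶ P k A := toBase θ z
  have hJ0 : J ≤ RingHom.ker (val zt.left) := fun a ha => hJ a ha
  let z₁ : H.left ⟶ Spec (CommRingCat.of (A ⧸ J)) :=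
    H.left.toSpecΓ ≫ Spec.map (CommRingCat.ofHom (Ideal.Quotient.lift J (val zt.left) fun a ha => hJ0 ha))
  have hz₁ : z₁ ≫ (sp π).left = zt.left := by
    rw [sp_left]
    show (H.left.toSpecΓ ≫ Spec.map _) ≫ Spec.map (CommRingCat.ofHom (Ideal.Quotient.mk J)) = zt.left
    rw [Category.assoc, ← Spec.map_comp, ← CommRingCat.ofHom_comp, Ideal.Quotient.lift_comp_mk]
    exact (eq_toSpecΓ_comp zt.left).symm
  let zt₀ : Over.mk (H.hom ≫ θ) ⟶ P k (A ⧸ J) := Over.homMk z₁ (by
    exact (congrArg (z₁ ≫ ·) (Over.w (sp π)).symm).trans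
      (((Category.assoc _ _ _).symm.trans (congrArg (· ≫ (P k A).hom) hz₁)).trans (Over.w zt)))
  have hzt₀ : zt₀ ≫ sp π = zt := Over.OverMorphism.ext hz₁
  haveI : IsClosedImmersion (sp π).left := by
    rw [sp_left]; exact IsClosedImmersion.spec_of_surjective _ Ideal.Quotient.mk_surjective
  haveI : Mono (sp π) := Over.mono_of_mono_left _
  haveI : Mono ((Over.pullback θ).map (sp π)) := Functor.map_mono _ _
  haveI : IsMonHom ((Over.pullback θ).map (sp π)) := Groth.L25.MonoClosed.isMonHom_pullbackMap _ _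
  let z₀ : H ⟶ Red.bc θ (P k (A ⧸ J)) := ofBase θ zt₀
  have hz₀ : z₀ ≫ (Over.pullback θ).map (sp π) = z := by
    rw [Groth.L25.NilAction.ofBase_comp, hzt₀, ofBase_toBase]
  haveI : IsMonHom z₀ := Groth.L25.Bridge.isMonHom_of_mul z₀ fun X a b => by
    rw [← cancel_mono ((Over.pullback θ).map (sp π)), Category.assoc, hz₀, MonObj.mul_comp, MonObj.mul_comp,
      Category.assoc, Category.assoc, hz₀]
  have hval : ∀ a : A, val zt.left a = val zt.left (algebraMap k A (Coalgebra.counit (R := k) a)) := by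
    intro a
    obtain ⟨n, hn⟩ := exists_mem_N hU (π a)
    have key := val_eq_counit (f := θ) (Z := P k (A ⧸ J)) (𝟙 (P k (A ⧸ J))) z₀ hH n (π a) hn
    have ht : tot (𝟙 (P k (A ⧸ J))) z₀ = z₁ := by
      show (toBase θ (ofBase θ zt₀) ≫ 𝟙 _).left = z₁
      rw [toBase_ofBase, Category.comp_id]
      rfl
    rw [ht] at key
    have hv : ∀ c : A, val zt.left c = val z₁ (π c) := fun c => by
      rw [← hz₁, sp_left]
      exact (val_comp z₁ (Spec.map (CommRingCat.ofHom (π : A →+* A ⧸ J))) c).trans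
        (congrArg z₁.appTop (val_specMap (π : A →+* A ⧸ J) c))
    rw [hv, hv, key]
    congr 1
  apply Groth.L25.CentralLift.toBase_injective
  rw [toBase_one]
  refine Over.OverMorphism.ext ?_
  rw [eq_toSpecΓ_comp (toBase θ z).left, eq_toSpecΓ_comp (1 : Over.mk (H.hom ≫ θ) ⟶ P k A).left]
  congr 3
  ext a
  show val zt.left a = val (1 : Over.mk (H.hom ≫ θ) ⟶ P k A).left a
  rw [hval a]
  have hc : ∀ (y : Over.mk (H.hom ≫ θ) ⟶ P k A) (c : k), val y.left (algebraMap k A c) =
      (H.hom ≫ θ).appTop ((Scheme.ΓSpecIso _).inv c) := fun y c => by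
    refine Eq.trans ?_ (congrArg (fun m : H.left ⟶ Spec (CommRingCat.of k) => m.appTop
      ((Scheme.ΓSpecIso _).inv c)) (Over.w y))
    rw [Scheme.Hom.comp_appTop]
    show _ = y.left.appTop ((Spec.map (CommRingCat.ofHom (algebraMap k A))).appTop _)
    exact congrArg y.left.appTop (ConcreteCategory.congr_hom
      (Scheme.ΓSpecIso_inv_naturality (CommRingCat.ofHom (algebraMap k A))) c)
  have h1 : val (1 : Over.mk (H.hom ≫ θ) ⟶ P k A).left (a - algebraMap k A (Coalgebra.counit (R := k) a)) = 0 :=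
    val_one _ (by simp)
  rw [map_sub, sub_eq_zero] at h1
  rw [h1, hc, hc]

variable [IsAlgClosed k]

/-- **in a connected affine group with a central maximal torus, homomorphisms from groups of multiplicative type
factor through the torus after any base change** -/
theorem exists_fac_bc_central {G T : Over (Spec (CommRingCat.of k))} [GrpObj G] [GrpObj T]
    [IsAffine G.left] [Smooth G.hom] [ConnectedSpace G.left] {iT : T ⟶ G} (hT : AGF.IsMaxTorus iT)
    (hTc : ∀ (X : Over (Spec (CommRingCat.of k))) (g : X ⟶ G) (s : X ⟶ T), g * (s ≫ iT) = (s ≫ iT) * g)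
    {S' : Scheme.{u}} (θ : S' ⟶ Spec (CommRingCat.of k)) {H : Over S'} [GrpObj H] (hH : SGA3x.IsMultTypeFT H)
    (v : H ⟶ Red.bc θ G) [IsMonHom v] : ∃ w : H ⟶ Red.bc θ T, w ≫ (Over.pullback θ).map iT = v := by
  haveI := hT.1; haveI := hT.2.1
  have hsol : Red.IsSolvableGrp G := by
    refine isSolvableGrp_centralizer hT (c := 𝟙 G) ⟨inferInstance, inferInstance, fun X g => ⟨?_, fun _ => ⟨g, Category.comp_id g⟩⟩⟩
    intro _ X' x h
    exact hTc X' (x ≫ g) h
  obtain ⟨A, _, _, hft, hred, hconn, hsolv, ⟨eG⟩⟩ := exists_hopf_data hsol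
  obtain ⟨B, _, _, ψ, J, hJI, r, n, hψ, hB, hJ, hU, hr, ⟨eB⟩⟩ := exists_retraction (k := k) hconn
  have hrs : Function.Surjective r := fun b => ⟨ψ b, congrArg (fun f : B →ₐc[k] B => f b) hr⟩
  let φ : P k A ⟶ G := eG.inv.hom.hom
  let ψG : G ⟶ P k A := eG.hom.hom.hom
  have h1 : φ ≫ ψG = 𝟙 _ := congrArg (fun f => f.hom.hom) eG.inv_hom_id
  have h2 : ψG ≫ φ = 𝟙 G := congrArg (fun f => f.hom.hom) eG.hom_inv_id
  haveI : IsMonHom φ := eG.inv.hom.isMonHom_hom
  haveI : IsMonHom ψG := eG.hom.hom.isMonHom_hom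
  haveI : IsIso φ := ⟨ψG, h1, h2⟩
  haveI : IsIso ψG := ⟨φ, h2, h1⟩
  haveI : IsClosedImmersion (Spec.map (CommRingCat.ofHom (r : A →+* B))) :=
    IsClosedImmersion.spec_of_surjective _ hrs
  haveI : IsClosedImmersion (sp r).left := ‹IsClosedImmersion (Spec.map (CommRingCat.ofHom (r : A →+* B)))›
  haveI : Mono (sp r) := Over.mono_of_mono_left _
  haveI : Mono (sp r ≫ φ) := mono_comp _ _
  have hrψ : sp r ≫ sp ψ = 𝟙 (P k B) := by
    rw [sp_comp, hr]
    exact Over.OverMorphism.ext (by rw [sp_left]; exact Spec.map_id _)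
  let q : G ⟶ P k B := ψG ≫ sp ψ
  let i₀ : P k B ⟶ G := sp r ≫ φ
  haveI : IsMonHom q := inferInstanceAs (IsMonHom (ψG ≫ sp ψ))
  haveI : IsMonHom i₀ := inferInstanceAs (IsMonHom (sp r ≫ φ))
  letI := hJI
  -- a homomorphism commuting with its projection equals it
  have main : ∀ (P' : Scheme.{u}) (ξ : P' ⟶ Spec (CommRingCat.of k)) (H' : Over P') [GrpObj H'],
      SGA3x.IsMultTypeFT H' → ∀ (w : H' ⟶ Red.bc ξ G) [IsMonHom w],
      (∀ (X : Over P') (a b : X ⟶ H'), (a ≫ w) * (b ≫ w ≫ (Over.pullback ξ).map (q ≫ i₀)) =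
        (b ≫ w ≫ (Over.pullback ξ).map (q ≫ i₀)) * (a ≫ w)) →
      w ≫ (Over.pullback ξ).map (q ≫ i₀) = w := by
    intro P' ξ H' _ hH' w _ hwc
    haveI : IsMonHom ((Over.pullback ξ).map (q ≫ i₀)) := Groth.L25.MonoClosed.isMonHom_pullbackMap _ _
    haveI : IsMonHom ((Over.pullback ξ).map ψG) := Groth.L25.MonoClosed.isMonHom_pullbackMap _ _
    let t : H' ⟶ Red.bc ξ G := w ≫ (Over.pullback ξ).map (q ≫ i₀)
    haveI : IsMonHom t := inferInstanceAs (IsMonHom (w ≫ (Over.pullback ξ).map (q ≫ i₀)))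
    let u : H' ⟶ Red.bc ξ G := w * t⁻¹
    have hcom : ∀ (X : Over P') (a b : X ⟶ H'), (a ≫ w) * (b ≫ t)⁻¹ = (b ≫ t)⁻¹ * (a ≫ w) :=
      fun X a b => (Commute.inv_right (show Commute (a ≫ w) (b ≫ t) from hwc X a b)).eq
    haveI hu : IsMonHom u := Groth.L25.Bridge.isMonHom_of_mul u fun X a b => by
      have hcc : a * b = b * a := Groth.L25.Central.mul_comm_of_multTypeFT hH' a b
      have hbt : (b ≫ t)⁻¹ * (a ≫ t)⁻¹ = (a ≫ t)⁻¹ * (b ≫ t)⁻¹ := by
        rw [← _root_.mul_inv_rev, ← _root_.mul_inv_rev, ← MonObj.mul_comp, ← MonObj.mul_comp, hcc]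
      have hbw := hcom X b a
      simp only [u, MonObj.comp_mul, GrpObj.comp_inv, MonObj.mul_comp, _root_.mul_inv_rev]
      calc (a ≫ w) * (b ≫ w) * ((b ≫ t)⁻¹ * (a ≫ t)⁻¹)
          = (a ≫ w) * ((b ≫ w) * (a ≫ t)⁻¹) * (b ≫ t)⁻¹ := by rw [hbt]; group
        _ = (a ≫ w) * ((a ≫ t)⁻¹ * (b ≫ w)) * (b ≫ t)⁻¹ := by rw [hbw]
        _ = (a ≫ w) * (a ≫ t)⁻¹ * ((b ≫ w) * (b ≫ t)⁻¹) := by group
    have hidem : (Over.pullback ξ).map (q ≫ i₀) ≫ (Over.pullback ξ).map q = (Over.pullback ξ).map q := by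
      rw [← Functor.map_comp]
      simp only [q, i₀, Category.assoc, reassoc_of% h1, hrψ, Category.comp_id]
    haveI : IsMonHom ((Over.pullback ξ).map q) := Groth.L25.MonoClosed.isMonHom_pullbackMap _ _
    have hq : u ≫ (Over.pullback ξ).map q = 1 := by
      simp only [u, t, MonObj.mul_comp, GrpObj.inv_comp, Category.assoc, hidem, mul_inv_cancel]
    let z : H' ⟶ Red.bc ξ (P k A) := u ≫ (Over.pullback ξ).map ψG
    haveI : IsMonHom z := inferInstanceAs (IsMonHom (u ≫ (Over.pullback ξ).map ψG))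
    have e : toBase ξ z ≫ sp ψ = 1 := by
      rw [← Groth.L25.SplitSub.toBase_map, ← toBase_one ξ, ← hq]
      simp only [z, q, Category.assoc, Functor.map_comp]
    have hz : z = 1 := val_toBase_eq_one ξ hH' hU z (fun a ha => by
      have hle : J ≤ RingHom.ker (val (toBase ξ z).left) := by
        rw [hJ, Ideal.map_le_iff_le_comap]
        intro b hb
        have e2 := congrArg (fun m : Over.mk (H'.hom ≫ ξ) ⟶ P k B => val m.left b) e
        rw [val_one b hb] at e2
        exact (val_comp_sp _ ψ b).symm.trans e2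
      exact hle ha)
    haveI : Mono ((Over.pullback ξ).map ψG) := inferInstance
    have hu1 : u = 1 := by
      rw [← cancel_mono ((Over.pullback ξ).map ψG), show u ≫ (Over.pullback ξ).map ψG = z from rfl, hz,
        MonObj.one_comp]
    exact (mul_inv_eq_one.1 hu1).symm
  -- the maximal torus is the section
  have hTm := Groth.L25.Locus.isMultTypeFT_of_isTorus hT.2.2.1
  have eT : (iT ≫ q) ≫ i₀ = iT := by
    haveI : IsMonHom ((Over.pullback (𝟙 (Spec (CommRingCat.of k)))).map iT) :=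
      Groth.L25.MonoClosed.isMonHom_pullbackMap _ _
    haveI : (Over.pullback (𝟙 (Spec (CommRingCat.of k)))).Faithful :=
      Functor.Faithful.of_iso (Over.pullbackId (X := Spec (CommRingCat.of k))).symm
    apply (Over.pullback (𝟙 (Spec (CommRingCat.of k)))).map_injective
    rw [Category.assoc, Functor.map_comp]
    exact main _ (𝟙 _) _ (Groth.L25.MultTypeBC.isMultTypeFT_bc hTm _)
      ((Over.pullback (𝟙 (Spec (CommRingCat.of k)))).map iT) fun X a b => by
        apply Groth.L25.CentralLift.toBase_injective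
        simp only [toBase_mul, ← Category.assoc, Groth.L25.SplitSub.toBase_map]
        simp only [Category.assoc]
        exact (hTc _ (toBase _ b ≫ iT ≫ q ≫ i₀) (toBase _ a)).symm
  haveI : IsIso (iT ≫ q) := hT.2.2.2 (P k B) i₀ (iT ≫ q) (isTorus_of_laurent eB) eT
  have hi₀ : i₀ = inv (iT ≫ q) ≫ iT := by rw [IsIso.eq_inv_comp, eT]
  refine ⟨v ≫ (Over.pullback θ).map (q ≫ inv (iT ≫ q)), ?_⟩
  rw [Category.assoc, ← Functor.map_comp, Category.assoc, ← hi₀]
  refine main _ θ H hH v fun X a b => ?_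
  apply Groth.L25.CentralLift.toBase_injective
  rw [toBase_mul, toBase_mul, ← Category.assoc b, Groth.L25.SplitSub.toBase_map, hi₀, ← Category.assoc, ← Category.assoc]
  exact hTc _ _ _

/-- **maximal tori over an algebraically closed field stay maximal in any larger field** -/
theorem isMaxTorus_bc_field {G T : Over (Spec (CommRingCat.of k))} [GrpObj G] [GrpObj T] [Smooth G.hom]
    [QuasiCompact G.hom] {iT : T ⟶ G} (hT : AGF.IsMaxTorus iT) {K : Type u} [Field K]
    (θ : Spec (CommRingCat.of K) ⟶ Spec (CommRingCat.of k)) : AGF.IsMaxTorus ((Over.pullback θ).map iT) := by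
  haveI := hT.1; haveI := hT.2.1
  haveI : IsSeparated G.hom := Groth.L08.AbelianGrp.isSeparated G
  haveI : LocallyOfFiniteType G.hom := inferInstance
  haveI : IsMonHom ((Over.pullback θ).map iT) := Groth.L25.MonoClosed.isMonHom_pullbackMap _ _
  refine ⟨inferInstance, Functor.map_mono _ _, Groth.L25.Locus.isTorus_bc hT.2.2.1 θ, fun T' _ j _ _ f hT' hf => ?_⟩
  have hm' := Groth.L25.Locus.isMultTypeFT_of_isTorus hT'
  -- everything happens in the centralizer
  obtain ⟨C, gC, c, hc, hci, hCl⟩ := Groth.L25.Locus.exists_smooth_centralizer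
    (Groth.L25.Locus.locally_of_multTypeFT (Groth.L25.Locus.isMultTypeFT_of_isTorus hT.2.2.1)) iT
  haveI := hc.1; haveI := hc.2.1; haveI := hci; haveI : Smooth C.hom := hCl
  haveI : QuasiCompact C.hom := by rw [← Over.w c]; infer_instance
  obtain ⟨a1, a2, a3, -, hTcomm⟩ := torus_props hT.2.2.1
  obtain ⟨tC, htC⟩ := (hc.2.2 T iT).2 fun X' x h => by
    rw [← MonObj.mul_comp, hTcomm X' x h, MonObj.mul_comp]
  haveI : IsMonHom tC := isMonHom_of_comp_mono tC c iT htC
  have hcen : ∀ (X : Over (Spec (CommRingCat.of k))) (g : X ⟶ C) (s : X ⟶ T),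
      g * (s ≫ tC) = (s ≫ tC) * g := fun X g s => by
    rw [← cancel_mono c, MonObj.mul_comp, MonObj.mul_comp, Category.assoc, htC]
    have := (hc.2.2 X (g ≫ c)).1 ⟨g, rfl⟩ X (𝟙 X) s
    rwa [Category.id_comp] at this
  have hcθ := isCentralizerOf_bc θ hc
  haveI := hcθ.1; haveI := hcθ.2.1
  obtain ⟨j₁, hj₁⟩ := (hcθ.2.2 T' j).2 fun X' x h => by
    rw [← hf, ← Category.assoc, ← MonObj.mul_comp, ← MonObj.mul_comp,
      Groth.L25.Central.mul_comm_of_multTypeFT hm' x (h ≫ f)]
  haveI : IsMonHom j₁ := Groth.L25.Bridge.isMonHom_of_mul j₁ fun X a b => by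
    rw [← cancel_mono ((Over.pullback θ).map c), Category.assoc, hj₁,
      MonObj.mul_comp (a ≫ j₁) (b ≫ j₁) ((Over.pullback θ).map c), Category.assoc, Category.assoc, hj₁]
    exact MonObj.mul_comp a b j
  -- the identity component
  obtain ⟨C₀, gC₀, j₀, hj₀⟩ := Groth.L08.Chev.exists_idComp C
  haveI := hj₀.hom; haveI := hj₀.closedImm; haveI := hj₀.smooth; haveI := hj₀.connectedSpace
  haveI := hj₀.quasiCompact; haveI := hj₀.openImm
  haveI : Mono j₀ := Groth.L08.mono_of_closedImmersion j₀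
  haveI : IsMonHom ((Over.pullback θ).map j₀) := Groth.L25.MonoClosed.isMonHom_pullbackMap _ _
  haveI := a3
  obtain ⟨t₀, ht₀⟩ := hj₀.exists_lift_hom tC
  haveI : IsOpenImmersion ((Over.pullback θ).map j₀).left :=
    MorphismProperty.of_isPullback (Groth.L25.SchImage.isPullback_fst_map θ j₀) ‹_›
  haveI : IsClosedImmersion ((Over.pullback θ).map j₀).left :=
    MorphismProperty.of_isPullback (Groth.L25.SchImage.isPullback_fst_map θ j₀) ‹_›
  haveI : ConnectedSpace T'.left := (Groth.L25.Locus.smooth_connected_torus hT').2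
  have hrange : Set.range j₁.left ⊆ Set.range ((Over.pullback θ).map j₀).left := by
    let V : Set ↥(Red.bc θ C).left := Set.range ((Over.pullback θ).map j₀).left
    have hV : IsClopen V := ⟨((Over.pullback θ).map j₀).left.isClosedEmbedding.isClosed_range,
      ((Over.pullback θ).map j₀).left.isOpenEmbedding.isOpen_range⟩
    have hne : (j₁.left ⁻¹' V : Set ↥T'.left).Nonempty := by
      refine ⟨(1 : 𝟙_ _ ⟶ T').left (IsLocalRing.closedPoint K), (1 : 𝟙_ _ ⟶ Red.bc θ C₀).left (IsLocalRing.closedPoint K), ?_⟩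
      rw [← Scheme.Hom.comp_apply, ← Over.comp_left, MonObj.one_comp, ← Scheme.Hom.comp_apply, ← Over.comp_left,
        MonObj.one_comp]
    have hall := (hV.preimage j₁.left.continuous).eq_univ hne
    rintro _ ⟨x, rfl⟩
    exact (Set.eq_univ_iff_forall.1 hall x)
  let j₂ : T' ⟶ Red.bc θ C₀ := Over.homMk (IsOpenImmersion.lift ((Over.pullback θ).map j₀).left j₁.left hrange) (by
    rw [← Over.w ((Over.pullback θ).map j₀), IsOpenImmersion.lift_fac_assoc]
    exact Over.w j₁)
  have hj₂ : j₂ ≫ (Over.pullback θ).map j₀ = j₁ := Over.OverMorphism.ext (IsOpenImmersion.lift_fac _ _ _)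
  haveI : Mono ((Over.pullback θ).map j₀) := Functor.map_mono _ _
  haveI : IsMonHom j₂ := Groth.L25.Bridge.isMonHom_of_mul j₂ fun X a b => by
    rw [← cancel_mono ((Over.pullback θ).map j₀), Category.assoc, hj₂,
      MonObj.mul_comp (a ≫ j₂) (b ≫ j₂) ((Over.pullback θ).map j₀), Category.assoc, Category.assoc, hj₂]
    exact MonObj.mul_comp a b j₁
  -- the affine part
  obtain ⟨L, gL, l, Q, gQ, q, hl, hlc, hla, hls, hlcon, -, hq, -, -, -, hker, hQp, -, -⟩ :=
    Groth.L08.ChevPerf.exists_chevalley C₀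
  haveI := hl; haveI := hlc; haveI := hls; haveI := hlcon; haveI := hla; haveI := hq; haveI := hQp
  haveI : IsMonHom t₀ := isMonHom_of_comp_mono t₀ j₀ tC ht₀
  obtain ⟨tL, htL, -⟩ := hker.exists_lift t₀ (toUnit T) (by
    rw [Groth.L19.AlgGrpBasic.hom_torus_to_proper_eq_one hT.2.2.1 (t₀ ≫ q), Hom.one_def])
  haveI : Mono l := Groth.L08.mono_of_closedImmersion l
  haveI : IsMonHom tL := isMonHom_of_comp_mono tL l t₀ htL
  have hLG : tL ≫ l ≫ j₀ ≫ c = iT := by rw [reassoc_of% htL, reassoc_of% ht₀, htC]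
  have hmaxL : AGF.IsMaxTorus tL := isMaxTorus_factor (iB := l ≫ j₀ ≫ c) (hLG.symm ▸ hT)
  haveI : IsProper (Red.bc θ Q).hom := inferInstanceAs (IsProper (pullback.snd Q.hom θ))
  haveI : IsMonHom ((Over.pullback θ).map q) := Groth.L25.MonoClosed.isMonHom_pullbackMap _ _
  obtain ⟨j₃, hj₃, -⟩ := (Groth.L08.SmallNorm.isKernel_bc θ hker).exists_lift j₂ (toUnit T') (by
    rw [Groth.L19.AlgGrpBasic.hom_torus_to_proper_eq_one hT' (j₂ ≫ (Over.pullback θ).map q), Hom.one_def])
  haveI : Mono ((Over.pullback θ).map l) := Functor.map_mono _ _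
  haveI : IsMonHom ((Over.pullback θ).map l) := Groth.L25.MonoClosed.isMonHom_pullbackMap _ _
  haveI : IsMonHom j₃ := Groth.L25.Bridge.isMonHom_of_mul j₃ fun X a b => by
    rw [← cancel_mono ((Over.pullback θ).map l), Category.assoc, hj₃,
      MonObj.mul_comp (a ≫ j₃) (b ≫ j₃) ((Over.pullback θ).map l), Category.assoc, Category.assoc, hj₃]
    exact MonObj.mul_comp a b j₂
  obtain ⟨w, hw⟩ := exists_fac_bc_central hmaxL (fun X g s => by
    rw [← cancel_mono (l ≫ j₀), MonObj.mul_comp, MonObj.mul_comp, Category.assoc s, reassoc_of% htL, ht₀]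
    exact hcen X (g ≫ l ≫ j₀) s) θ hm' j₃
  have hwj : w ≫ (Over.pullback θ).map iT = j := by
    rw [← hLG, Functor.map_comp, Functor.map_comp, Functor.map_comp, reassoc_of% hw, reassoc_of% hj₃,
      reassoc_of% hj₂, hj₁]
  haveI : Mono ((Over.pullback θ).map iT) := Functor.map_mono _ _
  exact ⟨w, by rw [← cancel_mono ((Over.pullback θ).map iT), Category.assoc, hwj, hf, Category.id_comp],
    by rw [← cancel_mono j, Category.assoc, hf, hwj, Category.id_comp]⟩

end Groth.L08.Borel
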