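import Groth.Agent.L08.Borel.CartanEtale
import Groth.Agent.L08.Borel.CartanTorus

/-!
# Maximal tori fpqc locally give maximal tori etale locally
-/

set_option autoImplicit false
set_option backward.isDefEq.respectTransparency.types false
set_option linter.style.haveILetI false
set_option linter.unusedSectionVars false

universe u

open CategoryTheory CategoryTheory.Limits MonoidalCategory CartesianMonoidalCategory MonObj GrpObj AlgebraicGeometry
open Groth.L25.NilAction

noncomputable section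

namespace Groth.L08.Borel

variable {S : Scheme.{u}}

set_option maxHeartbeats 800000 in
/-- tori land in the neutral component -/
theorem exists_fac_neutral {G G0 : Over S} [GrpObj G] [GrpObj G0] (i : G0 ⟶ G) [IsOpenImmersion i.left]
    (hr : Set.range i.left.base = SGA3x.neutralSet G) {S' : Scheme.{u}} (j : S' ⟶ S) {T : Over S'} [GrpObj T]
    (hT : Red.IsTorus T) (t : T ⟶ Red.bc j G) [IsMonHom t] : ∃ t', t' ≫ (Over.pullback j).map i = t := by
  haveI : Smooth T.hom := smooth_of_isTorus hT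
  let φ : T.left ⟶ G.left := t.left ≫ pullback.fst G.hom j
  have hφ : φ ≫ G.hom = T.hom ≫ j := by
    show (t.left ≫ pullback.fst G.hom j) ≫ G.hom = _
    rw [Category.assoc, pullback.condition, ← Category.assoc]
    exact congrArg (· ≫ j) (Over.w t)
  have hrange : Set.range φ ⊆ Set.range i.left := by
    rintro _ ⟨x, rfl⟩
    show φ x ∈ Set.range i.left.base
    rw [hr]
    let u := T.hom x
    have hconn : _root_.IsConnected (T.hom.base ⁻¹' {u}) := by
      have hu : Red.geomPt u (IsLocalRing.closedPoint _) = u := by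
        show (Spec.map _ ≫ S'.fromSpecResidueField u) _ = u
        rw [Scheme.Hom.comp_apply]
        exact S'.fromSpecResidueField_apply u _
      have h := isConnected_fibre_of_bc (Red.geomPt u) T (IsLocalRing.closedPoint _) ?_
      · rwa [hu] at h
      haveI : IrreducibleSpace ↥(Red.bc (Red.geomPt u) T).left := irrFib_of_isTorus hT _ (Red.geomPt u)
      convert isConnected_univ (α := ↥(Red.bc (Red.geomPt u) T).left) using 1
      exact Set.eq_univ_of_forall fun y => Subsingleton.elim (α := PrimeSpectrum (AlgebraicClosure (S'.residueField u))) _ _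
    have hsub : φ '' (T.hom.base ⁻¹' {u}) ⊆ G.hom.base ⁻¹' {j u} := by
      rintro _ ⟨y, hy, rfl⟩
      have hy : T.hom y = u := hy
      show G.hom (φ y) = j u
      rw [← Scheme.Hom.comp_apply, hφ, Scheme.Hom.comp_apply, hy]
    have hη : φ (η[T].left u) = η[G].left (j u) := by
      have h1 : η[T] ≫ t = (1 : 𝟙_ (Over S') ⟶ Red.bc j G) := by
        rw [IsMonHom.one_hom t, Hom.one_def, toUnit_unique (toUnit _) (𝟙 _), Category.id_comp]
      have h2 := congrArg (toBase j) h1
      rw [toBase_one, Hom.one_def] at h2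
      refine (congrArg (fun m : Over.mk ((𝟙_ (Over S')).hom ≫ j) ⟶ G => m.left u) h2).trans ?_
      show ((toUnit (Over.mk ((𝟙_ (Over S')).hom ≫ j))).left ≫ η[G].left) u = _
      rw [show (toUnit (Over.mk ((𝟙_ (Over S')).hom ≫ j))).left = 𝟙 _ ≫ j from
        (Category.comp_id _).symm.trans (Over.w (toUnit (Over.mk ((𝟙_ (Over S')).hom ≫ j)))), Category.id_comp]
      rfl
    have hmem : φ (η[T].left u) ∈ φ '' (T.hom.base ⁻¹' {u}) := ⟨_, congr(($(Over.w η[T])) u), rfl⟩
    exact Set.mem_iUnion.2 ⟨j u, hη ▸ (hconn.isPreconnected.image _ φ.continuous.continuousOn).subset_connectedComponentIn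
      hmem hsub ⟨x, rfl, rfl⟩⟩
  let l := IsOpenImmersion.lift i.left φ hrange
  have hl : l ≫ i.left = φ := IsOpenImmersion.lift_fac _ _ _
  let l' : Over.mk (T.hom ≫ j) ⟶ G0 := Over.homMk l (by
    show l ≫ G0.hom = T.hom ≫ j
    rw [← Over.w i, ← Category.assoc, hl, hφ])
  refine ⟨ofBase j l', ?_⟩
  rw [ofBase_comp, ← ofBase_toBase j t]
  congr 1
  exact Over.OverMorphism.ext hl

set_option maxHeartbeats 1600000 in
/-- **maximal tori fpqc locally give maximal tori etale locally** -/
theorem maxTorus_etale_of_fpqc {G : Over S} [GrpObj G] [Smooth G.hom] [IsSeparated G.hom] [QuasiCompact G.hom]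
    (hG : SGA3x.HasMaxTorusFpqcLocally G) : SGA3x.HasMaxTorusEtaleLocally G := by
  obtain ⟨-, G0, g0, i, hi, hio, hr, hs, hqc⟩ :=
    Groth.Agent.S4098.result S G ⟨⊤, inferInstance, fun _ => trivial⟩
  haveI := hio; haveI := hi; haveI := hs; haveI := hqc
  haveI : Mono i := Over.mono_of_mono_left i
  haveI : IsSeparated G0.hom := by rw [← Over.w i]; infer_instance
  have hconn : ∀ s : S, _root_.IsConnected (G0.hom.base ⁻¹' {s}) := by
    intro s
    have hη : G.hom (η[G].left s) = s := congr(($(Over.w η[G])) s)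
    have himg : i.left '' (G0.hom.base ⁻¹' {s}) = connectedComponentIn (G.hom.base ⁻¹' {s}) (η[G].left s) := by
      have h1 : G0.hom.base ⁻¹' {s} = i.left ⁻¹' (G.hom.base ⁻¹' {s}) := by
        ext x
        show G0.hom x = s ↔ G.hom (i.left x) = s
        rw [← Scheme.Hom.comp_apply, Over.w i]
      rw [h1, Set.image_preimage_eq_inter_range, hr]
      ext x
      constructor
      · rintro ⟨hx, hn⟩
        obtain ⟨p, hp⟩ := Set.mem_iUnion.1 hn
        obtain rfl : p = s := (connectedComponentIn_subset _ _ hp).symm.trans hx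
        exact hp
      · intro hx
        exact ⟨connectedComponentIn_subset _ _ hx, Set.mem_iUnion.2 ⟨s, hx⟩⟩
    have h : _root_.IsConnected (i.left '' (G0.hom.base ⁻¹' {s})) := by
      rw [himg, isConnected_connectedComponentIn_iff]
      exact hη
    exact ⟨h.nonempty.of_image, (i.left.isOpenEmbedding.isInducing.isPreconnected_image).1 h.isPreconnected⟩
  have hfac : ∀ {S' : Scheme.{u}} (j : S' ⟶ S) {T : Over S'} [GrpObj T] (t : T ⟶ Red.bc j G),
      Red.IsMaximalTorus t → ∃ t' : T ⟶ Red.bc j G0, Red.IsMaximalTorus t' := by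
    intro S' j T _ t ht
    haveI := ht.1; haveI := ht.2.1
    obtain ⟨t', ht'⟩ := exists_fac_neutral i hr j ht.2.2.1 t
    let k := (Over.pullback j).map i
    haveI : IsMonHom k := Groth.L25.MonoClosed.isMonHom_pullbackMap _ _
    haveI : Mono k := Functor.map_mono _ _
    haveI : IsMonHom t' := Groth.L25.Bridge.isMonHom_of_mul t' fun X a b => by
      rw [← cancel_mono k, Category.assoc, ht', MonObj.mul_comp (a ≫ t') (b ≫ t') k, Category.assoc, Category.assoc, ht']
      exact MonObj.mul_comp a b t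
    haveI : Mono (t' ≫ k) := ht'.symm ▸ ht.2.1
    refine ⟨t', inferInstance, mono_of_mono t' k, ht.2.2.1, fun s T₁ _ a _ _ f h₁ hf => ?_⟩
    haveI : IsMonHom ((Over.pullback (Red.geomPt s)).map k) := Groth.L25.MonoClosed.isMonHom_pullbackMap _ _
    haveI : Mono ((Over.pullback (Red.geomPt s)).map k) := Functor.map_mono _ _
    haveI : IsMonHom (a ≫ (Over.pullback (Red.geomPt s)).map k) := inferInstance
    haveI : Mono (a ≫ (Over.pullback (Red.geomPt s)).map k) := mono_comp _ _
    exact ht.2.2.2 s T₁ (a ≫ (Over.pullback (Red.geomPt s)).map k) f h₁ (by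
      rw [reassoc_of% hf, ← Functor.map_comp, ht'])
  obtain ⟨S₁, π, hπf, hπs, hcov, T₁, gT₁, t₁, ht₁⟩ := hG
  haveI := hπf; haveI := hπs
  obtain ⟨t₀, ht₀⟩ := hfac π t₁ ht₁
  haveI := ht₀.1; haveI := ht₀.2.1
  haveI : Smooth (Red.bc π G0).hom := MorphismProperty.pullback_snd G0.hom π ‹_›
  haveI : IsSeparated (Red.bc π G0).hom := MorphismProperty.pullback_snd G0.hom π ‹_›
  obtain ⟨Z, gZ, z, hz, hzi, hzs⟩ := Groth.L25.Locus.exists_smooth_centralizer
    (Groth.L25.Locus.locally_of_multTypeFT (Groth.L25.Locus.isMultTypeFT_of_isTorus ht₀.2.2.1)) t₀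
  haveI := hz.1; haveI := hz.2.1
  have hcart : SGA3x.IsCartan z := by
    exact ⟨inferInstance, inferInstance, hzs, fun u => ⟨Groth.L25.MonoClosed.isMonHom_pullbackMap _ _,
      Functor.map_mono _ _, _, _, (Over.pullback (Red.geomPt u)).map t₀,
      isMaximalTorus_of_isMaxTorus ⟨Groth.L25.MonoClosed.isMonHom_pullbackMap _ _, Functor.map_mono _ _,
        Groth.L25.Locus.isTorus_bc ht₀.2.2.1 _, fun T₂ _ a _ _ f h₁ hf => ht₀.2.2.2 u T₂ a f h₁ hf⟩,
      isCentralizerOf_bc _ hz⟩⟩
  obtain ⟨V, f, hf, hfs, C, gC, c, hc⟩ := exists_cartan_etale_cover hconn π hcov hcart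
  haveI := hf; haveI := hfs
  haveI : Smooth (Red.bc f G0).hom := MorphismProperty.pullback_snd G0.hom f ‹_›
  haveI : IsSeparated (Red.bc f G0).hom := MorphismProperty.pullback_snd G0.hom f ‹_›
  haveI : QuasiCompact (Red.bc f G0).hom := MorphismProperty.pullback_snd G0.hom f ‹_›
  haveI : QuasiCompact (Red.bc π G0).hom := MorphismProperty.pullback_snd G0.hom π ‹_›
  have hG' : SGA3x.HasMaxTorusFpqcLocally (Red.bc f G0) := by
    let σ := pullback.snd f π
    let ρ := pullback.fst f π
    refine ⟨pullback f π, ρ, MorphismProperty.pullback_fst _ _ ‹_›, MorphismProperty.pullback_fst _ _ ‹_›,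
      fun U hU => Groth.L25.MultTypeBC.exists_compact_image π hcov f U hU, ?_⟩
    have hm := isMaximalTorus_bc ht₀ σ
    haveI := hm.1; haveI := hm.2.1
    let a₁ := ActBC.bcCompIso σ π G0 (rfl : σ ≫ π = σ ≫ π)
    let a₂ := ActBC.bcCompIso ρ f G0 (pullback.condition : ρ ≫ f = σ ≫ π)
    let eG := a₁ ≪≫ a₂.symm
    haveI : IsMonHom a₁.hom := inferInstance
    haveI : IsMonHom a₂.inv := inferInstance
    haveI : IsMonHom eG.hom := inferInstanceAs (IsMonHom (a₁.hom ≫ a₂.inv))
    refine ⟨_, _, (Over.pullback σ).map t₀ ≫ eG.hom, inferInstance, mono_comp _ _, hm.2.2.1,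
      fun s T₂ _ a _ _ g h₂ hg => ?_⟩
    haveI : IsMonHom eG.inv := inferInstance
    haveI : IsMonHom ((Over.pullback (Red.geomPt s)).map eG.inv) := Groth.L25.MonoClosed.isMonHom_pullbackMap _ _
    haveI : Mono ((Over.pullback (Red.geomPt s)).map eG.inv) := Functor.map_mono _ _
    exact hm.2.2.2 s T₂ (a ≫ (Over.pullback (Red.geomPt s)).map eG.inv) g h₂ (by
      rw [reassoc_of% hg, ← Functor.map_comp, Category.assoc, Iso.hom_inv_id, Category.comp_id])
  obtain ⟨T, gT, t, ht, -⟩ := exists_maximalTorus_of_cartan hG' hc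
  haveI := ht.1; haveI := ht.2.1
  let k := (Over.pullback f).map i
  haveI : IsMonHom k := Groth.L25.MonoClosed.isMonHom_pullbackMap _ _
  haveI : Mono k := Functor.map_mono _ _
  refine ⟨V, f, hf, hfs, T, gT, t ≫ k, inferInstance, mono_comp _ _, ht.2.2.1, fun v T₂ _ a _ _ g h₂ hg => ?_⟩
  let q := Red.geomPt v ≫ f
  let eG := ActBC.bcCompIso (Red.geomPt v) f G (rfl : Red.geomPt v ≫ f = q)
  let e0 := ActBC.bcCompIso (Red.geomPt v) f G0 (rfl : Red.geomPt v ≫ f = q)
  haveI : IsMonHom eG.hom := inferInstance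
  haveI : IsMonHom e0.inv := inferInstance
  haveI : IsMonHom (a ≫ eG.hom) := inferInstance
  obtain ⟨a', ha'⟩ := exists_fac_neutral i hr q h₂ (a ≫ eG.hom)
  have hn : (Over.pullback (Red.geomPt v)).map k ≫ eG.hom = e0.hom ≫ (Over.pullback q).map i :=
    ActBC.bcCompIso_hom_naturality (Red.geomPt v) f rfl i
  let K := (Over.pullback (Red.geomPt v)).map k
  haveI : IsMonHom K := Groth.L25.MonoClosed.isMonHom_pullbackMap _ _
  haveI : Mono K := Functor.map_mono _ _
  have ha : (a' ≫ e0.inv) ≫ K = a := by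
    refine (cancel_mono eG.hom).1 ?_
    refine ((Category.assoc _ _ _).trans (congrArg ((a' ≫ e0.inv) ≫ ·) hn)).trans ?_
    exact ((Category.assoc _ _ _).trans (congrArg (a' ≫ ·) (Iso.inv_hom_id_assoc e0 _))).trans ha'
  obtain ⟨b, hb⟩ : ∃ b, b ≫ K = a := ⟨_, ha⟩
  haveI : IsMonHom b := Groth.L25.Bridge.isMonHom_of_mul b fun X x y => by
    rw [← cancel_mono K, Category.assoc, hb, MonObj.mul_comp (x ≫ b) (y ≫ b) K, Category.assoc, Category.assoc, hb]
    exact MonObj.mul_comp x y a
  haveI : Mono (b ≫ K) := hb.symm ▸ ‹Mono a›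
  haveI : Mono b := mono_of_mono b K
  refine ht.2.2.2 v T₂ b g h₂ ?_
  rw [← cancel_mono K, Category.assoc, hb, hg]
  exact Functor.map_comp _ _ _

end Groth.L08.Borel
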