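import Groth.Agent.L08.Borel.GenCartan
import Groth.Agent.L08.Borel.Cover
import Groth.Agent.L08.Borel.Nilp
import Groth.Agent.L08.Flag
import Groth.Agent.L25.LargestMult.Scheme
import Groth.Agent.L25.MultSub.Main
import Groth.Agent.L08.Centre.Basic

/-!
# Central subgroups of multiplicative type lie in maximal tori
-/

set_option autoImplicit false
set_option backward.isDefEq.respectTransparency.types false
set_option linter.style.haveILetI false
set_option linter.unusedSectionVars false

universe u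

open CategoryTheory CategoryTheory.Limits MonoidalCategory CartesianMonoidalCategory MonObj GrpObj AlgebraicGeometry
open TensorProduct WithConv
open Groth.L25.Bridge (P)
open Groth.L08.TorusQuot (sp sp_left sp_comp toPt SP)
open Groth.L25.LargestMult (N val val_comp val_specMap eq_toSpecΓ_comp tot val_eq_counit mem_N_succ)

noncomputable section

namespace Groth.L08.Borel

variable {k : Type u} [Field k]

local notation "U1" => 𝟙_ (Over (Spec (CommRingCat.of k)))

/-- the unipotent filtration of a unipotent Hopf algebra exhausts it -/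
theorem exists_mem_N {A : Type u} [CommRing A] [HopfAlgebra k A] (hU : HopfRep.IsUnipotent k A) (a : A) :
    ∃ n, a ∈ N k A n := by
  obtain ⟨m, F, h0, ha, hs⟩ := Groth.L08.hasFlag_of_isUnipotent hU a
  have h : ∀ i, F i ≤ N k A i := by
    intro i
    induction i with
    | zero => rw [h0]; exact bot_le
    | succ i ih =>
      intro x hx
      obtain ⟨g, rfl, hst⟩ := hs i
      exact mem_N_succ.2 fun φ => ih (hst x hx φ)
  exact ⟨m, h m ha⟩

/-- coordinates of a composite -/
theorem val_comp_sp {A B : Type u} [CommRing A] [HopfAlgebra k A] [CommRing B] [HopfAlgebra k B]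
    {H : Over (Spec (CommRingCat.of k))} (z : H ⟶ P k A) (ψ : B →ₐc[k] A) (b : B) :
    val (z ≫ sp ψ).left b = val z.left (ψ b) :=
  ((congrArg (fun m => val m b) (congrArg (z.left ≫ ·) (sp_left ψ))).trans
    ((val_comp z.left (Spec.map (CommRingCat.ofHom (ψ : B →+* A))) b).trans
      (congrArg z.left.appTop (val_specMap (ψ : B →+* A) b))))

/-- the unit on coordinates -/
theorem val_one {B : Type u} [CommRing B] [HopfAlgebra k B] {H : Over (Spec (CommRingCat.of k))} (b : B)
    (hb : Coalgebra.counit (R := k) b = 0) : val ((1 : H ⟶ P k B).left) b = 0 := by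
  let toK : H ⟶ SP k k := Over.homMk H.hom (by
    show H.hom ≫ Spec.map (CommRingCat.ofHom (algebraMap k k)) = H.hom
    rw [Algebra.algebraMap_self]
    exact (congrArg (H.hom ≫ ·) (Spec.map_id _)).trans (Category.comp_id _))
  have e : (1 : H ⟶ P k B) = toK ≫ toPt (1 : WithConv (B →ₐ[k] k)) := by
    rw [show toPt (1 : WithConv (B →ₐ[k] k)) = 1 from map_one Spec.mapMulEquiv, MonObj.comp_one]
  refine (congrArg (fun m : H ⟶ P k B => val m.left b) e).trans ((val_comp toK.left _ b).trans ?_)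
  show toK.left.appTop (val (Spec.map (CommRingCat.ofHom ((1 : WithConv (B →ₐ[k] k)).ofConv : B →+* k))) b) = 0
  rw [val_specMap]
  have : ((1 : WithConv (B →ₐ[k] k)).ofConv : B →+* k) b = 0 := by
    show (1 : WithConv (B →ₐ[k] k)).ofConv b = 0
    rw [AlgHom.convOne_def]
    simpa using hb
  rw [this, map_zero]
  exact map_zero _

/-- a homomorphism from a group of multiplicative type to a unipotent group is trivial on coordinates -/
theorem val_eq_zero_of_isUnipotent {A : Type u} [CommRing A] [HopfAlgebra k A] (hU : HopfRep.IsUnipotent k A)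
    {H : Over (Spec (CommRingCat.of k))} [GrpObj H] (hH : SGA3x.IsMultTypeFT H) (h : H ⟶ P k A) [IsMonHom h]
    (a : A) (ha : Coalgebra.counit (R := k) a = 0) : val h.left a = 0 := by
  obtain ⟨n, hn⟩ := exists_mem_N hU a
  let v : H ⟶ Red.bc (𝟙 (Spec (CommRingCat.of k))) (P k A) :=
    Groth.L25.NilAction.ofBase (𝟙 _) (Over.homMk h.left (by
      show h.left ≫ (P k A).hom = H.hom ≫ 𝟙 _
      rw [Over.w h, Category.comp_id]))
  have htb : ∀ {X : Over (Spec (CommRingCat.of k))} (x : X ⟶ H),
      (Groth.L25.NilAction.toBase (𝟙 _) (x ≫ v)).left = (x ≫ h).left := fun x => by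
    show (x.left ≫ v.left) ≫ pullback.fst _ _ = x.left ≫ h.left
    rw [Category.assoc]
    exact congrArg (x.left ≫ ·) (congrArg (fun m => m.left) (Groth.L25.NilAction.toBase_ofBase (j := 𝟙 _)
      (Over.homMk h.left (by show h.left ≫ (P k A).hom = H.hom ≫ 𝟙 _; rw [Over.w h, Category.comp_id]))))
  haveI : IsMonHom v := Groth.L25.Bridge.isMonHom_of_mul v fun X a b => by
    apply Groth.L25.CentralLift.toBase_injective
    let j : Over.mk (X.hom ≫ 𝟙 _) ⟶ X := Over.homMk (𝟙 _) (by
      show 𝟙 _ ≫ X.hom = X.hom ≫ 𝟙 _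
      simp)
    have e : ∀ x : X ⟶ H, Groth.L25.NilAction.toBase (𝟙 _) (x ≫ v) = j ≫ x ≫ h := fun x =>
      Over.OverMorphism.ext (by rw [htb]; exact (Category.id_comp _).symm)
    rw [Groth.L25.NilAction.toBase_mul, e, e, e, MonObj.mul_comp, MonObj.comp_mul]
  have key := val_eq_counit (f := 𝟙 _) (Z := P k A) (𝟙 (P k A)) v hH n a hn
  rw [ha, map_zero, map_zero] at key
  have ht : tot (𝟙 (P k A)) v = h.left := by
    have := htb (𝟙 H)
    rw [Category.id_comp, Category.id_comp] at this
    rw [show tot (𝟙 (P k A)) v = (Groth.L25.NilAction.toBase (𝟙 _) v).left ≫ (𝟙 (P k A) : P k A ⟶ P k A).left from rfl,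
      Over.id_left, Category.comp_id]
    exact this
  rwa [ht] at key

variable [IsAlgClosed k]

/-- **In a connected solvable group, central subgroups of multiplicative type lie in every central maximal
torus.** -/
theorem mult_le_maxTorus_solvable {G T H : Over (Spec (CommRingCat.of k))} [GrpObj G] [GrpObj T] [GrpObj H]
    [IsAffine G.left] [Smooth G.hom] [ConnectedSpace G.left] (hsol : Red.IsSolvableGrp G) {iT : T ⟶ G}
    (hT : AGF.IsMaxTorus iT)
    (hTc : ∀ (X : Over (Spec (CommRingCat.of k))) (g : X ⟶ G) (s : X ⟶ T), g * (s ≫ iT) = (s ≫ iT) * g)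
    (hH : SGA3x.IsMultTypeFT H) (v : H ⟶ G) [IsMonHom v]
    (hvc : ∀ (X : Over (Spec (CommRingCat.of k))) (g : X ⟶ G) (s : X ⟶ H), g * (s ≫ v) = (s ≫ v) * g) :
    ∃ w : H ⟶ T, w ≫ iT = v := by
  haveI := hT.1; haveI := hT.2.1
  obtain ⟨A, _, _, hft, hred, hconn, hsolv, ⟨eG⟩⟩ := exists_hopf_data hsol
  obtain ⟨B, _, _, ψ, J, hJI, r, n, hψ, hB, hJ, hU, hr, ⟨eB⟩⟩ := exists_retraction (k := k) hconn
  have hrs : Function.Surjective r := fun b => ⟨ψ b, congrArg (fun f : B →ₐc[k] B => f b) hr⟩
  let φ : P k A ⟶ G := eG.inv.hom.hom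
  let ψG : G ⟶ P k A := eG.hom.hom.hom
  have h1 : φ ≫ ψG = 𝟙 _ := congrArg (fun f => f.hom.hom) eG.inv_hom_id
  have h2 : ψG ≫ φ = 𝟙 G := congrArg (fun f => f.hom.hom) eG.hom_inv_id
  haveI : IsMonHom φ := eG.inv.hom.isMonHom_hom
  haveI : IsMonHom ψG := eG.hom.hom.isMonHom_hom
  haveI : IsIso φ := ⟨ψG, h1, h2⟩
  haveI : IsIso ψG := ⟨φ, h2, h1⟩
  haveI : IsClosedImmersion (Spec.map (CommRingCat.ofHom (r : A →+* B))) :=
    IsClosedImmersion.spec_of_surjective _ hrs
  haveI : IsClosedImmersion (sp r).left := ‹IsClosedImmersion (Spec.map (CommRingCat.ofHom (r : A →+* B)))›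
  haveI : Mono (sp r) := Over.mono_of_mono_left _
  haveI : Mono (sp r ≫ φ) := mono_comp _ _
  have hrψ : sp r ≫ sp ψ = 𝟙 (P k B) := by
    rw [sp_comp, hr]
    exact Over.OverMorphism.ext (by rw [sp_left]; exact Spec.map_id _)
  let q : G ⟶ P k B := ψG ≫ sp ψ
  let i₀ : P k B ⟶ G := sp r ≫ φ
  haveI : IsMonHom q := inferInstanceAs (IsMonHom (ψG ≫ sp ψ))
  haveI : IsMonHom i₀ := inferInstanceAs (IsMonHom (sp r ≫ φ))
  -- everything central of multiplicative type factors through the section
  have main : ∀ (H' : Over (Spec (CommRingCat.of k))) [GrpObj H'], SGA3x.IsMultTypeFT H' → ∀ (w : H' ⟶ G) [IsMonHom w],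
      (∀ (X : Over (Spec (CommRingCat.of k))) (g : X ⟶ G) (s : X ⟶ H'), g * (s ≫ w) = (s ≫ w) * g) →
      w = (w ≫ q) ≫ i₀ := by
    intro H' _ hH' w _ hwc
    let t : H' ⟶ G := (w ≫ q) ≫ i₀
    haveI : IsMonHom t := inferInstanceAs (IsMonHom ((w ≫ q) ≫ i₀))
    let u : H' ⟶ G := w * t⁻¹
    haveI hu : IsMonHom u := Groth.L25.Bridge.isMonHom_of_mul u fun X a b => by
      simp only [u, MonObj.comp_mul, GrpObj.comp_inv, MonObj.mul_comp, _root_.mul_inv_rev]
      have := hwc X ((a ≫ t)⁻¹ : X ⟶ G) b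
      have hab : ∀ x y : X ⟶ H', (y ≫ t)⁻¹ * (x ≫ t)⁻¹ = (x ≫ t)⁻¹ * (y ≫ t)⁻¹ := by
        intro x y
        rw [← _root_.mul_inv_rev, ← _root_.mul_inv_rev, ← MonObj.mul_comp, ← MonObj.mul_comp]
        have hc := hwc X (x ≫ w) y
        rw [← MonObj.mul_comp, ← MonObj.mul_comp] at hc
        simp only [t, ← Category.assoc]
        rw [hc]
      rw [hab a b]
      simp only [← _root_.mul_assoc]
      rw [_root_.mul_assoc (a ≫ w) (a ≫ t)⁻¹ (b ≫ w), this, ← _root_.mul_assoc]
    have hq : u ≫ q = 1 := by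
      simp only [u, t, MonObj.mul_comp, GrpObj.inv_comp, Category.assoc, i₀, q, reassoc_of% h1]
      rw [hrψ, Category.comp_id, mul_inv_cancel]
    let z : H' ⟶ P k A := u ≫ ψG
    haveI : IsMonHom z := inferInstanceAs (IsMonHom (u ≫ ψG))
    have hker : ∀ b : B, Coalgebra.counit (R := k) b = 0 → val z.left (ψ b) = 0 := by
      intro b hb
      have e : (z ≫ sp ψ) = 1 := by simp only [z, Category.assoc]; exact hq
      have e2 := congrArg (fun m : H' ⟶ P k B => val m.left b) e
      rw [val_one b hb] at e2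
      exact (val_comp_sp z ψ b).symm.trans e2
    have hJ0 : J ≤ RingHom.ker (val z.left) := by
      rw [hJ, Ideal.map_le_iff_le_comap]
      intro b hb
      exact hker b hb
    letI := hJI
    let π : A →ₐc[k] A ⧸ J := Bialgebra.Quotient.mkBialgHom J
    let z₁ : H'.left ⟶ Spec (CommRingCat.of (A ⧸ J)) :=
      H'.left.toSpecΓ ≫ Spec.map (CommRingCat.ofHom (Ideal.Quotient.lift J (val z.left) fun a ha => hJ0 ha))
    have hz₁ : z₁ ≫ (sp π).left = z.left := by
      rw [sp_left]
      show (H'.left.toSpecΓ ≫ Spec.map _) ≫ Spec.map (CommRingCat.ofHom (Ideal.Quotient.mk J)) = z.left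
      rw [Category.assoc, ← Spec.map_comp, ← CommRingCat.ofHom_comp, Ideal.Quotient.lift_comp_mk]
      exact (eq_toSpecΓ_comp z.left).symm
    let z₀ : H' ⟶ P k (A ⧸ J) := Over.homMk z₁ (by
      exact (congrArg (z₁ ≫ ·) (Over.w (sp π)).symm).trans
        (((Category.assoc _ _ _).symm.trans (congrArg (· ≫ (P k A).hom) hz₁)).trans (Over.w z)))
    have hz₀ : z₀ ≫ sp π = z := Over.OverMorphism.ext hz₁
    haveI : IsClosedImmersion (sp π).left := by
      rw [sp_left]; exact IsClosedImmersion.spec_of_surjective _ Ideal.Quotient.mk_surjective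
    haveI : Mono (sp π) := Over.mono_of_mono_left _
    haveI : IsMonHom z₀ := isMonHom_of_comp_mono z₀ (sp π) z hz₀
    have hv0 : ∀ a : A, Coalgebra.counit (R := k) a = 0 → val z.left a = 0 := by
      intro a ha
      rw [← hz₀]
      exact (val_comp_sp z₀ π a).trans (val_eq_zero_of_isUnipotent hU hH' z₀ (π a) (by
        rw [← ha]; exact CoalgHomClass.counit_comp_apply π a))
    have hz : z = 1 := by
      refine Over.OverMorphism.ext ?_
      rw [eq_toSpecΓ_comp z.left, eq_toSpecΓ_comp (1 : H' ⟶ P k A).left]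
      congr 3
      ext a
      have key : ∀ (y : H' ⟶ P k A), (∀ b : A, Coalgebra.counit (R := k) b = 0 → val y.left b = 0) →
          val y.left a = H'.hom.appTop ((Scheme.ΓSpecIso _).inv (Coalgebra.counit (R := k) a)) := by
        intro y hy
        have h0 := hy (a - algebraMap k A (Coalgebra.counit (R := k) a)) (by simp)
        rw [map_sub, sub_eq_zero] at h0
        rw [h0, ← Over.w y, Scheme.Hom.comp_appTop]
        show _ = y.left.appTop ((Spec.map (CommRingCat.ofHom (algebraMap k A))).appTop _)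
        exact congrArg y.left.appTop (ConcreteCategory.congr_hom
          (Scheme.ΓSpecIso_inv_naturality (CommRingCat.ofHom (algebraMap k A))) (Coalgebra.counit (R := k) a))
      rw [key z hv0, key 1 fun b hb => val_one b hb]
    have hu1 : u = 1 := by
      rw [← cancel_mono ψG, show u ≫ ψG = z from rfl, hz, MonObj.one_comp]
    exact mul_inv_eq_one.1 hu1
  -- the maximal torus is the section
  obtain ⟨a1, -, -, -, -⟩ := torus_props hT.2.2.1
  have eT := main T (Groth.L25.Locus.isMultTypeFT_of_isTorus hT.2.2.1) iT hTc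
  haveI : IsIso (iT ≫ q) := hT.2.2.2 (P k B) i₀ (iT ≫ q) (isTorus_of_laurent eB) eT.symm
  refine ⟨(v ≫ q) ≫ inv (iT ≫ q), ?_⟩
  have ev := main H hH v hvc
  conv_rhs => rw [ev]
  simp only [Category.assoc]
  congr 2
  rw [IsIso.inv_comp_eq, Category.assoc]
  exact eT

end Groth.L08.Borel
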