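import Groth.Agent.L08.Borel.CentralMax
import Groth.Agent.L08.Borel.GenNilp
import Groth.Agent.L08.Borel.Geom

/-!
# Tori of groups with connected nilpotent geometric fibres are central
-/

set_option autoImplicit false
set_option backward.isDefEq.respectTransparency.types false
set_option linter.style.haveILetI false
universe u

open CategoryTheory CategoryTheory.Limits MonoidalCategory CartesianMonoidalCategory MonObj AlgebraicGeometry

noncomputable section

namespace Groth.L08.Borel

/-- a central maximal torus makes all tori central -/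
theorem central_of_central_maxTorus {k : Type u} [Field k] [IsAlgClosed k]
    {G T R : Over (Spec (CommRingCat.of k))} [GrpObj G] [GrpObj T] [GrpObj R] [Smooth G.hom] [QuasiCompact G.hom]
    [ConnectedSpace G.left] {iT : T ⟶ G} (hT : AGF.IsMaxTorus iT)
    (hc : ∀ (X : Over (Spec (CommRingCat.of k))) (g : X ⟶ G) (t : X ⟶ T), g * (t ≫ iT) = (t ≫ iT) * g)
    (j : R ⟶ G) [IsMonHom j] [Mono j] (hR : Red.IsTorus R) (X : Over (Spec (CommRingCat.of k))) (g : X ⟶ G)
    (r : X ⟶ R) : g * (r ≫ j) = (r ≫ j) * g := by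
  obtain ⟨a, f, hf⟩ := maxTorus_absorbing_gen hT R j hR
  have h : AGF.conjBy a j = j := by
    have h1 := hc R (toUnit R ≫ a) f
    rw [hf] at h1
    simp only [AGF.conjBy] at h1 ⊢
    have e : ∀ x y : R ⟶ G, x * (x * y * x⁻¹) = (x * y * x⁻¹) * x → x * y * x⁻¹ = y := fun x y h2 => by
      rw [inv_mul_cancel_right, show x * (x * y * x⁻¹) = x * (x * y * x⁻¹) from rfl] at h2
      exact mul_left_cancel h2
    exact e _ _ h1
  rw [h] at hf
  rw [← hf, ← Category.assoc]
  exact hc X g (r ≫ f)

/-- connected nilpotent geometric fibres force central tori after any base change -/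
theorem fibCentral_of_nilpotent {S P : Scheme.{u}} (G : Over S) [GrpObj G] [Smooth G.hom] [QuasiCompact G.hom]
    (hconn : ∀ s : S, ConnectedSpace ↥(Red.geomFibre s G).left)
    (hnil : ∀ s : S, Group.IsNilpotent
      (𝟙_ (Over (Spec (CommRingCat.of (AlgebraicClosure (S.residueField s))))) ⟶ Red.geomFibre s G))
    (q : P ⟶ S) : FibCentral (Red.bc q G) := by
  intro p R _ j _ _ hR X g r
  obtain ⟨θ, hθ⟩ := exists_geomPt_map q p
  haveI : Smooth (Red.geomFibre (q p) G).hom := inferInstanceAs (Smooth (pullback.snd G.hom (Red.geomPt (q p))))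
  haveI : QuasiCompact (Red.geomFibre (q p) G).hom :=
    inferInstanceAs (QuasiCompact (pullback.snd G.hom (Red.geomPt (q p))))
  haveI := hconn (q p)
  obtain ⟨T, gT, i, hi⟩ := exists_maxTorus_gen (Red.geomFibre (q p) G)
  haveI := hi.1; haveI := hi.2.1
  have hc : ∀ (Y : Over (Spec (CommRingCat.of (AlgebraicClosure (P.residueField p))))) (x : Y ⟶ Red.bc θ (Red.geomFibre (q p) G))
      (t : Y ⟶ Red.bc θ T), x * (t ≫ (Over.pullback θ).map i) = (t ≫ (Over.pullback θ).map i) * x := fun Y x t => by
    apply Groth.L25.CentralLift.toBase_injective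
    rw [Groth.L25.NilAction.toBase_mul, Groth.L25.NilAction.toBase_mul, Groth.L25.SplitSub.toBase_map]
    exact (central_of_nilpotent (hnil (q p)) T i hi.2.2.1 _ _ _).symm
  haveI : Smooth (Red.bc θ (Red.geomFibre (q p) G)).hom := smooth_bc θ _
  haveI : QuasiCompact (Red.bc θ (Red.geomFibre (q p) G)).hom :=
    inferInstanceAs (QuasiCompact (pullback.snd (Red.geomFibre (q p) G).hom θ))
  haveI : ConnectedSpace (Red.bc θ (Red.geomFibre (q p) G)).left := connectedSpace_bc' θ _
  let φ := fibreIso q θ hθ G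
  haveI : IsMonHom φ.hom := (isMonHom_fibreIso q θ hθ G).1
  haveI : IsMonHom (j ≫ φ.hom) := inferInstance
  haveI : Mono (j ≫ φ.hom) := mono_comp _ _
  have key := central_of_central_maxTorus (isMaxTorus_bc_field hi θ) hc (j ≫ φ.hom) hR X (g ≫ φ.hom) r
  rw [← Category.assoc, ← MonObj.mul_comp, ← MonObj.mul_comp, cancel_mono] at key
  exact key

end Groth.L08.Borel
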