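import Groth.Agent.L08.Borel.DynNorm
import Groth.Agent.L08.Borel.OverField
import Groth.Agent.L08.Borel.Descend
import Groth.Agent.L08.Chev.Comp

/-!
# Parabolic subgroups are connected and self-normalizing
-/

set_option autoImplicit false
set_option backward.isDefEq.respectTransparency.types false
set_option linter.style.haveILetI false
set_option linter.unusedSectionVars false

universe u

open CategoryTheory CategoryTheory.Limits MonoidalCategory CartesianMonoidalCategory MonObj GrpObj AlgebraicGeometry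
open Groth.L25.NilAction

noncomputable section

namespace Groth.L08.Borel

variable {k : Type u} [Field k]

local notation "U1" => 𝟙_ (Over (Spec (CommRingCat.of k)))

/-- the unit point is preserved -/
theorem hom_one {H H' : Over (Spec (CommRingCat.of k))} [GrpObj H] [GrpObj H'] (f : H ⟶ H') (hf : η[H] ≫ f = η[H']) :
    f.left (Groth.L25.Component.one H) = Groth.L25.Component.one H' := by
  show ((η[H] : U1 ⟶ H) ≫ f).left _ = _
  rw [hf]
  rfl

/-- a point conjugating a parabolic subgroup into itself lies in it -/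
theorem mem_parabolic_of_normalizes {G P : Over (Spec (CommRingCat.of k))} [GrpObj G] [GrpObj P] [IsAffine G.left]
    [Smooth G.hom] [ConnectedSpace G.left] {iP : P ⟶ G} (hP : Red.IsParabolic iP)
    (X : Over (Spec (CommRingCat.of k))) (g : X ⟶ G)
    (hg : ∀ (X' : Over (Spec (CommRingCat.of k))) (x : X' ⟶ X) (h : X' ⟶ P),
      ∃ h' : X' ⟶ P, (x ≫ g)⁻¹ * (h ≫ iP) * (x ≫ g) = h' ≫ iP) :
    ∃ z : X ⟶ P, z ≫ iP = g := by
  let j := Red.geomPt (pt0 k)
  haveI : IsAffine (Red.bc j G).left := isAffine_bc j G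
  haveI : Smooth (Red.bc j G).hom := smooth_bc j G
  haveI : ConnectedSpace (Red.bc j G).left := connectedSpace_bc' j G
  haveI := hP.1; haveI := hP.2.1
  haveI : Mono iP := Groth.L08.mono_of_closedImmersion iP
  obtain ⟨h1, h2, h3, B, gB, b, hB⟩ := hP.2.2.2 (pt0 k)
  haveI := h1; haveI := h2
  obtain ⟨z, hz⟩ := mem_of_conj_borel ((Over.pullback j).map iP) hB b rfl (Red.bc j X) ((Over.pullback j).map g)
    fun X' x h => by
      obtain ⟨h', e⟩ := hg _ (toBase j x) (toBase j (h ≫ b))
      refine ⟨ofBase j h', toBase_injective j _ _ ?_⟩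
      rw [ofBase_comp, toBase_ofBase, toBase_mul, toBase_mul, toBase_inv, toBase_map', ← Category.assoc h b,
        toBase_map']
      exact e
  exact factor_of_bc g iP j z hz

/-- parabolic subgroups are their own normalizers -/
theorem parabolic_isNormalizerOf {G P : Over (Spec (CommRingCat.of k))} [GrpObj G] [GrpObj P] [IsAffine G.left]
    [Smooth G.hom] [ConnectedSpace G.left] {iP : P ⟶ G} (hP : Red.IsParabolic iP) : Red.IsNormalizerOf iP iP := by
  haveI := hP.1; haveI := hP.2.1
  refine ⟨inferInstance, Groth.L08.mono_of_closedImmersion iP, fun X g => ⟨?_, fun h => ?_⟩⟩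
  · rintro ⟨z, rfl⟩ X' x h
    refine ⟨⟨(x ≫ z) * h * (x ≫ z)⁻¹, ?_⟩, ⟨(x ≫ z)⁻¹ * h * (x ≫ z), ?_⟩⟩ <;>
      simp only [MonObj.mul_comp, GrpObj.inv_comp, Category.assoc]
  · exact mem_parabolic_of_normalizes hP X g fun X' x y => (h X' x y).2

variable [IsAlgClosed k]

/-- parabolic subgroups are connected -/
theorem connectedSpace_parabolicOver {G P : Over (Spec (CommRingCat.of k))} [GrpObj G] [GrpObj P] [IsAffine G.left]
    [Smooth G.hom] [ConnectedSpace G.left] {iP : P ⟶ G} (hP : Red.IsParabolicOver k iP) : ConnectedSpace P.left := by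
  obtain ⟨h1, h2, h3, B, gB, b, hB⟩ := hP
  haveI := h1; haveI := h2; haveI := h3
  haveI : LocallyOfFiniteType P.hom := inferInstance
  haveI : Mono iP := Groth.L08.mono_of_closedImmersion iP
  obtain ⟨N, gN, j, hj⟩ := Groth.L08.Chev.exists_idComp P
  haveI := hj.hom; haveI := hj.closedImm; haveI := hj.connectedSpace; haveI := hB.1; haveI := hB.2.2.2.1
  haveI : IsClosedImmersion (j ≫ iP).left := inferInstanceAs (IsClosedImmersion (j.left ≫ iP.left))
  haveI : IsMonHom b := isMonHom_of_comp_mono b iP (b ≫ iP) rfl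
  obtain ⟨bN, hbN⟩ := hj.exists_lift b (hom_one b (IsMonHom.one_hom b))
  suffices hall : ∀ p : U1 ⟶ P, ∃ z : U1 ⟶ N, z ≫ j = p by
    haveI : JacobsonSpace P.left := LocallyOfFiniteType.jacobsonSpace P.hom
    have hr : Set.range j.left = Set.univ := by
      by_contra hne
      obtain ⟨p, hp⟩ := exists_pt_mem (X := P) (O := (Set.range j.left)ᶜ)
        (j.left.isClosedEmbedding.isClosed_range.isOpen_compl).isLocallyClosed (Set.nonempty_compl.2 hne)
      obtain ⟨z, rfl⟩ := hall p
      exact hp ⟨ptOf z, rfl⟩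
    exact (Set.range_eq_univ.1 hr).connectedSpace j.left.continuous
  intro p
  obtain ⟨φ, hφ⟩ := hj.exists_lift (AGF.conjBy p⁻¹ j) (hom_one _ (by
    rw [comp_conjBy, IsMonHom.one_hom j, AGF.conjBy, toUnit_unique (toUnit U1) (𝟙 _), Category.id_comp,
      MonObj.one_eq_one, _root_.mul_one, mul_inv_cancel]))
  obtain ⟨z, hz⟩ := mem_of_conj_borel (j ≫ iP) hB bN (by rw [reassoc_of% hbN]) U1 (p ≫ iP) fun X' x h => by
    refine ⟨h ≫ bN ≫ φ, ?_⟩
    have e1 : φ ≫ j ≫ iP = AGF.conjBy p⁻¹ j ≫ iP := by rw [← hφ, Category.assoc]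
    simp only [Category.assoc]
    rw [e1, conjBy_comp, comp_conjBy, comp_conjBy, reassoc_of% hbN, AGF.conjBy, toUnit_unique x (toUnit X'),
      GrpObj.inv_comp, GrpObj.comp_inv, _root_.inv_inv]
  exact ⟨z, (cancel_mono iP).1 (by rw [Category.assoc, hz])⟩

end Groth.L08.Borel
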