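import Groth.Agent.L08.Borel.CentBorel
import Groth.Agent.L08.Borel.CartanTorus
import Groth.Agent.L02.SchDom.MonoApps
import Groth.Agent.L08.FlatHom

/-!
# A smooth subgroup containing Cartan subgroups is open in its normalizer
-/

set_option autoImplicit false
set_option backward.isDefEq.respectTransparency.types false
set_option linter.style.haveILetI false
set_option linter.unusedSectionVars false

universe u

open CategoryTheory CategoryTheory.Limits MonoidalCategory CartesianMonoidalCategory MonObj GrpObj AlgebraicGeometry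
open Groth.L25.NilAction

noncomputable section

namespace Groth.L08.Borel

/-- normalizers commute with base change -/
theorem isNormalizerOf_bc {S P : Scheme.{u}} (j : P ⟶ S) {G H N : Over S} [GrpObj G] [GrpObj H] [GrpObj N]
    {i : H ⟶ G} {n : N ⟶ G} (hn : Red.IsNormalizerOf i n) :
    Red.IsNormalizerOf ((Over.pullback j).map i) ((Over.pullback j).map n) := by
  haveI := hn.1; haveI := hn.2.1
  refine ⟨Groth.L25.MonoClosed.isMonHom_pullbackMap _ _, inferInstance, fun Y g => ⟨?_, fun hg => ?_⟩⟩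
  · rintro ⟨z, rfl⟩ X' x h
    obtain ⟨⟨h₁, e₁⟩, h₂, e₂⟩ := (hn.2.2 _ (toBase j z ≫ n)).1 ⟨toBase j z, rfl⟩ _ ((Over.map j).map x) (toBase j h)
    refine ⟨⟨ofBase j h₁, toBase_injective j _ _ ?_⟩, ofBase j h₂, toBase_injective j _ _ ?_⟩
    · rw [toBase_mul, toBase_mul, toBase_inv, toBase_comp j x, toBase_map', toBase_map', toBase_map', toBase_ofBase]
      exact e₁
    · rw [toBase_mul, toBase_mul, toBase_inv, toBase_comp j x, toBase_map', toBase_map', toBase_map', toBase_ofBase]
      exact e₂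
  · obtain ⟨z, hz⟩ := (hn.2.2 _ (toBase j g)).2 fun X' x h => by
      have hxw : x.left ≫ Y.hom ≫ j = X'.hom := Over.w x
      let Z : Over P := Over.mk (x.left ≫ Y.hom)
      let e : X' ⟶ Over.mk (Z.hom ≫ j) := Over.homMk (𝟙 X'.left) (by
        show 𝟙 _ ≫ (x.left ≫ Y.hom) ≫ j = X'.hom
        rw [Category.id_comp, Category.assoc, hxw])
      let e' : Over.mk (Z.hom ≫ j) ⟶ X' := Over.homMk (𝟙 X'.left) (by
        show 𝟙 _ ≫ X'.hom = (x.left ≫ Y.hom) ≫ j
        rw [Category.id_comp, Category.assoc, hxw])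
      let y : Z ⟶ Y := Over.homMk x.left rfl
      have hee : e ≫ e' = 𝟙 X' := Over.OverMorphism.ext (Category.id_comp _)
      have hx : (Over.map j).map y = e' ≫ x := Over.OverMorphism.ext (Category.id_comp _).symm
      obtain ⟨⟨h₁, e₁⟩, h₂, e₂⟩ := hg Z y (ofBase j (e' ≫ h))
      refine ⟨⟨e ≫ toBase j h₁, ?_⟩, e ≫ toBase j h₂, ?_⟩
      · have hh := congrArg (fun m => e ≫ toBase j m) e₁
        rw [toBase_mul, toBase_mul, toBase_inv, toBase_comp j y, toBase_map', toBase_ofBase, hx, toBase_map'] at hh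
        simp only [MonObj.comp_mul, GrpObj.comp_inv, Category.assoc, reassoc_of% hee] at hh
        rw [hh, Category.assoc]
      · have hh := congrArg (fun m => e ≫ toBase j m) e₂
        rw [toBase_mul, toBase_mul, toBase_inv, toBase_comp j y, toBase_map', toBase_ofBase, hx, toBase_map'] at hh
        simp only [MonObj.comp_mul, GrpObj.comp_inv, Category.assoc, reassoc_of% hee] at hh
        rw [hh, Category.assoc]
    exact ⟨ofBase j z, by rw [ofBase_comp, hz, ofBase_toBase]⟩

set_option maxHeartbeats 1000000 in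
open Groth.L25 in
/-- over an algebraically closed field, a smooth subgroup containing a Cartan is formally smooth in its normalizer -/
theorem flat_to_normalizer {k : Type u} [Field k] [IsAlgClosed k] {G H N C T : Over (Spec (CommRingCat.of k))}
    [GrpObj G] [GrpObj H] [GrpObj N] [GrpObj C] [GrpObj T]
    [Smooth G.hom] [Smooth H.hom] [LocallyOfFiniteType G.hom]
    (i : H ⟶ G) [IsMonHom i] [Mono i] (n : N ⟶ G) [LocallyOfFinitePresentation N.hom] (f : H ⟶ N) (hf : f ≫ n = i)
    (hn : Red.IsNormalizerOf i n) (c : C ⟶ H) (t : T ⟶ G) [IsMonHom t] (hT : Red.IsTorus T)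
    (hc : Red.IsCentralizerOf t (c ≫ i)) : Flat f.left := by
  haveI := hn.1; haveI := hn.2.1; haveI := hc.1; haveI := hc.2.1
  haveI : LocallyOfFinitePresentation f.left := by
    haveI : LocallyOfFinitePresentation (f.left ≫ N.hom) := by rw [Over.w f]; infer_instance
    exact Groth.L20.locallyOfFinitePresentation_of_comp f.left N.hom
  obtain ⟨-, -, -, -, hcomm⟩ := torus_props hT
  obtain ⟨tC, htC⟩ := (hc.2.2 T t).2 fun X x h => by rw [← MonObj.mul_comp, ← MonObj.mul_comp, hcomm X x h]
  let tH : T ⟶ H := tC ≫ c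
  have htH : tH ≫ i = t := by rw [← htC]; exact Category.assoc _ _ _
  suffices MoreMor.IsFormallySmoothHom f.left from
    have := Locus.smooth_of_formallySmooth f.left this
    inferInstance
  intro B _ I hI a₀ b hab
  let b' : Spec (CommRingCat.of B) ⟶ Spec (CommRingCat.of k) := b ≫ N.hom
  let a₀s : Over.mk ((Cocycle.Z I).hom ≫ b') ⟶ H := Over.homMk a₀ (by
    show a₀ ≫ H.hom = (Cocycle.Z I).hom ≫ b ≫ N.hom
    rw [← Over.w f, reassoc_of% hab.symm]; rfl)
  let bs : Over.mk b' ⟶ N := Over.homMk b rfl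
  let zb : Over.mk ((Cocycle.Z I).hom ≫ b') ⟶ Over.mk b' := Over.homMk (Cocycle.Z I).hom rfl
  let c₁ : Over.mk b' ⟶ Over.mk ((𝟙_ (Over (Spec (CommRingCat.of B)))).hom ≫ b') := Over.homMk (𝟙 _) (by
    show 𝟙 _ ≫ 𝟙 _ ≫ b' = b'
    rw [Category.id_comp, Category.id_comp])
  let c₂ : Over.mk ((𝟙_ (Over (Spec (CommRingCat.of B)))).hom ≫ b') ⟶ Over.mk b' := Over.homMk (𝟙 _) (by
    show 𝟙 _ ≫ b' = 𝟙 _ ≫ b'
    rfl)
  have hzc : (Over.map b').map (toUnit (Cocycle.Z I)) ≫ c₂ = zb := by
    apply Over.OverMorphism.ext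
    show (toUnit (Cocycle.Z I)).left ≫ 𝟙 _ = (Cocycle.Z I).hom
    rw [Category.comp_id]
    exact (Category.comp_id _).symm.trans (Over.w (toUnit (Cocycle.Z I)))
  have hzn : zb ≫ bs = a₀s ≫ f := Over.OverMorphism.ext hab
  have hG' : Smooth (Red.bc b' G).hom := MorphismProperty.pullback_snd G.hom b' ‹_›
  have hH' : Smooth (Red.bc b' H).hom := MorphismProperty.pullback_snd H.hom b' ‹_›
  let iB := (Over.pullback b').map i
  let tB := (Over.pullback b').map t
  let tHB := (Over.pullback b').map tH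
  haveI : IsMonHom iB := MonoClosed.isMonHom_pullbackMap _ _
  haveI : IsMonHom tB := MonoClosed.isMonHom_pullbackMap _ _
  haveI : Mono iB := Functor.map_mono _ _
  have htHB : tHB ≫ iB = tB := by rw [← Functor.map_comp, htH]
  let g : 𝟙_ (Over (Spec (CommRingCat.of B))) ⟶ Red.bc b' G := ofBase b' (c₂ ≫ bs ≫ n)
  obtain ⟨h₁, hh₁⟩ := Cocycle.exists_lift_point (J := I) ⟨2, hI⟩ (ofBase b' a₀s)
  have hg : toUnit (Cocycle.Z I) ≫ g = toUnit (Cocycle.Z I) ≫ h₁ ≫ iB := by
    rw [← Category.assoc, hh₁]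
    refine toBase_injective b' _ _ ?_
    rw [toBase_map', toBase_ofBase, toBase_comp, toBase_ofBase, reassoc_of% hzc, reassoc_of% hzn, hf]
  let g' : 𝟙_ (Over (Spec (CommRingCat.of B))) ⟶ Red.bc b' G := (h₁ ≫ iB)⁻¹ * g
  have hg' : toUnit (Cocycle.Z I) ≫ g' = 1 := by
    simp only [g']
    rw [MonObj.comp_mul, GrpObj.comp_inv, hg, inv_mul_cancel]
  have hnB := isNormalizerOf_bc b' hn
  haveI := hnB.1
  obtain ⟨w, hw⟩ : ∃ w, w ≫ (Over.pullback b').map n = g' :=
    ⟨(h₁ ≫ (Over.pullback b').map f)⁻¹ * ofBase b' (c₂ ≫ bs), by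
      rw [MonObj.mul_comp, GrpObj.inv_comp, Category.assoc, ← Functor.map_comp, hf, ofBase_comp, Category.assoc]⟩
  obtain ⟨v, hv⟩ := ((hnB.2.2 _ g').1 ⟨w, hw⟩ (Red.bc b' T) (toUnit _) tHB).1
  have hv' : v ≫ iB = Cocycle.intBy g' tB := by rw [← hv, htHB]; rfl
  haveI : IsMonHom tHB := Groth.L25.Bridge.isMonHom_of_mul _ fun X x y => by
    rw [← cancel_mono iB, Category.assoc, htHB, MonObj.mul_comp (x ≫ tHB) (y ≫ tHB) iB, Category.assoc,
      Category.assoc, htHB]
    exact MonObj.mul_comp x y tB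
  haveI : IsMonHom v := Groth.L25.Bridge.isMonHom_of_mul v fun X x y => by
    rw [← cancel_mono iB, Category.assoc, hv', MonObj.mul_comp (x ≫ v) (y ≫ v) iB, Category.assoc,
      Category.assoc, hv']
    exact MonObj.mul_comp x y _
  have hA : Cocycle.AgreeMod I tHB v := fun Y q h => by
    rw [← cancel_mono iB, Category.assoc, Category.assoc, hv', htHB, Cocycle.comp_intBy,
      toUnit_unique (toUnit Y) (q ≫ toUnit _), Category.assoc, hg', MonObj.comp_one, _root_.one_mul, inv_one,
      _root_.mul_one]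
  obtain ⟨h', -, hh'⟩ := Cocycle.exists_conj_nilpotent
    (Locus.locally_bc (Locus.locally_of_multTypeFT (Locus.isMultTypeFT_of_isTorus hT)) b') (J := I) ⟨2, hI⟩
    tHB v hA
  let g'' : 𝟙_ (Over (Spec (CommRingCat.of B))) ⟶ Red.bc b' G := (h' ≫ iB)⁻¹ * g'
  have hcB := isCentralizerOf_bc b' hc
  obtain ⟨z, hz⟩ := (hcB.2.2 _ g'').2 fun Y x h => by
    have e := congrArg (· ≫ iB) (hh' Y h)
    simp only [MonObj.mul_comp, GrpObj.inv_comp, Category.assoc, hv', htHB] at e
    rw [Cocycle.comp_intBy] at e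
    obtain rfl : x = toUnit Y := toUnit_unique _ _
    simp only [g'', MonObj.comp_mul, GrpObj.comp_inv]
    calc (toUnit Y ≫ h' ≫ iB)⁻¹ * (toUnit Y ≫ g') * (h ≫ tB)
        = (toUnit Y ≫ h' ≫ iB)⁻¹ * ((toUnit Y ≫ g') * (h ≫ tB) * (toUnit Y ≫ g')⁻¹) * (toUnit Y ≫ g') := by group
      _ = _ := by
        rw [e]
        simp only [tB]
        group
  let l₀ : 𝟙_ (Over (Spec (CommRingCat.of B))) ⟶ Red.bc b' H := h₁ * h' * (z ≫ (Over.pullback b').map c)
  have hl₀ : l₀ ≫ iB = g := by
    simp only [l₀]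
    rw [MonObj.mul_comp, MonObj.mul_comp, Category.assoc, ← Functor.map_comp, hz]
    simp only [g'', g']
    group
  let l : Over.mk b' ⟶ H := c₁ ≫ toBase b' l₀
  have hli : l ≫ i = bs ≫ n := by
    rw [Category.assoc, ← toBase_map', hl₀, toBase_ofBase, ← Category.assoc c₁ c₂,
      show c₁ ≫ c₂ = 𝟙 _ from Over.OverMorphism.ext (Category.id_comp _), Category.id_comp]
  have hlf : l ≫ f = bs := by rw [← cancel_mono n, Category.assoc, hf, hli]
  refine ⟨l.left, ?_, congrArg (fun m => m.left) hlf⟩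
  exact congrArg (fun m => m.left) ((cancel_mono i).1 (by rw [Category.assoc, hli, reassoc_of% hzn, hf]) :
    zb ≫ l = a₀s)

/-- flatness descends from geometric fibres to fibres -/
theorem flat_fibre_of_geomFibre {S : Scheme.{u}} {H N : Over S} (f : H ⟶ N) (s : S)
    (h : Flat ((Over.pullback (Red.geomPt s)).map f).left) :
    Flat ((Over.pullback (S.fromSpecResidueField s)).map f).left := by
  let a : Spec (CommRingCat.of (AlgebraicClosure (S.residueField s))) ⟶ Spec (S.residueField s) :=
    Spec.map (CommRingCat.ofHom (algebraMap (S.residueField s) (AlgebraicClosure (S.residueField s))))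
  haveI : Flat a := by
    rw [HasRingHomProperty.Spec_iff (P := @Flat)]
    exact RingHom.flat_algebraMap_iff.2 inferInstance
  haveI : Surjective a := inferInstance
  haveI : QuasiCompact a := inferInstance
  let res := S.fromSpecResidueField s
  let bN : pullback N.hom (Red.geomPt s) ⟶ pullback N.hom res :=
    pullback.lift (pullback.fst _ _) (pullback.snd _ _ ≫ a) (by rw [pullback.condition, Category.assoc]; rfl)
  let bH : pullback H.hom (Red.geomPt s) ⟶ pullback H.hom res :=
    pullback.lift (pullback.fst _ _) (pullback.snd _ _ ≫ a) (by rw [pullback.condition, Category.assoc]; rfl)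
  have sqN : IsPullback bN (pullback.snd N.hom (Red.geomPt s)) (pullback.snd N.hom res) a := by
    refine IsPullback.of_right ?_ (pullback.lift_snd _ _ _) (IsPullback.of_hasPullback N.hom res)
    rw [pullback.lift_fst]
    exact IsPullback.of_hasPullback N.hom (Red.geomPt s)
  have hw : bH ≫ ((Over.pullback res).map f).left = ((Over.pullback (Red.geomPt s)).map f).left ≫ bN := by
    apply pullback.hom_ext
    · rw [Category.assoc, Category.assoc, pullback.lift_fst,
        ← (Groth.L25.SchImage.isPullback_fst_map res f).w, ← Category.assoc, pullback.lift_fst]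
      exact (Groth.L25.SchImage.isPullback_fst_map (Red.geomPt s) f).w
    · rw [Category.assoc, Category.assoc, pullback.lift_snd]
      erw [Over.w ((Over.pullback res).map f), pullback.lift_snd, reassoc_of% (Over.w ((Over.pullback (Red.geomPt s)).map f))]
      rfl
  have sq : IsPullback bH ((Over.pullback (Red.geomPt s)).map f).left ((Over.pullback res).map f).left bN := by
    refine IsPullback.of_right ?_ hw (Groth.L25.SchImage.isPullback_fst_map res f)
    erw [pullback.lift_fst, pullback.lift_fst]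
    exact Groth.L25.SchImage.isPullback_fst_map (Red.geomPt s) f
  exact MorphismProperty.of_isPullback_of_descendsAlong (P := @Flat) (Q := @Surjective ⊓ @Flat ⊓ @QuasiCompact) sq.flip
    ⟨⟨MorphismProperty.of_isPullback sqN.flip ‹Surjective a›, MorphismProperty.of_isPullback sqN.flip ‹Flat a›⟩,
      MorphismProperty.of_isPullback sqN.flip ‹QuasiCompact a›⟩ h

/-- fibre criterion: flatness from the geometric fibres -/
theorem flat_of_geomFibres {S : Scheme.{u}} {H N : Over S} [Flat H.hom] [LocallyOfFinitePresentation H.hom]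
    [LocallyOfFiniteType N.hom] (f : H ⟶ N) (h : ∀ s : S, Flat ((Over.pullback (Red.geomPt s)).map f).left) :
    Flat f.left := by
  have hw : f.left ≫ N.hom = H.hom := Over.w f
  haveI : LocallyOfFinitePresentation (f.left ≫ N.hom) := hw ▸ inferInstance
  haveI : Flat (f.left ≫ N.hom) := hw ▸ inferInstance
  refine Flat.of_stalkMap f.left fun x => Groth.L20.flat_stalkMap_of_fiberMap f.left N.hom x
    (Flat.stalkMap _ x) ?_
  let s := N.hom (f.left x)
  haveI : Flat (MoreMor.fiberMap f.left N.hom (N.hom (f.left x))) := by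
    have h1 := flat_fibre_of_geomFibre f s (h s)
    rw [← (Groth.L20.Thick.isPullback_fiberMap f.left N.hom _).isoPullback_hom_snd,
      MorphismProperty.cancel_left_of_respectsIso @Flat]
    rw [← (Groth.L08.IsogenyFibres.isPullback_fibre H N f s).isoPullback_hom_snd] at h1
    exact (MorphismProperty.cancel_left_of_respectsIso @Flat _ _).1 h1
  exact Flat.stalkMap _ _

end Groth.L08.Borel
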