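import Groth.Agent.L08.Borel.GaffBorel
import Groth.Agent.L14.Luna.UnipRad
import Groth.Agent.L16.UnipOrbit.Orbit
import Groth.Agent.L24.Count.UnipScheme
import Groth.Agent.L25.Observable.Basic
import Groth.Agent.L08.Borel.Dominant
import Groth.Agent.L08.Borel.QuasiScheme
import Groth.Agent.L08.Chev.Comp
import Groth.Agent.L08.MonoClosed
import Groth.Agent.L19.AlgGrpBasic.OrbitBC
import Groth.Agent.S11218

/-!
# Orbits of points fixed by all tori are closed
-/

set_option autoImplicit false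
set_option backward.isDefEq.respectTransparency.types false
set_option linter.style.haveILetI false
set_option linter.unusedSectionVars false

universe u

open CategoryTheory CategoryTheory.Limits MonoidalCategory CartesianMonoidalCategory MonObj GrpObj AlgebraicGeometry
open TopologicalSpace

noncomputable section

namespace Groth.L08.Borel.OrbitTori

variable {k : Type u} [Field k]

local notation "U1" => 𝟙_ (Over (Spec (CommRingCat.of k)))

/-- restriction of an action along a homomorphism -/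
def resAct {G H X : Over (Spec (CommRingCat.of k))} [GrpObj G] [GrpObj H] (φ : H ⟶ G) [IsMonHom φ]
    (a : AlgGrp.Action G X) : AlgGrp.Action H X where
  act := (φ ▷ X) ≫ a.act
  one_act := by rw [← comp_whiskerRight_assoc, IsMonHom.one_hom, a.one_act]
  mul_act := by
    rw [← comp_whiskerRight_assoc, IsMonHom.mul_hom, comp_whiskerRight_assoc, a.mul_act]
    simp only [tensorHom_def, comp_whiskerRight, Category.assoc, whisker_assoc,
      associator_naturality_left_assoc, whiskerLeft_comp, Iso.inv_hom_id_assoc]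
    rw [whisker_exchange_assoc, whisker_exchange_assoc]

theorem resAct_orbitMap {G H X : Over (Spec (CommRingCat.of k))} [GrpObj G] [GrpObj H] (φ : H ⟶ G) [IsMonHom φ]
    (a : AlgGrp.Action G X) (x : U1 ⟶ X) : (resAct φ a).orbitMap x = φ ≫ a.orbitMap x := by
  show lift (𝟙 H) (toUnit H ≫ x) ≫ (φ ▷ X) ≫ a.act = φ ≫ a.orbitMap x
  rw [lift_whiskerRight_assoc, Category.id_comp, Groth.L19.QuotientMap.orbit_apply]

/-- a morphism from an anti-affine group to a quasi-affine scheme is constant -/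
theorem const_of_antiAffine {D X : Over (Spec (CommRingCat.of k))} [GrpObj D] [X.left.IsQuasiAffine]
    (hD : IsIso D.hom.appTop) (f : D ⟶ X) : f = toUnit D ≫ η[D] ≫ f := by
  haveI := hD
  refine Over.OverMorphism.ext ((cancel_mono X.left.toSpecΓ).1 (ext_of_isAffine ?_))
  have h1 : D.hom.appTop ≫ (η[D] : U1 ⟶ D).left.appTop = 𝟙 _ := by
    rw [← Scheme.Hom.comp_appTop, Over.w (η[D] : U1 ⟶ D)]
    exact Scheme.Hom.id_appTop
  have h2 : (η[D] : U1 ⟶ D).left.appTop ≫ D.hom.appTop = 𝟙 _ := by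
    rw [← cancel_epi D.hom.appTop, reassoc_of% h1, Category.comp_id]
  have h3 : (toUnit D).left = D.hom := (Category.comp_id _).symm.trans (Over.w (toUnit D))
  rw [Over.comp_left, Over.comp_left, h3]
  simp only [Scheme.Hom.comp_appTop, Category.assoc]
  rw [h2, Category.comp_id]

/-- translations are isomorphisms -/
theorem isIso_translate {G X : Over (Spec (CommRingCat.of k))} [GrpObj G] (a : AlgGrp.Action G X) (g : U1 ⟶ G) :
    IsIso (lift (toUnit X ≫ g) (𝟙 X) ≫ a.act) := by
  have h : ∀ g g' : U1 ⟶ G, (lift (toUnit X ≫ g) (𝟙 X) ≫ a.act) ≫ lift (toUnit X ≫ g') (𝟙 X) ≫ a.act =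
      lift (toUnit X ≫ (g' * g)) (𝟙 X) ≫ a.act := fun g g' => by
    rw [MonObj.comp_mul, Groth.L25.Actions.mul_act, ← Category.assoc, comp_lift, ← Category.assoc,
      toUnit_unique ((lift (toUnit X ≫ g) (𝟙 X) ≫ a.act) ≫ toUnit X) (toUnit X), Category.comp_id]
  have h1 : lift (toUnit X ≫ (1 : U1 ⟶ G)) (𝟙 X) ≫ a.act = 𝟙 X := by
    rw [MonObj.comp_one, Groth.L25.Actions.one_act]
  exact ⟨lift (toUnit X ≫ g⁻¹) (𝟙 X) ≫ a.act, by rw [h, inv_mul_cancel, h1], by rw [h, mul_inv_cancel, h1]⟩

/-- the base change of a rational point composed with a map to the base -/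
theorem comp_bc_pt {K : Type u} [Field K] (t : Spec (CommRingCat.of K) ⟶ Spec (CommRingCat.of k))
    {X : Over (Spec (CommRingCat.of k))} (x : U1 ⟶ X) {T : Over (Spec (CommRingCat.of K))}
    (c : T ⟶ Red.bc t U1) : c ≫ (Over.pullback t).map x = toUnit T ≫ Groth.L19.AlgGrpBasic.bcPt t x := by
  rw [← Adjunction.homEquiv_naturality_left]
  obtain ⟨c', rfl⟩ := ((Over.mapPullbackAdj t).homEquiv T U1).surjective c
  rw [← Adjunction.homEquiv_naturality_right, ← Category.assoc,
    toUnit_unique ((Over.map t).map (toUnit T) ≫ toUnit _) c']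

variable [IsAlgClosed k]

/-- a morphism lands in a closed set if its rational points do -/
theorem range_subset_of_pts {Y X : Over (Spec (CommRingCat.of k))} [LocallyOfFiniteType Y.hom] (f : Y ⟶ X)
    {S : Set X.left} (hS : IsClosed S) (h : ∀ y : U1 ⟶ Y, ptOf (y ≫ f) ∈ S) : Set.range f.left ⊆ S := by
  have := subset_of_pts (X := Y) isClosed_univ (hS.preimage f.left.continuous) fun y _ => h y
  rintro _ ⟨w, rfl⟩
  exact this (Set.mem_univ w)

/-- orbits of unipotent groups on quasi-affine schemes are closed -/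
theorem isClosed_orbit_noSubtorus {V X : Over (Spec (CommRingCat.of k))} [GrpObj V] [IsAffine V.left] [Smooth V.hom]
    [ConnectedSpace V.left] (hV : Red.HasNoSubtorus k V) [LocallyOfFiniteType X.hom] [X.left.IsQuasiAffine]
    (a : AlgGrp.Action V X) (x : U1 ⟶ X) : IsClosed (Set.range (a.orbitMap x).left) := by
  obtain ⟨A, _, _, ψ, hft, hred, hψ, hiso⟩ := Groth.L25.Observable.exists_chart V
  haveI := hiso; haveI := hψ; haveI := hft; haveI := hred
  haveI : IsIso ψ.left := inferInstanceAs (IsIso ((Over.forget _).map ψ))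
  haveI : IsIso (inv ψ).left := inferInstanceAs (IsIso ((Over.forget _).map (inv ψ)))
  haveI : Smooth (Groth.L25.Bridge.P k A).hom := by
    show Smooth (Groth.L25.Observable.Sp k A).hom
    rw [← Over.w (inv ψ)]
    haveI : Smooth (inv ψ).left := inferInstance
    infer_instance
  haveI hc : ConnectedSpace (PrimeSpectrum A) :=
    (Scheme.homeoOfIso (asIso ψ.left)).surjective.connectedSpace (Homeomorph.continuous _)
  haveI : ConnectedSpace (Groth.L25.Bridge.P k A).left := hc
  haveI : IsMonHom (asIso ψ).hom := hψ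
  haveI : IsMonHom (inv ψ) := inferInstanceAs (IsMonHom (asIso ψ).inv)
  have hU : HopfRep.IsUnipotent k A :=
    Groth.L24.Count.isUnipotent_of_noSubtorus idempotent_trivial fun T _ j _ _ hT => hV T (j ≫ inv ψ) hT
  let a' : AlgGrp.Action (CoactBr.sp k A) X := resAct (G := V) (inv ψ) a
  have h := Groth.L16.UnipOrbit.isClosed_orbit hU X a' x
  have e : a'.orbitMap x = inv ψ ≫ a.orbitMap x := resAct_orbitMap (G := V) (inv ψ) a x
  rw [e, Over.comp_left, Scheme.Hom.comp_base, TopCat.coe_comp, Set.range_comp,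
    Set.range_eq_univ.2 (inv ψ).left.surjective, Set.image_univ] at h
  exact h

/-- the case of a connected affine group -/
theorem isClosed_orbit_affine {L X : Over (Spec (CommRingCat.of k))} [GrpObj L] [IsAffine L.left] [Smooth L.hom]
    [ConnectedSpace L.left] [LocallyOfFiniteType X.hom] [X.left.IsQuasiAffine]
    (a : AlgGrp.Action L X) (x : U1 ⟶ X)
    (htor : ∀ (T : Over (Spec (CommRingCat.of k))) [GrpObj T] (i : T ⟶ L) [IsMonHom i], Mono i → Red.IsTorus T →
      i ≫ a.orbitMap x = toUnit T ≫ x) : IsClosed (Set.range (a.orbitMap x).left) := by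
  haveI : LocallyOfFiniteType L.hom := inferInstance
  haveI : QuasiCompact X.hom := quasiCompact_of_compactSpace _
  haveI : IsSeparated X.hom := inferInstance
  obtain ⟨B, gB, iB, hB⟩ := exists_borel L
  haveI := hB.1; haveI := hB.2.1; haveI := hB.2.2.1; haveI := hB.2.2.2.1
  haveI : IsAffine B.left := isAffine_of_isAffineHom iB.left
  haveI : Mono iB := Over.mono_of_mono_left iB
  obtain ⟨T, gT, iT, p, V, gV, v, hiT, hiTm, hT, hp, hip, hV, hvp, hker⟩ :=
    Groth.L14.Luna.exists_retraction_radical B hB.2.2.2.2.1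
  haveI := hiT; haveI := hiTm; haveI := hp
  obtain ⟨hvm, hvc, -, hVs, hVcon, hVn⟩ := Groth.L14.Luna.unipotentRadical_data hV
  haveI := hvm; haveI := hvc; haveI := hVs; haveI := hVcon
  haveI : IsAffine V.left := isAffine_of_isAffineHom v.left
  haveI : IsMonHom (v ≫ iB) := inferInstance
  have hVcl := isClosed_orbit_noSubtorus hVn (resAct (v ≫ iB) a) x
  rw [resAct_orbitMap] at hVcl
  haveI : LocallyOfFiniteType B.hom := inferInstance
  haveI : Mono (iT ≫ iB) := mono_comp _ _
  have hBsub : Set.range (iB ≫ a.orbitMap x).left ⊆ Set.range ((v ≫ iB) ≫ a.orbitMap x).left := by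
    refine range_subset_of_pts _ hVcl fun b => ?_
    obtain ⟨y, hy⟩ := hker U1 (b * ((b ≫ p) ≫ iT)⁻¹) (by
      rw [MonObj.mul_comp, GrpObj.inv_comp, Category.assoc _ iT p, hip, Category.comp_id, mul_inv_cancel])
    have ht : (((b ≫ p) ≫ iT) ≫ iB) ≫ a.orbitMap x = x := by
      simp only [Category.assoc]
      rw [← Category.assoc iT, htor T (iT ≫ iB) inferInstance hT, ← Category.assoc p, ← Category.assoc b,
        toUnit_unique (b ≫ p ≫ toUnit T) (𝟙 _), Category.id_comp]
    have e : b ≫ iB ≫ a.orbitMap x = y ≫ (v ≫ iB) ≫ a.orbitMap x := by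
      conv_lhs => rw [← Category.assoc, show b = (b * ((b ≫ p) ≫ iT)⁻¹) * ((b ≫ p) ≫ iT) by
        rw [inv_mul_cancel_right], MonObj.mul_comp, Groth.L19.QuotientMap.mul_orbit, ht, ← hy]
      simp only [Category.assoc]
      rw [show y ≫ v ≫ iB ≫ a.orbitMap x = (y ≫ v ≫ iB) ≫ a.orbitMap x by simp only [Category.assoc],
        Groth.L19.QuotientMap.orbit_apply (y ≫ v ≫ iB), toUnit_unique (toUnit U1) (𝟙 _), Category.id_comp]
    rw [e]
    exact ⟨ptOf y, rfl⟩
  have hBcl : closure (Set.range (iB ≫ a.orbitMap x).left) ⊆ Set.range (iB ≫ a.orbitMap x).left := by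
    refine (closure_minimal hBsub hVcl).trans ?_
    rw [Category.assoc, Over.comp_left, Scheme.Hom.comp_base, TopCat.coe_comp]
    exact Set.range_comp_subset_range _ _
  obtain ⟨Y, b, o', hY⟩ := exists_isQuotient iB
  haveI := isProper_quotient_of_borel hB hY
  have h := Groth.Agent.S11218.result k L B iB Y b o' hY X a x
  refine isClosed_of_closure_subset ?_
  rw [h]
  rintro _ ⟨w, hw, rfl⟩
  have hw' := hBcl hw
  have sq : IsPullback (snd L B) (L ◁ (iB ≫ a.orbitMap x)) (iB ≫ a.orbitMap x) (snd L X) :=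
    IsPullback.of_isLimit' ⟨(whiskerLeft_snd _ _).symm⟩
      (Limits.PullbackCone.IsLimit.mk _ (fun s => lift (s.snd ≫ fst L X) s.fst) (fun s => by simp)
      (fun s => by ext1 <;> simp [s.condition])
      (fun s m h₁ h₂ => by
        ext1
        · simp [← h₂]
        · simp [h₁]))
  have hr := Scheme.image_preimage_eq_of_isPullback (sq.map (Over.forget _)) Set.univ
  rw [Set.preimage_univ, Set.image_univ, Set.image_univ] at hr
  obtain ⟨w', rfl⟩ : w ∈ Set.range (L ◁ (iB ≫ a.orbitMap x)).left := by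
    first | exact hr ▸ hw' | (rw [hr]; exact hw') | exact (Set.ext_iff.1 hr w).2 hw'
  have e : (L ◁ (iB ≫ a.orbitMap x)) ≫ a.act = (fst L B * (snd L B ≫ iB)) ≫ a.orbitMap x := by
    rw [Groth.L19.QuotientMap.mul_orbit, Category.assoc]
    congr 1
  show a.act.left ((L ◁ (iB ≫ a.orbitMap x)).left w') ∈ _
  rw [← Scheme.Hom.comp_apply, ← Over.comp_left, e, Over.comp_left, Scheme.Hom.comp_apply]
  exact ⟨_, rfl⟩

/-- the case of a connected group -/
theorem isClosed_orbit_connected {G X : Over (Spec (CommRingCat.of k))} [GrpObj G] [Smooth G.hom]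
    [QuasiCompact G.hom] [ConnectedSpace G.left] [LocallyOfFiniteType X.hom] [X.left.IsQuasiAffine]
    (a : AlgGrp.Action G X) (x : U1 ⟶ X)
    (htor : ∀ (T : Over (Spec (CommRingCat.of k))) [GrpObj T] (i : T ⟶ G) [IsMonHom i], Mono i → Red.IsTorus T →
      i ≫ a.orbitMap x = toUnit T ≫ x) : IsClosed (Set.range (a.orbitMap x).left) := by
  haveI : LocallyOfFiniteType G.hom := inferInstance
  obtain ⟨𝒟, hD⟩ := exists_genData_antiAffine G
  letI := 𝒟.grpH; letI := 𝒟.grpD; letI := 𝒟.grpL
  haveI := 𝒟.affH; haveI := 𝒟.smH; haveI := 𝒟.homρ; haveI := 𝒟.homκ; haveI := 𝒟.clκ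
  haveI := 𝒟.affL; haveI := 𝒟.smL; haveI := 𝒟.connL; haveI := 𝒟.homl; haveI := 𝒟.cll; haveI := 𝒟.surjL
  haveI : Mono 𝒟.l := Over.mono_of_mono_left _
  haveI : LocallyOfFiniteType 𝒟.L.hom := inferInstance
  haveI : LocallyOfFiniteType 𝒟.H.hom := inferInstance
  have hL : IsClosed (Set.range (𝒟.l ≫ a.orbitMap x).left) := by
    have := isClosed_orbit_affine (resAct 𝒟.l a) x fun T _ i _ hi hT => by
      haveI := hi
      rw [resAct_orbitMap, ← Category.assoc]
      exact htor T (i ≫ 𝒟.l) (mono_comp _ _) hT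
    rwa [resAct_orbitMap] at this
  have hDx : 𝒟.κ ≫ a.orbitMap x = toUnit 𝒟.D ≫ x := by
    rw [const_of_antiAffine hD (𝒟.κ ≫ a.orbitMap x), IsMonHom.one_hom_assoc]
    congr 1
    rw [Groth.L19.QuotientMap.orbit_apply, toUnit_unique (toUnit U1) (𝟙 _), Category.id_comp,
      show η[G] = (1 : U1 ⟶ G) by rw [Hom.one_def, toUnit_unique (toUnit U1) (𝟙 _), Category.id_comp],
      Groth.L25.Actions.one_act]
  refine isClosed_of_closure_subset ((closure_minimal (range_subset_of_pts _ hL fun g => ?_) hL).trans ?_)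
  · obtain ⟨y, hy⟩ := exists_pt_lift (𝒟.l ≫ 𝒟.ρ) (g ≫ 𝒟.ρ) ((𝒟.l ≫ 𝒟.ρ).left.surjective _)
    obtain ⟨d, hd, -⟩ := 𝒟.kerκ.exists_lift ((y ≫ 𝒟.l)⁻¹ * g) (toUnit _) (by
      rw [MonObj.mul_comp, GrpObj.inv_comp, Category.assoc, hy, inv_mul_cancel, Hom.one_def])
    have e : g ≫ a.orbitMap x = y ≫ 𝒟.l ≫ a.orbitMap x := by
      rw [show g = (y ≫ 𝒟.l) * (d ≫ 𝒟.κ) by rw [hd, mul_inv_cancel_left], Groth.L19.QuotientMap.mul_orbit,
        Category.assoc d, hDx, ← Category.assoc, toUnit_unique (d ≫ toUnit 𝒟.D) (𝟙 _), Category.id_comp,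
        ← Category.assoc y, Groth.L19.QuotientMap.orbit_apply, toUnit_unique (toUnit U1) (𝟙 _), Category.id_comp]
    rw [e]
    exact ⟨ptOf y, rfl⟩
  · rw [Over.comp_left, Scheme.Hom.comp_base, TopCat.coe_comp]
    exact Set.range_comp_subset_range _ _

/-- **the orbit of a point fixed by all tori is closed** -/
theorem isClosed_orbit_of_tori {G X : Over (Spec (CommRingCat.of k))} [GrpObj G] [LocallyOfFiniteType G.hom]
    [QuasiCompact G.hom] [LocallyOfFiniteType X.hom] [X.left.IsQuasiAffine] (a : AlgGrp.Action G X) (x : U1 ⟶ X)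
    (htor : ∀ (T : Over (Spec (CommRingCat.of k))) [GrpObj T] (i : T ⟶ G) [IsMonHom i], Mono i → Red.IsTorus T →
      i ≫ a.orbitMap x = toUnit T ≫ x) : IsClosed (Set.range (a.orbitMap x).left) := by
  classical
  obtain ⟨R, gR, m, hm, hred, hmc, hmr⟩ := Groth.L08.MonoClosed.exists_reduced_subgroup (G := G) Set.univ
    isClosed_univ trivial (fun _ _ _ => trivial) (fun _ _ => trivial)
  haveI := hm; haveI := hred; haveI := hmc
  haveI : Mono m := Over.mono_of_mono_left m
  haveI : LocallyOfFiniteType R.hom := by rw [← Over.w m]; infer_instance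
  haveI : QuasiCompact R.hom := by rw [← Over.w m]; infer_instance
  haveI : Smooth R.hom := smooth_of_reduced_group R
  haveI : CompactSpace R.left := QuasiCompact.compactSpace_of_compactSpace R.hom
  obtain ⟨R₀, g₀, j, hj⟩ := Groth.L08.Chev.exists_idComp R
  haveI := hj.hom; haveI := hj.closedImm; haveI := hj.openImm; haveI := hj.connectedSpace
  haveI := hj.smooth; haveI := hj.quasiCompact
  haveI : Mono j := Over.mono_of_mono_left j
  haveI : IsMonHom (j ≫ m) := inferInstance
  have h₀ : IsClosed (Set.range ((j ≫ m) ≫ a.orbitMap x).left) := by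
    have := isClosed_orbit_connected (resAct (j ≫ m) a) x fun T _ i _ hi hT => by
      haveI := hi
      haveI : Mono (j ≫ m) := mono_comp _ _
      rw [resAct_orbitMap, ← Category.assoc]
      exact htor T (i ≫ j ≫ m) (mono_comp _ _) hT
    rwa [resAct_orbitMap] at this
  -- finitely many translates
  let τ : (U1 ⟶ R) → (R₀ ⟶ R) := fun g => (toUnit R₀ ≫ g) * j
  have hτ : ∀ g, IsOpen (Set.range (τ g).left) := fun g => by
    obtain ⟨σ, hσ⟩ : ∃ σ : R ≅ R, j ≫ σ.hom = τ g := by
      refine ⟨⟨(toUnit R ≫ g) * 𝟙 R, (toUnit R ≫ g⁻¹) * 𝟙 R, ?_, ?_⟩, ?_⟩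
      · rw [MonObj.comp_mul, Category.comp_id, ← Category.assoc, comp_toUnit, GrpObj.comp_inv,
          inv_mul_cancel_left]
      · rw [MonObj.comp_mul, Category.comp_id, ← Category.assoc, comp_toUnit, GrpObj.comp_inv,
          mul_inv_cancel_left]
      · simp only [τ, MonObj.comp_mul, Category.comp_id, ← Category.assoc, comp_toUnit]
    haveI : IsIso σ.hom.left := inferInstanceAs (IsIso ((Over.forget _).map σ.hom))
    rw [← hσ, Over.comp_left]
    exact (j.left ≫ σ.hom.left).isOpenEmbedding.isOpen_range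
  have hcov : (Set.univ : Set R.left) ⊆ ⋃ g, Set.range (τ g).left := by
    intro z _
    by_contra hz
    haveI : JacobsonSpace R.left := LocallyOfFiniteType.jacobsonSpace R.hom
    obtain ⟨g, hg⟩ := exists_pt_mem (X := R) (O := (⋃ g, Set.range (τ g).left)ᶜ)
      (isOpen_iUnion hτ).isClosed_compl.isLocallyClosed ⟨z, hz⟩
    refine hg (Set.mem_iUnion.2 ⟨g, ptOf (1 : U1 ⟶ R₀), ?_⟩)
    show ((1 : U1 ⟶ R₀).left ≫ (τ g).left) _ = ptOf g
    rw [← Over.comp_left, MonObj.comp_mul, ← Category.assoc,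
      toUnit_unique ((1 : U1 ⟶ R₀) ≫ toUnit R₀) (𝟙 _), Category.id_comp, MonObj.one_comp, _root_.mul_one]
  obtain ⟨t, ht⟩ := isCompact_univ.elim_finite_subcover _ hτ hcov
  have hRcl : IsClosed (⋃ g ∈ t, Set.range (τ g ≫ m ≫ a.orbitMap x).left) := by
    refine isClosed_biUnion_finset fun g _ => ?_
    haveI := isIso_translate a (g ≫ m)
    let σ : X ⟶ X := lift (toUnit X ≫ g ≫ m) (𝟙 X) ≫ a.act
    haveI : IsIso σ := isIso_translate a (g ≫ m)
    haveI : IsIso σ.left := inferInstanceAs (IsIso ((Over.forget _).map σ))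
    have e : τ g ≫ m ≫ a.orbitMap x = ((j ≫ m) ≫ a.orbitMap x) ≫ σ := by
      rw [← Category.assoc, MonObj.mul_comp, Groth.L19.QuotientMap.mul_orbit, Category.assoc (toUnit R₀),
        ← Category.assoc _ (lift _ _), comp_lift, Category.comp_id, ← Category.assoc _ (toUnit X), comp_toUnit]
    rw [e, Over.comp_left, Scheme.Hom.comp_base, TopCat.coe_comp, Set.range_comp]
    exact σ.left.homeomorph.isClosedMap _ h₀
  have heq : Set.range (a.orbitMap x).left = ⋃ g ∈ t, Set.range (τ g ≫ m ≫ a.orbitMap x).left := by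
    refine Set.Subset.antisymm ?_ (Set.iUnion₂_subset fun g _ => ?_)
    · rintro _ ⟨z, rfl⟩
      obtain ⟨w, rfl⟩ : z ∈ Set.range m.left := hmr ▸ trivial
      obtain ⟨g, hg, w', hw'⟩ := Set.mem_iUnion₂.1 (ht (Set.mem_univ w))
      exact Set.mem_biUnion hg ⟨w', by rw [← hw']; rfl⟩
    · rw [← Category.assoc, Over.comp_left, Scheme.Hom.comp_base, TopCat.coe_comp]
      exact Set.range_comp_subset_range _ _
  rw [heq]; exact hRcl

end Groth.L08.Borel.OrbitTori
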