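import Groth.Agent.L08.Borel.KerPreimage
import Groth.Agent.L08.Borel.GenCartan
import Groth.Agent.L08.Borel.ImageTorus
import Groth.Agent.L08.Borel.BorelNorm
import Groth.Agent.L08.Borel.General
import Groth.Agent.L08.FlatHom
import Groth.Agent.L08.ChevPerf.Functorial

/-!
# Borel subgroups and surjective homomorphisms over an algebraically closed field
-/

set_option autoImplicit false
set_option backward.isDefEq.respectTransparency.types false
set_option linter.style.haveILetI false
set_option linter.unusedSectionVars false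
universe u

open CategoryTheory CategoryTheory.Limits MonoidalCategory CartesianMonoidalCategory MonObj AlgebraicGeometry

noncomputable section

namespace Groth.L08.Borel

variable {k : Type u} [Field k] [IsAlgClosed k] {G G' : Over (Spec (CommRingCat.of k))} [GrpObj G] [GrpObj G']
  [Smooth G.hom] [QuasiCompact G.hom] [ConnectedSpace G.left] [Smooth G'.hom] [QuasiCompact G'.hom]
  [ConnectedSpace G'.left]

local notation "U1" => 𝟙_ (Over (Spec (CommRingCat.of k)))

/-- the largest smooth connected subgroup over a connected solvable subgroup -/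
theorem exists_solvable_over (u : G ⟶ G') [IsMonHom u] [Surjective u.left]
    {B₀ : Over (Spec (CommRingCat.of k))} [GrpObj B₀] {b₀ : B₀ ⟶ G} (hB₀ : Red.IsBorelOver k b₀) (hK : KerLe u b₀)
    {C : Over (Spec (CommRingCat.of k))} [GrpObj C] (c : C ⟶ G') [IsMonHom c] [IsClosedImmersion c.left]
    [Smooth C.hom] [ConnectedSpace C.left] (hC : Red.IsSolvableGrp C) :
    ∃ (R : Over (Spec (CommRingCat.of k))) (_ : GrpObj R) (r : R ⟶ G) (p : R ⟶ C), IsMonHom r ∧ IsMonHom p ∧
      IsClosedImmersion r.left ∧ Smooth R.hom ∧ ConnectedSpace R.left ∧ Red.IsSolvableGrp R ∧ Surjective p.left ∧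
      p ≫ c = r ≫ u ∧ ∀ (A : Over (Spec (CommRingCat.of k))) [GrpObj A] [IsReduced A.left] [ConnectedSpace A.left]
        (f : A ⟶ G) [IsMonHom f] (a : A ⟶ C), a ≫ c = f ≫ u → ∃ z, z ≫ r = f := by
  haveI : LocallyOfFiniteType G.hom := inferInstance
  haveI : LocallyOfFiniteType C.hom := inferInstance
  haveI : Mono c := Groth.L08.mono_of_closedImmersion c
  obtain ⟨gP, hj, hs⟩ := exists_grpObj_preimage u c
  letI := gP
  haveI := hj; haveI := hs
  haveI : IsClosedImmersion (pullback.fst u c).left :=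
    MorphismProperty.of_isPullback (P := @IsClosedImmersion)
      ((IsPullback.of_hasPullback u c).map (Over.forget _)).flip ‹_›
  haveI : Surjective (pullback.snd u c).left :=
    MorphismProperty.of_isPullback (P := @Surjective) ((IsPullback.of_hasPullback u c).map (Over.forget _)) ‹_›
  haveI : Mono (pullback.fst u c) := Groth.L08.mono_of_closedImmersion _
  haveI : LocallyOfFiniteType (pullback u c).hom := by rw [← Over.w (pullback.fst u c)]; infer_instance
  haveI : QuasiCompact (pullback u c).hom := by rw [← Over.w (pullback.fst u c)]; infer_instance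
  obtain ⟨P, gP', j, hjm, hjc, hPs, hjs, hPfac⟩ := exists_red_subgroup (pullback u c)
  haveI := hjm; haveI := hjc; haveI := hPs; haveI := hjs
  haveI : QuasiCompact P.hom := by rw [← Over.w j]; infer_instance
  haveI : Mono j := Groth.L08.mono_of_closedImmersion j
  haveI : LocallyOfFiniteType P.hom := inferInstance
  let p₁ : P ⟶ C := j ≫ pullback.snd u c
  haveI : Surjective p₁.left := inferInstanceAs (Surjective (j.left ≫ (pullback.snd u c).left))
  obtain ⟨R, gR, r₀, hr₀⟩ := Groth.L08.Chev.exists_idComp P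
  haveI := hr₀.hom; haveI := hr₀.closedImm; haveI := hr₀.smooth; haveI := hr₀.connectedSpace
  haveI := hr₀.quasiCompact
  have hid : Groth.L08.Chev.IdCompData (𝟙 C) := ⟨inferInstance, inferInstanceAs (IsClosedImmersion (𝟙 C.left)),
    inferInstanceAs (IsOpenImmersion (𝟙 C.left)), by
      rw [PreconnectedSpace.connectedComponent_eq_univ]; exact Set.range_id⟩
  obtain ⟨p₀, hp₀, hp₀s, hp₀e⟩ := exists_surjective_idComp hr₀ hid p₁
  haveI := hp₀; haveI := hp₀s
  rw [Category.comp_id] at hp₀e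
  let r : R ⟶ G := r₀ ≫ j ≫ pullback.fst u c
  haveI : IsMonHom r := inferInstanceAs (IsMonHom (r₀ ≫ j ≫ pullback.fst u c))
  haveI : IsClosedImmersion r.left :=
    inferInstanceAs (IsClosedImmersion (r₀.left ≫ j.left ≫ (pullback.fst u c).left))
  have he : p₀ ≫ c = r ≫ u := by
    simp only [hp₀e, p₁, r, Category.assoc, pullback.condition]
  refine ⟨R, gR, r, p₀, inferInstance, hp₀, inferInstance, inferInstance, inferInstance, ?_, hp₀s, he,
    fun A _ _ _ f _ a ha => ?_⟩
  · refine isSolvableGrp_of_pts ?_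
    haveI := hB₀.1
    haveI : Mono r := Groth.L08.mono_of_closedImmersion r
    haveI : Group.IsSolvable (U1 ⟶ C) := isSolvable_pts hC
    haveI : Group.IsSolvable (U1 ⟶ B₀) := isSolvable_pts hB₀.2.2.2.2.1
    let φ : (U1 ⟶ R) →* (U1 ⟶ C) := MonoidHom.mk' (fun x => x ≫ p₀) fun x y => MonObj.mul_comp x y p₀
    let ρ : (U1 ⟶ R) →* (U1 ⟶ G) := MonoidHom.mk' (fun x => x ≫ r) fun x y => MonObj.mul_comp x y r
    let β : (U1 ⟶ B₀) →* (U1 ⟶ G) := MonoidHom.mk' (fun x => x ≫ b₀) fun x y => MonObj.mul_comp x y b₀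
    have hρ : Function.Injective ρ := fun x y h => (cancel_mono r).1 h
    haveI : Group.IsSolvable φ.ker := by
      haveI : Group.IsSolvable β.range := Group.isSolvable_of_surjective β.rangeRestrict_surjective
      let ψ : φ.ker →* β.range := (ρ.comp φ.ker.subtype).codRestrict β.range fun x => by
        have hx : (x : U1 ⟶ R) ≫ p₀ = 1 := x.2
        obtain ⟨y, hy⟩ := hK _ ((x : U1 ⟶ R) ≫ r) (by
          rw [Category.assoc, ← he, ← Category.assoc, hx, MonObj.one_comp])
        exact ⟨y, hy⟩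
      exact Group.isSolvable_of_isSolvable_injective (f := ψ)
        (fun x y h => Subtype.ext (hρ (congrArg Subtype.val h)))
    exact Group.isSolvable_of_ker_le_range φ.ker.subtype φ (by simp)
  · obtain ⟨z, hz⟩ := hPfac A (pullback.lift f a ha.symm) inferInstance
    haveI : IsMonHom (z ≫ j ≫ pullback.fst u c) := by
      rw [reassoc_of% hz, pullback.lift_fst]; infer_instance
    haveI : Mono (j ≫ pullback.fst u c) := mono_comp _ _
    haveI : IsMonHom z := isMonHom_of_comp_mono z (j ≫ pullback.fst u c) _ rfl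
    obtain ⟨w, hw⟩ := hr₀.exists_lift_hom z
    exact ⟨w, by rw [reassoc_of% hw, reassoc_of% hz, pullback.lift_fst]⟩

/-- the image of a Borel subgroup containing the kernel is a Borel subgroup, of which it is the preimage -/
theorem exists_image_borel_ker (u : G ⟶ G') [IsMonHom u] [Surjective u.left]
    {B : Over (Spec (CommRingCat.of k))} [GrpObj B] {b : B ⟶ G} (hB : Red.IsBorelOver k b) (hK : KerLe u b) :
    ∃ (C : Over (Spec (CommRingCat.of k))) (_ : GrpObj C) (c : C ⟶ G') (p : B ⟶ C), Red.IsBorelOver k c ∧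
      IsMonHom p ∧ Surjective p.left ∧ Flat p.left ∧ IsPullback b p u c := by
  haveI := hB.1; haveI := hB.2.1; haveI := hB.2.2.1; haveI := hB.2.2.2.1
  haveI : Mono b := Groth.L08.mono_of_closedImmersion b
  haveI : QuasiCompact B.hom := by rw [← Over.w b]; infer_instance
  haveI : LocallyOfFiniteType G'.hom := inferInstance
  obtain ⟨C, gC, p, c, hp, hc, hpc, hps, hcc, hCs, hCc, hCsol⟩ := exists_image_smooth (b ≫ u)
  haveI := hp; haveI := hc; haveI := hps; haveI := hcc; haveI := hCs; haveI := hCc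
  haveI : Mono c := Groth.L08.mono_of_closedImmersion c
  haveI : IsReduced C.left := Groth.Agent.AV.isReduced_of_smooth_field C.hom
  haveI : Flat p.left := Groth.L08.FlatHom.flat_of_surjective B C p
  haveI : LocallyOfFinitePresentation p.left := Groth.L08.ChevPerf.lfp_left p
  refine ⟨C, gC, c, p, ⟨hc, hcc, hCs, hCc, hCsol hB.2.2.2.2.1, fun C₁ _ c₁ _ f hc₁ hs₁ hcn₁ hsol₁ hf => ?_⟩,
    hp, hps, inferInstance, isPullback_of_kerLe u b c p hpc hK⟩
  haveI := hc₁; haveI := hs₁; haveI := hcn₁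
  haveI : Mono c₁ := Groth.L08.mono_of_closedImmersion c₁
  obtain ⟨R, gR, r, p₁, hr, hp₁, hrc, hRs, hRc, hRsol, hp₁s, he, hfac⟩ := exists_solvable_over u hB hK c₁ hsol₁
  haveI := hr; haveI := hp₁s
  haveI : IsReduced B.left := Groth.Agent.AV.isReduced_of_smooth_field B.hom
  obtain ⟨z, hz⟩ := hfac B b (p ≫ f) (by rw [Category.assoc, hf, hpc])
  haveI : IsIso z := hB.2.2.2.2.2 R r z hrc hRs hRc hRsol hz
  have hzp : z ≫ p₁ = p ≫ f := by
    rw [← cancel_mono c₁, Category.assoc, he, ← Category.assoc, hz, Category.assoc, hf, hpc]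
  haveI : IsIso z.left := inferInstanceAs (IsIso ((Over.forget _).map z))
  haveI : Surjective (p.left ≫ f.left) := by
    rw [← Over.comp_left, ← hzp, Over.comp_left]; infer_instance
  haveI : Surjective f.left := Surjective.of_comp p.left f.left
  haveI : IsClosedImmersion (f.left ≫ c₁.left) := by rw [← Over.comp_left, hf]; exact hcc
  haveI : IsClosedImmersion f.left := IsClosedImmersion.of_comp f.left c₁.left
  haveI : IsReduced C₁.left := Groth.Agent.AV.isReduced_of_smooth_field C₁.hom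
  haveI : IsIso f.left := isIso_of_isClosedImmersion_of_surjective f.left
  haveI : IsIso ((Over.forget _).map f) := ‹IsIso f.left›
  exact isIso_of_reflects_iso f (Over.forget _)

/-- preimages of Borel subgroups are Borel subgroups, when the kernel lies in every Borel subgroup -/
theorem exists_preimage_borel_ker (u : G ⟶ G') [IsMonHom u] [Surjective u.left]
    (hK : ∀ (B : Over (Spec (CommRingCat.of k))) [GrpObj B] (b : B ⟶ G), Red.IsBorelOver k b → KerLe u b)
    {B' : Over (Spec (CommRingCat.of k))} [GrpObj B'] {b' : B' ⟶ G'} (hB' : Red.IsBorelOver k b') :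
    ∃ (B : Over (Spec (CommRingCat.of k))) (_ : GrpObj B) (b : B ⟶ G) (p : B ⟶ B'), Red.IsBorelOver k b ∧
      IsMonHom p ∧ Surjective p.left ∧ Flat p.left ∧ IsPullback b p u b' := by
  haveI := hB'.1; haveI := hB'.2.1; haveI := hB'.2.2.1; haveI := hB'.2.2.2.1
  haveI : Mono b' := Groth.L08.mono_of_closedImmersion b'
  haveI : IsClosedImmersion (η : U1 ⟶ G).left := Groth.L08.AbelianGrp.isClosedImmersion_one G
  haveI : Smooth (U1).hom := inferInstanceAs (Smooth (𝟙 (Spec (CommRingCat.of k))))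
  haveI : QuasiCompact (U1).hom := inferInstanceAs (QuasiCompact (𝟙 (Spec (CommRingCat.of k))))
  haveI : ConnectedSpace (U1).left := inferInstanceAs (ConnectedSpace ↥(Spec (CommRingCat.of k)))
  obtain ⟨B₀, gB₀, b₀, hB₀, -⟩ := exists_borel_ge (η : U1 ⟶ G) (isSolvableGrp_of_pts (Group.isSolvable_of_comm fun a b => toUnit_unique _ _))
  obtain ⟨R, gR, r, p, hr, hp, hrc, hRs, hRc, hRsol, hps, he, -⟩ :=
    exists_solvable_over u hB₀ (hK B₀ b₀ hB₀) b' hB'.2.2.2.2.1
  haveI := hr; haveI := hrc; haveI := hRs; haveI := hRc; haveI := hp; haveI := hps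
  obtain ⟨B, gB, b, hB, f, hf⟩ := exists_borel_ge r hRsol
  obtain ⟨C, gC, c, q, hC, hq, hqs, hqf, sq⟩ := exists_image_borel_ker u hB (hK B b hB)
  haveI := hB.1; haveI := hC.1; haveI := hC.2.1
  haveI : Mono c := Groth.L08.mono_of_closedImmersion c
  haveI : IsReduced B'.left := Groth.Agent.AV.isReduced_of_smooth_field B'.hom
  obtain ⟨z, hz⟩ := exists_fac_closed_of_pts c b' fun x => by
    obtain ⟨x', rfl⟩ := exists_pt_lift p x (p.left.surjective _)
    exact ⟨x' ≫ f ≫ q, by
      rw [Category.assoc, Category.assoc, Category.assoc, ← sq.w, reassoc_of% hf, he]⟩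
  haveI : IsIso z := hB'.2.2.2.2.2 C c z hC.2.1 hC.2.2.1 hC.2.2.2.1 hC.2.2.2.2.1 hz
  haveI : IsMonHom z := isMonHom_of_comp_mono z c b' hz
  haveI : IsMonHom (asIso z).hom := ‹IsMonHom z›
  haveI : IsMonHom (inv z) := inferInstanceAs (IsMonHom (asIso z).inv)
  haveI : IsIso z.left := inferInstanceAs (IsIso ((Over.forget _).map z))
  refine ⟨B, gB, b, q ≫ inv z, hB, inferInstance, ?_, ?_, sq.of_iso (Iso.refl _) (Iso.refl _) (asIso z).symm (Iso.refl _)
    (by simp) (by simp) (by simp) (by simp [← hz])⟩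
  all_goals
    haveI := hqs; haveI := hqf
    haveI : IsIso (inv z).left := inferInstanceAs (IsIso ((Over.forget _).map (inv z)))
    rw [Over.comp_left]; infer_instance

/-- central kernels lie in every Borel subgroup -/
theorem kerLe_of_central (u : G ⟶ G')
    (hker : ∀ (X : Over (Spec (CommRingCat.of k))) (z : X ⟶ G), z ≫ u = 1 →
      ∀ (X' : Over (Spec (CommRingCat.of k))) (x : X' ⟶ X) (g : X' ⟶ G), (x ≫ z) * g = g * (x ≫ z))
    (B : Over (Spec (CommRingCat.of k))) [GrpObj B] (b : B ⟶ G) (hB : Red.IsBorelOver k b) : KerLe u b := by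
  haveI := hB.1; haveI := hB.2.1; haveI := hB.2.2.1; haveI := hB.2.2.2.1
  haveI : QuasiCompact B.hom := by rw [← Over.w b]; infer_instance
  haveI : Mono b := Groth.L08.mono_of_closedImmersion b
  obtain ⟨T, gT, t, ht⟩ := exists_maxTorus_gen B
  haveI := ht.1
  have hiG := isMaxTorus_comp_borel hB ht
  haveI := hiG.1
  obtain ⟨C, gC, c, hc, -, -, -⟩ := exists_centralizer_gen (t ≫ b) hiG.2.2.1
  obtain ⟨f, hf⟩ := centralizer_le_borel_gen hiG hc hB t rfl
  intro X g hg
  obtain ⟨z, hz⟩ := (hc.2.2 X g).2 fun X' x h => hker X g hg X' x (h ≫ t ≫ b)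
  exact ⟨z ≫ f, by rw [Category.assoc, hf, hz]⟩

/-- a normal connected solvable subgroup lies in every Borel subgroup -/
theorem kerLe_of_radical (u : G ⟶ G') {R : Over (Spec (CommRingCat.of k))} [GrpObj R] (r : R ⟶ G) [IsMonHom r]
    [IsClosedImmersion r.left] [Smooth R.hom] [ConnectedSpace R.left] (hR : Red.IsSolvableGrp R)
    (hn : ∀ (X : Over (Spec (CommRingCat.of k))) (g : X ⟶ G) (x : X ⟶ R), ∃ x' : X ⟶ R, g * (x ≫ r) * g⁻¹ = x' ≫ r)
    (hker : KerLe u r) (B : Over (Spec (CommRingCat.of k))) [GrpObj B] (b : B ⟶ G) (hB : Red.IsBorelOver k b) :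
    KerLe u b := by
  obtain ⟨B₀, gB₀, b₀, hB₀, f, hf⟩ := exists_borel_ge r hR
  obtain ⟨g, φ, hφ⟩ := exists_borel_conj hB₀ hB
  intro X z hz
  obtain ⟨y, hy⟩ := hker X z hz
  let γ : X ⟶ G := toUnit X ≫ g
  obtain ⟨y', hy'⟩ := hn X γ⁻¹ y
  refine ⟨y' ≫ f ≫ φ.hom, ?_⟩
  rw [Category.assoc, Category.assoc, hφ, AGF.conjBy]
  simp only [MonObj.comp_mul, GrpObj.comp_inv, ← Category.assoc, comp_toUnit, hf, ← hy', hy]
  show γ * (γ⁻¹ * z * γ⁻¹⁻¹) * γ⁻¹ = z
  group

end Groth.L08.Borel
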