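import Groth.Agent.L08.Borel.CartanPreimage

/-!
# Preimages of overgroups of a subgroup with smooth (connected) preimage
-/

set_option autoImplicit false
set_option backward.isDefEq.respectTransparency.types false
set_option linter.style.haveILetI false
set_option linter.unusedSectionVars false
universe u

open CategoryTheory CategoryTheory.Limits MonoidalCategory CartesianMonoidalCategory MonObj AlgebraicGeometry

noncomputable section

namespace Groth.L08.Borel

section Field

variable {k : Type u} [Field k] [IsAlgClosed k] {G G' : Over (Spec (CommRingCat.of k))} [GrpObj G] [GrpObj G']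
  [LocallyOfFiniteType G.hom] [QuasiCompact G.hom] [LocallyOfFiniteType G'.hom]
  {C' H' : Over (Spec (CommRingCat.of k))} [GrpObj C'] [GrpObj H']
  [LocallyOfFiniteType C'.hom] [QuasiCompact C'.hom] [LocallyOfFiniteType H'.hom] [QuasiCompact H'.hom]

local notation "U1" => 𝟙_ (Over (Spec (CommRingCat.of k)))

theorem preimage_field (u : G ⟶ G') [IsMonHom u] [Surjective u.left] (c' : C' ⟶ G') [IsMonHom c'] [Mono c']
    (h' : H' ⟶ G') [IsMonHom h'] [Mono h'] (f : C' ⟶ H') (hf : f ≫ h' = c')
    {C P : Over (Spec (CommRingCat.of k))} {c : C ⟶ G} {γ : C ⟶ C'} (sqC : IsPullback γ c c' u)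
    {j : P ⟶ G} {π : P ⟶ H'} (sq : IsPullback π j h' u) :
    (Smooth C.hom → Smooth H'.hom → Smooth P.hom) ∧
      (ConnectedSpace C.left → ConnectedSpace H'.left → ConnectedSpace P.left) := by
  haveI : IsSeparated G'.hom := Groth.L08.AbelianGrp.isSeparated G'
  haveI : QuasiCompact h'.left := by
    haveI : QuasiCompact (h'.left ≫ G'.hom) := by rw [Over.w h']; infer_instance
    exact QuasiCompact.of_comp h'.left G'.hom
  haveI : QuasiCompact c'.left := by
    haveI : QuasiCompact (c'.left ≫ G'.hom) := by rw [Over.w c']; infer_instance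
    exact QuasiCompact.of_comp c'.left G'.hom
  haveI : IsClosedImmersion h'.left := Groth.L08.MonoClosed.isClosedImmersion_of_field h'
  haveI : IsClosedImmersion c'.left := Groth.L08.MonoClosed.isClosedImmersion_of_field c'
  obtain ⟨gC, hC₁, hC₂⟩ := exists_grpObj_preimage u c'
  obtain ⟨gP, hP₁, hP₂⟩ := exists_grpObj_preimage u h'
  letI := gC; letI := gP
  haveI := hC₁; haveI := hC₂; haveI := hP₁; haveI := hP₂
  haveI : IsClosedImmersion (pullback.fst u c').left :=
    MorphismProperty.of_isPullback (P := @IsClosedImmersion)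
      ((IsPullback.of_hasPullback u c').map (Over.forget _)).flip ‹_›
  haveI : IsClosedImmersion (pullback.fst u h').left :=
    MorphismProperty.of_isPullback (P := @IsClosedImmersion)
      ((IsPullback.of_hasPullback u h').map (Over.forget _)).flip ‹_›
  haveI : Surjective (pullback.snd u h').left :=
    MorphismProperty.of_isPullback (P := @Surjective) ((IsPullback.of_hasPullback u h').map (Over.forget _)) ‹_›
  haveI : Mono (pullback.fst u h') := Groth.L08.mono_of_closedImmersion _
  haveI : Mono (pullback.fst u c') := Groth.L08.mono_of_closedImmersion _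
  haveI : LocallyOfFiniteType (pullback u h').hom := by rw [← Over.w (pullback.fst u h')]; infer_instance
  haveI : QuasiCompact (pullback u h').hom := by rw [← Over.w (pullback.fst u h')]; infer_instance
  haveI : LocallyOfFiniteType (pullback u c').hom := by rw [← Over.w (pullback.fst u c')]; infer_instance
  let eC : C ≅ pullback u c' := sqC.flip.isoPullback
  let eP : P ≅ pullback u h' := sq.flip.isoPullback
  haveI : IsIso eC.hom.left := inferInstanceAs (IsIso ((Over.forget _).map eC.hom))
  haveI : IsIso eC.inv.left := inferInstanceAs (IsIso ((Over.forget _).map eC.inv))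
  haveI : IsIso eP.hom.left := inferInstanceAs (IsIso ((Over.forget _).map eP.hom))
  haveI : IsIso eP.inv.left := inferInstanceAs (IsIso ((Over.forget _).map eP.inv))
  let inc : pullback u c' ⟶ pullback u h' :=
    pullback.lift (pullback.fst u c') (pullback.snd u c' ≫ f) (by rw [Category.assoc, hf, pullback.condition])
  have hinc : inc ≫ pullback.fst u h' = pullback.fst u c' := pullback.lift_fst _ _ _
  haveI : IsMonHom inc := isMonHom_of_comp_mono inc (pullback.fst u h') _ hinc
  have hker : ∀ (X : Over (Spec (CommRingCat.of k))) (z : X ⟶ G), z ≫ u = 1 →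
      ∃ y : X ⟶ pullback u c', y ≫ pullback.fst u c' = z := fun X z hz =>
    ⟨pullback.lift z 1 (by rw [hz, MonObj.one_comp]), pullback.lift_fst _ _ _⟩
  obtain ⟨Pr, gPr, jr, hjm, hjc, hPs, hjs, hPfac⟩ := exists_red_subgroup (pullback u h')
  haveI := hjm; haveI := hjc; haveI := hPs; haveI := hjs
  haveI : Mono jr := Groth.L08.mono_of_closedImmersion jr
  haveI : LocallyOfFiniteType Pr.hom := inferInstance
  haveI : QuasiCompact Pr.hom := by rw [← Over.w jr]; infer_instance
  refine ⟨fun hCs hHs => ?_, fun hCc hHc => ?_⟩
  · haveI := hCs; haveI := hHs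
    haveI : IsReduced H'.left := Groth.Agent.AV.isReduced_of_smooth_field H'.hom
    haveI : Smooth (pullback u c').hom := by rw [← Over.w eC.inv]; infer_instance
    obtain ⟨cr, hcr⟩ := hPfac (pullback u c') inc (Groth.Agent.AV.isReduced_of_smooth_field (pullback u c').hom)
    let jG : Pr ⟶ G := jr ≫ pullback.fst u h'
    let p₁ : Pr ⟶ H' := jr ≫ pullback.snd u h'
    haveI : IsMonHom jG := inferInstanceAs (IsMonHom (jr ≫ pullback.fst u h'))
    haveI : Mono jG := mono_comp _ _
    haveI : IsMonHom p₁ := inferInstanceAs (IsMonHom (jr ≫ pullback.snd u h'))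
    haveI : Surjective p₁.left := inferInstanceAs (Surjective (jr.left ≫ (pullback.snd u h').left))
    haveI : Flat p₁.left := Groth.L08.FlatHom.flat_of_surjective Pr H' p₁
    haveI : LocallyOfFinitePresentation p₁.left := Groth.L08.ChevPerf.lfp_left p₁
    have sqr : IsPullback jG p₁ u h' := isPullback_of_kerLe u jG h' p₁
      (by simp only [jG, p₁, Category.assoc, pullback.condition])
      (fun X z hz => by
        obtain ⟨y, hy⟩ := hker X z hz
        exact ⟨y ≫ cr, by simp only [jG, Category.assoc, reassoc_of% hcr, hinc, hy]⟩)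
    let ε : Pr ≅ P := sqr.isoIsPullback _ _ sq.flip
    haveI : IsIso ε.inv.left := inferInstanceAs (IsIso ((Over.forget _).map ε.inv))
    rw [← Over.w ε.inv]; infer_instance
  · haveI := hCc; haveI := hHc
    haveI : ConnectedSpace (pullback u c').left :=
      eC.hom.left.surjective.connectedSpace eC.hom.left.continuous
    obtain ⟨Hr, gHr, jH, hHm, hHcl, hHsm, hHsu, hHfac⟩ := exists_red_subgroup H'
    haveI := hHm; haveI := hHcl; haveI := hHsm; haveI := hHsu
    haveI : Mono jH := Groth.L08.mono_of_closedImmersion jH
    haveI : LocallyOfFiniteType Hr.hom := inferInstance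
    obtain ⟨p₁, hp₁⟩ := hHfac Pr (jr ≫ pullback.snd u h') (Groth.Agent.AV.isReduced_of_smooth_field Pr.hom)
    haveI : IsMonHom p₁ := isMonHom_of_comp_mono p₁ jH _ hp₁
    haveI : Surjective p₁.left := ⟨fun y => by
      haveI : Surjective (jr ≫ pullback.snd u h').left :=
        inferInstanceAs (Surjective (jr.left ≫ (pullback.snd u h').left))
      obtain ⟨x, hx⟩ := (jr ≫ pullback.snd u h').left.surjective (jH.left y)
      refine ⟨x, jH.left.isClosedEmbedding.injective ?_⟩
      rw [← hx, ← hp₁]
      exact (Scheme.Hom.comp_apply _ _ _).symm⟩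
    haveI : ConnectedSpace Hr.left := by
      let e := jH.left.isClosedEmbedding.isEmbedding.toHomeomorphOfSurjective jH.left.surjective
      exact e.symm.surjective.connectedSpace e.symm.continuous
    obtain ⟨R, gR, r₀, hr₀⟩ := Groth.L08.Chev.exists_idComp Pr
    haveI := hr₀.hom; haveI := hr₀.closedImm; haveI := hr₀.smooth; haveI := hr₀.connectedSpace
    haveI := hr₀.quasiCompact
    have hid : Groth.L08.Chev.IdCompData (𝟙 Hr) := ⟨inferInstance, inferInstanceAs (IsClosedImmersion (𝟙 Hr.left)),
      inferInstanceAs (IsOpenImmersion (𝟙 Hr.left)), by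
        rw [PreconnectedSpace.connectedComponent_eq_univ]; exact Set.range_id⟩
    obtain ⟨p₀, hp₀, hp₀s, hp₀e⟩ := exists_surjective_idComp hr₀ hid p₁
    haveI := hp₀; haveI := hp₀s
    rw [Category.comp_id] at hp₀e
    haveI : LocallyOfFiniteType R.hom := inferInstance
    obtain ⟨Cr, gCr, jC, hCm, hCcl, hCsm, hCsu, -⟩ := exists_red_subgroup (pullback u c')
    haveI := hCm; haveI := hCcl; haveI := hCsm; haveI := hCsu
    haveI : LocallyOfFiniteType Cr.hom := inferInstance
    haveI : ConnectedSpace Cr.left := by
      let e := jC.left.isClosedEmbedding.isEmbedding.toHomeomorphOfSurjective jC.left.surjective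
      exact e.symm.surjective.connectedSpace e.symm.continuous
    obtain ⟨cr, hcr⟩ := hPfac Cr (jC ≫ inc) (Groth.Agent.AV.isReduced_of_smooth_field Cr.hom)
    haveI : IsMonHom cr := isMonHom_of_comp_mono cr jr _ hcr
    obtain ⟨cR, hcR⟩ := hr₀.exists_lift_hom cr
    haveI : Surjective r₀.left := ⟨fun z => by
      by_contra hz
      have hcl : IsClosed (Set.range r₀.left) := r₀.left.isClosedEmbedding.isClosed_range
      obtain ⟨x, hx⟩ := exists_pt_mem (X := Pr) hcl.isOpen_compl.isLocallyClosed ⟨z, fun ⟨a, ha⟩ => hz ⟨a, ha⟩⟩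
      obtain ⟨y, hy⟩ := exists_pt_lift p₀ (x ≫ p₁) (p₀.left.surjective _)
      have hk : ((x * (y ≫ r₀)⁻¹) ≫ jr ≫ pullback.fst u h') ≫ u = 1 := by
        rw [Category.assoc, Category.assoc, pullback.condition, ← reassoc_of% hp₁, ← Category.assoc,
          MonObj.mul_comp, GrpObj.inv_comp, Category.assoc, ← hp₀e, hy, mul_inv_cancel, MonObj.one_comp]
      obtain ⟨κ, hκ⟩ := hker _ _ hk
      obtain ⟨κ', hκ'⟩ := exists_pt_lift jC κ (jC.left.surjective _)
      haveI : Mono (jr ≫ pullback.fst u h') := mono_comp _ _
      have hx' : ((κ' ≫ cR) * y) ≫ r₀ = x := by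
        rw [MonObj.mul_comp, Category.assoc, hcR,
          show κ' ≫ cr = x * (y ≫ r₀)⁻¹ from (cancel_mono (jr ≫ pullback.fst u h')).1 (by
            rw [Category.assoc, reassoc_of% hcr, hinc, ← Category.assoc, hκ', hκ]),
          inv_mul_cancel_right]
      exact hx ⟨((κ' ≫ cR) * y).left (IsLocalRing.closedPoint k), by
        rw [← Scheme.Hom.comp_apply, ← Over.comp_left, hx']⟩⟩
    haveI : ConnectedSpace Pr.left := r₀.left.surjective.connectedSpace r₀.left.continuous
    haveI : Surjective (jr.left ≫ eP.inv.left) := inferInstance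
    exact (jr.left ≫ eP.inv.left).surjective.connectedSpace (jr.left ≫ eP.inv.left).continuous

end Field

variable {S : Scheme.{u}} {G G' : Over S} [GrpObj G] [GrpObj G']

/-- the geometric fibres -/
theorem preimage_geom [LocallyOfFinitePresentation G.hom] [QuasiCompact G.hom] [LocallyOfFinitePresentation G'.hom]
    (u : G ⟶ G') [IsMonHom u] [Surjective u.left]
    {C' H' : Over S} [GrpObj C'] [GrpObj H'] (c' : C' ⟶ G') [IsMonHom c'] [Mono c'] (h' : H' ⟶ G') [IsMonHom h']
    [Mono h'] [LocallyOfFinitePresentation C'.hom] [QuasiCompact C'.hom]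
    [LocallyOfFinitePresentation H'.hom] [QuasiCompact H'.hom] (f : C' ⟶ H') (hf : f ≫ h' = c') (s : S) :
    (Smooth (Red.geomFibre s (pullback c' u)).hom → Smooth (Red.geomFibre s H').hom →
      Smooth (Red.geomFibre s (pullback h' u)).hom) ∧
    (ConnectedSpace (Red.geomFibre s (pullback c' u)).left → ConnectedSpace (Red.geomFibre s H').left →
      ConnectedSpace (Red.geomFibre s (pullback h' u)).left) := by
  let b := Red.geomPt s
  let F := Over.pullback b
  haveI : LocallyOfFiniteType (Red.geomFibre s G).hom := inferInstanceAs (LocallyOfFiniteType (pullback.snd G.hom b))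
  haveI : QuasiCompact (Red.geomFibre s G).hom := inferInstanceAs (QuasiCompact (pullback.snd G.hom b))
  haveI : LocallyOfFiniteType (Red.geomFibre s G').hom := inferInstanceAs (LocallyOfFiniteType (pullback.snd G'.hom b))
  haveI : LocallyOfFiniteType (Red.geomFibre s H').hom := inferInstanceAs (LocallyOfFiniteType (pullback.snd H'.hom b))
  haveI : QuasiCompact (Red.geomFibre s H').hom := inferInstanceAs (QuasiCompact (pullback.snd H'.hom b))
  haveI : LocallyOfFiniteType (Red.geomFibre s C').hom := inferInstanceAs (LocallyOfFiniteType (pullback.snd C'.hom b))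
  haveI : QuasiCompact (Red.geomFibre s C').hom := inferInstanceAs (QuasiCompact (pullback.snd C'.hom b))
  haveI : IsMonHom (F.map u) := Groth.L25.MonoClosed.isMonHom_pullbackMap _ _
  haveI : IsMonHom (F.map h') := Groth.L25.MonoClosed.isMonHom_pullbackMap _ _
  haveI : IsMonHom (F.map c') := Groth.L25.MonoClosed.isMonHom_pullbackMap _ _
  haveI : Mono (F.map h') := Functor.map_mono _ _
  haveI : Mono (F.map c') := Functor.map_mono _ _
  haveI : Surjective (F.map u).left := surjective_bcMap _ u
  exact preimage_field (F.map u) (F.map c') (F.map h') (F.map f) (by rw [← Functor.map_comp, hf])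
    ((IsPullback.of_hasPullback c' u).map F) ((IsPullback.of_hasPullback h' u).map F)

end Groth.L08.Borel

namespace Groth.L08.Borel

variable {S : Scheme.{u}} {G G' : Over S} [GrpObj G] [GrpObj G']

/-- **preimages of overgroups** -/
theorem preimage_overgroup [Flat G.hom] [LocallyOfFinitePresentation G.hom] [QuasiCompact G.hom]
    [LocallyOfFinitePresentation G'.hom] [QuasiSeparated G'.hom]
    (u : G ⟶ G') [IsMonHom u] [Flat u.left] [Surjective u.left]
    {C' H' : Over S} [GrpObj C'] [GrpObj H'] (c' : C' ⟶ G') [IsMonHom c'] [Mono c'] (h' : H' ⟶ G') [IsMonHom h']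
    [Mono h'] [LocallyOfFinitePresentation C'.hom] [QuasiCompact C'.hom]
    [LocallyOfFinitePresentation H'.hom] [QuasiCompact H'.hom] (f : C' ⟶ H') (hf : f ≫ h' = c') :
    (Smooth (pullback c' u).hom → Smooth H'.hom → Smooth (pullback h' u).hom) ∧
    ((∀ s : S, _root_.IsConnected ((pullback c' u).hom.base ⁻¹' {s})) →
      (∀ s : S, _root_.IsConnected (H'.hom.base ⁻¹' {s})) →
      ∀ s : S, _root_.IsConnected ((pullback h' u).hom.base ⁻¹' {s})) := by
  refine ⟨fun hC hH => ?_, fun hC hH s => ?_⟩
  · haveI := hC; haveI := hH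
    haveI : QuasiCompact (u.left ≫ G'.hom) := by rw [Over.w u]; infer_instance
    haveI : QuasiCompact u.left := QuasiCompact.of_comp u.left G'.hom
    haveI : LocallyOfFinitePresentation u.left :=
      Groth.L23.lfp_of_comp_lft u.left G'.hom (by rw [Over.w u]; infer_instance)
    have sql := (IsPullback.of_hasPullback h' u).flip.map (Over.forget S)
    let p := pullback.fst h' u
    haveI : Flat p.left := MorphismProperty.of_isPullback (P := @Flat) sql ‹_›
    haveI : LocallyOfFinitePresentation p.left :=
      MorphismProperty.of_isPullback (P := @LocallyOfFinitePresentation) sql ‹_›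
    haveI : Flat (pullback h' u).hom := by rw [← Over.w p]; infer_instance
    haveI : LocallyOfFinitePresentation (pullback h' u).hom := by rw [← Over.w p]; infer_instance
    exact Groth.L07.SmoothFibre.smooth_of_fibres _ fun s => smooth_fibre_of_geomFibre _ s
      ((preimage_geom u c' h' f hf s).1
        (inferInstanceAs (Smooth (pullback.snd (pullback c' u).hom (Red.geomPt s))))
        (inferInstanceAs (Smooth (pullback.snd H'.hom (Red.geomPt s)))))
  · obtain ⟨gC, -, -⟩ := exists_grpObj_preimage u c'
    letI := gC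
    let e : pullback c' u ≅ pullback u c' := (IsPullback.of_hasPullback c' u).flip.isoPullback
    haveI : IsIso e.hom.left := inferInstanceAs (IsIso ((Over.forget S).map e.hom))
    have hC' : ∀ t : S, _root_.IsConnected ((pullback u c').hom.base ⁻¹' {t}) := fun t =>
      isConnected_fibre_of_surjective e.hom t (hC t)
    let F := Over.pullback (Red.geomPt s)
    haveI : ConnectedSpace (F.obj (pullback u c')).left := connectedSpace_bc_point (pullback u c') hC' (Red.geomPt s)
    haveI : IsIso (F.map e.inv).left := inferInstanceAs (IsIso ((Over.forget _).map (F.map e.inv)))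
    have hc : ConnectedSpace (F.obj (pullback c' u)).left :=
      (F.map e.inv).left.surjective.connectedSpace (F.map e.inv).left.continuous
    exact isConnected_fibre_of_geom _ s
      ((preimage_geom u c' h' f hf s).2 hc (connectedSpace_bc_point H' hH (Red.geomPt s)))

end Groth.L08.Borel
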