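import Groth.Agent.L08.Borel.LineAct
import Groth.Agent.L08.Borel.QuasiScheme
import Groth.Agent.S3267
import Groth.Agent.S8022

/-!
# A nonsolvable connected affine group has a proper subgroup with proper quotient
-/

set_option autoImplicit false
set_option backward.isDefEq.respectTransparency.types false
set_option linter.style.haveILetI false

universe u

open CategoryTheory CategoryTheory.Limits MonoidalCategory CartesianMonoidalCategory MonObj AlgebraicGeometry
open TensorProduct WithConv

noncomputable section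

namespace Groth.L08.Borel

open Groth.L08.HomSpace

variable {k : Type u} [Field k] [IsAlgClosed k]

local notation "U1" => 𝟙_ (Over (Spec (CommRingCat.of k)))

omit [IsAlgClosed k] in
theorem exists_simple {A : Type u} [CommRing A] [HopfAlgebra k A] [Algebra.FiniteType k A]
    (h : ¬ Group.IsSolvable (WithConv (A →ₐ[k] k))) :
    ∃ (V : Type u) (_ : AddCommGroup V) (_ : Module k V) (_ : HopfRep.Comod k A V) (m : ℕ),
      HopfRep.IsSimpleComod k A V ∧ Nonempty (Module.Basis (Fin (m + 2)) k V) := by
  have hT : ¬ HopfRep.IsTrigonalizable k A := fun hT => h (Groth.Agent.S3267.result k A hT)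
  simp only [HopfRep.IsTrigonalizable, not_forall] at hT
  obtain ⟨V, i1, i2, i3, hfin, hs, hne⟩ := hT
  haveI := hfin
  haveI := hs.1
  have h0 : 0 < Module.finrank k V := Module.finrank_pos
  refine ⟨V, i1, i2, i3, Module.finrank k V - 2, hs, ⟨Module.finBasisOfFinrankEq k V (by omega)⟩⟩

theorem exists_proper_subgroup_specOf {A : Type u} [CommRing A] [HopfAlgebra k A] [Algebra.FiniteType k A]
    [_root_.IsReduced A] [IsReduced (specOf k A).left] [Smooth (specOf k A).hom]
    (h : ¬ Group.IsSolvable (WithConv (A →ₐ[k] k))) :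
    ∃ (H : Over (Spec (CommRingCat.of k))) (_ : GrpObj H) (i : H ⟶ specOf k A), IsMonHom i ∧
      IsClosedImmersion i.left ∧ Set.range i.left ≠ Set.univ ∧
      ∃ (X : Over (Spec (CommRingCat.of k))) (a : AlgGrp.Action (specOf k A) X) (o : U1 ⟶ X),
        AGF.IsQuotient i X a o ∧ IsProper X.hom := by
  classical
  obtain ⟨V, i1, i2, i3, m, hs, ⟨b⟩⟩ := exists_simple h
  haveI : LocallyOfFiniteType (specOf k A).hom := inferInstance
  haveI : IsAffine (specOf k A).left := inferInstanceAs (IsAffine (Spec _))
  haveI : QuasiCompact (specOf k A).hom := quasiCompact_of_compactSpace _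
  obtain ⟨a, ha⟩ := exists_lineAction (A := A) b
  haveI : IsProper (PnOver k (m + 1)).hom := Groth.L18.PS.isProper_toSpec (m + 1) k
  haveI : Nonempty (PnOver k (m + 1)).left := by
    haveI : AlgebraicGeometry.IsIntegral (PnOver k (m + 1)).left := Groth.L16.ProjSpace.isIntegral (m + 1) k
    infer_instance
  obtain ⟨z, hz⟩ := exists_closed_orbit a
  obtain ⟨H, gH, i, hi, hic, sq⟩ := exists_stabilizer a z
  haveI := hi; haveI := hic
  haveI : IsMonHom i := hi
  obtain ⟨Y, c, y, f, hY, heq, hyz, hfimm⟩ :=
    Groth.Agent.S8022.result k (specOf k A) (PnOver k (m + 1)) H a z i sq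
  refine ⟨H, gH, i, hi, hic, fun hu => ?_, Y, c, y, hY, ?_⟩
  · -- the orbit is a point, hence a stable line
    haveI : Surjective i.left := ⟨Set.range_eq_univ.1 hu⟩
    haveI : IsIso i.left := isIso_of_isClosedImmersion_of_surjective i.left
    haveI : IsIso ((Over.forget _).map i) := ‹IsIso i.left›
    haveI : IsIso i := isIso_of_reflects_iso _ (Over.forget _)
    have hfix : ∀ g : A →ₐ[k] k, lift (gPt g) z ≫ a.act = z := fun g => by
      have e := comp_orbitMap a z (gPt g)
      rw [toUnit_unique (toUnit U1) (𝟙 _), Category.id_comp] at e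
      rw [← e, ← IsIso.inv_hom_id_assoc i (a.orbitMap z), sq.w, ← Category.assoc, ← Category.assoc,
        toUnit_unique ((gPt g ≫ inv i) ≫ toUnit H) (𝟙 U1), Category.id_comp]
    obtain ⟨x, j, hj, rfl⟩ := exists_vPt z
    let w := b.equivFun.symm x
    have hwj : b.repr w j = x j := congrFun (b.equivFun.apply_symm_apply x) j
    have hline : ∀ g : A →ₐ[k] k, ∃ r : k, HopfRep.Comod.act k A V g w = r • w := by
      intro g
      obtain ⟨i', hi'⟩ := exists_ne_zero_of_ne_zero (A := A) b g x (exists_ne_zero_of_isUnit x j hj)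
      have hi'' : IsUnit (b.repr (HopfRep.Comod.act k A V g w) i') :=
        isUnit_iff_ne_zero.2 (by rwa [sum_cfun] at hi')
      obtain ⟨r, hr⟩ := exists_smul_of_vPt_eq ((ha g x j hj i' hi'').symm.trans (hfix g)).symm
      refine ⟨r, b.repr.injective (Finsupp.ext fun l => ?_)⟩
      rw [map_smul, Finsupp.smul_apply, smul_eq_mul, hr l]
      congr 1
      exact (congrFun (b.equivFun.apply_symm_apply x) l).symm
    have hsub := isSubcomod_of_forall_smul b w j (by rw [hwj]; exact hj.ne_zero) hline
    have hw : w ≠ 0 := fun e => hj.ne_zero (by rw [← hwj, e, map_zero]; rfl)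
    rcases hs.2 _ hsub with h1 | h1
    · exact hw ((Submodule.mem_bot k).1 (h1 ▸ Submodule.mem_span_singleton_self w))
    · have h2 := finrank_span_singleton (K := k) hw
      rw [h1, finrank_top, Module.finrank_eq_card_basis b, Fintype.card_fin] at h2
      omega
  · haveI := hY.2.2.1
    haveI : IsImmersion f.left := hfimm
    have hfo : c.orbitMap y ≫ f = a.orbitMap z := by
      rw [AlgGrp.Action.orbitMap, AlgGrp.Action.orbitMap, Category.assoc, ← heq, ← Category.assoc, lift_whiskerLeft,
        Category.assoc, hyz]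
    have hr : Set.range f.left = Set.range (a.orbitMap z).left := by
      rw [← hfo, Over.comp_left, Scheme.Hom.comp_base, TopCat.coe_comp,
        (c.orbitMap y).left.surjective.range_comp]
    haveI : IsClosedImmersion f.left := IsClosedImmersion.of_isPreimmersion _ (hr ▸ hz)
    rw [← Over.w f]
    infer_instance

/-- A nonsolvable connected affine group has a proper subgroup with proper quotient. -/
theorem exists_proper_subgroup (P : Over (Spec (CommRingCat.of k))) [GrpObj P] [IsAffine P.left] [Smooth P.hom]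
    (hns : ¬ Group.IsSolvable (U1 ⟶ P)) :
    ∃ (H : Over (Spec (CommRingCat.of k))) (_ : GrpObj H) (i : H ⟶ P), IsMonHom i ∧
      IsClosedImmersion i.left ∧ Set.range i.left ≠ Set.univ ∧
      ∃ (X : Over (Spec (CommRingCat.of k))) (a : AlgGrp.Action P X) (o : U1 ⟶ X),
        AGF.IsQuotient i X a o ∧ IsProper X.hom := by
  obtain ⟨H₀, ⟨eG⟩⟩ := (essImage_hopfSpec (G := Grp.mk P)).mpr ‹IsAffine P.left›
  let A := H₀.unop
  let φ : specOf k A ⟶ P := eG.hom.hom.hom
  let ψ : P ⟶ specOf k A := eG.inv.hom.hom
  have h1 : φ ≫ ψ = 𝟙 _ := congrArg (fun f => f.hom.hom) eG.hom_inv_id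
  have h2 : ψ ≫ φ = 𝟙 P := congrArg (fun f => f.hom.hom) eG.inv_hom_id
  haveI : IsMonHom φ := eG.hom.hom.isMonHom_hom
  haveI : IsMonHom ψ := eG.inv.hom.isMonHom_hom
  haveI : IsIso φ := ⟨ψ, h1, h2⟩
  haveI : IsIso ψ := ⟨φ, h2, h1⟩
  haveI : IsIso ψ.left := inferInstanceAs (IsIso ((Over.forget _).map ψ))
  haveI : IsIso φ.left := inferInstanceAs (IsIso ((Over.forget _).map φ))
  haveI hsm : Smooth (specOf k A).hom := by rw [← Over.w φ]; infer_instance
  haveI hft : LocallyOfFiniteType (specOf k A).hom := inferInstance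
  haveI : Algebra.FiniteType k A := by
    have hft' : LocallyOfFiniteType (Spec.map (CommRingCat.ofHom (algebraMap k A))) := hft
    rwa [HasRingHomProperty.Spec_iff (P := @LocallyOfFiniteType), CommRingCat.hom_ofHom,
      RingHom.finiteType_algebraMap] at hft'
  haveI : IsReduced (specOf k A).left := Groth.Agent.AV.isReduced_of_smooth_field (specOf k A).hom
  haveI : IsReduced (Spec (CommRingCat.of A)) := ‹IsReduced (specOf k A).left›
  haveI : _root_.IsReduced A := affine_isReduced_iff (CommRingCat.of A) |>.1 inferInstance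
  -- the rational points
  have hns' : ¬ Group.IsSolvable (WithConv (A →ₐ[k] k)) := by
    intro hs
    refine hns ?_
    haveI := hs
    refine Group.isSolvable_of_surjective (f := (MonoidHom.mk' (fun g : WithConv (A →ₐ[k] k) => gPt g.ofConv ≫ φ)
      (fun g g' => by show gPt _ ≫ φ = _; rw [gPt_mul, MonObj.mul_comp]))) fun z => ?_
    obtain ⟨g, hg⟩ := exists_gPt (z ≫ ψ)
    exact ⟨toConv g, by show gPt g ≫ φ = z; rw [hg, Category.assoc, h2, Category.comp_id]⟩
  obtain ⟨H, gH, i, hi, hic, hne, X, a, o, hX, hpr⟩ := exists_proper_subgroup_specOf hns'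
  haveI := hi; haveI := hic
  haveI : IsMonHom (i ≫ φ) := inferInstanceAs (IsMonHom (i ≫ φ))
  haveI : IsClosedImmersion (i ≫ φ).left := inferInstanceAs (IsClosedImmersion (i.left ≫ φ.left))
  refine ⟨H, gH, i ≫ φ, inferInstance, inferInstance, fun hu => hne ?_, ?_⟩
  · rw [Set.range_eq_univ] at hu ⊢
    intro x
    obtain ⟨t, ht⟩ := hu (φ.left x)
    exact ⟨t, φ.left.homeomorph.injective (by exact ht)⟩
  let a' : AlgGrp.Action P X :=
    { act := (ψ ▷ X) ≫ a.act
      one_act := by
        rw [← comp_whiskerRight_assoc, IsMonHom.one_hom (f := ψ)]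
        exact a.one_act
      mul_act := by
        rw [← comp_whiskerRight_assoc, IsMonHom.mul_hom (f := ψ), comp_whiskerRight_assoc, a.mul_act]
        have e : ((ψ ⊗ₘ ψ) ▷ X) ≫ (α_ (specOf k A) (specOf k A) X).hom ≫ (specOf k A ◁ a.act) =
            (α_ P P X).hom ≫ (P ◁ ((ψ ▷ X) ≫ a.act)) ≫ (ψ ▷ X) := by
          refine CartesianMonoidalCategory.hom_ext _ _ ?_ ?_
          · simp
          · simp only [Category.assoc, whiskerLeft_snd, whiskerRight_snd]
            simp only [← Category.assoc]
            congr 1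
            simp only [Category.assoc]
            refine CartesianMonoidalCategory.hom_ext _ _ ?_ ?_ <;> simp
        simpa only [Category.assoc] using congrArg (· ≫ a.act) e }
  have horb : a'.orbitMap o = ψ ≫ a.orbitMap o := by
    simp only [AlgGrp.Action.orbitMap, a', ← Category.assoc, lift_whiskerRight, comp_lift, Category.comp_id,
      Category.id_comp]
    rw [toUnit_unique (ψ ≫ toUnit (specOf k A)) (toUnit P)]
  refine ⟨X, a', o, ⟨hX.1, ?_, ?_, ?_⟩, hpr⟩
  · rw [horb, Over.comp_left]
    haveI := hX.2.1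
    infer_instance
  · rw [horb, Over.comp_left]
    haveI := hX.2.2.1
    infer_instance
  · rw [horb]
    refine hX.2.2.2.of_iso (MonoidalCategory.whiskerRightIso (asIso φ) H) (asIso φ) (asIso φ) (Iso.refl X) ?_ ?_ ?_ ?_
    · simp
    · simp only [MonoidalCategory.whiskerRightIso_hom, asIso_hom, MonoidalCategory.whiskerLeft_comp, Category.assoc]
      rw [IsMonHom.mul_hom (f := φ)]
      simp [MonoidalCategory.tensorHom_def, whisker_exchange_assoc]
    · simp [reassoc_of% h1]
    · simp [reassoc_of% h1]

end Groth.L08.Borel
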