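import Groth.Agent.L08.AlbLarge.ConstGrp
import Groth.Agent.L25.DSPts
import Groth.Agent.L25.SplitSub.Image
import Mathlib.RingTheory.RootsOfUnity.PrimitiveRoots
import Mathlib.Data.ZMod.Basic
import Mathlib.AlgebraicGeometry.ResidueField

/-!
# Constant groups killed by `n` are diagonalisable in the presence of a primitive `n`-th root of unity
-/

set_option autoImplicit false
set_option backward.isDefEq.respectTransparency.types false
set_option linter.style.haveILetI false
set_option linter.unusedSectionVars false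

universe u

open CategoryTheory CategoryTheory.Limits MonoidalCategory CartesianMonoidalCategory MonObj AlgebraicGeometry
open Groth.L08.AlbLarge TopologicalSpace
open Groth.L25 (DSPts.pt DSPts.char)

noncomputable section

namespace Groth.L08.Borel

/-- value of a global function in the residue field -/
def evalAt {X : Scheme.{u}} (x : X) : Γ(X, ⊤) →+* X.residueField x :=
  (X.evaluation ⊤ x trivial).hom

theorem evalAt_appTop {X Y : Scheme.{u}} (f : X ⟶ Y) (x : X) (a : Γ(Y, ⊤)) :
    evalAt x (f.appTop a) = (f.residueFieldMap x) (evalAt (f x) a) :=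
  (Scheme.evaluation_naturality_apply f (V := ⊤) x trivial a).symm

theorem isClosed_evalAt_eq {X : Scheme.{u}} (a b : Γ(X, ⊤)) : IsClosed {x : X | evalAt x a = evalAt x b} := by
  have h : {x : X | evalAt x a = evalAt x b} = (X.basicOpen (a - b) : Set X)ᶜ := by
    ext x
    rw [Set.mem_setOf_eq, Set.mem_compl_iff, SetLike.mem_coe,
      ← Scheme.evaluation_ne_zero_iff_mem_basicOpen X x (show x ∈ (⊤ : X.Opens) from trivial) (a - b), not_not,
      map_sub, sub_eq_zero]
    rfl
  rw [h]
  exact (X.basicOpen (a - b)).2.isClosed_compl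

/-- a function invertible at all points is invertible -/
theorem isUnit_of_evalAt {X : Scheme.{u}} (a : Γ(X, ⊤)) (h : ∀ x, evalAt x a ≠ 0) : IsUnit a :=
  X.toRingedSpace.isUnit_of_isUnit_germ ⊤ a fun x hx =>
    (Scheme.mem_basicOpen X a x hx).1 ((Scheme.evaluation_ne_zero_iff_mem_basicOpen X x hx a).1 (h x))

/-- roots of unity of invertible order with the same values are equal -/
theorem root_eq {X : Scheme.{u}} {n : ℕ} (hn : IsUnit (n : Γ(X, ⊤))) {a b : Γ(X, ⊤)} (ha : a ^ n = 1)
    (hb : b ^ n = 1) (h : ∀ x, evalAt x a = evalAt x b) : a = b := by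
  have hs : IsUnit (∑ i ∈ Finset.range n, a ^ i * b ^ (n - 1 - i)) := by
    refine isUnit_of_evalAt _ fun x => ?_
    rw [map_sum]
    have h' : ∀ i ∈ Finset.range n, evalAt x (a ^ i * b ^ (n - 1 - i)) = (evalAt x a) ^ (n - 1) := fun i hi => by
      rw [map_mul, map_pow, map_pow, ← h x, ← pow_add]
      congr 1
      have := Finset.mem_range.1 hi
      omega
    rw [Finset.sum_congr rfl h', Finset.sum_const, Finset.card_range, nsmul_eq_mul]
    refine mul_ne_zero ?_ (pow_ne_zero _ ?_)
    · have := hn.map (evalAt x)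
      rw [map_natCast] at this
      exact this.ne_zero
    · intro h0
      have := congrArg (evalAt x) ha
      rw [map_pow, map_one, h0] at this
      rcases Nat.eq_zero_or_pos n with hn0 | hn0
      · subst hn0
        have := hn.map (evalAt x)
        rw [Nat.cast_zero, map_zero] at this
        exact not_isUnit_zero this
      · rw [zero_pow hn0.ne'] at this
        exact zero_ne_one this
  have h2 := geom_sum₂_mul a b n
  rw [ha, hb, sub_self] at h2
  exact sub_eq_zero.1 (hs.mul_right_eq_zero.1 h2)

variable {V : Scheme.{u}} {n : ℕ} [NeZero n] (r : ℕ)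

/-- the dual group -/
abbrev Vec (n r : ℕ) : Type := Fin r → ZMod n

/-- homs on `(ℤ/n)^r` are determined on the basis -/
theorem vec_hom_ext {R : Type*} [CommMonoid R] {f g : Multiplicative (Vec n r) →* R}
    (h : ∀ i, f (Multiplicative.ofAdd (Pi.single i 1)) = g (Multiplicative.ofAdd (Pi.single i 1))) : f = g := by
  refine MonoidHom.ext fun m => ?_
  have hm : m = ∏ i, Multiplicative.ofAdd (Pi.single i 1 : Vec n r) ^ (m.toAdd i).val := by
    apply Multiplicative.toAdd.injective
    rw [toAdd_prod]
    conv_lhs => rw [← Finset.univ_sum_single m.toAdd]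
    refine Finset.sum_congr rfl fun i _ => ?_
    rw [toAdd_pow, toAdd_ofAdd, ← Pi.single_smul, nsmul_eq_mul, _root_.mul_one, ZMod.natCast_zmod_val]
  rw [hm, map_prod, map_prod]
  simp only [map_pow, h]

variable (z : Γ(V, ⊤)) (hz : z ^ n = 1)

/-- powers of the root -/
def zhom (T : Over V) : Multiplicative (ZMod n) →* Γ(T.left, ⊤) where
  toFun x := (T.hom.appTop z) ^ x.toAdd.val
  map_one' := by simp
  map_mul' x y := by
    show (T.hom.appTop z) ^ (x * y).toAdd.val = _
    rw [toAdd_mul, ZMod.val_add, ← pow_eq_pow_mod _ (by rw [← map_pow, hz, map_one]), pow_add]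

theorem zhom_pow {T : Over V} (x : Multiplicative (ZMod n)) : zhom z hz T x ^ n = 1 := by
  show ((T.hom.appTop z) ^ _) ^ n = 1
  rw [← pow_mul, mul_comm, pow_mul, ← map_pow, hz, map_one, one_pow]

theorem zhom_comp {T T' : Over V} (g : T' ⟶ T) (x : Multiplicative (ZMod n)) :
    g.left.appTop (zhom z hz T x) = zhom z hz T' x := by
  show g.left.appTop ((T.hom.appTop z) ^ _) = (T'.hom.appTop z) ^ _
  rw [map_pow]
  congr 1
  rw [← Over.w g, Scheme.Hom.comp_appTop]
  rfl

/-- the pairing with a vector -/
def pairing (a : Vec n r) : Multiplicative (Vec n r) →* Multiplicative (ZMod n) :=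
  AddMonoidHom.toMultiplicative
    (AddMonoidHom.mk' (fun m => ∑ i, a i * m i) fun x y => by simp [mul_add, Finset.sum_add_distrib])

theorem pairing_apply (a : Vec n r) (i : Fin r) :
    pairing r a (Multiplicative.ofAdd (Pi.single i 1)) = Multiplicative.ofAdd (a i) := by
  show Multiplicative.ofAdd (∑ j, a j * (Pi.single i (1 : ZMod n) : Vec n r) j) = _
  congr 1
  rw [Finset.sum_eq_single i (fun j _ hj => by simp [hj]) (by simp), Pi.single_eq_same, _root_.mul_one]

theorem pairing_add (a b : Vec n r) : pairing r (a + b) = pairing r a * pairing r b := by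
  refine vec_hom_ext r fun i => ?_
  rw [MonoidHom.mul_apply, pairing_apply, pairing_apply, pairing_apply, Pi.add_apply, ofAdd_add]

/-- the points of the dual -/
def rootPts : Multiplicative (Vec n r) →* (𝟙_ (Over V) ⟶ Red.DS V (Vec n r)) :=
  MonoidHom.mk' (fun a => Groth.L25.DSPts.pt ((zhom z hz _).comp (pairing r a.toAdd))) fun a b => by
    show Groth.L25.DSPts.pt ((zhom z hz _).comp (pairing r (a * b).toAdd)) = _
    rw [toAdd_mul, pairing_add, MonoidHom.comp_mul, Groth.L25.DSPts.pt_mul]

/-- the constant group -/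
abbrev cst (V : Scheme.{u}) (n r : ℕ) : Over V := TwC.const V (Multiplicative (Vec n r))

theorem isCommMonObj_DS (M : Type) [AddCommGroup M] : IsCommMonObj (Red.DS V M) := ⟨by
  refine Groth.L25.DSPts.char_injective ?_
  have e1 : μ[Red.DS V M] = fst _ _ * snd _ _ := MonObj.mul_eq_mul _
  rw [e1, MonObj.comp_mul, braiding_hom_fst, braiding_hom_snd, Groth.L25.DSPts.char_mul, Groth.L25.DSPts.char_mul,
    mul_comm]⟩

attribute [local instance] isCommMonObj_DS

/-- the map to the dual -/
def rootMap : cst V n r ⟶ Red.DS V (Vec n r) := ofPts (rootPts r z hz)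

theorem char_rootMap {T : Over V} (t : T ⟶ cst V n r) (x : T.left) (i : Fin r) :
    evalAt x (Groth.L25.DSPts.char (t ≫ rootMap r z hz) (Multiplicative.ofAdd (Pi.single i 1))) =
      evalAt x (zhom z hz T (Multiplicative.ofAdd ((label t x).toAdd i))) := by
  let a := label t x
  let W : Over V := Over.mk ((fibre ⟨label t, isLocallyConstant_label t⟩ a).ι ≫ T.hom)
  let j : W ⟶ T := Over.homMk (fibre ⟨label t, isLocallyConstant_label t⟩ a).ι rfl
  have hj : j ≫ t = toUnit W ≫ TwC.pt V (Multiplicative (Vec n r)) a := hom_ext_label fun y => by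
    rw [label_comp, label_pt]; exact y.2
  have h1 : j.left.appTop (Groth.L25.DSPts.char (t ≫ rootMap r z hz) (Multiplicative.ofAdd (Pi.single i 1))) =
      zhom z hz W (Multiplicative.ofAdd (a.toAdd i)) := by
    rw [← Groth.L25.DSPts.char_comp, reassoc_of% hj, rootMap, pt_ofPts]
    show Groth.L25.DSPts.char (toUnit W ≫ Groth.L25.DSPts.pt _) _ = _
    rw [Groth.L25.DSPts.char_comp, Groth.L25.DSPts.char_pt, MonoidHom.comp_apply, pairing_apply, zhom_comp]
  rw [← zhom_comp z hz j] at h1
  let y : W.left := ⟨x, rfl⟩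
  have h2 := congrArg (evalAt y) h1
  rw [evalAt_appTop, evalAt_appTop] at h2
  exact (RingHom.injective (j.left.residueFieldMap y).hom) h2

variable (hprim : ∀ v : V, IsPrimitiveRoot (evalAt v z) n) (hn : IsUnit (n : Γ(V, ⊤)))

include hprim in
theorem prim_over {T : Over V} (x : T.left) : IsPrimitiveRoot (evalAt x (T.hom.appTop z)) n := by
  rw [evalAt_appTop]
  exact (hprim (T.hom x)).map_of_injective (RingHom.injective (T.hom.residueFieldMap x).hom)

include hprim hn in
theorem bijective_rootMap (T : Over V) : Function.Bijective fun t : T ⟶ cst V n r => t ≫ rootMap r z hz := by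
  have hnT : IsUnit (n : Γ(T.left, ⊤)) := by
    have := hn.map T.hom.appTop.hom
    rwa [map_natCast] at this
  constructor
  · intro t t' h
    refine hom_ext_label fun x => Multiplicative.toAdd.injective (funext fun i => ?_)
    have h1 := char_rootMap r z hz t x i
    simp only at h
    rw [h, char_rootMap r z hz t' x i] at h1
    change evalAt x ((T.hom.appTop z) ^ _) = evalAt x ((T.hom.appTop z) ^ _) at h1
    rw [map_pow, map_pow] at h1
    exact (ZMod.val_injective n ((prim_over z hprim x).pow_inj (ZMod.val_lt _) (ZMod.val_lt _) h1)).symm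
  · intro χp
    let χ := Groth.L25.DSPts.char χp
    have hχ : ∀ i, χ (Multiplicative.ofAdd (Pi.single i 1)) ^ n = 1 := fun i => by
      rw [← map_pow, ← ofAdd_nsmul, ← Pi.single_smul]
      simp
    have hex : ∀ (x : T.left) (i : Fin r), ∃ a : ZMod n,
        evalAt x (χ (Multiplicative.ofAdd (Pi.single i 1))) = evalAt x (zhom z hz T (Multiplicative.ofAdd a)) := by
      intro x i
      obtain ⟨k, hk, he⟩ := (prim_over z hprim x).eq_pow_of_pow_eq_one (ξ := evalAt x (χ (Multiplicative.ofAdd (Pi.single i 1))))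
        (by rw [← map_pow, hχ, map_one])
      refine ⟨k, ?_⟩
      show _ = evalAt x ((T.hom.appTop z) ^ (k : ZMod n).val)
      rw [ZMod.val_natCast, Nat.mod_eq_of_lt hk, map_pow, he]
    choose a ha using hex
    have huniq : ∀ (x : T.left) (i : Fin r) (b : ZMod n),
        evalAt x (χ (Multiplicative.ofAdd (Pi.single i 1))) = evalAt x (zhom z hz T (Multiplicative.ofAdd b)) →
          a x i = b := by
      intro x i b hb
      rw [ha x i] at hb
      change evalAt x ((T.hom.appTop z) ^ _) = evalAt x ((T.hom.appTop z) ^ _) at hb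
      rw [map_pow, map_pow] at hb
      exact ZMod.val_injective n ((prim_over z hprim x).pow_inj (ZMod.val_lt _) (ZMod.val_lt _) hb)
    have hclosed : ∀ b : Vec n r, IsClosed ((fun x => a x) ⁻¹' {b}) := fun b => by
      have e : (fun x => a x) ⁻¹' {b} = ⋂ i, {x | evalAt x (χ (Multiplicative.ofAdd (Pi.single i 1))) =
          evalAt x (zhom z hz T (Multiplicative.ofAdd (b i)))} := by
        ext x
        simp only [Set.mem_preimage, Set.mem_singleton_iff, Set.mem_iInter, Set.mem_setOf_eq, funext_iff]
        exact ⟨fun h i => h i ▸ ha x i, fun h i => huniq x i _ (h i)⟩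
      rw [e]
      exact isClosed_iInter fun i => isClosed_evalAt_eq _ _
    have hlc : IsLocallyConstant fun x => Multiplicative.ofAdd (a x) := by
      refine (IsLocallyConstant.iff_isOpen_fiber.2 fun b => ?_ : IsLocallyConstant fun x => a x).comp _
      rw [← isClosed_compl_iff,
        show ((fun x => a x) ⁻¹' {b})ᶜ = ⋃ b' ∈ ({b}ᶜ : Set (Vec n r)), (fun x => a x) ⁻¹' {b'} by
          ext x; simp]
      exact (Set.toFinite _).isClosed_biUnion fun b' _ => hclosed b'
    let L : LocallyConstant T.left (Multiplicative (Vec n r)) := ⟨_, hlc⟩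
    refine ⟨ofFun L, Groth.L25.DSPts.char_injective (vec_hom_ext r fun i => root_eq hnT ?_ (hχ i) fun x => ?_)⟩
    · rw [← map_pow, ← ofAdd_nsmul, ← Pi.single_smul]
      simp
    · rw [char_rootMap, show label (ofFun L) x = L x from
        congr(($((homEquiv T).apply_symm_apply L)) x)]
      exact (ha x i).symm

include hprim hn in
theorem isIso_rootMap : IsIso (rootMap r z hz) := by
  obtain ⟨g, hg⟩ := (bijective_rootMap r z hz hprim hn _).2 (𝟙 (Red.DS V (Vec n r)))
  refine ⟨g, (bijective_rootMap r z hz hprim hn _).1 ?_, hg⟩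
  show (rootMap r z hz ≫ g) ≫ rootMap r z hz = 𝟙 _ ≫ rootMap r z hz
  simp only at hg
  rw [Category.assoc, hg, Category.comp_id, Category.id_comp]

include hz hprim hn in
/-- a constant group killed by `n` is of multiplicative type -/
theorem locally_cst : TwC.Locally V TwC.Topology.fpqc (fun S' f => ∃ (M : Type) (_ : AddCommGroup M),
      Nonempty (Grp.mk (Red.bc f (cst V n r)) ≅ Grp.mk (Red.DS S' M))) := by
  refine ⟨V, 𝟙 V, inferInstance, inferInstance, fun U hU => ⟨U, hU.isCompact, by simp⟩, fun v => ⟨⊤, trivial, ?_⟩⟩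
  haveI := isIso_rootMap r z hz hprim hn
  haveI : IsMonHom (rootMap r z hz) := isMonHom_ofPts _
  let j := (⊤ : V.Opens).ι ≫ 𝟙 V
  haveI : IsMonHom ((Over.pullback j).map (rootMap r z hz)) := Functor.map.instIsMonHom (F := Over.pullback j) (f := rootMap r z hz)
  haveI : IsIso ((Over.pullback j).map (rootMap r z hz) ≫ (Groth.L25.SplitSub.bcDS j).hom) := inferInstance
  haveI : IsMonHom (asIso ((Over.pullback j).map (rootMap r z hz) ≫ (Groth.L25.SplitSub.bcDS j).hom)).hom :=
    inferInstanceAs (IsMonHom (_ ≫ _))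
  exact ⟨Vec n r, inferInstance, ⟨Grp.mkIso' (asIso ((Over.pullback j).map (rootMap r z hz) ≫
    (Groth.L25.SplitSub.bcDS j).hom))⟩⟩

end Groth.L08.Borel
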