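import Groth.Agent.L08.Borel.GenNorm
import Groth.Agent.L08.Borel.GenNilp

/-!
# Cartan subgroups of connected solvable groups are their own normalizers
-/

set_option autoImplicit false
set_option backward.isDefEq.respectTransparency.types false
set_option linter.style.haveILetI false
set_option linter.unusedSectionVars false

universe u

open CategoryTheory CategoryTheory.Limits MonoidalCategory CartesianMonoidalCategory MonObj GrpObj AlgebraicGeometry

noncomputable section

namespace Groth.L08.Borel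

variable {k : Type u} [Field k] [IsAlgClosed k]

local notation "U1" => 𝟙_ (Over (Spec (CommRingCat.of k)))

/-- in a connected solvable group a point conjugating a Cartan subgroup into itself lies in it -/
theorem mem_cartan_of_normalizes {B T C : Over (Spec (CommRingCat.of k))} [GrpObj B] [GrpObj T] [GrpObj C]
    [Smooth B.hom] [QuasiCompact B.hom] [ConnectedSpace B.left] (hsol : Red.IsSolvableGrp B) {iT : T ⟶ B}
    (hT : AGF.IsMaxTorus iT) {c : C ⟶ B} (hc : Red.IsCentralizerOf iT c)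
    {X : Over (Spec (CommRingCat.of k))} (y : X ⟶ B)
    (hy : ∀ (X' : Over (Spec (CommRingCat.of k))) (x : X' ⟶ X) (h : X' ⟶ C),
      ∃ h' : X' ⟶ C, (x ≫ y) * (h ≫ c) * (x ≫ y)⁻¹ = h' ≫ c) :
    ∃ z : X ⟶ C, z ≫ c = y := by
  obtain ⟨𝒟⟩ := exists_genData B
  letI := 𝒟.grpL; letI := 𝒟.grpD
  haveI := 𝒟.affL; haveI := 𝒟.smL; haveI := 𝒟.connL; haveI := 𝒟.homl
  haveI : Mono 𝒟.l := by haveI := 𝒟.cll; exact Groth.L08.mono_of_closedImmersion 𝒟.l
  haveI := hT.1; haveI := hT.2.1
  obtain ⟨a1, a2, a3, -, -⟩ := torus_props hT.2.2.1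
  haveI := a2
  obtain ⟨tL, htL⟩ := 𝒟.factorL T iT a1 a2 a3
  have hTL : AGF.IsMaxTorus tL := isMaxTorus_factor (iB := 𝒟.l) (htL.symm ▸ hT)
  haveI := hTL.1
  have hsolL : Red.IsSolvableGrp 𝒟.L := by
    haveI := isSolvable_pts hsol
    refine isSolvableGrp_of_pts ?_
    exact Group.isSolvable_of_isSolvable_injective (f := MonoidHom.mk' (fun a : U1 ⟶ 𝒟.L => a ≫ 𝒟.l)
      fun a b => MonObj.mul_comp a b _) fun a b e => (cancel_mono 𝒟.l).1 e
  obtain ⟨p, hp, hpconj⟩ := exists_retraction_maxTorus hsolL hTL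
  obtain ⟨Φ, hΦ⟩ := 𝒟.normL (B ⊗ T) (fst B T) (snd B T ≫ tL)
  simp only [Category.assoc, htL] at hΦ
  haveI : Smooth (B ⊗ T).hom := Groth.L25.CommWords.smooth_tensor B T
  haveI : IsReduced (B ⊗ T).left := Groth.Agent.AV.isReduced_of_smooth_field (B ⊗ T).hom
  haveI := Groth.Agent.AV.isSeparated_of_grpObj T
  have hp' : Φ ≫ p = snd B T := hom_ext_pts _ _ fun v => by
    obtain ⟨a, d, had⟩ := exists_decomp 𝒟 (v ≫ fst B T)
    have h0 := congrArg (v ≫ ·) hΦ
    simp only [MonObj.comp_mul, GrpObj.comp_inv, ← Category.assoc, had] at h0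
    have h1 : v ≫ Φ = a * (v ≫ snd B T ≫ tL) * a⁻¹ := by
      rw [← cancel_mono 𝒟.l, MonObj.mul_comp, MonObj.mul_comp, GrpObj.inv_comp, ← h0]
      simp only [Category.assoc, htL]
      generalize v ≫ snd B T ≫ iT = w
      rw [_root_.mul_assoc (a ≫ 𝒟.l) (d ≫ 𝒟.κ) w, 𝒟.central _ d w, _root_.mul_inv_rev, ← _root_.mul_assoc]
      group
    rw [← Category.assoc, h1, hpconj, Category.assoc, Category.assoc, hp, Category.comp_id]
  refine (hc.2.2 X y).2 fun X' x s => ?_
  obtain ⟨h', he⟩ := conj_torus_of_conj_cartan hT hc y hy X' x s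
  have h2 : lift (x ≫ y) s ≫ Φ = h' ≫ tL := by
    rw [← cancel_mono 𝒟.l, Category.assoc, Category.assoc, ← hΦ]
    simp only [MonObj.comp_mul, GrpObj.comp_inv, lift_fst, lift_snd_assoc, Category.assoc, htL]
    exact he
  have h3 := congrArg (· ≫ p) h2
  simp only [Category.assoc, hp', lift_snd, hp, Category.comp_id] at h3
  rw [← h3] at he
  exact (mul_inv_eq_iff_eq_mul.1 he)

end Groth.L08.Borel
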