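import Groth.Agent.L08.Borel.CentBorel
import Groth.Agent.L08.Borel.CartanTorus
import Groth.Agent.L25.Locus.Smooth

/-!
# Subgroups open in the centralizer of a central group of multiplicative type
-/

set_option autoImplicit false
set_option backward.isDefEq.respectTransparency.types false
set_option linter.style.haveILetI false
set_option linter.unusedSectionVars false

universe u

open CategoryTheory CategoryTheory.Limits MonoidalCategory CartesianMonoidalCategory MonObj GrpObj AlgebraicGeometry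
open Groth.L25.NilAction

noncomputable section

namespace Groth.L08.Borel

variable {S : Scheme.{u}}

/-- `c` is open in the centralizer of a central multiplicative type group of `C` -/
def TorsCentral {G C : Over S} [GrpObj G] [GrpObj C] (c : C ⟶ G) : Prop :=
  ∃ (M : Over S) (_ : GrpObj M) (μc : M ⟶ C) (Z : Over S) (_ : GrpObj Z) (z : Z ⟶ G) (f : C ⟶ Z),
    IsMonHom μc ∧
    TwC.Locally S TwC.Topology.fpqc (fun S' g => ∃ (M' : Type) (_ : AddCommGroup M'),
      Nonempty (Grp.mk (Red.bc g M) ≅ Grp.mk (Red.DS S' M'))) ∧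
    (∀ (X : Over S) (y : X ⟶ C) (m : X ⟶ M), Commute y (m ≫ μc)) ∧
    Red.IsCentralizerOf (μc ≫ c) z ∧ LocallyOfFinitePresentation z.left ∧ Smooth Z.hom ∧
    f ≫ z = c ∧ IsOpenImmersion f.left

/-- base change -/
theorem torsCentral_map {S' : Scheme.{u}} (g : S' ⟶ S) {G C : Over S} [GrpObj G] [GrpObj C] (c : C ⟶ G)
    (M : Over S) [GrpObj M] (μc : M ⟶ C) [IsMonHom μc]
    (hM : TwC.Locally S TwC.Topology.fpqc (fun S' g => ∃ (M' : Type) (_ : AddCommGroup M'),
      Nonempty (Grp.mk (Red.bc g M) ≅ Grp.mk (Red.DS S' M'))))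
    (hcomm : ∀ (X : Over S) (y : X ⟶ C) (m : X ⟶ M), Commute y (m ≫ μc))
    (Z : Over S) [GrpObj Z] (z : Z ⟶ G) (hz : Red.IsCentralizerOf (μc ≫ c) z)
    [LocallyOfFinitePresentation z.left] [Smooth Z.hom] (f : C ⟶ Z) (hf : f ≫ z = c)
    (ho : IsOpenImmersion ((Over.pullback g).map f).left) : TorsCentral ((Over.pullback g).map c) := by
  refine ⟨Red.bc g M, inferInstance, (Over.pullback g).map μc, Red.bc g Z, inferInstance, (Over.pullback g).map z,
    (Over.pullback g).map f, Groth.L25.MonoClosed.isMonHom_pullbackMap _ _, Groth.L25.Locus.locally_bc hM g,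
    fun X y m => ?_, ?_, MorphismProperty.of_isPullback (P := @LocallyOfFinitePresentation)
      (Groth.L25.SchImage.isPullback_fst_map g z) ‹_›, MorphismProperty.pullback_snd Z.hom g ‹_›,
    by rw [← Functor.map_comp, hf], ho⟩
  · refine toBase_injective g _ _ ?_
    rw [toBase_mul, toBase_mul, toBase_map']
    exact hcomm _ _ _
  · rw [← Functor.map_comp]
    exact isCentralizerOf_bc g hz

theorem torsCentral_bc {S' : Scheme.{u}} (g : S' ⟶ S) {G C : Over S} [GrpObj G] [GrpObj C] {c : C ⟶ G}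
    (h : TorsCentral c) : TorsCentral ((Over.pullback g).map c) := by
  obtain ⟨M, gM, μc, Z, gZ, z, f, hμ, hM, hcomm, hz, hl, hs, hf, ho⟩ := h
  haveI := hμ; haveI := hl; haveI := hs
  exact torsCentral_map g c M μc hM hcomm Z z hz f hf
    (MorphismProperty.of_isPullback (P := @IsOpenImmersion) (Groth.L25.SchImage.isPullback_fst_map g f) ho)

/-- transport along isomorphisms -/
theorem torsCentral_transport {G C G' C' : Over S} [GrpObj G] [GrpObj C] [GrpObj G'] [GrpObj C'] {c : C ⟶ G}
    {c' : C' ⟶ G'} (eC : C ≅ C') [IsMonHom eC.hom] (eG : G ≅ G') [IsMonHom eG.hom]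
    (he : c ≫ eG.hom = eC.hom ≫ c') (h : TorsCentral c) : TorsCentral c' := by
  obtain ⟨M, gM, μc, Z, gZ, z, f, hμ, hM, hcomm, hz, hl, hs, hf, ho⟩ := h
  haveI := hμ; haveI := hl; haveI := hs; haveI := hz.1; haveI := hz.2.1; haveI := ho
  haveI : IsMonHom (z ≫ eG.hom) := inferInstance
  haveI : IsIso eG.hom.left := inferInstanceAs (IsIso ((Over.forget S).map eG.hom))
  haveI : IsIso eC.inv.left := inferInstanceAs (IsIso ((Over.forget S).map eC.inv))
  refine ⟨M, gM, μc ≫ eC.hom, Z, gZ, z ≫ eG.hom, eC.inv ≫ f, inferInstance, hM, fun X y m => ?_,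
    isCentralizerOf_transport eG (Iso.refl M) (by simp [he]) (Iso.refl Z) (by simp) hz,
    inferInstanceAs (LocallyOfFinitePresentation (z.left ≫ eG.hom.left)), hs, ?_,
    inferInstanceAs (IsOpenImmersion (eC.inv.left ≫ f.left))⟩
  · have h1 := congrArg (· ≫ eC.hom) (hcomm X (y ≫ eC.inv) m).eq
    simp only [MonObj.mul_comp, Category.assoc, Iso.inv_hom_id, Category.comp_id] at h1
    exact h1
  · rw [Category.assoc, reassoc_of% hf, he, Iso.inv_hom_id_assoc]

/-- iterated base change -/
theorem torsCentral_comp {S' S'' : Scheme.{u}} (g : S'' ⟶ S') (h : S' ⟶ S) {G C : Over S} [GrpObj G] [GrpObj C]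
    (c : C ⟶ G) (hc : TorsCentral ((Over.pullback g).map ((Over.pullback h).map c))) :
    TorsCentral ((Over.pullback (g ≫ h)).map c) := by
  haveI : IsMonHom (ActBC.bcCompIso g h C (rfl : g ≫ h = g ≫ h)).hom := inferInstance
  haveI : IsMonHom (ActBC.bcCompIso g h G (rfl : g ≫ h = g ≫ h)).hom := inferInstance
  exact torsCentral_transport (ActBC.bcCompIso g h C rfl) (ActBC.bcCompIso g h G rfl)
    (ActBC.bcCompIso_hom_naturality g h rfl c) hc

end Groth.L08.Borel
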