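import Groth.Agent.L08.Borel.ConstHom
import Groth.Agent.L08.Borel.TorsSet
import Groth.Agent.L08.Borel.TorsNhd
import Groth.Agent.L25.HomSmooth.Main
import Groth.Agent.L25.Cocycle.NilConj
import Groth.Agent.L25.Locus.Smooth
import Groth.Agent.L25.Locus.Transporter
import Groth.Agent.L25.Locus.Conjugacy
import Groth.Agent.L25.CentralLift.Etale

/-!
# Torsion points of smooth groups lift to etale neighbourhoods
-/

set_option autoImplicit false
set_option backward.isDefEq.respectTransparency.types false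
set_option linter.style.haveILetI false
set_option linter.unusedSectionVars false

universe u

open CategoryTheory CategoryTheory.Limits MonoidalCategory CartesianMonoidalCategory MonObj GrpObj AlgebraicGeometry
open Groth.L08.AlbLarge Groth.L25 Groth.L25.NilAction

noncomputable section

namespace Groth.L08.Borel

/-- constant points multiply -/
theorem pt_mul_pt {S : Scheme.{u}} {M : Type} [CommGroup M] (a b : M) :
    TwC.pt S M (a * b) = TwC.pt S M a * TwC.pt S M b :=
  hom_ext_label fun x => by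
    have h : ∀ m, TwC.pt S M m = toUnit (𝟙_ (Over S)) ≫ TwC.pt S M m := fun m => by
      rw [toUnit_unique (toUnit (𝟙_ (Over S))) (𝟙 _), Category.id_comp]
    rw [h, label_mul, h a, h b, label_pt, label_pt, label_pt]

set_option maxHeartbeats 1600000 in
/-- the scheme of `n`-torsion points of a smooth group is smooth where `n` is invertible and roots of unity exist -/
theorem exists_smooth_torsion {V : Scheme.{u}} {G : Over V} [GrpObj G] [Smooth G.hom] [IsSeparated G.hom] {n : ℕ}
    [NeZero n] (z : Γ(V, ⊤)) (hz : z ^ n = 1) (hprim : ∀ v : V, IsPrimitiveRoot (evalAt v z) n)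
    (hn : IsUnit (n : Γ(V, ⊤))) :
    ∃ (E : Over V) (e : E ⟶ G), IsClosedImmersion e.left ∧ Smooth E.hom ∧
      ∀ (T : Over V) (g : T ⟶ G), (∃ p, p ≫ e = g) ↔ g ^ n = 1 := by
  obtain ⟨E, e, he, hE⟩ := exists_agree_closed ((𝟙 G : G ⟶ G) ^ n) (1 : G ⟶ G)
  haveI := he
  haveI : Mono e := Over.mono_of_mono_left e
  have hEp : ∀ (T : Over V) (g : T ⟶ G), (∃ p, p ≫ e = g) ↔ g ^ n = 1 := fun T g => by
    rw [hE, MonObj.comp_pow, Category.comp_id, MonObj.comp_one]
  refine ⟨E, e, he, ?_, hEp⟩
  haveI : LocallyOfFinitePresentation E.hom := by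
    let c : G.left ⟶ pullback G.hom G.hom :=
      pullback.lift ((𝟙 G : G ⟶ G) ^ n).left (1 : G ⟶ G).left ((Over.w _).trans (Over.w _).symm)
    haveI : LocallyOfFinitePresentation (pullback.diagonal G.hom) := by
      haveI : LocallyOfFinitePresentation (pullback.diagonal G.hom ≫ pullback.fst G.hom G.hom) := by
        rw [pullback.diagonal_fst]; infer_instance
      exact Groth.L20.locallyOfFinitePresentation_of_comp (pullback.diagonal G.hom) (pullback.fst G.hom G.hom)
    haveI : LocallyOfFinitePresentation e.left := by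
      obtain ⟨p, hp⟩ : ∃ p, p ≫ e = (Over.homMk (pullback.fst c (pullback.diagonal G.hom)) rfl :
          Over.mk (pullback.fst c (pullback.diagonal G.hom) ≫ G.hom) ⟶ G) := (hE _ _).2 (by
        apply Over.OverMorphism.ext
        have hc := pullback.condition (f := c) (g := pullback.diagonal G.hom)
        have h1 := congrArg (· ≫ pullback.fst G.hom G.hom) hc
        have h2 := congrArg (· ≫ pullback.snd G.hom G.hom) hc
        simp only [c, Category.assoc, pullback.lift_fst, pullback.lift_snd, pullback.diagonal_fst,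
          pullback.diagonal_snd, Category.comp_id] at h1 h2
        exact h1.trans h2.symm)
      let q : E ⟶ Over.mk (pullback.fst c (pullback.diagonal G.hom) ≫ G.hom) := Over.homMk
        (pullback.lift e.left (e.left ≫ (1 : G ⟶ G).left) (by
          have h := congrArg (fun m => m.left) ((hE E e).1 ⟨𝟙 E, Category.id_comp e⟩)
          apply pullback.hom_ext
          · simp only [c, Category.assoc, pullback.lift_fst, pullback.diagonal_fst, Category.comp_id]; exact h
          · simp only [c, Category.assoc, pullback.lift_snd, pullback.diagonal_snd, Category.comp_id]))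
        (by show pullback.lift _ _ _ ≫ pullback.fst c _ ≫ G.hom = E.hom
            rw [pullback.lift_fst_assoc, Over.w e])
      have hq : q ≫ p = 𝟙 E := by
        rw [← cancel_mono e, Category.assoc, hp, Category.id_comp]
        exact Over.OverMorphism.ext (pullback.lift_fst _ _ _)
      have hp' : p ≫ q = 𝟙 _ := Over.OverMorphism.ext (by
        haveI : Mono (pullback.fst c (pullback.diagonal G.hom)) := inferInstance
        rw [← cancel_mono (pullback.fst c (pullback.diagonal G.hom))]
        show (p.left ≫ pullback.lift _ _ _) ≫ _ = 𝟙 _ ≫ _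
        rw [Category.assoc, pullback.lift_fst, Category.id_comp]
        exact congrArg (fun m => m.left) hp)
      haveI : IsIso q := ⟨p, hq, hp'⟩
      haveI : IsIso q.left := inferInstanceAs (IsIso ((Over.forget V).map q))
      rw [show e.left = q.left ≫ pullback.fst c (pullback.diagonal G.hom) from (pullback.lift_fst _ _ _).symm]
      infer_instance
    rw [← Over.w e]; infer_instance
  refine Locus.smooth_of_formallySmooth _ fun B _ I hI a₀ b hab => ?_
  let g₀s : Over.mk ((Cocycle.Z I).hom ≫ b) ⟶ E := Over.homMk a₀ hab.symm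
  haveI : Smooth (Red.bc b G).hom := MorphismProperty.pullback_snd G.hom b ‹_›
  let g₀ : Cocycle.Z I ⟶ Red.bc b G := NilAction.ofBase b (g₀s ≫ e)
  have hg₀ : g₀ ^ n = 1 := Groth.L25.CentralLift.toBase_injective b (by
    rw [Groth.L25.CentralLift.toBase_pow, toBase_ofBase, toBase_one, (hEp _ _).1 ⟨g₀s, rfl⟩])
  obtain ⟨gl, hgl⟩ := Cocycle.exists_lift_point (J := I) ⟨2, hI⟩ g₀
  let z' : Γ(Spec (CommRingCat.of B), ⊤) := b.appTop z
  have hz' : z' ^ n = 1 := by rw [← map_pow, hz, map_one]
  have hM := locally_cst (V := Spec (CommRingCat.of B)) 1 z' hz' (fun v => by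
      rw [evalAt_appTop]; exact (hprim _).map_of_injective (RingHom.injective _))
    (by have := hn.map b.appTop.hom; rwa [map_natCast] at this)
  let M := cst (Spec (CommRingCat.of B)) n 1
  let ex : Multiplicative (Vec n 1) → ℕ := fun m => (m.toAdd 0).val
  let ψ : M ⟶ Red.bc b G := Over.homMk (Sigma.desc fun m => (gl ^ ex m).left) (Sigma.hom_ext _ _ fun m => by
    simp [M, cst, TwC.const]; exact Over.w (gl ^ ex m))
  have hψ : ∀ m, TwC.pt (Spec (CommRingCat.of B)) _ m ≫ ψ = gl ^ ex m := fun m =>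
    Over.OverMorphism.ext (Sigma.ι_desc _ m)
  obtain ⟨φ, hφm, hφ⟩ := HomSmooth.exists_hom_lift_smooth hM (J := I) ⟨2, hI⟩ (fst M (Cocycle.Z I) ≫ ψ)
    (fun Y p a a' => by
      have e : ∀ c : Y ⟶ M, lift c p ≫ fst M (Cocycle.Z I) ≫ ψ = c ≫ ψ := fun c =>
        (Category.assoc _ _ _).symm.trans (congrArg (· ≫ ψ) (lift_fst c p))
      refine (e (a * a')).trans ?_
      refine Eq.trans ?_ (congrArg₂ (· * ·) (e a) (e a')).symm
      refine hom_ext_on_fibres a _ _ fun m W j hj => hom_ext_on_fibres (j ≫ a') _ _ fun m' W' j' hj' => ?_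
      have h1 : (j' ≫ j) ≫ a = toUnit W' ≫ TwC.pt _ _ m := by
        rw [Category.assoc, hj, ← Category.assoc, toUnit_unique (j' ≫ toUnit W) (toUnit W')]
      have hab : (j' ≫ j) ≫ (a * a') = toUnit W' ≫ TwC.pt _ _ (m * m') := by
        rw [pt_mul_pt, MonObj.comp_mul, MonObj.comp_mul, h1, Category.assoc, hj']
      have hgn : (toUnit W' ≫ gl) ^ n = 1 := by
        rw [toUnit_unique (toUnit W') ((j' ≫ j ≫ p) ≫ toUnit _), Category.assoc, hgl, ← MonObj.comp_pow, hg₀,
          MonObj.comp_one]
      rw [← Category.assoc j', ← Category.assoc j', ← Category.assoc (j' ≫ j), hab, Category.assoc, hψ, MonObj.comp_pow,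
        MonObj.comp_mul, ← Category.assoc (j' ≫ j), ← Category.assoc (j' ≫ j) a', h1, Category.assoc j', hj',
        Category.assoc, Category.assoc, hψ, hψ, MonObj.comp_pow, MonObj.comp_pow, ← pow_add]
      show _ ^ ((m * m').toAdd 0).val = _
      rw [toAdd_mul, Pi.add_apply, ZMod.val_add, ← pow_eq_pow_mod _ hgn])
  haveI := hφm
  let one : Multiplicative (Vec n 1) := Multiplicative.ofAdd (Pi.single 0 1)
  let g := TwC.pt (Spec (CommRingCat.of B)) _ one ≫ φ
  have hgn : g ^ n = 1 := by
    have hone : TwC.pt (Spec (CommRingCat.of B)) (Multiplicative (Vec n 1)) one ^ n = 1 := by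
      let P : Multiplicative (Vec n 1) →* (𝟙_ (Over (Spec (CommRingCat.of B))) ⟶ M) :=
        MonoidHom.mk' (fun m => TwC.pt (Spec (CommRingCat.of B)) _ m) pt_mul_pt
      show P one ^ n = 1
      rw [← map_pow, show one ^ n = 1 by
        rw [← ofAdd_nsmul, ← Pi.single_smul]; simp, map_one]
    rw [← MonObj.pow_comp, hone, MonObj.one_comp]
  have hge : toUnit (Cocycle.Z I) ≫ g = g₀ := by
    let c : Cocycle.Z I ⟶ M := toUnit (Cocycle.Z I) ≫ TwC.pt (Spec (CommRingCat.of B)) _ one
    have e : ∀ χ : M ⟶ Red.bc b G, lift c (𝟙 (Cocycle.Z I)) ≫ fst M (Cocycle.Z I) ≫ χ = c ≫ χ := fun χ =>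
      (Category.assoc _ _ _).symm.trans (congrArg (· ≫ χ) (lift_fst c _))
    have h : c ≫ φ = c ≫ ψ := (e φ).symm.trans ((congrArg (lift c (𝟙 (Cocycle.Z I)) ≫ ·) hφ).trans (e ψ))
    simp only [g, ← Category.assoc]
    change c ≫ φ = g₀
    rw [h, Category.assoc, hψ]
    rcases eq_or_ne n 1 with rfl | hn1
    · have h0 : g₀ = 1 := by rw [pow_one] at hg₀; exact hg₀
      rw [show ex one = 0 from Nat.lt_one_iff.1 (ZMod.val_lt _), pow_zero, MonObj.comp_one, h0]
    · rw [show ex one = 1 by
        show ((Pi.single 0 1 : Vec n 1) 0).val = 1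
        rw [Pi.single_eq_same, ZMod.val_one_eq_one_mod, Nat.one_mod_eq_one.2 hn1], pow_one, hgl]
  let cu : Over.mk b ⟶ Over.mk ((𝟙_ (Over (Spec (CommRingCat.of B)))).hom ≫ b) :=
    Over.homMk (𝟙 _) (by
      show 𝟙 _ ≫ 𝟙 _ ≫ b = b
      rw [Category.id_comp, Category.id_comp])
  obtain ⟨v, hv⟩ := (hEp _ (cu ≫ NilAction.toBase b g)).2 (by
    rw [← MonObj.comp_pow, ← Groth.L25.CentralLift.toBase_pow, hgn, toBase_one, MonObj.comp_one])
  refine ⟨v.left, ?_, Over.w v⟩
  let zb : Over.mk ((Cocycle.Z I).hom ≫ b) ⟶ Over.mk b := Over.homMk (Cocycle.Z I).hom rfl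
  have hzb : zb ≫ cu ≫ NilAction.toBase b g = g₀s ≫ e := by
    rw [← NilAction.toBase_ofBase b (g₀s ≫ e)]
    change zb ≫ cu ≫ _ = NilAction.toBase b g₀
    rw [← hge]
    apply Over.OverMorphism.ext
    show (Cocycle.Z I).hom ≫ 𝟙 _ ≫ g.left ≫ pullback.fst G.hom b =
      ((toUnit (Cocycle.Z I)).left ≫ g.left) ≫ pullback.fst G.hom b
    rw [Category.id_comp, Category.assoc]
    congr 1
  exact congrArg (fun m => m.left) ((cancel_mono e).1 (by rw [Category.assoc, hv, hzb]) : zb ≫ v = g₀s)

end Groth.L08.Borel
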