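import Groth.Agent.L08.Borel.TorsHom
import Groth.Agent.L08.Borel.BaseChange

/-!
# Commuting torsion points of smooth groups lift to smooth neighbourhoods
-/

set_option autoImplicit false
set_option backward.isDefEq.respectTransparency.types false
set_option linter.style.haveILetI false
set_option linter.unusedSectionVars false

universe u

open CategoryTheory CategoryTheory.Limits MonoidalCategory CartesianMonoidalCategory MonObj GrpObj AlgebraicGeometry
open Groth.L08.AlbLarge Groth.L25 Groth.L25.NilAction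

noncomputable section

namespace Groth.L08.Borel

variable {K : Type u} [Field K]

set_option maxHeartbeats 1600000 in
/-- commuting `n`-torsion points lift after a smooth base change -/
theorem exists_tors_smooth (n : ℕ) [NeZero n] : ∀ (r : ℕ) {V : Scheme.{u}} {G : Over V} [GrpObj G] [Smooth G.hom]
    [IsSeparated G.hom] (z : Γ(V, ⊤)) (_ : z ^ n = 1) (_ : ∀ v : V, IsPrimitiveRoot (evalAt v z) n)
    (_ : IsUnit (n : Γ(V, ⊤))) (p : Spec (CommRingCat.of K) ⟶ V) (x : Fin r → (Over.mk p ⟶ G))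
    (_ : ∀ i, x i ^ n = 1) (_ : ∀ i j, Commute (x i) (x j)),
    ∃ (V' : Scheme.{u}) (g : V' ⟶ V) (_ : Smooth g) (p' : Spec (CommRingCat.of K) ⟶ V') (hp : p' ≫ g = p)
      (y : Fin r → (Over.mk g ⟶ G)), (∀ i, y i ^ n = 1) ∧ (∀ i j, Commute (y i) (y j)) ∧
      ∀ i, (Over.homMk p' hp : Over.mk p ⟶ Over.mk g) ≫ y i = x i := by
  intro r
  induction r with
  | zero =>
    intro V G _ _ _ z hz hprim hn p x hx hc
    exact ⟨V, 𝟙 V, inferInstance, p, Category.comp_id p, Fin.elim0, fun i => i.elim0, fun i => i.elim0,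
      fun i => i.elim0⟩
  | succ r ih =>
    intro V G _ _ _ z hz hprim hn p x hx hc
    obtain ⟨E, e, he, hEs, hE⟩ := exists_smooth_torsion (G := G) z hz hprim hn
    haveI := he; haveI := hEs
    obtain ⟨p₀, hp₀⟩ := (hE _ (x 0)).2 (hx 0)
    let g₁ := E.hom
    let p₁ : Spec (CommRingCat.of K) ⟶ E.left := p₀.left
    have hp₁ : p₁ ≫ g₁ = p := Over.w p₀
    let y₀ : Over.mk g₁ ⟶ G := Over.homMk e.left (Over.w e)
    have hy₀ : y₀ ^ n = 1 := by
      have h := (hE E e).1 ⟨𝟙 E, Category.id_comp e⟩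
      have h2 := congrArg (fun v => (Over.homMk (𝟙 _) (Category.id_comp _) : Over.mk g₁ ⟶ E) ≫ v) h
      simp only [MonObj.comp_pow, MonObj.comp_one] at h2
      rw [show y₀ = (Over.homMk (𝟙 _) (Category.id_comp _) : Over.mk g₁ ⟶ E) ≫ e from
        Over.OverMorphism.ext (Category.id_comp _).symm]
      exact h2
    let G₁ := Red.bc g₁ G
    haveI : Smooth G₁.hom := MorphismProperty.pullback_snd G.hom g₁ ‹_›
    haveI : IsSeparated G₁.hom := MorphismProperty.pullback_snd G.hom g₁ ‹_›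
    let s₀ : 𝟙_ (Over E.left) ⟶ G₁ := Locus.sectionOf g₁ y₀
    have hs₀ : s₀ ^ n = 1 := Groth.L25.CentralLift.toBase_injective g₁ (by
      rw [Groth.L25.CentralLift.toBase_pow, toBase_one,
        show s₀ = toUnit (𝟙_ (Over E.left)) ≫ s₀ by rw [toUnit_unique (toUnit _) (𝟙 _), Category.id_comp],
        Locus.toBase_sectionOf, ← MonObj.comp_pow, hy₀, MonObj.comp_one])
    obtain ⟨μc, hμm, hμy, hμc⟩ := exists_cst_hom (r := 1) (fun _ => s₀) (fun _ => hs₀) fun _ _ => Commute.refl _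
    haveI := hμm
    let z₁ : Γ(E.left, ⊤) := g₁.appTop z
    have hz₁ : z₁ ^ n = 1 := by rw [← map_pow, hz, map_one]
    have hprim₁ : ∀ v : E.left, IsPrimitiveRoot (evalAt v z₁) n := fun v => by
      rw [evalAt_appTop]; exact (hprim _).map_of_injective (RingHom.injective _)
    have hn₁ : IsUnit (n : Γ(E.left, ⊤)) := by have := hn.map g₁.appTop.hom; rwa [map_natCast] at this
    obtain ⟨Z, gZ, zz, hZc, hzc, hZs⟩ :=
      Locus.exists_smooth_centralizer (locally_cst (V := E.left) 1 z₁ hz₁ hprim₁ hn₁) μc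
    haveI := hZc.1; haveI := hZc.2.1; haveI := hzc; haveI := hZs
    haveI : IsSeparated Z.hom := by rw [← Over.w zz]; infer_instance
    let e' : Over.mk (p₁ ≫ g₁) ⟶ Over.mk p := Over.homMk (𝟙 _) (by
      show 𝟙 _ ≫ p = p₁ ≫ g₁
      rw [Category.id_comp, hp₁])
    let x₁ : Fin r → (Over.mk p₁ ⟶ G₁) := fun i => ofBase g₁ (e' ≫ x i.succ)
    have hfac : ∀ i, ∃ x₂, x₂ ≫ zz = x₁ i := fun i => (hZc.2.2 _ (x₁ i)).2 fun X' t m => by
      refine (hμc X' (t ≫ x₁ i) (fun _ => Groth.L25.CentralLift.toBase_injective g₁ ?_) m).eq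
      rw [toBase_mul, toBase_mul, toBase_comp g₁ t (x₁ i), toBase_ofBase, Locus.toBase_sectionOf]
      have hh : (Over.homMk X'.hom rfl : Over.mk (X'.hom ≫ g₁) ⟶ Over.mk g₁) ≫ y₀ =
          (Over.map g₁).map t ≫ e' ≫ x 0 := by
        rw [← hp₀]
        apply Over.OverMorphism.ext
        show X'.hom ≫ e.left = t.left ≫ 𝟙 _ ≫ p₀.left ≫ e.left
        rw [Category.id_comp, ← Over.w t, Category.assoc]
        rfl
      rw [hh]
      simp only [← MonObj.comp_mul, ← Category.assoc]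
      exact congrArg _ (hc i.succ 0).eq
    choose x₂ hx₂ using hfac
    have hx₂n : ∀ i, x₂ i ^ n = 1 := fun i => by
      rw [← cancel_mono zz, MonObj.pow_comp, hx₂, MonObj.one_comp]
      exact Groth.L25.CentralLift.toBase_injective g₁ (by
        rw [Groth.L25.CentralLift.toBase_pow, toBase_one, toBase_ofBase, ← MonObj.comp_pow, hx, MonObj.comp_one])
    have hx₂c : ∀ i j, Commute (x₂ i) (x₂ j) := fun i j => by
      rw [commute_iff_eq, ← cancel_mono zz, MonObj.mul_comp, MonObj.mul_comp, hx₂, hx₂]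
      exact Groth.L25.CentralLift.toBase_injective g₁ (by
        rw [toBase_mul, toBase_mul, toBase_ofBase, toBase_ofBase, ← MonObj.comp_mul, ← MonObj.comp_mul,
          (hc i.succ j.succ).eq])
    obtain ⟨V₂, g₂, hg₂, p₂, hp₂, y', hy'n, hy'c, hy'x⟩ := ih z₁ hz₁ hprim₁ hn₁ p₁ x₂ hx₂n hx₂c
    haveI := hg₂
    let X₂ : Over E.left := Over.mk g₂
    let y₀' : Over.mk (g₂ ≫ g₁) ⟶ G := (Over.homMk g₂ rfl : Over.mk (g₂ ≫ g₁) ⟶ Over.mk g₁) ≫ y₀
    let ys : Fin r → (Over.mk (g₂ ≫ g₁) ⟶ G) := fun i => toBase g₁ (y' i ≫ zz)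
    have hcomm0 : ∀ i, Commute y₀' (ys i) := fun i => by
      obtain ⟨a, ha⟩ := hμy 0
      have h := (hZc.2.2 X₂ (y' i ≫ zz)).1 ⟨y' i, rfl⟩ X₂ (𝟙 _) (toUnit X₂ ≫ a)
      rw [Category.id_comp, Category.assoc, ha] at h
      have h2 := congrArg (toBase g₁) h
      rw [toBase_mul, toBase_mul, Locus.toBase_sectionOf] at h2
      exact h2.symm
    refine ⟨V₂, g₂ ≫ g₁, inferInstance, p₂, by rw [reassoc_of% hp₂, hp₁], Fin.cons y₀' ys, fun i => ?_,
      fun i j => ?_, fun i => ?_⟩
    · refine Fin.cases ?_ (fun i => ?_) i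
      · rw [Fin.cons_zero, ← MonObj.comp_pow, hy₀, MonObj.comp_one]
      · rw [Fin.cons_succ, ← Groth.L25.CentralLift.toBase_pow, ← MonObj.pow_comp, hy'n, MonObj.one_comp, toBase_one]
    · refine Fin.cases ?_ (fun i => ?_) i <;> refine Fin.cases ?_ (fun j => ?_) j <;>
        simp only [Fin.cons_zero, Fin.cons_succ]
      · exact Commute.refl _
      · exact hcomm0 j
      · exact (hcomm0 i).symm
      · simp only [ys, commute_iff_eq]
        rw [← toBase_mul, ← toBase_mul, ← MonObj.mul_comp, ← MonObj.mul_comp, (hy'c i j).eq]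
    · refine Fin.cases ?_ (fun i => ?_) i
      · rw [Fin.cons_zero, ← hp₀]
        apply Over.OverMorphism.ext
        show p₂ ≫ g₂ ≫ e.left = p₁ ≫ e.left
        rw [reassoc_of% hp₂]
      · rw [Fin.cons_succ]
        apply Over.OverMorphism.ext
        have h : (p₂ ≫ (y' i).left) ≫ zz.left = (x₁ i).left :=
          congrArg CommaMorphism.left ((congrArg (· ≫ zz) (hy'x i)).trans (hx₂ i))
        have h2 : (x₁ i).left ≫ pullback.fst G.hom g₁ = (x i.succ).left :=
          (pullback.lift_fst _ _ _).trans (Category.id_comp (x i.succ).left)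
        show p₂ ≫ ((y' i).left ≫ zz.left) ≫ pullback.fst G.hom g₁ = (x i.succ).left
        rw [← h2, ← h]
        simp only [Category.assoc]

end Groth.L08.Borel
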