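import Groth.Agent.L08.Borel.CartanTransporter
import Groth.Agent.L08.Borel.CartanSub
import Groth.Agent.L08.Borel.MaxTorusDesc

/-!
# A conjugate of a maximal torus inside a subgroup containing Cartans brings its centralizer along
-/

set_option autoImplicit false
set_option backward.isDefEq.respectTransparency.types false
set_option linter.style.haveILetI false
set_option linter.unusedSectionVars false

universe u

open CategoryTheory CategoryTheory.Limits MonoidalCategory CartesianMonoidalCategory MonObj GrpObj AlgebraicGeometry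
open Groth.L25.NilAction

noncomputable section

namespace Groth.L08.Borel

/-- some maximal torus has its centralizer inside the subgroup -/
def HasCartanIn {k : Type u} [Field k] {G H : Over (Spec (CommRingCat.of k))} [GrpObj G] (i : H ⟶ G) : Prop :=
  ∃ (T : Over (Spec (CommRingCat.of k))) (_ : GrpObj T) (t : T ⟶ G), AGF.IsMaxTorus t ∧
    ∀ (X : Over (Spec (CommRingCat.of k))) (y : X ⟶ G),
      (∀ (X' : Over (Spec (CommRingCat.of k))) (x : X' ⟶ X) (s : X' ⟶ T), (x ≫ y) * (s ≫ t) = (s ≫ t) * (x ≫ y)) →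
        ∃ h : X ⟶ H, h ≫ i = y

variable {k : Type u} [Field k] [IsAlgClosed k]

/-- every maximal torus inside the subgroup has its centralizer inside it -/
theorem exists_fac_of_hasCartanIn {G H T : Over (Spec (CommRingCat.of k))} [GrpObj G] [GrpObj H] [GrpObj T]
    [Smooth G.hom] [QuasiCompact G.hom] [Smooth H.hom] [QuasiCompact H.hom] (i : H ⟶ G) [IsMonHom i] [Mono i]
    (h₀ : HasCartanIn i) {t : T ⟶ G} (ht : AGF.IsMaxTorus t) (tH : T ⟶ H) (htH : tH ≫ i = t)
    (X : Over (Spec (CommRingCat.of k))) (y : X ⟶ G)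
    (hy : ∀ (X' : Over (Spec (CommRingCat.of k))) (x : X' ⟶ X) (s : X' ⟶ T), (x ≫ y) * (s ≫ t) = (s ≫ t) * (x ≫ y)) :
    ∃ h : X ⟶ H, h ≫ i = y := by
  obtain ⟨T₀, gT₀, i₀, hT₀, hc₀⟩ := h₀
  haveI := hT₀.1; haveI := hT₀.2.1; haveI := ht.1; haveI := ht.2.1
  obtain ⟨-, -, -, -, hcomm⟩ := torus_props hT₀.2.2.1
  obtain ⟨t₀, ht₀⟩ := hc₀ T₀ i₀ fun X x s => by rw [← MonObj.mul_comp, ← MonObj.mul_comp, hcomm X x s]
  have hH₀ : AGF.IsMaxTorus t₀ := isMaxTorus_factor (iB := i) (by rw [ht₀]; exact hT₀)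
  have hH : AGF.IsMaxTorus tH := isMaxTorus_factor (iB := i) (by rw [htH]; exact ht)
  obtain ⟨g, f, hf⟩ := exists_maxTorus_conj_any hH₀ hH
  have hfG : f.hom ≫ t = AGF.conjBy (g ≫ i) i₀ := by
    rw [← htH, reassoc_of% hf, conjBy_comp, ht₀]
  let gX : X ⟶ G := toUnit X ≫ g ≫ i
  obtain ⟨z₀, hz₀⟩ := hc₀ X (gX⁻¹ * y * gX) fun X' x s => by
    have h1 := hy X' x (s ≫ f.hom)
    rw [Category.assoc, hfG] at h1
    simp only [AGF.conjBy, MonObj.comp_mul, GrpObj.comp_inv, ← Category.assoc,
      toUnit_unique (s ≫ toUnit T₀) (x ≫ toUnit X)] at h1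
    simp only [gX, MonObj.comp_mul, GrpObj.comp_inv, ← Category.assoc]
    generalize ((x ≫ toUnit X) ≫ g) ≫ i = a at h1 ⊢
    generalize x ≫ y = b at h1 ⊢
    generalize s ≫ i₀ = w at h1 ⊢
    calc a⁻¹ * b * a * w = a⁻¹ * (b * (a * w * a⁻¹)) * a := by group
      _ = a⁻¹ * ((a * w * a⁻¹) * b) * a := by rw [h1]
      _ = w * (a⁻¹ * b * a) := by group
  refine ⟨(toUnit X ≫ g) * z₀ * (toUnit X ≫ g)⁻¹, ?_⟩
  simp only [MonObj.mul_comp, GrpObj.inv_comp, Category.assoc, hz₀, gX]
  group

variable {S : Scheme.{u}}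

/-- the Cartan hypothesis at any geometric point -/
theorem hasCartanIn_of_geomFibre {G H : Over S} [GrpObj G] [GrpObj H] [Smooth G.hom] [QuasiCompact G.hom] (i : H ⟶ G)
    (s : S) {C' : Over (Spec (CommRingCat.of (AlgebraicClosure (S.residueField s))))} [GrpObj C']
    (c' : C' ⟶ Red.geomFibre s H)
    (hc : SGA3x.IsCartanOver (AlgebraicClosure (S.residueField s)) (c' ≫ (Over.pullback (Red.geomPt s)).map i))
    {K : Type u} [Field K] [IsAlgClosed K]
    (θ : Spec (CommRingCat.of K) ⟶ Spec (CommRingCat.of (AlgebraicClosure (S.residueField s))))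
    {q : Spec (CommRingCat.of K) ⟶ S} (hθ : θ ≫ Red.geomPt s = q) :
    HasCartanIn ((Over.pullback q).map i) := by
  obtain ⟨-, -, T, gT, t, ht, hcen⟩ := hc
  haveI : Smooth (Red.geomFibre s G).hom := inferInstanceAs (Smooth (pullback.snd G.hom (Red.geomPt s)))
  haveI : QuasiCompact (Red.geomFibre s G).hom := inferInstanceAs (QuasiCompact (pullback.snd G.hom (Red.geomPt s)))
  have htθ := isMaxTorus_bc_field (isMaxTorus_of_isMaximalTorus ht) θ
  haveI := htθ.1; haveI := htθ.2.1
  let eG := ActBC.bcCompIso θ (Red.geomPt s) G hθ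
  let eH := ActBC.bcCompIso θ (Red.geomPt s) H hθ
  haveI : IsMonHom eG.hom := inferInstance
  haveI : IsMonHom eG.inv := inferInstance
  let t' : Red.bc θ T ⟶ Red.bc q G := (Over.pullback θ).map t ≫ eG.hom
  refine ⟨Red.bc θ T, inferInstance, t', ⟨inferInstanceAs (IsMonHom (_ ≫ _)), mono_comp _ _, htθ.2.2.1,
    fun T₁ _ a _ _ f h₁ hf => ?_⟩, fun X y hy => ?_⟩
  · exact htθ.2.2.2 T₁ (a ≫ eG.inv) f h₁ (by
      rw [reassoc_of% hf]; simp only [t', Category.assoc, Iso.hom_inv_id, Category.comp_id])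
  · obtain ⟨z, hz⟩ := ((isCentralizerOf_bc θ hcen).2.2 X (y ≫ eG.inv)).2 fun X' x s => by
      have h := congrArg (· ≫ eG.inv) (hy X' x s)
      simp only [t', MonObj.mul_comp, Category.assoc, Iso.hom_inv_id, Category.comp_id] at h
      exact h
    refine ⟨(z ≫ (Over.pullback θ).map c') ≫ eH.hom, ?_⟩
    rw [Category.assoc, ← ActBC.bcCompIso_hom_naturality θ (Red.geomPt s) hθ i, Category.assoc,
      ← Category.assoc ((Over.pullback θ).map c'), ← Functor.map_comp, reassoc_of% hz, Iso.inv_hom_id,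
      Category.comp_id]

/-- a smooth connected geometric fibre of a group is quasi-compact -/
theorem quasiCompact_of_irrFib {H : Over S} [GrpObj H] [Smooth H.hom] (hf : Groth.L02.SchDom.IrrFib H.hom)
    {K : Type u} [Field K] [IsAlgClosed K] (q : Spec (CommRingCat.of K) ⟶ S) : QuasiCompact (Red.bc q H).hom := by
  haveI : Smooth (Red.bc q H).hom := MorphismProperty.pullback_snd H.hom q ‹_›
  haveI : IrreducibleSpace ↥(Red.bc q H).left := hf K q
  refine Groth.L08.ActSep.quasiCompact_of_connected fun x => ?_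
  convert isConnected_univ (α := ↥(Red.bc q H).left) using 1
  exact Set.eq_univ_of_forall fun y => Subsingleton.elim (α := PrimeSpectrum K) _ _

set_option maxHeartbeats 800000 in
/-- if `g` conjugates a maximal torus into `H` then it conjugates its centralizer into `H` -/
theorem sends_centralizer_of_sends_torus {G H C T : Over S} [GrpObj G] [GrpObj H] [GrpObj C] [GrpObj T]
    [Smooth G.hom] [QuasiCompact G.hom] [Smooth H.hom] [Smooth C.hom] (i : H ⟶ G) [IsMonHom i] [Mono i]
    (hHconn : ∀ s : S, ConnectedSpace ↥(Red.geomFibre s H).left)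
    (hHC : ∀ s : S, ∃ (C' : Over (Spec (CommRingCat.of (AlgebraicClosure (S.residueField s))))) (_ : GrpObj C')
      (c' : C' ⟶ Red.geomFibre s H), SGA3x.IsCartanOver _ (c' ≫ (Over.pullback (Red.geomPt s)).map i))
    (c : C ⟶ G) (t : T ⟶ G) (ht : Red.IsMaximalTorus t) (hc : Red.IsCentralizerOf t c)
    {X : Over S} (g : X ⟶ G) (hg : Groth.L25.Locus.Sends t i X g) : Groth.L25.Locus.Sends c i X g := by
  haveI := ht.1; haveI := ht.2.1; haveI := hc.1; haveI := hc.2.1
  let j := X.hom
  let GX := Red.bc j G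
  haveI : Smooth GX.hom := MorphismProperty.pullback_snd G.hom j ‹_›
  haveI : QuasiCompact GX.hom := MorphismProperty.pullback_snd G.hom j ‹_›
  haveI : Smooth (Red.bc j H).hom := MorphismProperty.pullback_snd H.hom j ‹_›
  haveI : Smooth (Red.bc j C).hom := MorphismProperty.pullback_snd C.hom j ‹_›
  let iX := (Over.pullback j).map i
  let cX := (Over.pullback j).map c
  let tX := (Over.pullback j).map t
  haveI : IsMonHom iX := Groth.L25.MonoClosed.isMonHom_pullbackMap _ _
  haveI : Mono iX := Functor.map_mono _ _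
  haveI : IsMonHom tX := Groth.L25.MonoClosed.isMonHom_pullbackMap _ _
  haveI : Mono cX := Functor.map_mono _ _
  let eX : Over.mk j ⟶ X := Over.homMk (𝟙 _) (Category.id_comp _)
  have hg' : Groth.L25.Locus.Sends t i (Over.mk j) (eX ≫ g) := fun X' x h => by
    rw [← Category.assoc]; exact hg X' (x ≫ eX) h
  let gs := Groth.L25.Locus.sectionOf j (eX ≫ g)
  let cj : GX ⟶ GX := (toUnit GX ≫ gs) * 𝟙 GX * (toUnit GX ≫ gs)⁻¹
  have hcj : ∀ {Y : Over X.left} (a : Y ⟶ GX), a ≫ cj = (toUnit Y ≫ gs) * a * (toUnit Y ≫ gs)⁻¹ := fun a => by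
    simp only [cj, MonObj.comp_mul, GrpObj.comp_inv, comp_toUnit_assoc, Category.comp_id]
  let cj' : GX ⟶ GX := (toUnit GX ≫ gs)⁻¹ * 𝟙 GX * (toUnit GX ≫ gs)
  have hcj' : ∀ {Y : Over X.left} (a : Y ⟶ GX), a ≫ cj' = (toUnit Y ≫ gs)⁻¹ * a * (toUnit Y ≫ gs) := fun a => by
    simp only [cj', MonObj.comp_mul, GrpObj.comp_inv, comp_toUnit_assoc, Category.comp_id]
  have h12 : cj ≫ cj' = 𝟙 _ := by rw [hcj' cj]; simp only [cj]; group
  have h21 : cj' ≫ cj = 𝟙 _ := by rw [hcj cj']; simp only [cj']; group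
  haveI : IsIso cj := ⟨cj', h12, h21⟩
  haveI : IsMonHom cj := Groth.L25.Bridge.isMonHom_of_mul cj fun Y a b => by rw [hcj, hcj, hcj]; group
  haveI : IsMonHom cj' := Groth.L25.Bridge.isMonHom_of_mul cj' fun Y a b => by rw [hcj', hcj', hcj']; group
  obtain ⟨φ, hφ⟩ := Groth.L25.Locus.exists_half j t i hg'
  have hφ' : φ ≫ iX = tX ≫ cj := by rw [hφ, hcj]
  haveI : IsMonHom φ := Groth.L25.Bridge.isMonHom_of_mul φ fun Y a b => by
    rw [← cancel_mono iX, Category.assoc, hφ', MonObj.mul_comp (a ≫ φ) (b ≫ φ) iX, Category.assoc, Category.assoc,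
      hφ']
    exact MonObj.mul_comp a b _
  haveI : Mono c.left := inferInstanceAs (Mono ((Over.forget S).map c))
  haveI : LocallyOfFinitePresentation c.left := by
    haveI : LocallyOfFinitePresentation (c.left ≫ G.hom) := by rw [Over.w c]; infer_instance
    exact Groth.L20.locallyOfFinitePresentation_of_comp c.left G.hom
  haveI : IsIso cj.left := inferInstanceAs (IsIso ((Over.forget _).map cj))
  haveI : LocallyOfFinitePresentation (cX ≫ cj).left := by
    haveI : LocallyOfFinitePresentation cX.left :=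
      MorphismProperty.of_isPullback (P := @LocallyOfFinitePresentation) (Groth.L25.SchImage.isPullback_fst_map j c) ‹_›
    exact inferInstanceAs (LocallyOfFinitePresentation (cX.left ≫ cj.left))
  have hcX := isCentralizerOf_bc j hc
  haveI : IsOpenImmersion (𝟙 (Red.bc j C) : Red.bc j C ⟶ Red.bc j C).left := inferInstanceAs (IsOpenImmersion (𝟙 _))
  have hfacX : ∃ h, h ≫ iX = cX ≫ cj := by
    refine exists_fac_of_fibres_cent (Groth.L25.Locus.locally_bc
      (Groth.L25.Locus.locally_of_multTypeFT (Groth.L25.Locus.isMultTypeFT_of_isTorus ht.2.2.1)) j) iX φ (cX ≫ cj)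
      (fun Y y => ⟨?_, fun hy => ?_⟩) (cX ≫ cj) (𝟙 _) (Category.id_comp _) (fun p => ?_)
    · rintro ⟨w, rfl⟩ Y' x m
      have h := congrArg (· ≫ cj) ((hcX.2.2 Y (w ≫ cX)).1 ⟨w, rfl⟩ Y' x m)
      simp only [MonObj.mul_comp, Category.assoc] at h
      rw [hφ']
      exact h
    · obtain ⟨w, hw⟩ := (hcX.2.2 Y (y ≫ cj')).2 fun Y' x m => by
        have h := congrArg (· ≫ cj') (hy Y' x m)
        rw [hφ'] at h
        simp only [MonObj.mul_comp, Category.assoc, h12, Category.comp_id] at h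
        exact h
      exact ⟨w, by rw [← Category.assoc, hw, Category.assoc, h21, Category.comp_id]⟩
    · obtain ⟨θ, hθ⟩ := exists_geomPt_map j p
      obtain ⟨C', gC', c', hC'⟩ := hHC (j p)
      let q := Red.geomPt p ≫ j
      let ep := ActBC.bcCompIso (Red.geomPt p) j H (rfl : Red.geomPt p ≫ j = q)
      let eG := ActBC.bcCompIso (Red.geomPt p) j G (rfl : Red.geomPt p ≫ j = q)
      haveI : IsMonHom eG.hom := inferInstance
      haveI : IsMonHom eG.inv := inferInstance
      haveI : Smooth (Red.bc q G).hom := MorphismProperty.pullback_snd G.hom q ‹_›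
      haveI : QuasiCompact (Red.bc q G).hom := MorphismProperty.pullback_snd G.hom q ‹_›
      haveI : Smooth (Red.bc q H).hom := MorphismProperty.pullback_snd H.hom q ‹_›
      haveI := quasiCompact_of_irrFib (Groth.L02.SchDom.IrrFib.of_connected H.hom fun s => hHconn s) q
      haveI : IsMonHom ((Over.pullback q).map i) := Groth.L25.MonoClosed.isMonHom_pullbackMap _ _
      haveI : Mono ((Over.pullback q).map i) := Functor.map_mono _ _
      let F := Over.pullback (Red.geomPt p)
      haveI : Smooth (Red.geomFibre p GX).hom := MorphismProperty.pullback_snd GX.hom _ ‹_›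
      haveI : QuasiCompact (Red.geomFibre p GX).hom := MorphismProperty.pullback_snd GX.hom _ ‹_›
      have htXm := isMaximalTorus_bc ht j
      haveI : IsMonHom (F.map (tX ≫ cj)) := Groth.L25.MonoClosed.isMonHom_pullbackMap _ _
      haveI : Mono tX := htXm.2.1
      haveI : Mono (F.map (tX ≫ cj)) := Functor.map_mono _ _
      let tq : Red.geomFibre p (Red.bc j T) ⟶ Red.bc q G := F.map (tX ≫ cj) ≫ eG.hom
      haveI : IsMonHom (F.map cj) := Groth.L25.MonoClosed.isMonHom_pullbackMap _ _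
      haveI : IsIso (F.map cj) := inferInstance
      haveI : IsMonHom (inv (F.map cj)) := Groth.L25.Bridge.isMonHom_of_mul _ fun Y a b => by
        rw [← cancel_mono (F.map cj), MonObj.mul_comp (a ≫ inv (F.map cj)) (b ≫ inv (F.map cj)) (F.map cj)]
        simp only [Category.assoc, IsIso.inv_hom_id, Category.comp_id]
      have htq : AGF.IsMaxTorus tq := by
        refine ⟨inferInstanceAs (IsMonHom (_ ≫ _)), mono_comp _ _, Groth.L25.Locus.isTorus_bc htXm.2.2.1 _,
          fun T₁ _ a _ _ f h₁ hf => ?_⟩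
        exact htXm.2.2.2 p T₁ (a ≫ eG.inv ≫ inv (F.map cj)) f h₁ (by
          rw [reassoc_of% hf]
          simp only [tq, Functor.map_comp, Category.assoc, Iso.hom_inv_id_assoc, IsIso.hom_inv_id, Category.comp_id]
          rfl)
      obtain ⟨h, hh⟩ := exists_fac_of_hasCartanIn ((Over.pullback q).map i)
        (hasCartanIn_of_geomFibre i (j p) c' hC' θ hθ) htq (F.map φ ≫ ep.hom) (by
          rw [Category.assoc, ← ActBC.bcCompIso_hom_naturality (Red.geomPt p) j rfl i, ← Category.assoc,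
            ← Functor.map_comp]
          show F.map (φ ≫ iX) ≫ _ = _
          rw [hφ'])
        _ (F.map (cX ≫ cj) ≫ eG.hom) (fun Y x m => by
          have h1 := ((isCentralizerOf_bc (Red.geomPt p) hcX).2.2 _ (F.map cX)).1 ⟨𝟙 _, Category.id_comp _⟩ Y x m
          have h2 := congrArg (fun v => (v ≫ F.map cj) ≫ eG.hom) h1
          simp only [MonObj.mul_comp, Category.assoc] at h2
          simp only [tq, Functor.map_comp, Category.assoc]
          exact h2)
      refine ⟨h ≫ ep.inv, ?_⟩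
      have hn : F.map iX ≫ eG.hom = ep.hom ≫ (Over.pullback q).map i :=
        ActBC.bcCompIso_hom_naturality (Red.geomPt p) j rfl i
      refine (cancel_mono eG.hom).1 ?_
      calc ((h ≫ ep.inv) ≫ F.map iX) ≫ eG.hom = (h ≫ ep.inv) ≫ ep.hom ≫ (Over.pullback q).map i :=
            (Category.assoc (h ≫ ep.inv) (F.map iX) eG.hom).trans (congrArg ((h ≫ ep.inv) ≫ ·) hn)
        _ = h ≫ (Over.pullback q).map i :=
            (Category.assoc h ep.inv _).trans (congrArg (h ≫ ·) (Iso.inv_hom_id_assoc ep _))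
        _ = _ := hh
  obtain ⟨hC, hhC⟩ := hfacX
  intro X' x h
  let Y : Over X.left := Over.mk x.left
  let e : X' ⟶ Over.mk (Y.hom ≫ j) := Over.homMk (𝟙 _) (by
    show 𝟙 _ ≫ x.left ≫ j = X'.hom
    rw [Category.id_comp]; exact Over.w x)
  let e' : Over.mk (Y.hom ≫ j) ⟶ X' := Over.homMk (𝟙 _) (by
    show 𝟙 _ ≫ X'.hom = x.left ≫ j
    rw [Category.id_comp]; exact (Over.w x).symm)
  have hee : e ≫ e' = 𝟙 X' := Over.OverMorphism.ext (Category.id_comp _)
  have hxg : toBase j (toUnit Y ≫ gs) = e' ≫ x ≫ g := by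
    rw [Groth.L25.Locus.toBase_sectionOf]
    apply Over.OverMorphism.ext
    show x.left ≫ 𝟙 _ ≫ g.left = 𝟙 _ ≫ x.left ≫ g.left
    simp only [Category.id_comp]
  have hb := congrArg (fun v => e ≫ toBase j (ofBase j (e' ≫ h) ≫ v)) hhC
  rw [← Category.assoc (ofBase j (e' ≫ h)) hC iX, ← Category.assoc (ofBase j (e' ≫ h)) cX cj, hcj, toBase_mul,
    toBase_mul, toBase_inv, hxg, toBase_map', toBase_map', toBase_ofBase] at hb
  simp only [MonObj.comp_mul, GrpObj.comp_inv, Category.assoc, reassoc_of% hee] at hb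
  exact ⟨e ≫ toBase j (ofBase j (e' ≫ h) ≫ hC), by rw [← hb, Category.assoc]⟩

end Groth.L08.Borel
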